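import Cfsg.Agent.Lib.Solvable.SchurZassenhaus

/-!
Coprime action in subgroup form: `A` normalises `K`, `(|A|, |K|) = 1`.

* `exists_fixed_point`, `exists_centralizer_smul_eq`: Glauberman's lemma.
* `exists_mul_mem_centralizer`: fixed points in cosets.
* invariant Sylow subgroups, `⁅K, A⁆ ⊔ C_K(A) = K`, `⁅⁅K, A⁆, A⁆ = ⁅K, A⁆`.
-/

set_option autoImplicit false

open scoped Pointwise commutatorElement

namespace CfsgLib.Solvable

variable {G : Type*} [Group G]

theorem isSolvable_conj_smul {H : Subgroup G} (g : G) (h : Group.IsSolvable H) :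
    Group.IsSolvable (MulAut.conj g • H : Subgroup G) :=
  Group.isSolvable_of_surjective (f := (Subgroup.equivSMul (MulAut.conj g) H).toMonoidHom)
    (Subgroup.equivSMul (MulAut.conj g) H).surjective

theorem solvable_or_mono {K K' A : Subgroup G} (h : K' ≤ K)
    (hs : Group.IsSolvable A ∨ Group.IsSolvable K) :
    Group.IsSolvable A ∨ Group.IsSolvable K' :=
  hs.imp id fun hs => isSolvable_of_le hs h

variable [Finite G]

section Glauberman

variable {Ω : Type*} [MulAction G Ω]

/-- Glauberman's lemma: if every `a • x` lies in the `K`-orbit of `x`, some point of that orbit is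
fixed by `A`. -/
theorem exists_fixed_point (A K : Subgroup G) (hAK : A ≤ Subgroup.normalizer (K : Set G))
    (hcop : (Nat.card A).Coprime (Nat.card K))
    (hs : Group.IsSolvable A ∨ Group.IsSolvable K) (x : Ω)
    (hx : ∀ a ∈ A, ∃ k ∈ K, a • x = k • x) :
    ∃ k ∈ K, ∀ a ∈ A, a • (k • x) = k • x := by
  set W := K ⊔ A with hW
  set S := MulAction.stabilizer G x ⊓ W
  have hWK : W ≤ Subgroup.normalizer (K : Set G) := sup_le_normalizer hAK
  have hSK : S ≤ Subgroup.normalizer (K : Set G) := inf_le_right.trans hWK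
  have hd : K ⊓ A = ⊥ := disjoint_of_coprime hcop.symm
  have hN0 : ((S ⊓ K).subgroupOf S).Normal :=
    (Subgroup.normal_subgroupOf_iff_le_normalizer inf_le_left).2
      (le_normalizer_inf Subgroup.le_normalizer hSK)
  have hcard0 : Nat.card ((S ⊓ K).subgroupOf S) ∣ Nat.card K := by
    rw [Nat.card_congr (Subgroup.subgroupOfEquivOfLe inf_le_left).toEquiv]
    exact Subgroup.card_dvd_of_le inf_le_right
  have hidx : ((S ⊓ K).subgroupOf S).index ∣ Nat.card A := by
    show (S ⊓ K).relIndex S ∣ _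
    rw [inf_comm, Subgroup.inf_relIndex_right]
    have : (K.subgroupOf W).Normal :=
      (Subgroup.normal_subgroupOf_iff_le_normalizer le_sup_left).2 hWK
    have h1 : K.relIndex S = (K.subgroupOf W).relIndex (S.subgroupOf W) :=
      (Subgroup.relIndex_subgroupOf inf_le_right).symm
    rw [h1]
    refine (Subgroup.relIndex_dvd_index_of_normal _ _).trans (dvd_of_eq ?_)
    rw [(isComplement'_subgroupOf_sup hAK hd).symm.index_eq_card]
    exact Nat.card_congr (Subgroup.subgroupOfEquivOfLe le_sup_right).toEquiv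
  obtain ⟨B₀, hB₀⟩ := Subgroup.exists_right_complement'_of_coprime
    ((hcop.symm.coprime_dvd_left hcard0).coprime_dvd_right hidx)
  set B := B₀.map S.subtype
  have hBS : B ≤ S := Subgroup.map_subtype_le _
  have hdB : K ⊓ B = ⊥ := by
    rw [eq_bot_iff]
    rintro _ ⟨hzK, z, hz, rfl⟩
    have : z ∈ (S ⊓ K).subgroupOf S ⊓ B₀ := ⟨⟨z.2, hzK⟩, hz⟩
    rw [hB₀.disjoint.eq_bot, Subgroup.mem_bot] at this
    simp [this]
  have hSB : S ≤ K ⊔ B := by
    intro s hs'
    have h1 : (⟨s, hs'⟩ : S) ∈ (S ⊓ K).subgroupOf S ⊔ B₀ := hB₀.sup_eq_top ▸ Subgroup.mem_top _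
    have h2 : (S ⊓ K).subgroupOf S ⊔ B₀ ≤ (K ⊔ B).comap S.subtype := sup_le
      (fun z hz => Subgroup.mem_sup_left hz.2)
      (fun z hz => Subgroup.mem_sup_right (Subgroup.mem_map_of_mem _ hz))
    exact h2 h1
  have hAB : A ≤ K ⊔ B := by
    intro a ha
    obtain ⟨k, hk, hka⟩ := hx a ha
    have : k⁻¹ * a ∈ S := Subgroup.mem_inf.2
      ⟨by rw [MulAction.mem_stabilizer_iff, mul_smul, hka, inv_smul_smul],
        mul_mem (inv_mem (Subgroup.mem_sup_left hk)) (Subgroup.mem_sup_right ha)⟩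
    simpa using mul_mem (Subgroup.mem_sup_left (T := B) hk) (hSB this)
  obtain ⟨k, hk, hkA⟩ := exists_conj_le K B A (hBS.trans hSK) hdB hAB hcop.symm hs.symm
  refine ⟨k⁻¹, inv_mem hk, fun a ha => ?_⟩
  have := MulAction.mem_stabilizer_iff.1 (hBS (conj_smul_le_iff.1 hkA a ha)).1
  rw [mul_smul, mul_smul] at this
  exact eq_inv_smul_iff.2 this

/-- Two `A`-fixed points in one `K`-orbit differ by an element of `C_K(A)`. -/
theorem exists_centralizer_smul_eq (A K : Subgroup G) (hAK : A ≤ Subgroup.normalizer (K : Set G))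
    (hcop : (Nat.card A).Coprime (Nat.card K))
    (hs : Group.IsSolvable A ∨ Group.IsSolvable K) (x : Ω) {k : G} (hk : k ∈ K)
    (hx : ∀ a ∈ A, a • x = x) (hkx : ∀ a ∈ A, a • (k • x) = k • x) :
    ∃ c ∈ K ⊓ Subgroup.centralizer (A : Set G), c • x = k • x := by
  set N₀ := K ⊓ MulAction.stabilizer G x
  have hd : K ⊓ A = ⊥ := disjoint_of_coprime hcop.symm
  have hAS : A ≤ MulAction.stabilizer G x := fun a ha => hx a ha
  set B : Subgroup G := MulAut.conj k⁻¹ • A
  have hBmem : B ≤ N₀ ⊔ A := by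
    intro b hb
    rw [mem_conj_smul_iff, inv_inv] at hb
    have hb2 : b • x = x := by
      have h := hkx _ hb
      rw [mul_smul, mul_smul, inv_smul_smul, smul_left_cancel_iff] at h
      exact h
    set a := k * b * k⁻¹ with ha
    have h1 : b * a⁻¹ ∈ N₀ := by
      refine Subgroup.mem_inf.2 ⟨?_, ?_⟩
      · have := mul_mem (inv_mem hk) (normalizer_conj_mem (hAK hb) hk)
        simpa [ha, mul_assoc] using this
      · exact mul_mem (MulAction.mem_stabilizer_iff.2 hb2) (inv_mem (hAS hb))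
    simpa using mul_mem (Subgroup.mem_sup_left (T := A) h1) (Subgroup.mem_sup_right hb)
  obtain ⟨n, hn, hnB⟩ := exists_conj_le N₀ A B
    (le_normalizer_inf hAK (hAS.trans Subgroup.le_normalizer))
    (eq_bot_iff.2 ((inf_le_inf_right A inf_le_left).trans hd.le)) hBmem
    (by rw [card_conj_smul]; exact hcop.symm.coprime_dvd_left (Subgroup.card_dvd_of_le inf_le_left))
    (hs.symm.imp (fun h => isSolvable_of_le h inf_le_left) (isSolvable_conj_smul _))
  have hc : n * k⁻¹ ∈ Subgroup.normalizer (A : Set G) := by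
    rw [mem_normalizer_iff_conj_smul, ← conj_smul_conj_smul]
    exact Subgroup.eq_of_le_of_card_ge hnB (by rw [card_conj_smul, card_conj_smul])
  have hcK : n * k⁻¹ ∈ K := mul_mem hn.1 (inv_mem hk)
  refine ⟨(n * k⁻¹)⁻¹, Subgroup.mem_inf.2
    ⟨inv_mem hcK, inv_mem (mem_centralizer_of_mem_normalizer hAK hd hcK hc)⟩, ?_⟩
  have : n⁻¹ • x = x := MulAction.mem_stabilizer_iff.1 (inv_mem hn.2)
  rw [mul_inv_rev, inv_inv, mul_smul, this]

end Glauberman

/-- Fixed points in cosets: if `A` centralises `u` modulo `N` then some `n * u` is centralised by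
`A`. -/
theorem exists_mul_mem_centralizer (A N : Subgroup G) (hAN : A ≤ Subgroup.normalizer (N : Set G))
    (hcop : (Nat.card A).Coprime (Nat.card N))
    (hs : Group.IsSolvable A ∨ Group.IsSolvable N) (u : G) (hu : ∀ a ∈ A, ⁅a, u⁆ ∈ N) :
    ∃ n ∈ N, n * u ∈ Subgroup.centralizer (A : Set G) := by
  obtain ⟨n, hn, hfix⟩ := exists_fixed_point (Ω := G ⧸ A) A N hAN hcop hs (u : G ⧸ A) (by
    intro a ha
    refine ⟨⁅a, u⁆, hu a ha, ?_⟩
    show ((a * u : G) : G ⧸ A) = ((⁅a, u⁆ * u : G) : G ⧸ A)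
    rw [QuotientGroup.eq]
    simpa [commutatorElement_def, mul_assoc] using inv_mem ha)
  refine ⟨n, hn, ?_⟩
  rw [Subgroup.mem_centralizer_iff]
  intro a ha
  set v := n * u with hv
  have h1 : ⁅a, v⁆ ∈ N := by
    have h := mul_mem (mul_mem (normalizer_conj_mem (hAN ha) hn) (hu a ha)) (inv_mem hn)
    simpa [hv, commutatorElement_def, mul_assoc] using h
  have h2 : ((a * v : G) : G ⧸ A) = (v : G ⧸ A) := hfix a ha
  rw [QuotientGroup.eq] at h2
  have h3 : v⁻¹ * ⁅a, v⁆ * v ∈ A ⊓ MulAut.conj v⁻¹ • N := by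
    refine ⟨?_, mem_conj_smul_iff.2 (by simpa [mul_assoc] using h1)⟩
    have := mul_mem (inv_mem h2) (inv_mem ha)
    simpa [commutatorElement_def, mul_assoc] using this
  rw [disjoint_of_coprime (by rwa [card_conj_smul]), Subgroup.mem_bot] at h3
  have h4 : ⁅a, v⁆ = 1 := by
    calc ⁅a, v⁆ = v * (v⁻¹ * ⁅a, v⁆ * v) * v⁻¹ := by group
      _ = 1 := by rw [h3]; group
  rw [commutatorElement_eq_one_iff_mul_comm] at h4
  exact h4

/-- Any two Sylow subgroups of `K`, seen in `G`, are conjugate under `K`. -/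
theorem exists_conj_sylow_map {p : ℕ} [Fact p.Prime] {K : Subgroup G} (P Q : Sylow p K) :
    ∃ k ∈ K, MulAut.conj k • (P : Subgroup K).map K.subtype = (Q : Subgroup K).map K.subtype := by
  obtain ⟨k, rfl⟩ := MulAction.exists_smul_eq K P Q
  refine ⟨k, k.2, ?_⟩
  rw [Sylow.coe_subgroup_smul, conj_smul_eq_map, conj_smul_eq_map, Subgroup.map_map,
    Subgroup.map_map]
  rfl

theorem exists_sylow_map_eq {p : ℕ} [Fact p.Prime] {K H : Subgroup G} (hH : H ≤ K)
    (P : Sylow p K) (hc : Nat.card H = Nat.card P) :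
    ∃ Q : Sylow p K, (Q : Subgroup K).map K.subtype = H := by
  refine ⟨Sylow.ofCard (H.subgroupOf K) ?_, ?_⟩
  · rw [Nat.card_congr (Subgroup.subgroupOfEquivOfLe hH).toEquiv, hc, P.card_eq_multiplicity]
  · exact Subgroup.map_subgroupOf_eq_of_le hH

theorem card_sylow_map {p : ℕ} {K : Subgroup G} (P : Sylow p K) :
    Nat.card ((P : Subgroup K).map K.subtype) = Nat.card P :=
  Subgroup.card_map_of_injective K.subtype_injective

variable (A K : Subgroup G)

/-- An `A`-invariant Sylow `p`-subgroup of `K` exists. -/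
theorem exists_invariant_sylow (hAK : A ≤ Subgroup.normalizer (K : Set G))
    (hcop : (Nat.card A).Coprime (Nat.card K))
    (hs : Group.IsSolvable A ∨ Group.IsSolvable K) (p : ℕ) [Fact p.Prime] :
    ∃ P : Sylow p K, A ≤ Subgroup.normalizer ((P : Subgroup K).map K.subtype : Set G) := by
  letI : MulAction G (Subgroup G) := MulAction.compHom _ (MulAut.conj : G →* MulAut G)
  obtain ⟨P₀⟩ := (inferInstance : Nonempty (Sylow p K))
  set H := (P₀ : Subgroup K).map K.subtype
  have hmem : ∀ g ∈ Subgroup.normalizer (K : Set G), MulAut.conj g • H ≤ K := fun g hg =>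
    conj_smul_le_iff.2 fun x hx => normalizer_conj_mem hg (Subgroup.map_subtype_le _ hx)
  obtain ⟨k, hk, hfix⟩ := exists_fixed_point (Ω := Subgroup G) A K hAK hcop hs H (by
    intro a ha
    obtain ⟨Q, hQ⟩ := exists_sylow_map_eq (hmem a (hAK ha)) P₀
      (by rw [card_conj_smul, card_sylow_map])
    obtain ⟨k, hk, hkQ⟩ := exists_conj_sylow_map P₀ Q
    exact ⟨k, hk, hQ.symm.trans hkQ.symm⟩)
  obtain ⟨Q, hQ⟩ := exists_sylow_map_eq (hmem k (Subgroup.le_normalizer hk)) P₀
    (by rw [card_conj_smul, card_sylow_map])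
  exact ⟨Q, fun a ha => mem_normalizer_iff_conj_smul.2 (by rw [hQ]; exact hfix a ha)⟩

/-- Two `A`-invariant Sylow subgroups of `K` are conjugate under `C_K(A)`. -/
theorem exists_centralizer_conj_sylow (hAK : A ≤ Subgroup.normalizer (K : Set G))
    (hcop : (Nat.card A).Coprime (Nat.card K))
    (hs : Group.IsSolvable A ∨ Group.IsSolvable K) {p : ℕ} [Fact p.Prime] (P Q : Sylow p K)
    (hP : A ≤ Subgroup.normalizer ((P : Subgroup K).map K.subtype : Set G))
    (hQ : A ≤ Subgroup.normalizer ((Q : Subgroup K).map K.subtype : Set G)) :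
    ∃ c ∈ K ⊓ Subgroup.centralizer (A : Set G),
      MulAut.conj c • (P : Subgroup K).map K.subtype = (Q : Subgroup K).map K.subtype := by
  letI : MulAction G (Subgroup G) := MulAction.compHom _ (MulAut.conj : G →* MulAut G)
  obtain ⟨k, hk, hkQ⟩ := exists_conj_sylow_map P Q
  obtain ⟨c, hc, hcx⟩ := exists_centralizer_smul_eq (Ω := Subgroup G) A K hAK hcop hs
    ((P : Subgroup K).map K.subtype) hk
    (fun a ha => conj_smul_self_of_mem_normalizer (hP ha))
    (fun a ha => by
      show MulAut.conj a • (MulAut.conj k • (P : Subgroup K).map K.subtype : Subgroup G)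
        = MulAut.conj k • (P : Subgroup K).map K.subtype
      rw [hkQ]; exact conj_smul_self_of_mem_normalizer (hQ ha))
  exact ⟨c, hc, hcx.trans hkQ⟩

variable {A K}

theorem commutator_le_of_le_normalizer (hAK : A ≤ Subgroup.normalizer (K : Set G)) :
    ⁅K, A⁆ ≤ K := by
  rw [Subgroup.commutator_le]
  intro k hk a ha
  have := mul_mem hk (normalizer_conj_mem (hAK ha) (inv_mem hk))
  simpa [commutatorElement_def, mul_assoc] using this

/-- `K` normalises `⁅K, A⁆`. -/
theorem le_normalizer_commutator_left (K A : Subgroup G) :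
    K ≤ Subgroup.normalizer ((⁅K, A⁆ : Subgroup G) : Set G) := by
  refine le_normalizer_of_conj_mem fun k hk => ?_
  suffices ⁅K, A⁆ ≤ (⁅K, A⁆).comap (MulAut.conj k).toMonoidHom from this
  rw [Subgroup.commutator_le]
  intro x hx a ha
  show k * ⁅x, a⁆ * k⁻¹ ∈ ⁅K, A⁆
  have := mul_mem (Subgroup.commutator_mem_commutator (mul_mem hk hx) ha)
    (inv_mem (Subgroup.commutator_mem_commutator hk ha))
  simpa [commutatorElement_def, mul_assoc] using this

theorem le_normalizer_commutator_right (hAK : A ≤ Subgroup.normalizer (K : Set G)) :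
    A ≤ Subgroup.normalizer ((⁅K, A⁆ : Subgroup G) : Set G) :=
  (le_inf hAK Subgroup.le_normalizer).trans (normalizer_le_normalizer_commutator K A)

/-- `K = ⁅K, A⁆ C_K(A)` elementwise. -/
theorem exists_commutator_mul_centralizer (hAK : A ≤ Subgroup.normalizer (K : Set G))
    (hcop : (Nat.card A).Coprime (Nat.card K))
    (hs : Group.IsSolvable A ∨ Group.IsSolvable K) {k : G} (hk : k ∈ K) :
    ∃ x ∈ ⁅K, A⁆, ∃ c ∈ K ⊓ Subgroup.centralizer (A : Set G), k = x * c := by
  have hle := commutator_le_of_le_normalizer hAK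
  obtain ⟨n, hn, hc⟩ := exists_mul_mem_centralizer A ⁅K, A⁆ (le_normalizer_commutator_right hAK)
    (hcop.coprime_dvd_right (Subgroup.card_dvd_of_le hle)) (solvable_or_mono hle hs) k
    (fun a ha => by
      rw [Subgroup.commutator_comm]
      exact Subgroup.commutator_mem_commutator ha hk)
  exact ⟨n⁻¹, inv_mem hn, n * k, ⟨mul_mem (hle hn) hk, hc⟩, by group⟩

theorem commutator_sup_centralizer (hAK : A ≤ Subgroup.normalizer (K : Set G))
    (hcop : (Nat.card A).Coprime (Nat.card K))
    (hs : Group.IsSolvable A ∨ Group.IsSolvable K) :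
    ⁅K, A⁆ ⊔ (K ⊓ Subgroup.centralizer (A : Set G)) = K := by
  refine le_antisymm (sup_le (commutator_le_of_le_normalizer hAK) inf_le_left) fun k hk => ?_
  obtain ⟨x, hx, c, hc, rfl⟩ := exists_commutator_mul_centralizer hAK hcop hs hk
  exact mul_mem (Subgroup.mem_sup_left hx) (Subgroup.mem_sup_right hc)

theorem commutator_commutator_self (hAK : A ≤ Subgroup.normalizer (K : Set G))
    (hcop : (Nat.card A).Coprime (Nat.card K))
    (hs : Group.IsSolvable A ∨ Group.IsSolvable K) :
    ⁅⁅K, A⁆, A⁆ = ⁅K, A⁆ := by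
  refine le_antisymm (commutator_le_of_le_normalizer (le_normalizer_commutator_right hAK))
    (Subgroup.commutator_le.2 fun k hk a ha => ?_)
  obtain ⟨x, hx, c, hc, rfl⟩ := exists_commutator_mul_centralizer hAK hcop hs hk
  have h1 : c * a * c⁻¹ = a := by
    rw [← Subgroup.mem_centralizer_iff.1 hc.2 a ha, mul_inv_cancel_right]
  have h2 : ⁅x * c, a⁆ = ⁅x, a⁆ := by
    calc ⁅x * c, a⁆ = x * (c * a * c⁻¹) * x⁻¹ * a⁻¹ := by rw [commutatorElement_def]; group
      _ = ⁅x, a⁆ := by rw [h1, commutatorElement_def]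
  rw [h2]
  exact Subgroup.commutator_mem_commutator hx ha

/-- A `p`-subgroup of `K` normalised by `A` lies in an `A`-invariant Sylow subgroup of `K`. -/
theorem exists_invariant_sylow_ge (hAK : A ≤ Subgroup.normalizer (K : Set G))
    (hcop : (Nat.card A).Coprime (Nat.card K))
    (hs : Group.IsSolvable A ∨ Group.IsSolvable K) (p : ℕ) [Fact p.Prime] {U : Subgroup G}
    (hUK : U ≤ K) (hU : IsPGroup p U) (hUA : A ≤ Subgroup.normalizer (U : Set G)) :
    ∃ P : Sylow p K, U ≤ (P : Subgroup K).map K.subtype ∧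
      A ≤ Subgroup.normalizer ((P : Subgroup K).map K.subtype : Set G) := by
  induction h : Nat.card K - Nat.card U using Nat.strong_induction_on
    generalizing U with
  | _ n ih =>
  subst h
  set N := K ⊓ Subgroup.normalizer (U : Set G)
  have hAN : A ≤ Subgroup.normalizer (N : Set G) :=
    le_normalizer_inf hAK (hUA.trans Subgroup.le_normalizer)
  obtain ⟨T, hT⟩ := exists_invariant_sylow A N hAN
    (hcop.coprime_dvd_right (Subgroup.card_dvd_of_le inf_le_left))
    (solvable_or_mono inf_le_left hs) p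
  set T' := (T : Subgroup N).map N.subtype
  have hUN : U ≤ N := le_inf hUK Subgroup.le_normalizer
  have hUT : U ≤ T' := by
    have : (U.subgroupOf N).Normal :=
      (Subgroup.normal_subgroupOf_iff_le_normalizer hUN).2 inf_le_right
    have h1 : U.subgroupOf N ≤ (T : Subgroup N) := by
      obtain ⟨R, hR⟩ := (hU.of_equiv (Subgroup.subgroupOfEquivOfLe hUN).symm).exists_le_sylow
      obtain ⟨g, rfl⟩ := MulAction.exists_smul_eq N R T
      rw [Sylow.coe_subgroup_smul]
      intro x hx
      exact mem_conj_smul_iff.2 (hR (by simpa using this.conj_mem x hx g⁻¹))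
    intro u hu
    exact ⟨⟨u, hUN hu⟩, h1 hu, rfl⟩
  by_cases hTU : T' = U
  · -- `U` is a Sylow subgroup of its normaliser, hence of `K`
    obtain ⟨P, hP⟩ := (hU.of_equiv (Subgroup.subgroupOfEquivOfLe hUK).symm).exists_le_sylow
    have hUP : U ≤ (P : Subgroup K).map K.subtype := fun u hu => ⟨⟨u, hUK hu⟩, hP hu, rfl⟩
    by_cases hPU : (P : Subgroup K).map K.subtype ≤ U
    · exact ⟨P, hUP, by rwa [le_antisymm hPU hUP]⟩
    set P' := (P : Subgroup K).map K.subtype
    have hP' : IsPGroup p P' := P.2.map _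
    have := hP'.isNilpotent
    have hlt : U.subgroupOf P' < ⊤ := by
      rw [lt_top_iff_ne_top, Ne, Subgroup.subgroupOf_eq_top]
      exact hPU
    obtain ⟨x, hxn, hxU⟩ := SetLike.exists_of_lt
      (Group.normalizerCondition_of_isNilpotent _ hlt)
    have hxN : (x : G) ∈ N := by
      refine ⟨Subgroup.map_subtype_le _ x.2, mem_normalizer_of_conj_mem fun u hu => ?_⟩
      exact (Subgroup.mem_normalizer_iff.1 hxn ⟨u, hUP hu⟩).1 hu
    set V := U ⊔ Subgroup.zpowers (x : G)
    have hVP : V ≤ P' := sup_le hUP (by simp)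
    have hVN : V ≤ N := sup_le hUN (by simpa using hxN)
    have hVc : Nat.card V ≤ Nat.card T' := by
      obtain ⟨R, hR⟩ :=
        ((hP'.to_le hVP).of_equiv (Subgroup.subgroupOfEquivOfLe hVN).symm).exists_le_sylow
      rw [card_sylow_map, T.card_eq_multiplicity, ← R.card_eq_multiplicity,
        ← Nat.card_congr (Subgroup.subgroupOfEquivOfLe hVN).toEquiv]
      exact Subgroup.card_le_of_le hR
    rw [hTU] at hVc
    have hx : (x : G) ∈ U := by
      rw [Subgroup.eq_of_le_of_card_ge le_sup_left hVc]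
      exact Subgroup.mem_sup_right (Subgroup.mem_zpowers _)
    exact absurd hx hxU
  · have hlt : U < T' := lt_of_le_of_ne hUT (Ne.symm hTU)
    have hTK : T' ≤ K := (Subgroup.map_subtype_le _).trans inf_le_left
    obtain ⟨P, hP, hPA⟩ := ih (Nat.card K - Nat.card T')
      (by
        have h1 := Set.Finite.card_lt_card (Set.toFinite (T' : Set G)) hlt
        have h2 := Subgroup.card_le_of_le hTK
        simp only [SetLike.coe_sort_coe] at h1
        omega)
      hTK (T.2.map _) hT rfl
    exact ⟨P, hUT.trans hP, hPA⟩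

end CfsgLib.Solvable
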