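import Cfsg.Agent.Lib.Solvable.Frobenius
import Cfsg.Agent.Lib.Char.TI
import Cfsg.Agent.Lib.CharNormal.Kernel

/-!
Frobenius' theorem: the kernel set of a Frobenius group is a normal complement.
-/

set_option autoImplicit false

open scoped Pointwise ComplexConjugate

namespace CfsgLib.Solvable

open CfsgLib.Char CfsgLib.CharNormal

variable {G : Type*} [Group G] [Finite G]

theorem frobenius_theorem {H : Subgroup G} (hH : Cfsg.IsFrobeniusComplement H) :
    ∃ N : Subgroup G, (N : Set G) = Cfsg.frobeniusKernel H ∧ N.Normal ∧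
      Subgroup.IsComplement' N H := by
  classical
  letI := Fintype.ofFinite G
  letI := Fintype.ofFinite H
  have hTI : ∀ g : G, g ∉ H → ∀ t ∈ (H : Set G), g * t * g⁻¹ ∈ (H : Set G) → t = 1 := by
    intro g hg t ht hgt
    by_contra h1
    exact hg (frobenius_mem_of_conj_mem hH ht h1 hgt)
  have hT : ∀ (f : H → ℂ) (x : H), (x : G) ∉ (H : Set G) → f x = 0 := fun f x hx => absurd x.2 hx
  have hdeg : ∀ χ : Cfsg.IrrCharacter H, ∃ d : ℕ, 0 < d ∧ (χ : H → ℂ) 1 = d := fun χ =>
    exists_degree_pos χ.2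
  choose d hd0 hd1 using hdeg
  let ψ : Cfsg.IrrCharacter H → H → ℂ := fun χ =>
    (χ : H → ℂ) - (d χ : ℂ) • (irrOne : Cfsg.IrrCharacter H).1
  let φ : Cfsg.IrrCharacter H → G → ℂ := fun χ =>
    Cfsg.indFun H (ψ χ) + (d χ : ℂ) • (irrOne : Cfsg.IrrCharacter G).1
  have hψ1 : ∀ χ, ψ χ 1 = 0 := fun χ => by
    show (χ : H → ℂ) 1 - (d χ : ℂ) * (irrOne : Cfsg.IrrCharacter H).1 1 = 0
    rw [irrOne_apply, mul_one, hd1, sub_self]
  have hψcl : ∀ χ, Cfsg.IsClassFunction H (ψ χ) := fun χ =>
    isClassFunction_sub (isClassFunction_of_isIrr χ.2)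
      (isClassFunction_smul (isClassFunction_of_isIrr irrOne.2) _)
  have hφH : ∀ χ, ∀ h : H, h ≠ 1 → φ χ (h : G) = (χ : H → ℂ) h := fun χ h hh => by
    simp [φ, indFun_eq_of_TI H (H : Set G) hTI (hψcl χ) (hT _) h.2 hh, ψ, irrOne_apply]
  have hφ1 : ∀ χ, φ χ 1 = (d χ : ℂ) := fun χ => by
    simp [φ, CfsgLib.Char.indFun_one, hψ1, irrOne_apply]
  have hφK : ∀ χ, ∀ x ∈ Cfsg.frobeniusKernel H, φ χ x = φ χ 1 := by
    intro χ x hx
    rcases mem_frobeniusKernel_iff.1 hx with rfl | hx
    · rfl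
    · rw [hφ1]
      simp [φ, indFun_eq_zero_of_forall (H := H) (θ := ψ χ) (g := x) fun g hg => absurd hg (hx g),
        irrOne_apply]
  have hirr : ∀ χ : Cfsg.IrrCharacter H, χ ≠ irrOne → Cfsg.IsIrrCharacter G (φ χ) := by
    intro χ hχ
    have hgen : Cfsg.IsGeneralizedCharacter G (φ χ) :=
      isGen_add (isGen_indFun H (isGen_sub (isGen_of_irr χ.2)
        (isGen_intCast_smul (isGen_of_irr irrOne.2) (d χ : ℤ))))
        (isGen_intCast_smul (isGen_of_irr irrOne.2) (d χ : ℤ))
    have hne : (χ : H → ℂ) ≠ (irrOne : Cfsg.IrrCharacter H).1 := fun h => hχ (Subtype.ext h)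
    have e1 : Cfsg.classInner (ψ χ) (ψ χ) = 1 + (d χ : ℂ) * d χ := by
      simp [ψ, classInner_sub_left, classInner_sub_right, classInner_smul_left,
        classInner_smul_right, classInner_irr_self χ.2,
        classInner_irr_self (irrOne : Cfsg.IrrCharacter H).2,
        classInner_irr_ne χ.2 irrOne.2 hne, classInner_irr_ne irrOne.2 χ.2 hne.symm]
    have e2 : Cfsg.classInner (Cfsg.indFun H (ψ χ)) (irrOne : Cfsg.IrrCharacter G).1 =
        -(d χ : ℂ) := by
      rw [frobenius_reciprocity H _ (isClassFunction_of_isIrr irrOne.2)]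
      show Cfsg.classInner (ψ χ) (irrOne : Cfsg.IrrCharacter H).1 = _
      simp [ψ, classInner_sub_left, classInner_smul_left,
        classInner_irr_self (irrOne : Cfsg.IrrCharacter H).2,
        classInner_irr_ne χ.2 irrOne.2 hne]
    have e3 : Cfsg.classInner (irrOne : Cfsg.IrrCharacter G).1 (Cfsg.indFun H (ψ χ)) =
        -(d χ : ℂ) := by
      rw [← classInner_conj_symm, e2]; simp
    refine gen_norm_one_pos hgen ?_ ?_
    · simp only [φ, classInner_add_left, classInner_add_right, classInner_smul_left,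
        classInner_smul_right, classInner_indFun_of_TI H (H : Set G) hTI (hψcl χ) (hT _) (hT _)
          (hψ1 χ), e1, e2, e3, classInner_irr_self (irrOne : Cfsg.IrrCharacter G).2, map_natCast]
      ring
    · rw [hφ1]
      simpa using hd0 χ
  set N : Subgroup G := ⨅ χ : {χ : Cfsg.IrrCharacter H // χ ≠ irrOne},
    charKer (isCharacter_of_isIrr (hirr χ.1 χ.2)) with hN
  haveI hNn : N.Normal := Subgroup.normal_iInf_normal fun χ => charKer_normal _
  have hKN : Cfsg.frobeniusKernel H ⊆ N := fun x hx =>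
    Subgroup.mem_iInf.2 fun χ => hφK χ.1 x hx
  have hd : Disjoint N H := by
    rw [disjoint_iff, Subgroup.eq_bot_iff_forall]
    intro x hx
    by_contra hx1
    have : IsConj (⟨x, hx.2⟩ : H) 1 := by
      rw [isConj_iff_forall_irr]
      intro χ
      rcases eq_or_ne χ irrOne with rfl | hχ
      · rfl
      · have h : φ χ x = φ χ 1 := Subgroup.mem_iInf.1 hx.1 ⟨χ, hχ⟩
        rw [hφH χ ⟨x, hx.2⟩ (fun h => hx1 (congrArg Subtype.val h)), hφ1] at h
        rw [h, hd1]
    exact hx1 (congrArg Subtype.val (isConj_one_right.1 this.symm))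
  have hle : Nat.card N * Nat.card H ≤ Nat.card G := by
    rw [← card_sup_of_disjoint (K := N) (A := H)
      (Subgroup.normalizer_eq_top N ▸ le_top) hd.eq_bot]
    exact Subgroup.card_le_card_group _
  have hcardK : (Cfsg.frobeniusKernel H).ncard = H.index := by
    rw [← Nat.card_coe_set_eq, card_frobeniusKernel hH]
  have hge : H.index ≤ Nat.card N := by
    rw [← hcardK, ← SetLike.coe_sort_coe, Nat.card_coe_set_eq]
    exact Set.ncard_le_ncard hKN
  have heq : Nat.card N = H.index := by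
    refine le_antisymm ?_ hge
    rw [← H.index_mul_card] at hle
    exact Nat.le_of_mul_le_mul_right hle Nat.card_pos
  refine ⟨N, (Set.eq_of_subset_of_ncard_le hKN ?_).symm, hNn,
    Subgroup.isComplement'_of_card_mul_and_disjoint (by rw [heq, H.index_mul_card]) hd⟩
  rw [hcardK, ← heq, ← Nat.card_coe_set_eq]
  exact le_rfl

end CfsgLib.Solvable
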