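import Cfsg.Agent.Lib.Solvable.Basic

/-!
Conjugacy half of the Schur–Zassenhaus theorem, in subgroup form, and Glauberman's lemma.
-/

set_option autoImplicit false

open scoped Pointwise commutatorElement

namespace CfsgLib.Solvable

variable {G : Type*} [Group G]

/-- Averaging lemma: `M ≤ A` with `A / M` abelian, `H` normalises both, `H ⊆ A L`,
`A ∩ L ≤ M ≤ L`, and `[H : D]` prime to `|A|` for some `D ≤ H ∩ L`. Then some element of `A`
conjugates `H` into `L`. -/
theorem exists_conj_mem_of_abelian_section [Finite G] (A M : Subgroup G) (hMA : M ≤ A)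
    (hMnA : A ≤ Subgroup.normalizer (M : Set G)) (hcomm : ∀ a ∈ A, ∀ b ∈ A, ⁅a, b⁆ ∈ M)
    (H L D : Subgroup G) (hHA : H ≤ Subgroup.normalizer (A : Set G))
    (hHM : H ≤ Subgroup.normalizer (M : Set G)) (hML : M ≤ L) (hAL : A ⊓ L ≤ M)
    (hprod : ∀ x ∈ H, ∃ a ∈ A, a * x ∈ L) (hDH : D ≤ H) (hDL : D ≤ L)
    (hcop : (Nat.card A).Coprime (D.relIndex H)) :
    ∃ t ∈ A, ∀ x ∈ H, t * x * t⁻¹ ∈ L := by
  classical
  let M' : Subgroup A := M.subgroupOf A
  have : M'.Normal := (Subgroup.normal_subgroupOf_iff_le_normalizer hMA).2 hMnA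
  let C := A ⧸ M'
  have hC : ∀ u v : C, u * v = v * u := by
    intro u v
    refine QuotientGroup.induction_on u fun a => QuotientGroup.induction_on v fun b => ?_
    rw [← QuotientGroup.mk_mul, ← QuotientGroup.mk_mul, eq_comm, QuotientGroup.eq]
    show (((b * a)⁻¹ * (a * b) : A) : G) ∈ M
    have := hcomm _ (inv_mem a.2) _ (inv_mem b.2)
    simpa [commutatorElement_def, mul_assoc] using this
  letI : CommGroup C := { (inferInstance : Group C) with mul_comm := hC }
  -- the action of `H` on `C`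
  have hcA : ∀ x ∈ H, ∀ a ∈ A, x * a * x⁻¹ ∈ A := fun x hx a ha =>
    normalizer_conj_mem (hHA hx) ha
  let cj : H → (A →* A) := fun x =>
    { toFun := fun a => ⟨(x : G) * a * (x : G)⁻¹, hcA _ x.2 _ a.2⟩
      map_one' := by ext; simp
      map_mul' := fun a b => by ext; simp [mul_assoc] }
  let cj' : H → (C →* C) := fun x => QuotientGroup.map M' M' (cj x) (by
    intro a ha
    show (x : G) * a * (x : G)⁻¹ ∈ M
    exact normalizer_conj_mem (hHM x.2) ha)
  have huniq : ∀ (x : G) (a b : A), (a : G) * x ∈ L → (b : G) * x ∈ L → (a : C) = b := by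
    intro x a b ha hb
    rw [QuotientGroup.eq]
    show ((a⁻¹ * b : A) : G) ∈ M
    have h1 : (b : G) * (a : G)⁻¹ ∈ M := by
      refine hAL (Subgroup.mem_inf.2 ⟨A.mul_mem b.2 (A.inv_mem a.2), ?_⟩)
      simpa [mul_assoc] using mul_mem hb (inv_mem ha)
    simpa [mul_assoc] using normalizer_conj_mem (hMnA (inv_mem a.2)) h1
  choose f hfA hfL using hprod
  let a : H → A := fun x => ⟨f x x.2, hfA x x.2⟩
  have ha : ∀ x : H, (a x : G) * x ∈ L := fun x => hfL x x.2
  let c : H → C := fun x => (a x : C)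
  have hc : ∀ x y : H, c (x * y) = c x * cj' x (c y) := by
    intro x y
    refine huniq ((x : G) * y) (a (x * y)) (a x * cj x (a y)) (ha (x * y)) ?_
    show (a x : G) * ((x : G) * (a y : G) * (x : G)⁻¹) * ((x : G) * y) ∈ L
    have := mul_mem (ha x) (ha y)
    simpa [mul_assoc] using this
  let D' : Subgroup H := D.subgroupOf H
  have hcD : ∀ x y : H, QuotientGroup.leftRel D' x y → c x = c y := by
    intro x y hxy
    rw [QuotientGroup.leftRel_apply] at hxy
    refine huniq (y : G) (a x) (a y) ?_ (ha y)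
    have h1 : ((x⁻¹ * y : H) : G) ∈ L := hDL hxy
    have := mul_mem (ha x) h1
    simpa [mul_assoc] using this
  let cbar : H ⧸ D' → C := fun q => Quotient.liftOn' q c hcD
  have : Fintype (H ⧸ D') := Fintype.ofFinite _
  set n := Fintype.card (H ⧸ D') with hn
  have hncard : n = D.relIndex H := by
    rw [hn, ← Nat.card_eq_fintype_card]; rfl
  let s : C := ∏ q : H ⧸ D', cbar q
  have hs : ∀ x : H, s = c x ^ n * cj' x s := by
    intro x
    have h1 : ∀ q : H ⧸ D', cbar (x • q) = c x * cj' x (cbar q) := fun q =>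
      QuotientGroup.induction_on q fun y => hc x y
    calc s = ∏ q : H ⧸ D', cbar (x • q) :=
          (Fintype.prod_equiv (MulAction.toPerm x) _ _ fun _ => rfl).symm
      _ = ∏ q : H ⧸ D', c x * cj' x (cbar q) := Finset.prod_congr rfl fun q _ => h1 q
      _ = c x ^ n * cj' x s := by
          rw [Finset.prod_mul_distrib, Finset.prod_const, Finset.card_univ, map_prod]
  have hcopC : (Nat.card C).Coprime n := by
    rw [hncard]
    exact hcop.coprime_dvd_left M'.card_quotient_dvd_card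
  obtain ⟨t, ht⟩ := (powCoprime hcopC).surjective s
  obtain ⟨t0, rfl⟩ := QuotientGroup.mk'_surjective M' t
  refine ⟨t0, t0.2, fun x hx => ?_⟩
  let X : H := ⟨x, hx⟩
  have key : c X * cj' X (QuotientGroup.mk' M' t0) = QuotientGroup.mk' M' t0 := by
    apply (powCoprime hcopC).injective
    show (c X * cj' X (QuotientGroup.mk' M' t0)) ^ n = QuotientGroup.mk' M' t0 ^ n
    have ht' : QuotientGroup.mk' M' t0 ^ n = s := ht
    rw [mul_pow, ← map_pow, ht', ← hs]
  have key2 : ((a X * cj X t0)⁻¹ * t0 : A) ∈ M' := by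
    rw [← QuotientGroup.eq]; exact key
  have key2' : ((a X : G) * (x * t0 * x⁻¹))⁻¹ * t0 ∈ M := key2
  -- `(t₀ * x * t₀⁻¹)⁻¹ * (a x * x)` lies in `M`
  have e : (((a X : G) * (x * t0 * x⁻¹))⁻¹ * (t0 : G)) =
      (x * (t0 : G)⁻¹) * (((a X : G) * x)⁻¹ * ((t0 : G) * x * (t0 : G)⁻¹)) * (x * (t0 : G)⁻¹)⁻¹ := by
    group
  rw [e] at key2'
  have hn' : x * (t0 : G)⁻¹ ∈ Subgroup.normalizer (M : Set G) :=
    mul_mem (hHM hx) (hMnA (inv_mem t0.2))
  have h5 : ((a X : G) * x)⁻¹ * ((t0 : G) * x * (t0 : G)⁻¹) ∈ M :=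
    ((Subgroup.mem_normalizer_iff.1 hn') _).2 key2'
  have := mul_mem (ha X) (hML h5)
  simpa [X, mul_assoc] using this

/-- Coprime Sylow conjugation: a `q`-subgroup of `K ⊔ A`, `q ∤ |K|`, is conjugate under `K` into
`A`. -/
theorem exists_conj_le_of_pGroup [Finite G] {q : ℕ} [Fact q.Prime] (K A Q : Subgroup G)
    (hAK : A ≤ Subgroup.normalizer (K : Set G)) (hd : K ⊓ A = ⊥) (hQ : Q ≤ K ⊔ A) (hQp : IsPGroup q Q)
    (hK : ¬ q ∣ Nat.card K) : ∃ k ∈ K, MulAut.conj k • Q ≤ A := by
  set W := K ⊔ A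
  obtain ⟨S⟩ := (inferInstance : Nonempty (Sylow q A))
  set SW : Subgroup W := (S.1.map A.subtype).subgroupOf W with hSW
  have hmap : S.1.map A.subtype ≤ W := (Subgroup.map_subtype_le _).trans le_sup_right
  have hcardSW : Nat.card SW = Nat.card S.1 := by
    rw [hSW, Nat.card_congr (Subgroup.subgroupOfEquivOfLe hmap).toEquiv,
      Subgroup.card_map_of_injective A.subtype_injective]
  -- `SW` is a Sylow subgroup of `W`
  have hWdvd : Nat.card W ∣ Nat.card K * Nat.card A := (card_sup_of_disjoint hAK hd).dvd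
  have hSWp : IsPGroup q SW := by
    obtain ⟨n, hn⟩ := IsPGroup.iff_card.1 S.2
    exact IsPGroup.of_card (n := n) (hcardSW.trans hn)
  have hnd : ¬ q ∣ SW.index := by
    intro hd
    have h1 : q * Nat.card SW ∣ Nat.card K * Nat.card A := by
      refine dvd_trans ?_ hWdvd
      rw [← SW.index_mul_card]
      exact Nat.mul_dvd_mul_right hd _
    rw [hcardSW] at h1
    have h2 : q * Nat.card S.1 ∣ Nat.card A := by
      refine Nat.Coprime.dvd_of_dvd_mul_left ?_ h1
      refine Nat.Coprime.mul_left ((Fact.out : q.Prime).coprime_iff_not_dvd.2 hK) ?_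
      rw [S.card_eq_multiplicity]
      exact Nat.Coprime.pow_left _ ((Fact.out : q.Prime).coprime_iff_not_dvd.2 hK)
    have h3 : q ∣ S.1.index := by
      rw [← S.1.index_mul_card] at h2
      exact Nat.dvd_of_mul_dvd_mul_right Nat.card_pos h2
    exact S.not_dvd_index h3
  let SS : Sylow q W := hSWp.toSylow hnd
  obtain ⟨T, hT⟩ := (hQp.of_equiv (Subgroup.subgroupOfEquivOfLe hQ).symm).exists_le_sylow
  obtain ⟨w, hw⟩ := MulAction.exists_smul_eq W SS T
  obtain ⟨k, hk, a, ha, hka⟩ := exists_mul_of_mem_sup hAK w.2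
  refine ⟨k⁻¹, inv_mem hk, conj_smul_le_iff.2 fun x hx => ?_⟩
  have hxT : (⟨x, hQ hx⟩ : W) ∈ (T : Subgroup W) := hT hx
  rw [← hw, Sylow.coe_subgroup_smul, mem_conj_smul_iff] at hxT
  have hxA : (w : G)⁻¹ * x * (w : G) ∈ A := Subgroup.map_subtype_le _ hxT
  rw [hka] at hxA
  have := mul_mem (mul_mem ha hxA) (inv_mem ha)
  simpa [mul_assoc] using this

/-- Schur–Zassenhaus conjugacy in subgroup form: if `A` normalises `K`, `K ⊓ A = ⊥`,
`B ≤ K ⊔ A` has order prime to `|K|`, and `K` or `B` is solvable, then an element of `K`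
conjugates `B` into `A`. -/
theorem exists_conj_le [Finite G] (K A B : Subgroup G)
    (hAK : A ≤ Subgroup.normalizer (K : Set G)) (hd : K ⊓ A = ⊥) (hB : B ≤ K ⊔ A)
    (hcop : (Nat.card K).Coprime (Nat.card B))
    (hs : Group.IsSolvable K ∨ Group.IsSolvable B) : ∃ k ∈ K, MulAut.conj k • B ≤ A := by
  rcases hs with hs | hs
  · induction h : Nat.card K using Nat.strong_induction_on generalizing K A B with
    | _ n ih =>
    subst h
    rcases eq_or_ne K ⊥ with rfl | hK
    · refine ⟨1, one_mem _, ?_⟩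
      simpa using hB.trans_eq (bot_sup_eq A)
    set M : Subgroup G := ⁅K, K⁆
    have hMlt : M < K := commutator_self_lt hs hK
    have hWM : K ⊔ A ≤ Subgroup.normalizer (M : Set G) :=
      (sup_le_normalizer hAK).trans
        ((le_inf le_rfl le_rfl).trans (normalizer_le_normalizer_commutator K K))
    have hAM : A ≤ Subgroup.normalizer (M : Set G) := le_sup_right.trans hWM
    obtain ⟨t, ht, htB⟩ := exists_conj_mem_of_abelian_section K M hMlt.le
      (le_sup_left.trans hWM) (fun a ha b hb => Subgroup.commutator_mem_commutator ha hb)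
      B (M ⊔ A) ⊥ (hB.trans (sup_le_normalizer hAK)) (hB.trans hWM) le_sup_left
      (by
        rintro g ⟨hgK, hgL⟩
        obtain ⟨m, hm, a, ha, rfl⟩ := exists_mul_of_mem_sup hAM hgL
        have : a ∈ K ⊓ A :=
          ⟨by simpa using mul_mem (inv_mem (hMlt.le hm)) hgK, ha⟩
        rw [hd, Subgroup.mem_bot] at this
        simpa [this] using hm)
      (by
        intro x hx
        obtain ⟨k, hk, a, ha, rfl⟩ := exists_mul_of_mem_sup hAK (hB hx)
        exact ⟨k⁻¹, inv_mem hk, by simpa using Subgroup.mem_sup_right (S := M) ha⟩)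
      bot_le bot_le (by simpa using hcop)
    have hB' : MulAut.conj t • B ≤ M ⊔ A := conj_smul_le_iff.2 htB
    have hMs : Group.IsSolvable M := Group.isSolvable_of_isSolvable_injective
      (Subgroup.inclusion_injective hMlt.le)
    obtain ⟨m, hm, hmB⟩ := ih (Nat.card M)
      (Set.Finite.card_lt_card (Set.toFinite _) hMlt) M A (MulAut.conj t • B) hAM
      (eq_bot_iff.2 ((inf_le_inf_right A hMlt.le).trans hd.le)) hB'
      (by rw [card_conj_smul]; exact hcop.coprime_dvd_left (Subgroup.card_dvd_of_le hMlt.le))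
      hMs rfl
    exact ⟨m * t, mul_mem (hMlt.le hm) ht, by rwa [← conj_smul_conj_smul]⟩
  · induction h : Nat.card B using Nat.strong_induction_on generalizing B with
    | _ n ih =>
    subst h
    rcases eq_or_ne B ⊥ with rfl | hBne
    · exact ⟨1, one_mem _, by simp⟩
    have : Nontrivial B := B.nontrivial_iff_ne_bot.2 hBne
    obtain ⟨B₁, hB₁max, hB₁comm⟩ := (eq_top_or_exists_le_coatom (commutator B)).resolve_left
      (Group.IsSolvable.commutator_lt_top_of_nontrivial B).ne
    have hB₁n : B₁.Normal := Subgroup.Normal.of_commutator_le _ hB₁comm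
    set B₀ : Subgroup G := B₁.map B.subtype with hB₀
    have hB₀B : B₀ ≤ B := Subgroup.map_subtype_le _
    have hB₀card : Nat.card B₀ = Nat.card B₁ :=
      Subgroup.card_map_of_injective B.subtype_injective
    obtain ⟨k₁, hk₁, hk₁B⟩ := ih (Nat.card B₀)
      (by
        rw [hB₀card]
        exact lt_of_le_of_ne (Subgroup.card_le_card_group _)
          fun h => hB₁max.1 (Subgroup.eq_top_of_card_eq _ h))
      B₀ (hB₀B.trans hB) (hcop.coprime_dvd_right (Subgroup.card_dvd_of_le hB₀B))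
      (Group.isSolvable_of_isSolvable_injective (Subgroup.inclusion_injective hB₀B)) rfl
    set q := B₁.index.minFac
    have hq1 : B₁.index ≠ 1 := by simpa using hB₁max.1
    have : Fact q.Prime := ⟨Nat.minFac_prime hq1⟩
    obtain ⟨Q⟩ := (inferInstance : Nonempty (Sylow q B))
    have hQB₁ : ¬ (Q : Subgroup B) ≤ B₁ := fun hle =>
      Q.not_dvd_index ((Nat.minFac_dvd _).trans (Subgroup.index_dvd_of_le hle))
    have hgen : B₁ ⊔ (Q : Subgroup B) = ⊤ :=
      hB₁max.2 _ (left_lt_sup.2 hQB₁)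
    -- move `B₀` into `A`
    set C₀ : Subgroup G := MulAut.conj k₁ • B₀
    set R : Subgroup G := MulAut.conj k₁ • (Q : Subgroup B).map B.subtype
    set N : Subgroup G := Subgroup.normalizer (C₀ : Set G)
    have hk₁W : k₁ ∈ K ⊔ A := Subgroup.mem_sup_left hk₁
    have hRW : R ≤ (K ⊔ A) ⊓ N := by
      refine le_inf (conj_smul_le_iff.2 fun x hx => ?_) (conj_smul_le_iff.2 fun x hx => ?_)
      · exact mul_mem (mul_mem hk₁W (hB (Subgroup.map_subtype_le _ hx))) (inv_mem hk₁W)
      · have hxN : x ∈ Subgroup.normalizer (B₀ : Set G) := by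
          obtain ⟨y, _, rfl⟩ := hx
          refine mem_normalizer_of_conj_mem fun z hz => ?_
          obtain ⟨z, hz, rfl⟩ := hz
          exact ⟨y * z * y⁻¹, hB₁n.conj_mem z hz y, by simp⟩
        rw [mem_normalizer_iff_conj_smul] at hxN ⊢
        show MulAut.conj (k₁ * x * k₁⁻¹) • MulAut.conj k₁ • B₀ = MulAut.conj k₁ • B₀
        rw [conj_smul_conj_smul, show k₁ * x * k₁⁻¹ * k₁ = k₁ * x by group,
          ← conj_smul_conj_smul, hxN]
    -- decomposition of the normaliser of `C₀` inside `K ⊔ A`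
    have hC₀K : C₀ ≤ Subgroup.normalizer (K : Set G) := hk₁B.trans hAK
    have hsplit : (K ⊔ A) ⊓ N ≤ (K ⊓ Subgroup.centralizer (C₀ : Set G)) ⊔ (A ⊓ N) := by
      rintro w ⟨hw, hwN⟩
      obtain ⟨k, hk, a, ha, rfl⟩ := exists_mul_of_mem_sup hAK hw
      have hcomm : ∀ c ∈ C₀, k * (a * c * a⁻¹) = (a * c * a⁻¹) * k := by
        intro c hc
        set e := a * c * a⁻¹ with he
        have he' : e ∈ A := mul_mem (mul_mem ha (hk₁B hc)) (inv_mem ha)
        have h1 : k * e * k⁻¹ * e⁻¹ ∈ K := by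
          simpa [mul_assoc] using mul_mem hk (normalizer_conj_mem (hAK he') (inv_mem hk))
        have h2 : k * e * k⁻¹ * e⁻¹ ∈ A := by
          refine mul_mem ?_ (inv_mem he')
          have := hk₁B (normalizer_conj_mem hwN hc)
          simpa [he, mul_assoc] using this
        have h3 : k * e * k⁻¹ * e⁻¹ ∈ K ⊓ A := ⟨h1, h2⟩
        rw [hd, Subgroup.mem_bot, mul_inv_eq_one, mul_inv_eq_iff_eq_mul] at h3
        exact h3
      have haN : a ∈ N := mem_normalizer_of_conj_mem fun c hc => by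
        have h := normalizer_conj_mem hwN hc
        have e : k * a * c * (k * a)⁻¹ = a * c * a⁻¹ := by
          calc k * a * c * (k * a)⁻¹ = k * (a * c * a⁻¹) * k⁻¹ := by group
            _ = a * c * a⁻¹ := by rw [hcomm c hc, mul_inv_cancel_right]
        rwa [e] at h
      have hkC : k ∈ Subgroup.centralizer (C₀ : Set G) := by
        rw [Subgroup.mem_centralizer_iff]
        intro c hc
        have := hcomm (a⁻¹ * c * a) ((Subgroup.mem_normalizer_iff''.1 haN c).1 hc)
        simpa [mul_assoc] using this.symm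
      exact mul_mem (Subgroup.mem_sup_left ⟨hk, hkC⟩) (Subgroup.mem_sup_right ⟨ha, haN⟩)
    obtain ⟨k₂, hk₂, hk₂R⟩ := exists_conj_le_of_pGroup (q := q)
      (K ⊓ Subgroup.centralizer (C₀ : Set G)) (A ⊓ N) R
      (le_normalizer_inf (inf_le_left.trans hAK)
        (inf_le_right.trans (normalizer_le_normalizer_centralizer C₀)))
      (eq_bot_iff.2 ((inf_le_inf inf_le_left inf_le_left).trans hd.le))
      (hRW.trans hsplit)
      ((Q.2.map B.subtype).map _)
      (fun hdvd => by
        have h1 : q ∣ Nat.card K := hdvd.trans (Subgroup.card_dvd_of_le inf_le_left)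
        have h2 : q ∣ Nat.card B := (Nat.minFac_dvd _).trans B₁.index_dvd_card
        exact (Fact.out : q.Prime).not_dvd_one (hcop ▸ Nat.dvd_gcd h1 h2))
    refine ⟨k₂ * k₁, mul_mem hk₂.1 hk₁, conj_smul_le_iff.2 fun x hx => ?_⟩
    have hx' : (⟨x, hx⟩ : B) ∈ B₁ ⊔ (Q : Subgroup B) := hgen ▸ Subgroup.mem_top _
    suffices B₁ ⊔ (Q : Subgroup B) ≤
        A.comap ((MulAut.conj (k₂ * k₁)).toMonoidHom.comp B.subtype) from this hx'
    refine sup_le (fun y hy => ?_) (fun y hy => ?_)
    · have hyC : k₁ * (y : G) * k₁⁻¹ ∈ C₀ := mem_conj_smul_iff.2 (by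
        simpa [mul_assoc, hB₀] using hy)
      have hc := Subgroup.mem_centralizer_iff.1 hk₂.2 _ hyC
      show k₂ * k₁ * (y : G) * (k₂ * k₁)⁻¹ ∈ A
      have e : k₂ * k₁ * (y : G) * (k₂ * k₁)⁻¹ = k₂ * (k₁ * y * k₁⁻¹) * k₂⁻¹ := by group
      rw [e, ← hc, mul_inv_cancel_right]
      exact hk₁B hyC
    · show k₂ * k₁ * (y : G) * (k₂ * k₁)⁻¹ ∈ A
      have hyR : k₁ * (y : G) * k₁⁻¹ ∈ R := mem_conj_smul_iff.2 (by
        simpa [mul_assoc, hB₀] using hy)
      have := (conj_smul_le_iff.1 hk₂R _ hyR).1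
      simpa [mul_assoc] using this

end CfsgLib.Solvable
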