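import Cfsg.Agent.Lib.Solvable.Basic
import Cfsg.Agent.Lib.PGroup.Basic
import Mathlib

/-!
`p`-groups with a unique subgroup of order `p` are cyclic or generalized quaternion.
-/

set_option autoImplicit false

open scoped Pointwise

namespace CfsgLib.Solvable

variable {G : Type*} [Group G] [Finite G] {p : ℕ} [hp : Fact p.Prime]

/-- In a `p`-group, outside a subgroup there is an element whose `p`-th power is inside. -/
theorem exists_notMem_pow_mem (hG : IsPGroup p G) {H : Subgroup G} {g : G} (hg : g ∉ H) :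
    ∃ j : ℕ, g ^ p ^ j ∉ H ∧ (g ^ p ^ j) ^ p ∈ H := by
  classical
  obtain ⟨m, hm⟩ := hG g
  have hex : ∃ i, g ^ p ^ i ∈ H := ⟨m, hm ▸ one_mem H⟩
  have h0 : Nat.find hex ≠ 0 := fun h => hg (by have := Nat.find_spec hex; rwa [h, pow_zero, pow_one] at this)
  obtain ⟨j, hj⟩ := Nat.exists_eq_succ_of_ne_zero h0
  refine ⟨j, Nat.find_min hex (by omega), ?_⟩
  rw [← pow_mul, ← pow_succ]
  have := Nat.find_spec hex
  rwa [hj] at this

/-- A commuting `p`-group with a unique subgroup of order `p` is cyclic. -/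
theorem isCyclic_of_unique_of_comm (hG : IsPGroup p G) (hc : ∀ x y : G, x * y = y * x)
    (hu : ∀ x y : G, orderOf x = p → orderOf y = p → x ∈ Subgroup.zpowers y) : IsCyclic G := by
  obtain ⟨y, hy⟩ := Finite.exists_max (fun g : G => orderOf g)
  refine ⟨⟨y, fun g => not_not.1 fun hg => ?_⟩⟩
  obtain ⟨j, hj, hjp⟩ := exists_notMem_pow_mem hG (H := Subgroup.zpowers y) hg
  set x := g ^ p ^ j
  obtain ⟨k, hk⟩ := hjp
  obtain ⟨n, hn⟩ := (IsPGroup.iff_orderOf.1 hG) y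
  obtain ⟨m, hm⟩ := (IsPGroup.iff_orderOf.1 hG) x
  have hxy : m ≤ n := by
    have := hy x
    rw [hn, hm] at this
    exact (Nat.pow_le_pow_iff_right hp.out.one_lt).1 this
  have hn0 : n ≠ 0 := by
    rintro rfl
    obtain rfl : m = 0 := Nat.le_zero.1 hxy
    exact hj (orderOf_eq_one_iff.1 (by simpa using hm) ▸ one_mem _)
  obtain ⟨n', rfl⟩ := Nat.exists_eq_succ_of_ne_zero hn0
  have hk' : (p : ℤ) ∣ k := by
    have h1 : (y ^ k) ^ p ^ n' = 1 := by
      show ((fun i : ℤ => y ^ i) k) ^ p ^ n' = 1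
      rw [hk, ← pow_mul, ← pow_succ']
      exact orderOf_dvd_iff_pow_eq_one.1 (hm ▸ pow_dvd_pow p hxy)
    rw [← zpow_natCast, ← zpow_mul, ← orderOf_dvd_iff_zpow_eq_one, hn] at h1
    have h2 : ((p ^ n' : ℕ) : ℤ) * (p : ℤ) ∣ ((p ^ n' : ℕ) : ℤ) * k := by
      rw [← Nat.cast_mul, ← pow_succ, mul_comm _ k]; exact h1
    exact Int.dvd_of_mul_dvd_mul_left (by exact_mod_cast (pow_pos hp.out.pos n').ne') h2
  obtain ⟨i, rfl⟩ := hk'
  set w := x * (y ^ i)⁻¹
  have hw : w ^ p = 1 := by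
    rw [(show Commute x (y ^ i)⁻¹ from hc _ _).mul_pow, inv_pow, mul_inv_eq_one, ← zpow_natCast (y ^ i),
      ← zpow_mul, mul_comm i]
    exact hk.symm
  have hwy : w ∈ Subgroup.zpowers y := by
    by_cases h1 : w = 1
    · rw [h1]; exact one_mem _
    have hy' : orderOf (y ^ p ^ n') = p := by
      rw [orderOf_pow' _ (pow_pos hp.out.pos n').ne', hn, Nat.gcd_eq_right (pow_dvd_pow p n'.le_succ),
        pow_succ, Nat.mul_div_cancel_left _ (pow_pos hp.out.pos n')]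
    exact (Subgroup.zpowers_le.2 (pow_mem (Subgroup.mem_zpowers y) _))
      (hu w _ (orderOf_eq_prime hw h1) hy')
  apply hj
  have : x = w * y ^ i := (inv_mul_cancel_right x (y ^ i)).symm
  show x ∈ _
  rw [this]
  exact mul_mem hwy (Subgroup.zpow_mem _ (Subgroup.mem_zpowers y) i)

section Arith

theorem dvd_sub_one_of_dvd_pow_sub_one (hp2 : p ≠ 2) {n : ℕ} {r : ℤ}
    (h : (p : ℤ) ^ n ∣ r ^ p - 1) : (p : ℤ) ^ (n - 1) ∣ r - 1 ∧ (n ≤ 1 → (p : ℤ) ^ n ∣ r - 1) := by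
  rcases Nat.eq_zero_or_pos n with rfl | hn
  · simp
  have h1 : (p : ℤ) ∣ r - 1 := by
    rw [← ZMod.intCast_zmod_eq_zero_iff_dvd]
    have h2 : ((r ^ p - 1 : ℤ) : ZMod p) = 0 :=
      (ZMod.intCast_zmod_eq_zero_iff_dvd _ _).2 ((dvd_pow_self _ hn.ne').trans h)
    push_cast at h2 ⊢
    rwa [ZMod.pow_card] at h2
  refine ⟨?_, fun hle => by rw [show n = 1 by omega, pow_one]; exact h1⟩
  have key : ∀ j, j ≤ n - 1 → (p : ℤ) ^ j ∣ r - 1 := by
    intro j
    induction j with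
    | zero => simp
    | succ j ih =>
      intro hj
      rcases Nat.eq_zero_or_pos j with rfl | hj0
      · simpa using h1
      obtain ⟨a, ha⟩ := ih (by omega)
      by_cases hpa : (p : ℤ) ∣ a
      · rw [ha, pow_succ]
        exact mul_dvd_mul_left _ hpa
      exfalso
      obtain ⟨e, he⟩ : ∃ e, n = e + j := ⟨n - j, by omega⟩
      have hord := ZMod.orderOf_one_add_mul_prime_pow hp.out j hj0.ne'
        (by
          have h3 : 3 ≤ p := lt_of_le_of_ne hp.out.two_le (Ne.symm hp2)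
          calc j + 2 ≤ 3 * j := by omega
            _ ≤ p * j := Nat.mul_le_mul_right _ h3) a hpa e
      have hr : (1 + (p : ZMod (p ^ (e + j))) ^ j * (a : ZMod (p ^ (e + j)))) =
          (r : ZMod (p ^ (e + j))) := by
        have h4 : r = 1 + (p : ℤ) ^ j * a := by rw [← ha]; ring
        rw [h4]; push_cast; rfl
      rw [hr] at hord
      have h5 : (r : ZMod (p ^ (e + j))) ^ p = 1 := by
        have h6 : ((r ^ p - 1 : ℤ) : ZMod (p ^ (e + j))) = 0 :=
          (ZMod.intCast_zmod_eq_zero_iff_dvd _ _).2 (by push_cast; rwa [← he])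
        push_cast at h6
        exact sub_eq_zero.1 h6
      have h7 := orderOf_dvd_of_pow_eq_one h5
      rw [hord] at h7
      have h8 := (Nat.pow_dvd_pow_iff_le_right hp.out.one_lt).1 (h7.trans (pow_one p).symm.dvd)
      omega
  exact key _ le_rfl

theorem geom_sum_modEq {n : ℕ} (hn : 2 ≤ n) {r : ℤ} (hr : (p : ℤ) ^ (n - 1) ∣ r - 1) (hp2 : p ≠ 2) :
    (p : ℤ) ^ n ∣ (∑ l ∈ Finset.range p, r ^ l) - p := by
  have hsq : (p : ℤ) ^ n ∣ (r - 1) * (r - 1) := by
    refine dvd_trans ?_ (mul_dvd_mul hr hr)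
    rw [← pow_add]
    exact pow_dvd_pow _ (by omega)
  have hlin : ∀ l : ℕ, (p : ℤ) ^ n ∣ r ^ l - (1 + l * (r - 1)) := by
    intro l
    induction l with
    | zero => simp
    | succ l ih =>
      have e : r ^ (l + 1) - (1 + ((l + 1 : ℕ) : ℤ) * (r - 1)) =
          r * (r ^ l - (1 + (l : ℤ) * (r - 1))) + (l : ℤ) * ((r - 1) * (r - 1)) := by
        push_cast; ring
      rw [e]
      exact dvd_add (dvd_mul_of_dvd_right ih _) (dvd_mul_of_dvd_right hsq _)
  have hsum : (p : ℤ) ∣ ∑ l ∈ Finset.range p, (l : ℤ) := by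
    have h2 : ((∑ l ∈ Finset.range p, (l : ℤ))) * 2 = p * (p - 1) := by
      have := Finset.sum_range_id_mul_two p
      zify [hp.out.one_le] at this
      exact this
    have h3 : IsCoprime (p : ℤ) 2 := by
      rw [Int.isCoprime_iff_nat_coprime]
      exact (Nat.coprime_primes hp.out Nat.prime_two).2 hp2
    exact h3.dvd_of_dvd_mul_right (h2 ▸ dvd_mul_right _ _)
  have e : (∑ l ∈ Finset.range p, r ^ l) - p =
      (∑ l ∈ Finset.range p, (r ^ l - (1 + (l : ℤ) * (r - 1)))) +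
        (∑ l ∈ Finset.range p, (l : ℤ)) * (r - 1) := by
    rw [Finset.sum_sub_distrib, Finset.sum_add_distrib, Finset.sum_const, Finset.card_range,
      ← Finset.sum_mul]
    simp only [nsmul_eq_mul, mul_one]
    ring
  rw [e]
  refine dvd_add (Finset.dvd_sum fun l _ => hlin l) ?_
  have h4 := mul_dvd_mul hsum hr
  rwa [← pow_succ', show n - 1 + 1 = n by omega] at h4

/-- Possible exponents of an automorphism of order at most `2` of a cyclic `2`-group. -/
theorem two_cases {n : ℕ} (hn : 3 ≤ n) {r : ℤ} (h : (2 : ℤ) ^ n ∣ r * r - 1) :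
    (2 : ℤ) ^ (n - 1) ∣ r - 1 ∨ (2 : ℤ) ^ (n - 1) ∣ r + 1 := by
  have h2 : (2 : ℤ) ∣ r * r - 1 := (dvd_pow_self 2 (by omega)).trans h
  obtain ⟨u, hu⟩ : ∃ u, r = 2 * u + 1 := by
    rcases Int.even_or_odd r with ⟨k, hk⟩ | ⟨k, hk⟩
    · exfalso
      obtain ⟨c, hc⟩ := h2
      subst hk
      have e : 2 * (2 * (k * k) - c) = 1 := by linarith
      omega
    · exact ⟨k, hk⟩
  obtain ⟨c, hc⟩ := h
  have e4 : u * (u + 1) * 4 = (2 : ℤ) ^ n * c := by rw [← hc, hu]; ring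
  obtain ⟨m, rfl⟩ : ∃ m, n = m + 2 := ⟨n - 2, by omega⟩
  have e5 : u * (u + 1) = (2 : ℤ) ^ m * c := by
    have e6 : u * (u + 1) * 4 = (2 : ℤ) ^ m * c * 4 := by rw [e4, pow_add]; ring
    linarith
  rw [show m + 2 - 1 = m + 1 by omega, pow_succ']
  rcases Int.even_or_odd u with ⟨k, hk⟩ | ⟨k, hk⟩
  · left
    have hcop : IsCoprime ((2 : ℤ) ^ m) (u + 1) :=
      IsCoprime.pow_left ⟨-k, 1, by rw [hk]; ring⟩
    obtain ⟨d, hd⟩ := hcop.dvd_of_dvd_mul_right ⟨c, e5⟩
    exact ⟨d, by rw [hu, hd]; ring⟩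
  · right
    have hcop : IsCoprime ((2 : ℤ) ^ m) u :=
      IsCoprime.pow_left ⟨-k, 1, by rw [hk]; ring⟩
    obtain ⟨d, hd⟩ := hcop.dvd_of_dvd_mul_left ⟨c, e5⟩
    refine ⟨d, ?_⟩
    rw [hu]
    linear_combination (2 : ℤ) * hd

end Arith

variable {a x : G}

omit [Finite G] in
theorem conj_zpow_exp {r : ℤ} (hr : x * a * x⁻¹ = a ^ r) (i : ℤ) : x * a ^ i * x⁻¹ = a ^ (r * i) := by
  rw [← conj_zpow, hr, ← zpow_mul]

omit [Finite G] in
theorem zpow_mul_pow {r : ℤ} (hr : x * a * x⁻¹ = a ^ r) (i : ℤ) (l : ℕ) :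
    (a ^ i * x) ^ l = a ^ (i * ∑ t ∈ Finset.range l, r ^ t) * x ^ l := by
  induction l with
  | zero => simp
  | succ l ih =>
    have hc : x ^ l * a ^ i = a ^ (r ^ l * i) * x ^ l := by
      clear ih
      induction l generalizing i with
      | zero => simp
      | succ l ih2 =>
        calc x ^ (l + 1) * a ^ i = x ^ l * (x * a ^ i * x⁻¹) * x := by rw [pow_succ]; group
          _ = x ^ l * a ^ (r * i) * x := by rw [conj_zpow_exp hr]
          _ = a ^ (r ^ l * (r * i)) * x ^ l * x := by rw [ih2]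
          _ = a ^ (r ^ (l + 1) * i) * x ^ (l + 1) := by
            rw [mul_assoc _ (x ^ l), ← pow_succ, pow_succ r l, mul_assoc (r ^ l) r i]
    rw [pow_succ, ih, Finset.sum_range_succ, mul_add, zpow_add, mul_assoc,
      ← mul_assoc (x ^ l), hc, mul_comm i (r ^ l), pow_succ]
    simp only [mul_assoc]

/-- The key step: above a cyclic self-centralizing subgroup, `x ∉ ⟨a⟩` with `x ^ p ∈ ⟨a⟩`
inverts `a`, `p = 2` and `x ^ 2` is the involution of `⟨a⟩`. -/
theorem inverts_of_unique (hu : ∀ x y : G, orderOf x = p → orderOf y = p → x ∈ Subgroup.zpowers y)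
    {n : ℕ} (hn : orderOf a = p ^ n) (hxA : x ∉ Subgroup.zpowers a) (hxp : x ^ p ∈ Subgroup.zpowers a)
    (hnorm : x * a * x⁻¹ ∈ Subgroup.zpowers a) (hcent : ¬ Commute x a) :
    p = 2 ∧ 2 ≤ n ∧ x * a * x⁻¹ = a⁻¹ ∧ x ^ 2 = a ^ (2 ^ (n - 1) : ℕ) := by
  obtain ⟨r, hr⟩ : ∃ r : ℤ, x * a * x⁻¹ = a ^ r := ⟨_, hnorm.choose_spec.symm⟩
  obtain ⟨k, hk⟩ : ∃ k : ℤ, x ^ p = a ^ k := ⟨_, hxp.choose_spec.symm⟩
  have hone : ∀ i : ℤ, a ^ i = 1 ↔ (p : ℤ) ^ n ∣ i := fun i => by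
    rw [← orderOf_dvd_iff_zpow_eq_one, hn]; push_cast; rfl
  have heq : ∀ i j : ℤ, a ^ i = a ^ j ↔ (p : ℤ) ^ n ∣ i - j := fun i j => by
    rw [← hone, zpow_sub, mul_inv_eq_one]
  have hr1 : ¬ (p : ℤ) ^ n ∣ r - 1 := fun h => hcent (by
    have h1 := (heq r 1).2 h
    rw [zpow_one] at h1
    rw [h1] at hr
    exact (mul_inv_eq_iff_eq_mul.1 hr))
  have hn0 : n ≠ 0 := by rintro rfl; exact hr1 (by simp)
  -- no element of order `p` outside `⟨a⟩`
  have hno : ∀ i : ℤ, (a ^ i * x) ^ p ≠ 1 := by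
    intro i hi
    apply hxA
    have hne : a ^ i * x ≠ 1 := fun h => hxA (by
      rw [← inv_eq_of_mul_eq_one_right h]; exact inv_mem (Subgroup.zpow_mem _ (Subgroup.mem_zpowers a) i))
    have hy' : orderOf (a ^ p ^ (n - 1)) = p := by
      rw [orderOf_pow' _ (pow_pos hp.out.pos _).ne', hn,
        Nat.gcd_eq_right (pow_dvd_pow p (n.sub_le 1))]
      conv_lhs => rw [show n = n - 1 + 1 by omega, pow_succ, Nat.add_sub_cancel]
      rw [Nat.mul_div_cancel_left _ (pow_pos hp.out.pos _)]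
    have h2 : a ^ i * x ∈ Subgroup.zpowers a :=
      (Subgroup.zpowers_le.2 (pow_mem (Subgroup.mem_zpowers a) _))
        (hu _ _ (orderOf_eq_prime hi hne) hy')
    have := mul_mem (inv_mem (Subgroup.zpow_mem _ (Subgroup.mem_zpowers a) i)) h2
    rwa [inv_mul_cancel_left] at this
  -- `r ^ p = 1` and `r k = k`
  have hrp : (p : ℤ) ^ n ∣ r ^ p - 1 := by
    have key : ∀ l : ℕ, x ^ l * a * (x ^ l)⁻¹ = a ^ (r ^ l) := by
      intro l
      induction l with
      | zero => simp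
      | succ l ih =>
        calc x ^ (l + 1) * a * (x ^ (l + 1))⁻¹ = x * (x ^ l * a * (x ^ l)⁻¹) * x⁻¹ := by
              rw [pow_succ']; group
          _ = a ^ (r ^ (l + 1)) := by rw [ih, conj_zpow_exp hr, pow_succ']
    have h1 := key p
    rw [hk, ((Commute.refl a).zpow_left k).eq, mul_inv_cancel_right] at h1
    have := (heq (r ^ p) 1).1 (by rw [zpow_one, ← h1])
    exact this
  have hrk : (p : ℤ) ^ n ∣ (r - 1) * k := by
    have h1 : x * a ^ k * x⁻¹ = a ^ k := by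
      rw [← hk, ← pow_succ', pow_succ, mul_inv_cancel_right]
    rw [conj_zpow_exp hr, heq] at h1
    rwa [sub_mul, one_mul]
  have hpk : (p : ℤ) ∣ k := by
    by_contra hpk
    have hcop : IsCoprime ((p : ℤ) ^ n) k :=
      IsCoprime.pow_left ((Nat.prime_iff_prime_int.1 hp.out).coprime_iff_not_dvd.2 hpk)
    exact hr1 (hcop.dvd_of_dvd_mul_right hrk)
  obtain ⟨j, rfl⟩ := hpk
  by_cases hp2 : p ≠ 2
  · exfalso
    obtain ⟨h1, h1'⟩ := dvd_sub_one_of_dvd_pow_sub_one hp2 hrp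
    have hn2 : 2 ≤ n := by
      by_contra hlt
      exact hr1 (h1' (by omega))
    refine hno (-j) ?_
    rw [zpow_mul_pow hr, hk, ← zpow_add, hone]
    have h2 := dvd_mul_of_dvd_right (geom_sum_modEq hn2 h1 hp2) (-j)
    have e : (-j * ∑ t ∈ Finset.range p, r ^ t) + (p : ℤ) * j =
        -j * ((∑ t ∈ Finset.range p, r ^ t) - p) := by ring
    rw [e]; exact h2
  rw [not_not] at hp2
  subst hp2
  have hpow : ∀ i : ℤ, ¬ (2 : ℤ) ^ n ∣ i * (r + 1) + 2 * j := fun i h => hno i (by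
    rw [zpow_mul_pow hr, hk, ← zpow_add, hone]
    simpa [Finset.sum_range_succ, add_comm (1 : ℤ) r] using h)
  have hrr : (2 : ℤ) ^ n ∣ r * r - 1 := by simpa [pow_two] using hrp
  have hrk' : (2 : ℤ) ^ n ∣ (r - 1) * (2 * j) := by simpa using hrk
  have hr1' : ¬ (2 : ℤ) ^ n ∣ r - 1 := by simpa using hr1
  have hn2 : 2 ≤ n := by
    by_contra hlt
    obtain rfl : n = 1 := by omega
    rw [pow_one] at hr1' hrr
    rcases Int.even_or_odd r with ⟨s, hs⟩ | ⟨s, hs⟩
    · subst hs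
      obtain ⟨c, hc⟩ := hrr
      have : 2 * (2 * (s * s) - c) = 1 := by linarith
      omega
    · exact hr1' ⟨s, by rw [hs]; ring⟩
  have hinv : (2 : ℤ) ^ n ∣ r + 1 := by
    rcases Nat.lt_or_ge n 3 with hn3 | hn3
    · obtain rfl : n = 2 := by omega
      norm_num at hrr hr1' ⊢
      obtain ⟨c, hc⟩ := hrr
      rcases Int.even_or_odd r with ⟨s, hs⟩ | ⟨s, hs⟩
      · subst hs
        have : 4 * (s * s - c) = 1 := by linarith
        omega
      · omega
    rcases two_cases hn3 hrr with h | h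
    · exfalso
      obtain ⟨t, ht⟩ := h
      obtain ⟨m, rfl⟩ : ∃ m, n = m + 3 := ⟨n - 3, by omega⟩
      simp only [show m + 3 - 1 = m + 2 by omega] at ht
      have hu : IsCoprime ((2 : ℤ) ^ (m + 3)) (1 + 2 ^ (m + 1) * t) :=
        IsCoprime.pow_left ⟨-(2 ^ m * t), 1, by ring⟩
      obtain ⟨α, β, hαβ⟩ := hu
      refine hpow (-(β * j)) ⟨2 * j * α, ?_⟩
      have : r + 1 = 2 * (1 + 2 ^ (m + 1) * t) := by linear_combination ht
      rw [this]
      linear_combination (-(2 * j)) * hαβ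
    · by_contra hne
      obtain ⟨t, ht⟩ := h
      obtain ⟨m, rfl⟩ : ∃ m, n = m + 3 := ⟨n - 3, by omega⟩
      simp only [show m + 3 - 1 = m + 2 by omega] at ht
      have hu : IsCoprime ((2 : ℤ) ^ (m + 1)) (2 ^ (m + 1) * t - 1) :=
        IsCoprime.pow_left ⟨2 ^ m * t, -1, by ring⟩
      have hj : (2 : ℤ) ^ (m + 1) ∣ j := by
        refine hu.dvd_of_dvd_mul_right ?_
        obtain ⟨c, hc⟩ := hrk'
        refine ⟨c, ?_⟩
        have h1 : r - 1 = 2 * (2 ^ (m + 1) * t - 1) := by linear_combination ht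
        refine mul_left_cancel₀ (show (4 : ℤ) ≠ 0 by norm_num) ?_
        linear_combination hc - 2 * j * h1
      obtain ⟨d, rfl⟩ := hj
      have ht2 : ¬ (2 : ℤ) ∣ t := fun ⟨e, he⟩ => hne ⟨e, by rw [ht, he]; ring⟩
      rcases Int.even_or_odd t with ⟨e, he⟩ | ⟨e, he⟩
      · exact ht2 ⟨e, by rw [he]; ring⟩
      rcases Int.even_or_odd d with ⟨f, hf⟩ | ⟨f, hf⟩
      · exact hpow 0 ⟨f, by rw [hf]; ring⟩
      · exact hpow 1 ⟨e + f + 1, by rw [ht, he, hf]; ring⟩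
  refine ⟨rfl, hn2, ?_, ?_⟩
  · rw [hr, ← zpow_neg_one, heq]
    simpa using hinv
  · have hk' : (2 : ℤ) ^ n ∣ 2 * (2 * j) := by
      have e : (2 : ℤ) * (2 * j) = (r + 1) * (2 * j) - (r - 1) * (2 * j) := by ring
      rw [e]; exact dvd_sub (dvd_mul_of_dvd_left hinv _) hrk'
    obtain ⟨m, rfl⟩ : ∃ m, n = m + 2 := ⟨n - 2, by omega⟩
    obtain ⟨c, hc⟩ := hk'
    have hjc : j = 2 ^ m * c := by
      rw [pow_add] at hc
      linarith
    rcases Int.even_or_odd c with ⟨f, hf⟩ | ⟨f, hf⟩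
    · exact absurd ⟨f, by rw [hjc, hf]; ring⟩ (hpow 0)
    rw [hk, ← zpow_natCast, heq, hjc, hf]
    exact ⟨f, by push_cast [show m + 2 - 1 = m + 1 by omega]; ring⟩

theorem isCyclic_or_quaternion (hG : IsPGroup p G)
    (hu : ∀ x y : G, orderOf x = p → orderOf y = p → x ∈ Subgroup.zpowers y) :
    IsCyclic G ∨ (p = 2 ∧ ∃ n : ℕ, Nonempty (G ≃* QuaternionGroup (2 ^ n))) := by
  obtain ⟨A, -, hAn, hAc, hA⟩ := CfsgLib.PGroup.exists_normal_abelian_centralizer_eq hG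
    (⊥ : Subgroup G) inferInstance (fun a ha b hb => by
      rw [Subgroup.mem_bot.1 ha, Subgroup.mem_bot.1 hb])
  have hAcyc : IsCyclic A := isCyclic_of_unique_of_comm (hG.to_subgroup A)
    (fun x y => hAc.is_comm.comm x y) fun x y hx hy => by
    obtain ⟨i, hi⟩ := hu x y (by rwa [Subgroup.orderOf_coe]) (by rwa [Subgroup.orderOf_coe])
    exact ⟨i, Subtype.ext (by simpa using hi)⟩
  obtain ⟨⟨a, ha⟩, hgen⟩ := hAcyc.exists_generator
  have hAz : A = Subgroup.zpowers a := by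
    refine le_antisymm (fun y hy => ?_) (Subgroup.zpowers_le.2 ha)
    obtain ⟨i, hi⟩ := hgen ⟨y, hy⟩
    exact ⟨i, by simpa using congrArg Subtype.val hi⟩
  obtain ⟨n, hn⟩ := (IsPGroup.iff_orderOf.1 hG) a
  have hnc : ∀ g : G, g ∉ A → ¬ Commute g a := by
    intro g hg hga
    refine hg ?_
    rw [← hA, Subgroup.mem_centralizer_iff]
    intro y hy
    rw [hAz] at hy
    obtain ⟨i, rfl⟩ := hy
    exact (hga.zpow_right i).symm.eq
  have hconj : ∀ g : G, g * a * g⁻¹ ∈ Subgroup.zpowers a := fun g => hAz ▸ hAn.conj_mem a ha g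
  by_cases htop : A = ⊤
  · left
    rw [htop] at hAcyc
    exact isCyclic_of_surjective _ (Subgroup.topEquiv (G := G)).surjective
  right
  obtain ⟨g₀, -, hg₀⟩ := SetLike.exists_of_lt (lt_top_iff_ne_top.2 htop)
  -- every element outside `A` inverts `a` and squares to the involution
  obtain ⟨j₀, hj₀, hj₀'⟩ := exists_notMem_pow_mem hG hg₀
  obtain ⟨hp2, hn2, -, -⟩ := inverts_of_unique hu hn (hAz ▸ hj₀) (hAz ▸ hj₀') (hconj _) (hnc _ hj₀)
  subst hp2
  have hall : ∀ g : G, g ∉ A → g * a * g⁻¹ = a⁻¹ ∧ g ^ 2 = a ^ (2 ^ (n - 1) : ℕ) := by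
    intro g hg
    obtain ⟨j, hj, hj'⟩ := exists_notMem_pow_mem hG hg
    obtain ⟨-, -, hinv, hsq⟩ := inverts_of_unique hu hn (hAz ▸ hj) (hAz ▸ hj') (hconj _) (hnc _ hj)
    suffices hj0 : j = 0 by
      subst hj0
      rw [pow_zero, pow_one] at hinv hsq
      exact ⟨hinv, hsq⟩
    by_contra hj0
    obtain ⟨i, rfl⟩ := Nat.exists_eq_succ_of_ne_zero hj0
    set h := g ^ 2 ^ i
    rw [pow_succ, pow_mul] at hinv
    change h ^ 2 * a * (h ^ 2)⁻¹ = a⁻¹ at hinv
    obtain ⟨s, hs⟩ := hconj h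
    simp only at hs
    have h1 : a ^ (s * s) = a ^ (-1 : ℤ) := by
      calc a ^ (s * s) = h * a ^ s * h⁻¹ := (conj_zpow_exp hs.symm s).symm
        _ = h * (h * a * h⁻¹) * h⁻¹ := by rw [hs]
        _ = h ^ 2 * a * (h ^ 2)⁻¹ := by rw [pow_two]; group
        _ = a ^ (-1 : ℤ) := by rw [hinv, zpow_neg_one]
    rw [zpow_eq_zpow_iff_modEq, hn, Int.modEq_iff_dvd] at h1
    push_cast at h1
    have h4 : (4 : ℤ) ∣ -1 - s * s := by
      refine (dvd_trans ?_ h1)
      rw [show (4 : ℤ) = 2 ^ 2 by norm_num]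
      exact pow_dvd_pow _ hn2
    obtain ⟨c, hc⟩ := h4
    rcases Int.even_or_odd s with ⟨t, ht⟩ | ⟨t, ht⟩
    · subst ht
      have : 4 * (c + t * t) = -1 := by linarith
      omega
    · subst ht
      have : 4 * (c + t * t + t) = -2 := by linarith
      omega
  obtain ⟨x, hx⟩ : ∃ x : G, x ∉ A := ⟨g₀, hg₀⟩
  obtain ⟨hxinv, hxsq⟩ := hall x hx
  refine ⟨rfl, n - 1, ⟨?_⟩⟩
  set N := 2 * 2 ^ (n - 1) with hN
  have hN' : orderOf a = N := by rw [hn, hN, ← pow_succ']; congr 1; omega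
  haveI : NeZero (2 ^ (n - 1)) := ⟨by positivity⟩
  let f : ZMod N → G := fun i => a ^ i.val
  have fadd : ∀ i j : ZMod N, f (i + j) = f i * f j := fun i j => by
    show a ^ (i + j).val = a ^ i.val * a ^ j.val
    rw [← pow_add, ZMod.val_add]
    exact pow_eq_pow_iff_modEq.2 (by rw [hN']; exact Nat.mod_modEq _ _)
  have fnat : ∀ m : ℕ, f (m : ZMod N) = a ^ m := fun m => by
    show a ^ ((m : ZMod N)).val = _
    rw [ZMod.val_natCast]
    exact pow_eq_pow_iff_modEq.2 (by rw [hN']; exact Nat.mod_modEq _ _)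
  have fsub : ∀ i j : ZMod N, f (j - i) = (f i)⁻¹ * f j := fun i j => by
    rw [eq_inv_mul_iff_mul_eq, ← fadd]; congr 1; ring
  have fx : ∀ i : ZMod N, f i * x = x * (f i)⁻¹ := fun i => by
    have h : x * a ^ (-(i.val : ℤ)) * x⁻¹ = a ^ ((-1 : ℤ) * -(i.val : ℤ)) :=
      conj_zpow_exp (by rw [zpow_neg_one]; exact hxinv) _
    rw [zpow_neg, zpow_natCast, neg_one_mul, neg_neg, zpow_natCast, mul_inv_eq_iff_eq_mul] at h
    exact h.symm
  let φ : QuaternionGroup (2 ^ (n - 1)) →* G :=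
    MonoidHom.mk' (fun q => match q with
      | QuaternionGroup.a i => f i
      | QuaternionGroup.xa i => x * f i) (by
      rintro (i | i) (j | j)
      · exact fadd i j
      · show x * f (j - i) = f i * (x * f j)
        rw [fsub, ← mul_assoc x, ← fx, mul_assoc]
      · show x * f (i + j) = x * f i * f j
        rw [fadd, mul_assoc]
      · show f ((2 ^ (n - 1) : ℕ) + j - i) = x * f i * (x * f j)
        rw [add_sub_assoc, fadd, fnat, fsub, ← hxsq, pow_two]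
        calc x * x * ((f i)⁻¹ * f j) = x * (x * (f i)⁻¹) * f j := by group
          _ = x * (f i * x) * f j := by rw [fx]
          _ = x * f i * (x * f j) := by group)
  refine (MulEquiv.ofBijective φ ⟨?_, ?_⟩).symm
  · rw [injective_iff_map_eq_one]
    rintro (i | i) hi
    · show QuaternionGroup.a i = 1
      have h1 : a ^ i.val = 1 := hi
      rw [← orderOf_dvd_iff_pow_eq_one, hN'] at h1
      have h2 : i.val = 0 := Nat.eq_zero_of_dvd_of_lt h1 i.val_lt
      rw [(ZMod.val_eq_zero i).1 h2, QuaternionGroup.a_zero]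
    · refine absurd ?_ hx
      have h1 : x * f i = 1 := hi
      rw [eq_inv_of_mul_eq_one_left h1, hAz]
      exact inv_mem (pow_mem (Subgroup.mem_zpowers a) _)
  · intro g
    by_cases hg : g ∈ A
    · rw [hAz, ← mem_powers_iff_mem_zpowers] at hg
      obtain ⟨m, rfl⟩ := hg
      exact ⟨QuaternionGroup.a m, fnat m⟩
    · have hxg : x⁻¹ * g ∈ A := by
        by_contra hne
        obtain ⟨h1, -⟩ := hall _ hne
        obtain ⟨h2, -⟩ := hall g hg
        have e : x⁻¹ * g * a * (x⁻¹ * g)⁻¹ = x⁻¹ * (g * a * g⁻¹) * x := by group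
        have h3 : x⁻¹ * a⁻¹ * x = a := by rw [← hxinv]; group
        rw [e, h2, h3] at h1
        have h4 : a ^ 2 = 1 := by rw [pow_two]; conv_lhs => arg 2; rw [h1]
                                  exact mul_inv_cancel a
        rw [← orderOf_dvd_iff_pow_eq_one, hn] at h4
        have h5 := (Nat.pow_dvd_pow_iff_le_right (show 1 < 2 by norm_num)).1 (h4.trans (pow_one 2).symm.dvd)
        omega
      rw [hAz, ← mem_powers_iff_mem_zpowers] at hxg
      obtain ⟨m, hm⟩ := hxg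
      simp only at hm
      refine ⟨QuaternionGroup.xa m, ?_⟩
      show x * f (m : ZMod N) = g
      rw [fnat, hm, mul_inv_cancel_left]

end CfsgLib.Solvable
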