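import Cfsg.Agent.Lib.Solvable.MinimalNormal
import Cfsg.Agent.Lib.Cores.Components

/-!
Fitting subgroup of finite solvable groups: self-centralising property.
-/

set_option autoImplicit false

open scoped Pointwise

namespace CfsgLib.Solvable

open Cfsg

variable {G : Type*} [Group G] [Finite G] [Group.IsSolvable G]

theorem layer_eq_bot_of_isSolvable : layer G = ⊥ := by
  rw [CfsgLib.Cores.layer_eq_bot_iff]
  intro L hL
  exact CfsgLib.Cores.not_isSolvable_of_isQuasisimple hL.2 inferInstance

/-- In a finite solvable group `C(F(G)) ≤ F(G)`. -/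
theorem centralizer_fittingSubgroup_le :
    Subgroup.centralizer (fittingSubgroup G : Set G) ≤ fittingSubgroup G := by
  have h : generalizedFittingSubgroup G = fittingSubgroup G := by
    rw [generalizedFittingSubgroup, layer_eq_bot_of_isSolvable, bot_sup_eq]
  have := CfsgLib.Cores.centralizer_generalizedFittingSubgroup_le (G := G)
  rwa [h] at this

theorem fittingSubgroup_eq_pCore_of_pPrimeCore_eq_bot (p : ℕ) [Fact p.Prime]
    (h : pPrimeCore p G = ⊥) : fittingSubgroup G = pCore p G := by
  refine le_antisymm ?_ (CfsgLib.Cores.pCore_le_fittingSubgroup p)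
  rw [CfsgLib.Cores.fittingSubgroup_eq_iSup_pCore]
  refine iSup_le fun q => ?_
  by_cases hq : (q : ℕ) = p
  · rw [hq]
  · have : Fact (q : ℕ).Prime := ⟨Nat.prime_of_mem_primeFactors q.2⟩
    refine le_trans (le_of_le_of_eq ?_ h) bot_le
    have hn : (pCore (q : ℕ) G).Normal :=
      Subgroup.sSup_normal _ fun N hN => hN.1
    refine CfsgLib.Cores.le_pPrimeCore ?_
    obtain ⟨n, hn⟩ := IsPGroup.iff_card.1 (CfsgLib.Cores.isPGroup_pCore (G := G) (q : ℕ))
    rw [hn]
    exact Nat.Coprime.pow_left _ ((Nat.coprime_primes (Fact.out) (Fact.out)).2 hq)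

/-- Hall–Higman Lemma 1.2.3 for solvable groups. -/
theorem centralizer_pCore_le (p : ℕ) [Fact p.Prime] (h : pPrimeCore p G = ⊥) :
    Subgroup.centralizer (pCore p G : Set G) ≤ pCore p G := by
  rw [← fittingSubgroup_eq_pCore_of_pPrimeCore_eq_bot p h]
  exact centralizer_fittingSubgroup_le

end CfsgLib.Solvable
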