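import Cfsg.Agent.Lib.Solvable.Basic

/-!
Minimal normal subgroups, in particular of solvable groups, and quotient bookkeeping for
inductions on the group order.
-/

set_option autoImplicit false

open scoped Pointwise commutatorElement

namespace CfsgLib.Solvable

variable {G : Type*} [Group G]

/-- Any nontrivial normal subgroup contains a minimal normal subgroup. -/
theorem exists_minimal_normal_le [Finite G] (N : Subgroup G) [hn : N.Normal] (hN : N ≠ ⊥) :
    ∃ M : Subgroup G, M.Normal ∧ M ≠ ⊥ ∧ M ≤ N ∧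
      ∀ K : Subgroup G, K.Normal → K ≤ M → K = ⊥ ∨ K = M := by
  obtain ⟨M, hM⟩ := (Set.toFinite {M : Subgroup G | M.Normal ∧ M ≠ ⊥ ∧ M ≤ N}).exists_minimal
    ⟨N, hn, hN, le_rfl⟩
  refine ⟨M, hM.1.1, hM.1.2.1, hM.1.2.2, fun K hK hKM => ?_⟩
  by_cases hK0 : K = ⊥
  · exact Or.inl hK0
  · exact Or.inr (le_antisymm hKM (hM.2 ⟨hK, hK0, hKM.trans hM.1.2.2⟩ hKM))

theorem exists_minimal_normal [Finite G] [Nontrivial G] :
    ∃ M : Subgroup G, M.Normal ∧ M ≠ ⊥ ∧
      ∀ K : Subgroup G, K.Normal → K ≤ M → K = ⊥ ∨ K = M :=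
  let ⟨M, h1, h2, _, h3⟩ := exists_minimal_normal_le (⊤ : Subgroup G) top_ne_bot
  ⟨M, h1, h2, h3⟩

/-- A solvable minimal normal subgroup is commutative. -/
theorem commute_of_minimal_normal (N : Subgroup G) [N.Normal] (hN : N ≠ ⊥)
    (hmin : ∀ K : Subgroup G, K.Normal → K ≤ N → K = ⊥ ∨ K = N) (hs : Group.IsSolvable N) :
    ∀ a ∈ N, ∀ b ∈ N, a * b = b * a := by
  have hlt := commutator_self_lt hs hN
  rcases hmin ⁅N, N⁆ inferInstance hlt.le with h | h
  · intro a ha b hb
    rw [← commutatorElement_eq_one_iff_mul_comm, ← Subgroup.mem_bot, ← h]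
    exact Subgroup.commutator_mem_commutator ha hb
  · exact absurd h hlt.ne

/-- A solvable minimal normal subgroup has prime exponent. -/
theorem exists_prime_pow_eq_one_of_minimal_normal [Finite G] (N : Subgroup G) [hn : N.Normal]
    (hN : N ≠ ⊥) (hmin : ∀ K : Subgroup G, K.Normal → K ≤ N → K = ⊥ ∨ K = N)
    (hs : Group.IsSolvable N) : ∃ p : ℕ, p.Prime ∧ ∀ x ∈ N, x ^ p = 1 := by
  have hcomm := commute_of_minimal_normal N hN hmin hs
  have : Nontrivial N := N.nontrivial_iff_ne_bot.2 hN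
  have hp := Nat.minFac_prime (Finite.one_lt_card : 1 < Nat.card N).ne'
  set p := (Nat.card N).minFac
  have : Fact p.Prime := ⟨hp⟩
  let T : Subgroup G :=
    { carrier := {x | x ∈ N ∧ x ^ p = 1}
      one_mem' := ⟨one_mem _, one_pow _⟩
      mul_mem' := fun {a b} ha hb =>
        ⟨mul_mem ha.1 hb.1, by rw [(show Commute a b from hcomm a ha.1 b hb.1).mul_pow, ha.2, hb.2, one_mul]⟩
      inv_mem' := fun {a} ha => ⟨inv_mem ha.1, by rw [inv_pow, ha.2, inv_one]⟩ }
  have hT : T.Normal := ⟨fun x hx g => ⟨hn.conj_mem x hx.1 g, by rw [conj_pow, hx.2]; group⟩⟩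
  rcases hmin T hT (fun x hx => hx.1) with h | h
  · exfalso
    obtain ⟨x, hx⟩ := exists_prime_orderOf_dvd_card' p (Nat.minFac_dvd (Nat.card N))
    have hx' : (x : G) ∈ T := ⟨x.2, by
      rw [← Subgroup.coe_pow, ← hx, pow_orderOf_eq_one, Subgroup.coe_one]⟩
    rw [h, Subgroup.mem_bot] at hx'
    have : x = 1 := Subtype.ext hx'
    rw [this, orderOf_one] at hx
    exact hp.one_lt.ne hx
  · exact ⟨p, hp, fun x hx => (h.ge hx).2⟩

/-- A solvable minimal normal subgroup is a `p`-group of order `p ^ a`, `a > 0`. -/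
theorem exists_pow_card_of_minimal_normal [Finite G] (N : Subgroup G) [N.Normal]
    (hN : N ≠ ⊥) (hmin : ∀ K : Subgroup G, K.Normal → K ≤ N → K = ⊥ ∨ K = N)
    (hs : Group.IsSolvable N) :
    ∃ p a : ℕ, p.Prime ∧ 0 < a ∧ IsPGroup p N ∧ Nat.card N = p ^ a := by
  obtain ⟨p, hp, hpow⟩ := exists_prime_pow_eq_one_of_minimal_normal N hN hmin hs
  have : Fact p.Prime := ⟨hp⟩
  have hpg : IsPGroup p N := fun x => ⟨1, by
    rw [pow_one]; exact Subtype.ext (by simpa using hpow x x.2)⟩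
  obtain ⟨a, ha⟩ := IsPGroup.iff_card.1 hpg
  refine ⟨p, a, hp, Nat.pos_of_ne_zero ?_, hpg, ha⟩
  rintro rfl
  exact hN (Subgroup.card_eq_one.1 (by simpa using ha))

/-- A nontrivial solvable group has a normal subgroup of prime power order `p ^ a`, `a > 0`,
which is minimal normal and abelian of exponent `p`. -/
theorem exists_normal_prime_pow_card [Finite G] [Nontrivial G] [Group.IsSolvable G] :
    ∃ (N : Subgroup G) (p a : ℕ), N.Normal ∧ p.Prime ∧ 0 < a ∧ IsPGroup p N ∧ Nat.card N = p ^ a ∧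
      N ≠ ⊥ ∧ (∀ x ∈ N, ∀ y ∈ N, x * y = y * x) ∧
      ∀ K : Subgroup G, K.Normal → K ≤ N → K = ⊥ ∨ K = N := by
  obtain ⟨N, hn, hN, hmin⟩ := exists_minimal_normal (G := G)
  obtain ⟨p, a, hp, ha, hpg, hc⟩ := exists_pow_card_of_minimal_normal N hN hmin inferInstance
  exact ⟨N, p, a, hn, hp, ha, hpg, hc, hN, commute_of_minimal_normal N hN hmin inferInstance, hmin⟩

theorem card_quotient_lt [Finite G] (N : Subgroup G) [N.Normal] (hN : N ≠ ⊥) :
    Nat.card (G ⧸ N) < Nat.card G := by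
  rw [← Subgroup.index_eq_card, ← N.index_mul_card]
  exact lt_mul_of_one_lt_right (Nat.pos_of_ne_zero Subgroup.index_ne_zero_of_finite)
    (N.one_lt_card_iff_ne_bot.mpr hN)

theorem card_comap_mk' [Finite G] (N : Subgroup G) [N.Normal] (H : Subgroup (G ⧸ N)) :
    Nat.card (H.comap (QuotientGroup.mk' N)) = Nat.card N * Nat.card H := by
  have h1 := (H.comap (QuotientGroup.mk' N)).card_mul_index
  rw [Subgroup.index_comap_of_surjective _ (QuotientGroup.mk'_surjective N)] at h1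
  have h2 := N.card_mul_index
  rw [Subgroup.index_eq_card, ← H.card_mul_index, ← h1, ← mul_assoc] at h2
  exact (mul_right_cancel₀ Subgroup.index_ne_zero_of_finite h2).symm

theorem card_map_dvd [Finite G] {G' : Type*} [Group G'] (f : G →* G') (H : Subgroup G) :
    Nat.card (H.map f) ∣ Nat.card H :=
  Subgroup.card_dvd_of_surjective (f.subgroupMap H) (f.subgroupMap_surjective H)

theorem le_of_map_mk'_le {N : Subgroup G} [N.Normal] {H K : Subgroup G}
    (h : H.map (QuotientGroup.mk' N) ≤ K.map (QuotientGroup.mk' N)) : H ≤ N ⊔ K := by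
  rw [Subgroup.map_le_iff_le_comap, Subgroup.comap_map_eq, QuotientGroup.ker_mk', sup_comm] at h
  exact h

theorem map_conj_smul {G' : Type*} [Group G'] (f : G →* G') (g : G) (H : Subgroup G) :
    (MulAut.conj g • H).map f = MulAut.conj (f g) • H.map f := by
  rw [conj_smul_eq_map, conj_smul_eq_map, Subgroup.map_map, Subgroup.map_map]
  congr 1
  ext x
  simp

end CfsgLib.Solvable
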