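import Mathlib

/-!
Elementary facts about subgroups, normalisers and products used throughout `Lib/Solvable`.
-/

set_option autoImplicit false

open scoped Pointwise

namespace CfsgLib.Solvable

variable {G : Type*} [Group G]

theorem mem_conj_smul_iff {H : Subgroup G} {g x : G} :
    x ∈ MulAut.conj g • H ↔ g⁻¹ * x * g ∈ H := by
  rw [Subgroup.mem_pointwise_smul_iff_inv_smul_mem, ← map_inv, MulAut.smul_def,
    MulAut.conj_apply, inv_inv]

theorem conj_smul_le_iff {H K : Subgroup G} {g : G} :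
    MulAut.conj g • H ≤ K ↔ ∀ x ∈ H, g * x * g⁻¹ ∈ K := by
  constructor
  · intro h x hx
    exact h (mem_conj_smul_iff.2 (by simpa [mul_assoc] using hx))
  · intro h x hx
    have := h _ (mem_conj_smul_iff.1 hx)
    simpa [mul_assoc] using this

theorem conj_smul_eq_map (g : G) (H : Subgroup G) :
    MulAut.conj g • H = H.map (MulAut.conj g).toMonoidHom := rfl

theorem conj_smul_commutator (g : G) (H K : Subgroup G) :
    MulAut.conj g • ⁅H, K⁆ = ⁅MulAut.conj g • H, MulAut.conj g • K⁆ := by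
  simp only [conj_smul_eq_map, Subgroup.map_commutator]

theorem card_conj_smul (g : G) (H : Subgroup G) :
    Nat.card ↥(MulAut.conj g • H : Subgroup G) = Nat.card H := by
  rw [Subgroup.pointwise_smul_def]
  exact Subgroup.card_map_of_injective (MulEquiv.injective (MulAut.conj g))

theorem conj_smul_conj_smul (g h : G) (H : Subgroup G) :
    MulAut.conj g • (MulAut.conj h • H) = MulAut.conj (g * h) • H := by
  rw [smul_smul, map_mul]

theorem conj_smul_self_of_mem_normalizer {H : Subgroup G} {g : G}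
    (hg : g ∈ Subgroup.normalizer (H : Set G)) : MulAut.conj g • H = H := by
  ext x
  rw [mem_conj_smul_iff]
  exact (Subgroup.mem_normalizer_iff''.1 hg x).symm

theorem mem_normalizer_iff_conj_smul {H : Subgroup G} {g : G} :
    g ∈ Subgroup.normalizer (H : Set G) ↔ MulAut.conj g • H = H := by
  refine ⟨conj_smul_self_of_mem_normalizer, fun h => Subgroup.mem_normalizer_iff''.2 fun x => ?_⟩
  rw [← mem_conj_smul_iff, h]

theorem normalizer_le_normalizer_commutator (H K : Subgroup G) :
    Subgroup.normalizer (H : Set G) ⊓ Subgroup.normalizer (K : Set G) ≤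
      Subgroup.normalizer ((⁅H, K⁆ : Subgroup G) : Set G) := fun g hg => by
  rw [mem_normalizer_iff_conj_smul, conj_smul_commutator,
    conj_smul_self_of_mem_normalizer hg.1, conj_smul_self_of_mem_normalizer hg.2]

theorem conj_smul_mono (g : G) {H K : Subgroup G} (h : H ≤ K) :
    MulAut.conj g • H ≤ MulAut.conj g • K :=
  fun x hx => mem_conj_smul_iff.2 (h (mem_conj_smul_iff.1 hx))

theorem conj_smul_eq_of_le [Finite G] {g : G} {H K : Subgroup G}
    (h : MulAut.conj g • H ≤ K) (hc : Nat.card K ≤ Nat.card H) :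
    MulAut.conj g • H = K :=
  Subgroup.eq_of_le_of_card_ge h (by rw [card_conj_smul]; exact hc)

/-- If `A` normalises `K`, every element of `K ⊔ A` is a product `k * a`. -/
theorem exists_mul_of_mem_sup {K A : Subgroup G} (hAK : A ≤ Subgroup.normalizer (K : Set G))
    {g : G} (hg : g ∈ K ⊔ A) : ∃ k ∈ K, ∃ a ∈ A, g = k * a := by
  have : (g : G) ∈ (K : Set G) * (A : Set G) := by
    rw [← Subgroup.coe_mul_of_right_le_normalizer_left K A hAK]; exact hg
  obtain ⟨k, hk, a, ha, rfl⟩ := this
  exact ⟨k, hk, a, ha, rfl⟩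

theorem sup_le_normalizer {K A : Subgroup G} (hAK : A ≤ Subgroup.normalizer (K : Set G)) :
    K ⊔ A ≤ Subgroup.normalizer (K : Set G) :=
  sup_le Subgroup.le_normalizer hAK

theorem normalizer_conj_mem {K : Subgroup G} {a k : G}
    (ha : a ∈ Subgroup.normalizer (K : Set G)) (hk : k ∈ K) : a * k * a⁻¹ ∈ K :=
  (Subgroup.mem_normalizer_iff.1 ha k).1 hk

theorem disjoint_of_coprime [Finite G] {H K : Subgroup G}
    (h : (Nat.card H).Coprime (Nat.card K)) : H ⊓ K = ⊥ :=
  (Subgroup.disjoint_of_coprime_natCard h).eq_bot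

/-- An element of `K` that normalises `A`, where `A` normalises `K` and `K ⊓ A = ⊥`, centralises
`A`. -/
theorem mem_centralizer_of_mem_normalizer {K A : Subgroup G}
    (hAK : A ≤ Subgroup.normalizer (K : Set G)) (hd : K ⊓ A = ⊥) {k : G} (hk : k ∈ K)
    (hkA : k ∈ Subgroup.normalizer (A : Set G)) :
    k ∈ Subgroup.centralizer (A : Set G) := by
  rw [Subgroup.mem_centralizer_iff]
  intro a ha
  have h1 : a * k⁻¹ * a⁻¹ * k ∈ K :=
    mul_mem (normalizer_conj_mem (hAK ha) (inv_mem hk)) hk
  have h2 : a * k⁻¹ * a⁻¹ * k ∈ A := by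
    have := mul_mem ha (normalizer_conj_mem (inv_mem hkA) (inv_mem ha))
    simpa [mul_assoc] using this
  have h3 : a * k⁻¹ * a⁻¹ * k ∈ K ⊓ A := ⟨h1, h2⟩
  rw [hd, Subgroup.mem_bot] at h3
  have h4 := congrArg (·⁻¹) (mul_eq_one_iff_eq_inv.1 h3)
  simp only [mul_inv_rev, inv_inv] at h4
  calc a * k = a * (k * a⁻¹) * a := by group
    _ = k * a := by rw [h4]

/-- In a finite group, it suffices that conjugation maps `H` into itself. -/
theorem mem_normalizer_of_conj_mem [Finite G] {H : Subgroup G} {g : G}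
    (h : ∀ x ∈ H, g * x * g⁻¹ ∈ H) : g ∈ Subgroup.normalizer (H : Set G) :=
  mem_normalizer_iff_conj_smul.2 (conj_smul_eq_of_le (conj_smul_le_iff.2 h) le_rfl)

theorem le_normalizer_of_conj_mem [Finite G] {A H : Subgroup G}
    (h : ∀ a ∈ A, ∀ x ∈ H, a * x * a⁻¹ ∈ H) : A ≤ Subgroup.normalizer (H : Set G) :=
  fun a ha => mem_normalizer_of_conj_mem (h a ha)

theorem le_normalizer_inf {A H K : Subgroup G} (hH : A ≤ Subgroup.normalizer (H : Set G))
    (hK : A ≤ Subgroup.normalizer (K : Set G)) :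
    A ≤ Subgroup.normalizer ((H ⊓ K : Subgroup G) : Set G) := fun a ha => by
  have h1 := conj_smul_self_of_mem_normalizer (hH ha)
  have h2 := conj_smul_self_of_mem_normalizer (hK ha)
  rw [mem_normalizer_iff_conj_smul, Subgroup.smul_inf, h1, h2]

theorem normalizer_le_normalizer_centralizer (H : Subgroup G) :
    Subgroup.normalizer (H : Set G) ≤
      Subgroup.normalizer ((Subgroup.centralizer (H : Set G) : Subgroup G) : Set G) := by
  intro g hg
  rw [Subgroup.mem_normalizer_iff]
  have key : ∀ g ∈ Subgroup.normalizer (H : Set G), ∀ c ∈ Subgroup.centralizer (H : Set G),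
      g * c * g⁻¹ ∈ Subgroup.centralizer (H : Set G) := by
    intro g hg c hc
    rw [Subgroup.mem_centralizer_iff] at hc ⊢
    intro x hx
    have h2 := hc (g⁻¹ * x * g) ((Subgroup.mem_normalizer_iff''.1 hg x).1 hx)
    calc x * (g * c * g⁻¹) = g * (g⁻¹ * x * g * c) * g⁻¹ := by group
      _ = g * (c * (g⁻¹ * x * g)) * g⁻¹ := by rw [h2]
      _ = g * c * g⁻¹ * x := by group
  refine fun c => ⟨key g hg c, fun h => ?_⟩
  simpa [mul_assoc] using key g⁻¹ (inv_mem hg) _ h

/-- `K` and `A` are complements inside `K ⊔ A`. -/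
theorem isComplement'_subgroupOf_sup {K A : Subgroup G}
    (hAK : A ≤ Subgroup.normalizer (K : Set G)) (hd : K ⊓ A = ⊥) :
    Subgroup.IsComplement' (K.subgroupOf (K ⊔ A)) (A.subgroupOf (K ⊔ A)) := by
  refine Subgroup.isComplement'_of_disjoint_and_mul_eq_univ ?_ ?_
  · rw [disjoint_iff, eq_bot_iff]
    intro x hx
    have h : (x : G) ∈ K ⊓ A := hx
    rw [hd, Subgroup.mem_bot] at h
    exact Subgroup.mem_bot.2 (Subtype.ext h)
  · refine Set.eq_univ_of_forall fun x => ?_
    obtain ⟨k, hk, a, ha, h⟩ := exists_mul_of_mem_sup hAK x.2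
    exact ⟨⟨k, Subgroup.mem_sup_left hk⟩, hk, ⟨a, Subgroup.mem_sup_right ha⟩, ha, Subtype.ext h.symm⟩

theorem card_sup_of_disjoint {K A : Subgroup G}
    (hAK : A ≤ Subgroup.normalizer (K : Set G)) (hd : K ⊓ A = ⊥) :
    Nat.card (K ⊔ A : Subgroup G) = Nat.card K * Nat.card A := by
  rw [← (isComplement'_subgroupOf_sup hAK hd).card_mul_card,
    Nat.card_congr (Subgroup.subgroupOfEquivOfLe le_sup_left).toEquiv,
    Nat.card_congr (Subgroup.subgroupOfEquivOfLe le_sup_right).toEquiv]

theorem commutator_self_lt {H : Subgroup G} (hs : Group.IsSolvable H) (hH : H ≠ ⊥) :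
    ⁅H, H⁆ < H := by
  rw [← Subgroup.nontrivial_iff_ne_bot] at hH
  rw [← H.range_subtype, MonoidHom.range_eq_map, ← Subgroup.map_commutator,
    Subgroup.map_subtype_lt_map_subtype]
  exact Group.IsSolvable.commutator_lt_top_of_nontrivial H

theorem isSolvable_of_le {H K : Subgroup G} (hs : Group.IsSolvable K) (h : H ≤ K) :
    Group.IsSolvable H :=
  Group.isSolvable_of_isSolvable_injective (Subgroup.inclusion_injective h)

end CfsgLib.Solvable
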