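import Cfsg.Agent.Lib.PGroup.Basic

/-!
Frattini quotient of a p-group and the Burnside basis theorem.
-/

set_option autoImplicit false

namespace CfsgLib.Solvable

variable {G : Type*} [Group G] [Finite G] {p : ℕ} [hp : Fact p.Prime]

omit [Finite G] in
theorem normal_of_commutator_le {H : Subgroup G} (h : commutator G ≤ H) : H.Normal :=
  ⟨fun x hx g => by
    have h1 := mul_mem (h (Subgroup.commutator_mem_commutator (Subgroup.mem_top g) (Subgroup.mem_top x))) hx
    rwa [commutatorElement_def, inv_mul_cancel_right] at h1⟩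

theorem frattini_le_of_elementary (N : Subgroup G) (hcomm : commutator G ≤ N)
    (hpow : ∀ x : G, x ^ p ∈ N) : frattini G ≤ N := by
  classical
  intro x hx
  by_contra hxN
  obtain ⟨M, hM⟩ := (Set.toFinite {L : Subgroup G | N ≤ L ∧ x ∉ L}).exists_maximal ⟨N, le_rfl, hxN⟩
  refine hM.prop.2 (frattini_le_coatom (K := M) ⟨fun h => hM.prop.2 (h ▸ Subgroup.mem_top x), fun L hL => ?_⟩ hx)
  haveI : M.Normal := normal_of_commutator_le (hcomm.trans hM.prop.1)
  have hxL : x ∈ L := by
    by_contra hxL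
    exact hL.not_ge (hM.le_of_ge ⟨hM.prop.1.trans hL.le, hxL⟩ hL.le)
  refine eq_top_iff.2 fun y _ => ?_
  by_contra hyL
  have hyM : y ∉ M := fun h => hyL (hL.le h)
  have hxy : x ∈ M ⊔ Subgroup.zpowers y := by
    by_contra hx'
    exact hyM (hM.le_of_ge ⟨hM.prop.1.trans le_sup_left, hx'⟩ le_sup_left
      (Subgroup.mem_sup_right (Subgroup.mem_zpowers y)))
  rw [← SetLike.mem_coe, Subgroup.normal_mul] at hxy
  obtain ⟨m, hm, z, ⟨i, rfl⟩, hmz⟩ := hxy
  have hi : IsCoprime i (p : ℤ) := by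
    rw [Int.isCoprime_iff_gcd_eq_one, Int.gcd_comm]
    refine (hp.out.coprime_iff_not_dvd).2 fun hdvd => hM.prop.2 ?_
    obtain ⟨j, rfl⟩ := Int.natCast_dvd.2 hdvd
    rw [← hmz]
    refine mul_mem hm ?_
    show y ^ ((p : ℤ) * j) ∈ M
    rw [zpow_mul, zpow_natCast]
    exact zpow_mem (hM.prop.1 (hpow y)) j
  obtain ⟨a, b, hab⟩ := hi
  have hyi : y ^ i ∈ L := by
    have h2 := mul_mem (L.inv_mem (hL.le hm)) hxL
    rw [← hmz] at h2
    simpa using h2
  refine hyL ?_
  rw [← zpow_one y, ← hab, zpow_add, mul_comm a i, mul_comm b (p : ℤ), zpow_mul, zpow_mul,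
    zpow_natCast]
  exact mul_mem (zpow_mem hyi a) (zpow_mem (hL.le (hM.prop.1 (hpow y))) b)

theorem index_eq_mul_of_insert (hG : IsPGroup p G) {H : Subgroup G} (hH : frattini G ≤ H) (x : G) :
    ∃ k : ℕ, H.index = (H ⊔ Subgroup.zpowers x).index * p ^ k ∧ k ≤ 1 ∧ (x ∉ H → k = 1) := by
  haveI : H.Normal := normal_of_commutator_le ((CfsgLib.PGroup.commutator_le_frattini hG).trans hH)
  have h1 : orderOf (x : G ⧸ H) ∣ p := orderOf_dvd_of_pow_eq_one (by
    rw [← QuotientGroup.mk_pow, QuotientGroup.eq_one_iff]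
    exact hH (CfsgLib.PGroup.pow_mem_frattini hG x))
  have h2 : (H ⊔ Subgroup.zpowers x).index = (Subgroup.zpowers (x : G ⧸ H)).index := by
    rw [← Subgroup.index_comap_of_surjective (Subgroup.zpowers (x : G ⧸ H))
      (QuotientGroup.mk'_surjective H)]
    congr 1
    rw [← QuotientGroup.mk'_apply, ← MonoidHom.map_zpowers, Subgroup.comap_map_eq,
      QuotientGroup.ker_mk', sup_comm]
  have h3 := (Subgroup.zpowers (x : G ⧸ H)).card_mul_index
  rw [Nat.card_zpowers, ← h2, ← Subgroup.index_eq_card] at h3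
  rcases (Nat.dvd_prime hp.out).1 h1 with h | h
  · refine ⟨0, ?_, zero_le_one, fun hx => absurd ((QuotientGroup.eq_one_iff x).1 (orderOf_eq_one_iff.1 h)) hx⟩
    rw [← h3, h, one_mul, pow_zero, mul_one]
  · exact ⟨1, by rw [← h3, h, pow_one, mul_comm], le_rfl, fun _ => rfl⟩

theorem index_closure_sup_frattini (hG : IsPGroup p G) (T : Finset G) :
    ∃ k : ℕ, (frattini G).index = (Subgroup.closure (T : Set G) ⊔ frattini G).index * p ^ k ∧
      k ≤ T.card ∧
      ((∀ S : Finset G, ∀ t ∈ T, S ⊆ T → t ∉ S → t ∉ Subgroup.closure (S : Set G) ⊔ frattini G) →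
        k = T.card) := by
  classical
  induction T using Finset.induction_on with
  | empty => exact ⟨0, by simp, le_rfl, fun _ => rfl⟩
  | insert x T hx ih =>
    obtain ⟨k, hk, hk1, hk2⟩ := ih
    obtain ⟨l, hl, hl1, hl2⟩ := index_eq_mul_of_insert hG
      (le_sup_right : frattini G ≤ Subgroup.closure (T : Set G) ⊔ frattini G) x
    refine ⟨l + k, ?_, ?_, fun h => ?_⟩
    · rw [hk, hl, Finset.coe_insert, Set.insert_eq, Subgroup.closure_union, mul_assoc, ← pow_add]
      rw [show Subgroup.closure (T : Set G) ⊔ frattini G ⊔ Subgroup.zpowers x =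
        Subgroup.closure {x} ⊔ Subgroup.closure (T : Set G) ⊔ frattini G by
        rw [← Subgroup.zpowers_eq_closure]; ac_rfl]
    · rw [Finset.card_insert_of_notMem hx]; omega
    · rw [Finset.card_insert_of_notMem hx, hk2 fun S t ht hS htS => h S t (Finset.mem_insert_of_mem ht)
        (hS.trans (Finset.subset_insert x T)) htS,
        hl2 (h T x (Finset.mem_insert_self x T) (Finset.subset_insert x T) hx), add_comm]

theorem burnside_basis {n : ℕ} (hG : IsPGroup p G) (hn : (frattini G).index = p ^ n) :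
    (∀ S : Finset G, Subgroup.closure (S : Set G) = ⊤ → ∃ T : Finset G, T ⊆ S ∧ T.card = n ∧ Subgroup.closure (T : Set G) = ⊤) ∧
    (∀ T : Finset G, Subgroup.closure (T : Set G) = ⊤ → n ≤ T.card) := by
  classical
  have hlow : ∀ T : Finset G, Subgroup.closure (T : Set G) = ⊤ → n ≤ T.card := by
    intro T hT
    obtain ⟨k, hk, hk1, -⟩ := index_closure_sup_frattini hG T
    rw [hT, top_sup_eq, Subgroup.index_top, one_mul, hn] at hk
    exact (Nat.pow_right_injective hp.out.two_le hk).trans_le hk1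
  refine ⟨fun S hS => ?_, hlow⟩
  obtain ⟨T, hT⟩ := ((S.powerset.finite_toSet.subset (fun T hT => Finset.mem_powerset.2 hT.1) :
    {T : Finset G | T ⊆ S ∧ Subgroup.closure (T : Set G) = ⊤}.Finite)).exists_minimal ⟨S, subset_rfl, hS⟩
  refine ⟨T, hT.prop.1, ?_, hT.prop.2⟩
  obtain ⟨k, hk, -, hk2⟩ := index_closure_sup_frattini hG T
  rw [hT.prop.2, top_sup_eq, Subgroup.index_top, one_mul, hn] at hk
  rw [Nat.pow_right_injective hp.out.two_le hk]
  refine (hk2 fun U t ht hU htU hmem => ?_).symm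
  have hle : (U : Set G) ⊆ (T.erase t : Finset G) := fun u hu =>
    Finset.mem_coe.2 (Finset.mem_erase.2 ⟨fun h => htU (h ▸ Finset.mem_coe.1 hu), hU hu⟩)
  have hmem' := sup_le_sup_right (Subgroup.closure_mono hle) (frattini G) hmem
  have htop : Subgroup.closure ((T.erase t : Finset G) : Set G) ⊔ frattini G = ⊤ := by
    rw [eq_top_iff, ← hT.prop.2, Subgroup.closure_le]
    intro u hu
    by_cases h : u = t
    · exact h ▸ hmem'
    · exact Subgroup.mem_sup_left (Subgroup.subset_closure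
        (Finset.mem_coe.2 (Finset.mem_erase.2 ⟨h, hu⟩)))
  exact Finset.notMem_erase t T (hT.le_of_le ⟨(Finset.erase_subset t T).trans hT.prop.1,
    frattini_nongenerating htop⟩ (Finset.erase_subset t T) ht)

end CfsgLib.Solvable
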