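import Cfsg.Agent.Lib.Solvable.CoprimeAction

/-!
Coprime action on abelian subgroups: `C_V(A) ⊓ ⁅V, A⁆ = ⊥`.
-/

set_option autoImplicit false

open scoped Pointwise commutatorElement IsMulCommutative

namespace CfsgLib.Solvable

variable {G : Type*} [Group G] [Finite G]

theorem inf_centralizer_inf_commutator (A V : Subgroup G) [IsMulCommutative V]
    (hAV : A ≤ Subgroup.normalizer (V : Set G)) (hcop : (Nat.card A).Coprime (Nat.card V)) :
    (V ⊓ Subgroup.centralizer (A : Set G)) ⊓ ⁅V, A⁆ = ⊥ := by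
  classical
  have : Fintype A := Fintype.ofFinite A
  let c : A → V → V := fun a v => ⟨(a : G) * v * (a : G)⁻¹, normalizer_conj_mem (hAV a.2) v.2⟩
  have hc1 : ∀ a v w, c a (v * w) = c a v * c a w := fun a v w => by ext; simp [c, mul_assoc]
  have hc2 : ∀ a b v, c a (c b v) = c (a * b) v := fun a b v => by ext; simp [c, mul_assoc]
  let φ : V →* V :=
    { toFun := fun v => ∏ a : A, c a v
      map_one' := Finset.prod_eq_one fun a _ => by ext; simp [c]
      map_mul' := fun v w => by rw [← Finset.prod_mul_distrib]; simp only [hc1] }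
  have hφc : ∀ (b : A) (v : V), φ (c b v) = φ v := fun b v => by
    show ∏ a : A, c a (c b v) = ∏ a : A, c a v
    simp only [hc2]
    exact Fintype.prod_equiv (Equiv.mulRight b) _ _ fun a => rfl
  have hD : ⁅V, A⁆ ≤ φ.ker.map V.subtype := by
    rw [Subgroup.commutator_le]
    intro v hv a ha
    refine ⟨⟨v, hv⟩ * c ⟨a, ha⟩ ⟨v, hv⟩⁻¹, ?_, ?_⟩
    · rw [SetLike.mem_coe, MonoidHom.mem_ker, map_mul, hφc, map_inv, mul_inv_cancel]
    · simp [c, commutatorElement_def, mul_assoc]
  rw [eq_bot_iff]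
  rintro x ⟨⟨hxV, hxC⟩, hxD⟩
  obtain ⟨v, hv, rfl⟩ := hD hxD
  have hfix : ∀ a : A, c a v = v := fun a => Subtype.ext (by
    show (a : G) * v * (a : G)⁻¹ = v
    rw [show (a : G) * v = v * a from Subgroup.mem_centralizer_iff.1 hxC a a.2,
      mul_inv_cancel_right])
  have h1 : v ^ Nat.card A = 1 := by
    have h : φ v = 1 := hv
    rw [← h, show φ v = ∏ a : A, c a v from rfl, Finset.prod_congr rfl (fun a _ => hfix a),
      Finset.prod_const, Finset.card_univ, Nat.card_eq_fintype_card]
  have h2 : v = 1 := by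
    rw [← orderOf_eq_one_iff]
    exact Nat.eq_one_of_dvd_coprimes hcop (orderOf_dvd_of_pow_eq_one h1) (orderOf_dvd_natCard v)
  simp [h2]

end CfsgLib.Solvable
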