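import Cfsg.Agent.Lib.Solvable.Basic

/-!
Factorisations `G = H K` of finite groups.
-/

set_option autoImplicit false

open scoped Pointwise

namespace CfsgLib.Solvable

variable {G : Type*} [Group G]

theorem mul_factor_symm {H K : Subgroup G} (h : ∀ g : G, ∃ x ∈ H, ∃ y ∈ K, g = x * y) :
    ∀ g : G, ∃ y ∈ K, ∃ x ∈ H, g = y * x := by
  intro g
  obtain ⟨x, hx, y, hy, hg⟩ := h g⁻¹
  exact ⟨y⁻¹, inv_mem hy, x⁻¹, inv_mem hx, by rw [← mul_inv_rev, ← hg, inv_inv]⟩

theorem sup_eq_top_of_mul {H K : Subgroup G} (h : ∀ g : G, ∃ x ∈ H, ∃ y ∈ K, g = x * y) :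
    H ⊔ K = ⊤ := by
  rw [eq_top_iff]
  intro g _
  obtain ⟨x, hx, y, hy, rfl⟩ := h g
  exact mul_mem (Subgroup.mem_sup_left hx) (Subgroup.mem_sup_right hy)

/-- Conjugating the second factor keeps a factorisation. -/
theorem mul_factor_conj_right {H K : Subgroup G} (h : ∀ g : G, ∃ x ∈ H, ∃ y ∈ K, g = x * y)
    (z : G) : ∀ g : G, ∃ x ∈ H, ∃ y ∈ MulAut.conj z • K, g = x * y := by
  intro g
  obtain ⟨a, ha, b, hb, rfl⟩ := h z
  obtain ⟨x, hx, y, hy, hg⟩ := h (g * a)
  refine ⟨x * a⁻¹, mul_mem hx (inv_mem ha), a * y * a⁻¹, mem_conj_smul_iff.2 ?_, ?_⟩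
  · simpa [mul_assoc] using mul_mem (mul_mem (inv_mem hb) hy) hb
  · calc g = g * a * a⁻¹ := by group
      _ = x * y * a⁻¹ := by rw [hg]
      _ = x * a⁻¹ * (a * y * a⁻¹) := by group

/-- The natural map `H ⧸ (H ⊓ K) → G ⧸ K`. -/
def cosetMap (H K : Subgroup G) : H ⧸ K.subgroupOf H → G ⧸ K :=
  Quotient.map' (fun x : H => (x : G)) fun a b h => by
    rw [QuotientGroup.leftRel_apply] at h ⊢
    exact h

theorem cosetMap_injective (H K : Subgroup G) : Function.Injective (cosetMap H K) := by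
  intro a b
  refine Quotient.inductionOn₂' a b fun x y h => ?_
  exact QuotientGroup.eq.2 (QuotientGroup.eq.1 h : (x : G)⁻¹ * (y : G) ∈ K)

theorem relIndex_le_index' [Finite G] (H K : Subgroup G) : K.relIndex H ≤ K.index := by
  exact Nat.card_le_card_of_injective _ (cosetMap_injective H K)

theorem relIndex_eq_index_of_mul [Finite G] {H K : Subgroup G}
    (h : ∀ g : G, ∃ x ∈ H, ∃ y ∈ K, g = x * y) : K.relIndex H = K.index := by
  refine Nat.card_congr (Equiv.ofBijective (cosetMap H K) ⟨cosetMap_injective H K, ?_⟩)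
  intro q
  refine QuotientGroup.induction_on q fun g => ?_
  obtain ⟨x, hx, y, hy, rfl⟩ := h g
  exact ⟨((⟨x, hx⟩ : H) : H ⧸ K.subgroupOf H), QuotientGroup.eq.2 (by simpa using hy)⟩

theorem mul_of_relIndex_eq_index [Finite G] {H K : Subgroup G} (h : K.relIndex H = K.index) :
    ∀ g : G, ∃ x ∈ H, ∃ y ∈ K, g = x * y := by
  intro g
  obtain ⟨q, hq⟩ :=
    ((Nat.bijective_iff_injective_and_card _).2 ⟨cosetMap_injective H K, h⟩).surjective (g : G ⧸ K)
  induction q using QuotientGroup.induction_on with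
  | H x => exact ⟨x, x.2, (x : G)⁻¹ * g, QuotientGroup.eq.1 hq, by group⟩

theorem index_inf_of_coprime [Finite G] {H K : Subgroup G} (h : H.index.Coprime K.index) :
    K.relIndex H = K.index ∧ (H ⊓ K).index = H.index * K.index := by
  have e1 : (H ⊓ K).index = K.relIndex H * H.index := by
    rw [← Subgroup.relIndex_mul_index (inf_le_left : H ⊓ K ≤ H), inf_comm,
      Subgroup.inf_relIndex_right]
  have hd : K.index ∣ K.relIndex H * H.index := e1 ▸ Subgroup.index_dvd_of_le inf_le_right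
  have h1 : K.relIndex H = K.index :=
    le_antisymm (relIndex_le_index' H K)
      (Nat.le_of_dvd (Nat.pos_of_ne_zero Subgroup.index_ne_zero_of_finite)
        (h.symm.dvd_of_dvd_mul_right hd))
  exact ⟨h1, by rw [e1, h1, mul_comm]⟩

theorem mul_of_coprime_index [Finite G] {H K : Subgroup G} (h : H.index.Coprime K.index) :
    ∀ g : G, ∃ x ∈ H, ∃ y ∈ K, g = x * y :=
  mul_of_relIndex_eq_index (index_inf_of_coprime h).1

/-- `[N : N ∩ H] = [N H : H]` divides `[G : H]` for normal `N`. -/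
theorem relIndex_dvd_index_of_normal_left [Finite G] (N H : Subgroup G) [N.Normal] :
    H.relIndex N ∣ H.index := by
  set W := N ⊔ H
  have e : (H.subgroupOf W).relIndex (N.subgroupOf W) = (H.subgroupOf W).index :=
    relIndex_eq_index_of_mul fun w => by
      obtain ⟨n, hn, h, hh, e⟩ := exists_mul_of_mem_sup
        (Subgroup.le_normalizer_of_normal : H ≤ Subgroup.normalizer (N : Set G)) w.2
      exact ⟨⟨n, Subgroup.mem_sup_left hn⟩, hn, ⟨h, Subgroup.mem_sup_right hh⟩, hh, Subtype.ext e⟩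
  rw [Subgroup.relIndex_subgroupOf le_sup_left] at e
  rw [e, ← Subgroup.relIndex_mul_index (le_sup_right : H ≤ W)]
  exact dvd_mul_right _ _

end CfsgLib.Solvable
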