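import Cfsg.Agent.Lib.Solvable.MinimalNormal
import Cfsg.Agent.Lib.Solvable.Product

/-!
Maximal subgroups: prime-power index in solvable groups; prime indices force solvability.
-/

set_option autoImplicit false

open scoped Pointwise

namespace CfsgLib.Solvable

universe u

theorem isCoatom_map_mk' {G : Type u} [Group G] {N M : Subgroup G} [N.Normal] (hNM : N ≤ M)
    (hM : IsCoatom M) : IsCoatom (M.map (QuotientGroup.mk' N)) := by
  have hsurj := QuotientGroup.mk'_surjective N
  have hcm : (M.map (QuotientGroup.mk' N)).comap (QuotientGroup.mk' N) = M :=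
    Subgroup.comap_map_eq_self (by rwa [QuotientGroup.ker_mk'])
  refine ⟨fun h => hM.1 ?_, fun K hK => ?_⟩
  · rw [← hcm, h, Subgroup.comap_top]
  · apply Subgroup.comap_injective hsurj
    rw [Subgroup.comap_top]
    apply hM.2
    rw [← hcm]
    exact (Subgroup.comap_lt_comap_of_surjective hsurj).2 hK

theorem isCoatom_comap_mk' {G : Type u} [Group G] {N : Subgroup G} [N.Normal]
    {M : Subgroup (G ⧸ N)} (hM : IsCoatom M) : IsCoatom (M.comap (QuotientGroup.mk' N)) := by
  have hsurj := QuotientGroup.mk'_surjective N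
  refine ⟨fun h => hM.1 ?_, fun K hK => ?_⟩
  · rw [← Subgroup.comap_top (QuotientGroup.mk' N)] at h
    exact Subgroup.comap_injective hsurj h
  · have hNK : N ≤ K := le_trans (fun x hx => by
      rw [Subgroup.mem_comap, show (QuotientGroup.mk' N) x = 1 from (QuotientGroup.eq_one_iff x).2 hx]
      exact one_mem _) hK.le
    have hcm : (K.map (QuotientGroup.mk' N)).comap (QuotientGroup.mk' N) = K :=
      Subgroup.comap_map_eq_self (by rwa [QuotientGroup.ker_mk'])
    rw [← hcm, hM.2 (K.map (QuotientGroup.mk' N))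
      ((Subgroup.comap_lt_comap_of_surjective hsurj).1 (hcm.symm ▸ hK)), Subgroup.comap_top]

private theorem index_aux (c : ℕ) : ∀ (G : Type u) [Group G] [Finite G] [Group.IsSolvable G],
    Nat.card G = c → ∀ M : Subgroup G, IsCoatom M → IsPrimePow M.index := by
  induction c using Nat.strong_induction_on with
  | _ c ih =>
  intro G _ _ _ hc M hM
  subst hc
  have : Nontrivial G := by
    by_contra h
    rw [not_nontrivial_iff_subsingleton] at h
    exact hM.1 (Subsingleton.elim _ _)
  obtain ⟨N, p, a, hN, hp, ha, -, hNc, hNne, -, -⟩ := exists_normal_prime_pow_card (G := G)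
  by_cases hNM : N ≤ M
  · have hsurj := QuotientGroup.mk'_surjective N
    haveI : Group.IsSolvable (G ⧸ N) := Group.isSolvable_of_surjective hsurj
    have := ih _ (card_quotient_lt N hNne) (G ⧸ N) rfl _ (isCoatom_map_mk' hNM hM)
    rwa [Subgroup.index_map_eq M hsurj (by rwa [QuotientGroup.ker_mk'])] at this
  · have htop : N ⊔ M = ⊤ := by rw [sup_comm]; exact hM.2 _ (left_lt_sup.2 hNM)
    have hprod : ∀ g : G, ∃ x ∈ N, ∃ y ∈ M, g = x * y := fun g =>
      exists_mul_of_mem_sup Subgroup.le_normalizer_of_normal (by rw [htop]; trivial)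
    have hd : M.index ∣ p ^ a := by
      rw [← relIndex_eq_index_of_mul hprod, ← hNc]
      exact Subgroup.index_dvd_card _
    obtain ⟨k, -, hk⟩ := (Nat.dvd_prime_pow hp).1 hd
    refine ⟨p, k, hp.prime, Nat.pos_of_ne_zero ?_, hk.symm⟩
    rintro rfl
    exact hM.1 (Subgroup.index_eq_one.1 (by simpa using hk))

theorem isPrimePow_index_of_isCoatom {G : Type u} [Group G] [Finite G] [Group.IsSolvable G]
    (M : Subgroup G) (hM : IsCoatom M) : IsPrimePow M.index :=
  index_aux _ G rfl M hM

/-- The Sylow subgroups for the largest prime are normal if all maximal indices are prime. -/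
theorem sylow_normal_of_prime_index_maximal {G : Type u} [Group G] [Finite G]
    (h : ∀ M : Subgroup G, IsCoatom M → M.index.Prime) {p : ℕ} [hp : Fact p.Prime]
    (hmax : ∀ q : ℕ, q.Prime → q ∣ Nat.card G → q ≤ p) (P : Sylow p G) :
    (P : Subgroup G).Normal := by
  by_contra hn
  obtain ⟨M, hM, hPM⟩ := (eq_top_or_exists_le_coatom
    (Subgroup.normalizer ((P : Subgroup G) : Set G))).resolve_left
      (fun h => hn (Subgroup.normalizer_eq_top_iff.1 h))
  have hle : (P : Subgroup G) ≤ M := Subgroup.le_normalizer.trans hPM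
  have h1 := card_sylow_modEq_one p G
  have h2 := card_sylow_modEq_one p M
  rw [P.card_eq_index_normalizer] at h1
  change (Subgroup.normalizer ((P : Subgroup G) : Set G)).index ≡ 1 [MOD p] at h1
  rw [(P.subtype hle).card_eq_index_normalizer] at h2
  change (Subgroup.normalizer (((P.subtype hle : Sylow p M) : Subgroup M) : Set M)).index ≡ 1 [MOD p] at h2
  rw [Sylow.coe_subtype, ← Subgroup.subgroupOf_normalizer_eq hle] at h2
  rw [← Subgroup.relIndex_mul_index hPM] at h1
  have h3 : M.index ≡ 1 [MOD p] := by
    have h4 := (Nat.ModEq.mul_right M.index h2).symm.trans h1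
    rwa [one_mul] at h4
  have hq := h M hM
  have hle' := hmax _ hq M.index_dvd_card
  rcases lt_or_eq_of_le hle' with hlt | heq
  · rw [Nat.ModEq, Nat.mod_eq_of_lt hlt, Nat.mod_eq_of_lt hp.out.one_lt] at h3
    exact hq.one_lt.ne' h3
  · rw [heq, Nat.ModEq, Nat.mod_self, Nat.mod_eq_of_lt hp.out.one_lt] at h3
    exact zero_ne_one h3

private theorem solvable_aux (c : ℕ) : ∀ (G : Type u) [Group G] [Finite G],
    Nat.card G = c → (∀ M : Subgroup G, IsCoatom M → M.index.Prime) → Group.IsSolvable G := by
  induction c using Nat.strong_induction_on with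
  | _ c ih =>
  intro G _ _ hc h
  subst hc
  rcases subsingleton_or_nontrivial G with hs | hnt
  · infer_instance
  have hne : (Nat.card G).primeFactors.Nonempty := by
    rw [Nat.nonempty_primeFactors]; exact Finite.one_lt_card
  set p := (Nat.card G).primeFactors.max' hne
  have hp := Nat.mem_primeFactors.1 ((Nat.card G).primeFactors.max'_mem hne)
  haveI : Fact p.Prime := ⟨hp.1⟩
  obtain ⟨P⟩ := (inferInstance : Nonempty (Sylow p G))
  have hPn : (P : Subgroup G).Normal := sylow_normal_of_prime_index_maximal h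
    (fun q hq hd => Finset.le_max' _ q (Nat.mem_primeFactors.2 ⟨hq, hd, Nat.card_pos.ne'⟩)) P
  have hPne : (P : Subgroup G) ≠ ⊥ := P.ne_bot_of_dvd_card hp.2.1
  have := P.2.isNilpotent
  have hsurj := QuotientGroup.mk'_surjective (P : Subgroup G)
  have hq := ih _ (card_quotient_lt _ hPne) (G ⧸ (P : Subgroup G)) rfl fun M hM => by
    have := h _ (isCoatom_comap_mk' hM)
    rwa [Subgroup.index_comap_of_surjective _ hsurj] at this
  exact (Group.isSolvable_iff_subgroup_quotient (P : Subgroup G)).2 ⟨inferInstance, hq⟩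

theorem isSolvable_of_prime_index_maximal {G : Type u} [Group G] [Finite G]
    (h : ∀ M : Subgroup G, IsCoatom M → M.index.Prime) : Group.IsSolvable G :=
  solvable_aux _ G rfl h

end CfsgLib.Solvable
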