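import Cfsg.Prelude.Def_SolvableStructure
import Cfsg.Agent.Lib.Solvable.CoprimeAction
import Cfsg.Agent.Lib.Solvable.FrobeniusTheorem
import Cfsg.Agent.Lib.Solvable.Maximal
import Cfsg.Agent.Lib.Solvable.AbelianAction
import Cfsg.Agent.Lib.LocalEven.Basic
import Cfsg.Agent.Lib.OddLocal.Basic
import Cfsg.Agent.Lib.PGroup.ElemAbelian

/-!
Schmidt's theorem and minimal non-nilpotent groups.
-/

set_option autoImplicit false

open scoped Pointwise commutatorElement

namespace CfsgLib.Solvable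

universe u

variable {G : Type u} [Group G] [Finite G]

omit [Finite G] in
theorem isNilpotent_le {H K : Subgroup G} (hK : Group.IsNilpotent K) (h : H ≤ K) :
    Group.IsNilpotent H := by
  haveI := hK
  exact Group.nilpotent_of_mulEquiv (Subgroup.subgroupOfEquivOfLe h)

theorem isNilpotent_map' {G' : Type*} [Group G'] (f : G →* G') {H : Subgroup G}
    (hH : Group.IsNilpotent H) : Group.IsNilpotent (H.map f) := by
  haveI := hH
  exact Group.nilpotent_of_surjective (f.subgroupMap H) (f.subgroupMap_surjective H)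

theorem isNilpotent_of_forall_sylow_normal
    (h : ∀ (p : ℕ) [Fact p.Prime] (P : Sylow p G), (P : Subgroup G).Normal) :
    Group.IsNilpotent G :=
  (Group.isNilpotent_of_finite_tfae (G := G) |>.out 3 0).1 fun p hp P => @h p hp P

theorem eq_top_of_sylow_le {H : Subgroup G}
    (h : ∀ p : ℕ, p.Prime → ∃ P : Sylow p G, (P : Subgroup G) ≤ H) : H = ⊤ := by
  refine Subgroup.eq_top_of_card_eq H (Nat.dvd_antisymm (Subgroup.card_subgroup_dvd_card H) ?_)
  rw [← Nat.factorization_le_iff_dvd Nat.card_pos.ne' Nat.card_pos.ne', Finsupp.le_iff]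
  intro p hp
  have hpp := Nat.prime_of_mem_primeFactors hp
  haveI : Fact p.Prime := ⟨hpp⟩
  obtain ⟨P, hP⟩ := h p hpp
  have h1 := Subgroup.card_dvd_of_le hP
  rw [P.card_eq_multiplicity] at h1
  exact (hpp.pow_dvd_iff_le_factorization Nat.card_pos.ne').1 h1

/-- A nilpotent group all whose Sylow subgroups are abelian is abelian. -/
theorem isMulCommutative_of_nilpotent (hG : Group.IsNilpotent G)
    (h : ∀ p : ℕ, p.Prime → ∀ P : Sylow p G, IsMulCommutative (P : Subgroup G)) :
    IsMulCommutative G := by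
  have key : ∀ p : ℕ, p.Prime → ∀ P : Sylow p G, (P : Subgroup G) ≤ Subgroup.center G := by
    intro p hp P
    haveI : Fact p.Prime := ⟨hp⟩
    have hc : Subgroup.centralizer ((P : Subgroup G) : Set G) = ⊤ := by
      refine eq_top_of_sylow_le fun q hq => ?_
      haveI : Fact q.Prime := ⟨hq⟩
      rcases eq_or_ne q p with rfl | hne
      · haveI := h q hp P
        exact ⟨P, Subgroup.le_centralizer _⟩
      · refine ⟨Classical.arbitrary _, fun y hy => Subgroup.mem_centralizer_iff.2 fun x hx => ?_⟩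
        haveI := hG
        refine CfsgLib.OddLocal.commute_of_coprime_orderOf x y ?_
        obtain ⟨i, hi⟩ := IsPGroup.iff_orderOf.1 P.2 ⟨x, hx⟩
        obtain ⟨j, hj⟩ := IsPGroup.iff_orderOf.1 (Classical.arbitrary (Sylow q G)).2 ⟨y, hy⟩
        rw [← Subgroup.orderOf_coe] at hi hj
        rw [hi, hj]
        exact Nat.coprime_pow_primes _ _ hp hq hne.symm
    intro x hx
    rw [Subgroup.mem_center_iff]
    intro g
    exact ((Subgroup.mem_centralizer_iff.1 (hc.ge (Subgroup.mem_top g))) x hx).symm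
  have htop : Subgroup.center G = ⊤ := eq_top_of_sylow_le fun p hp => ⟨Classical.arbitrary _, key p hp _⟩
  exact ⟨⟨fun a b => (Subgroup.mem_center_iff.1 (htop.ge (Subgroup.mem_top b)) a)⟩⟩

private theorem schmidt_aux : ∀ (n : ℕ) (G : Type u) [Group G] [Finite G], Nat.card G = n →
    (∀ H : Subgroup G, H ≠ ⊤ → Group.IsNilpotent H) → Group.IsSolvable G := by
  intro n
  induction n using Nat.strong_induction_on with
  | _ n ih =>
  intro G _ _ hn h
  rcases subsingleton_or_nontrivial G with hG | hG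
  · exact Group.isSolvable_of_comm fun a b => Subsingleton.elim _ _
  by_cases hex : ∃ N : Subgroup G, N.Normal ∧ N ≠ ⊥ ∧ N ≠ ⊤
  · obtain ⟨N, hN, hN1, hN2⟩ := hex
    haveI := h N hN2
    haveI : Group.IsSolvable (G ⧸ N) := by
      refine ih (Nat.card (G ⧸ N)) ?_ _ rfl fun H hH => ?_
      · rw [← hn, Subgroup.card_eq_card_quotient_mul_card_subgroup N]
        refine lt_mul_right Nat.card_pos ?_
        exact Subgroup.one_lt_card_iff_ne_bot N |>.2 hN1
      · rw [← Subgroup.map_comap_eq_self_of_surjective (QuotientGroup.mk'_surjective N) H]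
        refine isNilpotent_map' _ (h _ fun e => hH ?_)
        rw [← Subgroup.map_comap_eq_self_of_surjective (QuotientGroup.mk'_surjective N) H, e,
          Subgroup.map_top_of_surjective _ (QuotientGroup.mk'_surjective N)]
    haveI : Group.IsSolvable N := inferInstance
    exact Group.isSolvable_of_ker_le_range N.subtype (QuotientGroup.mk' N) (by simp)
  push Not at hex
  obtain ⟨M₁, hM₁⟩ : ∃ M : Subgroup G, IsCoatom M :=
    ((eq_top_or_exists_le_coatom (⊥ : Subgroup G)).resolve_left bot_ne_top).imp fun _ h => h.1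
  by_cases hbot : M₁ = ⊥
  · subst hbot
    refine Group.isSolvable_of_comm fun a b => ?_
    rcases eq_or_ne a 1 with rfl | ha
    · simp
    have : Subgroup.zpowers a = ⊤ := hM₁.2 _ (bot_lt_iff_ne_bot.2 fun e => ha
      (Subgroup.zpowers_eq_bot.1 e))
    obtain ⟨i, rfl⟩ := this.ge (Subgroup.mem_top b)
    exact ((Commute.refl a).zpow_right i).eq
  have hnorm : ∀ M : Subgroup G, IsCoatom M → M ≠ ⊥ → Subgroup.normalizer (M : Set G) = M := by
    intro M hM hMb
    rcases eq_or_lt_of_le (Subgroup.le_normalizer (H := M)) with e | e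
    · exact e.symm
    · exact absurd (hex M (Subgroup.normalizer_eq_top_iff.1 (hM.2 _ e)) hMb) hM.1
  -- distinct maximal subgroups meet trivially
  have hdisj : ∀ M N : Subgroup G, IsCoatom M → IsCoatom N → M ≠ N → M ⊓ N = ⊥ := by
    by_contra hcon
    push Not at hcon
    obtain ⟨D, hD⟩ := (Set.toFinite {D : Subgroup G | ∃ M N : Subgroup G, IsCoatom M ∧ IsCoatom N ∧
      M ≠ N ∧ D = M ⊓ N ∧ D ≠ ⊥}).exists_maximal (by
        obtain ⟨M, N, h1, h2, h3, h4⟩ := hcon
        exact ⟨M ⊓ N, M, N, h1, h2, h3, rfl, h4⟩)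
    obtain ⟨M, N, hM, hN, hne, rfl, hb⟩ := hD.prop
    have hgrow : ∀ A B : Subgroup G, IsCoatom A → IsCoatom B → A ≠ B →
        ¬ A ⊓ Subgroup.normalizer ((A ⊓ B : Subgroup G) : Set G) ≤ A ⊓ B := by
      intro A B hA hB hAB hle
      have hnc : NormalizerCondition A := @Group.normalizerCondition_of_isNilpotent _ _ (h A hA.1)
      have hlt : (A ⊓ B).subgroupOf A < ⊤ := lt_top_iff_ne_top.2 fun e => by
        rw [Subgroup.subgroupOf_eq_top, le_inf_iff] at e
        rcases eq_or_lt_of_le e.2 with e' | e'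
        · exact hAB e'
        · exact hB.1 (hA.2 B e')
      refine lt_irrefl _ ((hnc _ hlt).trans_le ?_)
      rw [← Subgroup.subgroupOf_normalizer_eq inf_le_left]
      intro x hx
      exact Subgroup.mem_subgroupOf.2 (hle ⟨x.2, hx⟩)
    have hnt : Subgroup.normalizer ((M ⊓ N : Subgroup G) : Set G) ≠ ⊤ := fun e =>
      (lt_of_le_of_lt inf_le_left hM.lt_top).ne (hex _ (Subgroup.normalizer_eq_top_iff.1 e) hb)
    obtain ⟨L, hL, hle⟩ := (eq_top_or_exists_le_coatom _).resolve_left hnt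
    have key : ∀ A : Subgroup G, IsCoatom A → M ⊓ N ≤ A →
        ¬ A ⊓ Subgroup.normalizer ((M ⊓ N : Subgroup G) : Set G) ≤ M ⊓ N → A = L := by
      intro A hA hDA hnot
      by_contra hAL
      refine hnot ((inf_le_inf_left A hle).trans ?_)
      exact hD.le_of_ge ⟨A, L, hA, hL, hAL, rfl, fun e => hb (eq_bot_mono
        (le_inf hDA (Subgroup.le_normalizer.trans hle)) e)⟩
        (le_inf hDA (Subgroup.le_normalizer.trans hle))
    refine hne ((key M hM inf_le_left (hgrow M N hM hN hne)).trans (key N hN inf_le_right ?_).symm)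
    intro hle'
    refine hgrow N M hN hM hne.symm ?_
    rwa [inf_comm N M]
  have hFrob : Cfsg.IsFrobeniusComplement M₁ := by
    refine ⟨hbot, hM₁.1, fun g hg => hdisj _ _ hM₁ ?_ fun e => ?_⟩
    · rw [conj_smul_eq_map]
      refine ⟨fun e => hM₁.1 (Subgroup.map_injective (MulAut.conj g).injective
        (e.trans (Subgroup.map_top_of_surjective _ (MulAut.conj g).surjective).symm)), fun L hL => ?_⟩
      have h1 : M₁ < L.comap (MulAut.conj g).toMonoidHom := by
        refine lt_of_le_of_ne (Subgroup.map_le_iff_le_comap.1 hL.le) fun e => hL.ne ?_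
        rw [e, Subgroup.map_comap_eq_self_of_surjective (MulAut.conj g).surjective]
      have h2 := hM₁.2 _ h1
      rw [← Subgroup.map_comap_eq_self_of_surjective (f := (MulAut.conj g).toMonoidHom)
        (MulAut.conj g).surjective L, h2]
      exact Subgroup.map_top_of_surjective _ (MulAut.conj g).surjective
    · refine hg ?_
      rw [← hnorm M₁ hM₁ hbot, mem_normalizer_iff_conj_smul]
      exact e.symm
  obtain ⟨N, -, hNn, hNc⟩ := frobenius_theorem hFrob
  exfalso
  have hN1 : N ≠ ⊥ := fun e => hM₁.1 (Subgroup.isComplement'_bot_left.1 (e ▸ hNc))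
  have hN2 : N ≠ ⊤ := fun e => hbot (Subgroup.isComplement'_top_left.1 (e ▸ hNc))
  exact hN2 (hex N hNn hN1)

theorem isSolvable_of_proper_nilpotent (h : ∀ H : Subgroup G, H ≠ ⊤ → Group.IsNilpotent H) :
    Group.IsSolvable G :=
  schmidt_aux _ G rfl h

theorem minimalNonNilpotent_structure (hG : Cfsg.IsMinimalNonNilpotent G) :
    ∃ p q : ℕ, p.Prime ∧ q.Prime ∧ p ≠ q ∧ ∃ (P : Sylow p G) (Q : Sylow q G), IsCyclic P ∧
      (Q : Subgroup G).Normal ∧ (P : Subgroup G) ⊔ Q = ⊤ ∧ ¬ (P : Subgroup G).Normal ∧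
      ⁅(Q : Subgroup G), (P : Subgroup G)⁆ = Q := by
  obtain ⟨hnn, hprop⟩ := hG
  haveI := isSolvable_of_proper_nilpotent hprop
  haveI : Nontrivial G := by
    by_contra h
    haveI := not_nontrivial_iff_subsingleton.1 h
    exact hnn inferInstance
  obtain ⟨M, hM, hle⟩ := (eq_top_or_exists_le_coatom (commutator G)).resolve_left
    (Group.IsSolvable.commutator_lt_top_of_nontrivial G).ne
  haveI hMn : M.Normal := ⟨fun x hx g => by
    have h1 := mul_mem (hle (Subgroup.commutator_mem_commutator (Subgroup.mem_top g)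
      (Subgroup.mem_top x))) hx
    rwa [commutatorElement_def, inv_mul_cancel_right] at h1⟩
  obtain ⟨p, k, hp, -, hk⟩ := isPrimePow_index_of_isCoatom M hM
  have hp : p.Prime := hp.nat_prime
  haveI : Fact p.Prime := ⟨hp⟩
  have hnormal : ∀ (q : ℕ) [Fact q.Prime], q ≠ p → ∀ Q : Sylow q G, (Q : Subgroup G).Normal := by
    intro q _ hqp Q
    have hQM : (Q : Subgroup G) ≤ M := by
      intro x hx
      rw [← QuotientGroup.eq_one_iff, ← orderOf_eq_one_iff]
      obtain ⟨j, hj⟩ := IsPGroup.iff_orderOf.1 Q.2 ⟨x, hx⟩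
      rw [← Subgroup.orderOf_coe] at hj
      refine Nat.eq_one_of_dvd_coprimes (Nat.coprime_pow_primes j k Fact.out hp hqp)
        (hj ▸ orderOf_map_dvd (QuotientGroup.mk' M) x) ?_
      rw [hk, Subgroup.index_eq_card]
      exact orderOf_dvd_natCard _
    haveI : ((Q.subtype hQM : Sylow q M) : Subgroup M).Normal :=
      ((Group.isNilpotent_of_finite_tfae (G := M)).out 0 3 rfl rfl).1 (hprop M hM.1) q ‹_› _
    haveI := Sylow.characteristic_of_normal (Q.subtype hQM) ‹_›
    have : (((Q.subtype hQM : Sylow q M) : Subgroup M).map M.subtype).Normal := inferInstance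
    rwa [Sylow.coe_subtype, Subgroup.map_subgroupOf_eq_of_le hQM] at this
  obtain ⟨P⟩ := (inferInstance : Nonempty (Sylow p G))
  have hPn : ¬ (P : Subgroup G).Normal := fun h => hnn (isNilpotent_of_forall_sylow_normal
    fun q _ Q => by
      rcases eq_or_ne q p with rfl | hne
      · haveI := Sylow.unique_of_normal P h
        exact Subsingleton.elim P Q ▸ h
      · exact hnormal q hne Q)
  have hcent : ∀ (q : ℕ) [Fact q.Prime], q ≠ p → ∀ (Q : Sylow q G) (H : Subgroup G),
      IsPGroup p H → H ⊔ Q ≠ ⊤ → (Q : Subgroup G) ≤ Subgroup.centralizer (H : Set G) := by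
    intro q _ hqp Q H hH hne y hy
    rw [Subgroup.mem_centralizer_iff]
    intro x hx
    refine CfsgLib.OddLocal.commute_of_mem_nilpotent (hprop _ hne) (Subgroup.mem_sup_left hx)
      (Subgroup.mem_sup_right hy) ?_
    obtain ⟨i, hi⟩ := IsPGroup.iff_orderOf.1 hH ⟨x, hx⟩
    obtain ⟨j, hj⟩ := IsPGroup.iff_orderOf.1 Q.2 ⟨y, hy⟩
    rw [← Subgroup.orderOf_coe] at hi hj
    rw [hi, hj]
    exact Nat.coprime_pow_primes _ _ hp Fact.out hqp.symm
  obtain ⟨q, hq, hqp, Q, hPQ⟩ : ∃ q : ℕ, ∃ _ : Fact q.Prime, q ≠ p ∧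
      ∃ Q : Sylow q G, (P : Subgroup G) ⊔ Q = ⊤ := by
    by_contra hcon
    push Not at hcon
    refine hPn (Subgroup.normalizer_eq_top_iff.1 (eq_top_of_sylow_le fun q hq => ?_))
    haveI : Fact q.Prime := ⟨hq⟩
    rcases eq_or_ne q p with rfl | hne
    · exact ⟨P, Subgroup.le_normalizer⟩
    · exact ⟨Classical.arbitrary _, (hcent q hne _ P P.2 (hcon q ⟨hq⟩ hne _)).trans
        (centralizer_le_normalizer' _)⟩
  haveI hQn := hnormal q hqp Q
  have hNQ : ∀ H : Subgroup G, H ≤ Subgroup.normalizer ((Q : Subgroup G) : Set G) := fun H =>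
    Subgroup.normalizer_eq_top (Q : Subgroup G) ▸ le_top
  have hdQ : ∀ H : Subgroup G, IsPGroup p H → (Q : Subgroup G) ⊓ H = ⊥ := fun H hH =>
    (IsPGroup.disjoint_of_ne q p hqp _ _ Q.2 hH).eq_bot
  have hcardG : Nat.card G = Nat.card (Q : Subgroup G) * Nat.card (P : Subgroup G) := by
    rw [← card_sup_of_disjoint (hNQ _) (hdQ _ P.2), sup_comm, hPQ, Subgroup.card_top]
  refine ⟨p, q, hp, Fact.out, hqp.symm, P, Q, ?_, hQn, hPQ, hPn, ?_⟩
  · -- `P` is cyclic
    obtain ⟨x, hx, hxQ⟩ : ∃ x ∈ (P : Subgroup G), Subgroup.zpowers x ⊔ (Q : Subgroup G) = ⊤ := by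
      by_contra hcon
      push Not at hcon
      refine hPn (Subgroup.normalizer_eq_top_iff.1 (top_le_iff.1 (hPQ.ge.trans (sup_le
        Subgroup.le_normalizer ((?_ : _ ≤ Subgroup.centralizer ((P : Subgroup G) : Set G)).trans
          (centralizer_le_normalizer' _))))))
      intro y hy
      rw [Subgroup.mem_centralizer_iff]
      intro x hx
      exact Subgroup.mem_centralizer_iff.1 (hcent q hqp Q _ (P.2.to_le (Subgroup.zpowers_le.2 hx))
        (hcon x hx) hy) x (Subgroup.mem_zpowers x)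
    have h1 : Nat.card G = Nat.card (Q : Subgroup G) * Nat.card (Subgroup.zpowers x) := by
      rw [← card_sup_of_disjoint (hNQ _) (hdQ _ (P.2.to_le (Subgroup.zpowers_le.2 hx))), sup_comm,
        hxQ, Subgroup.card_top]
    have h2 : Subgroup.zpowers x = (P : Subgroup G) := Subgroup.eq_of_le_of_card_ge
      (Subgroup.zpowers_le.2 hx)
      (Nat.eq_of_mul_eq_mul_left Nat.card_pos (hcardG.symm.trans h1)).le
    show IsCyclic (P : Subgroup G)
    rw [← h2]
    infer_instance
  · set D := ⁅(Q : Subgroup G), (P : Subgroup G)⁆ with hD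
    have hDQ : D ≤ Q := Subgroup.commutator_le_left _ _
    have hPD : (P : Subgroup G) ≤ Subgroup.normalizer (D : Set G) :=
      le_normalizer_commutator_right (hNQ _)
    have hcop : (Nat.card (P : Subgroup G)).Coprime (Nat.card (Q : Subgroup G)) :=
      IsPGroup.coprime_card_of_ne p q hqp.symm _ _ P.2 Q.2
    by_contra hne
    have hlt : D ⊔ (P : Subgroup G) ≠ ⊤ := by
      intro e
      have h3 := card_sup_of_disjoint hPD
        (eq_bot_mono (inf_le_inf_right _ hDQ) (hdQ _ P.2))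
      rw [e, Subgroup.card_top, hcardG] at h3
      exact hne (Subgroup.eq_of_le_of_card_ge hDQ (Nat.eq_of_mul_eq_mul_right Nat.card_pos h3).le)
    have h4 : ⁅D, (P : Subgroup G)⁆ = ⊥ := by
      rw [Subgroup.commutator_eq_bot_iff_le_centralizer]
      intro y hy
      rw [Subgroup.mem_centralizer_iff]
      intro x hx
      refine CfsgLib.OddLocal.commute_of_mem_nilpotent (hprop _ hlt) (Subgroup.mem_sup_right hx)
        (Subgroup.mem_sup_left hy) ?_
      exact (hcop.coprime_dvd_left (Subgroup.orderOf_dvd_natCard _ hx)).coprime_dvd_right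
        (Subgroup.orderOf_dvd_natCard _ (hDQ hy))
    rw [hD, commutator_commutator_self (hNQ _) hcop (Or.inr inferInstance),
      Subgroup.commutator_eq_bot_iff_le_centralizer] at h4
    exact hPn (Subgroup.normalizer_eq_top_iff.1 (top_le_iff.1 (hPQ.ge.trans (sup_le
      Subgroup.le_normalizer (h4.trans (centralizer_le_normalizer' _))))))
where
  centralizer_le_normalizer' (H : Subgroup G) :
      Subgroup.centralizer (H : Set G) ≤ Subgroup.normalizer (H : Set G) := fun g hg =>
    mem_normalizer_of_conj_mem fun x hx => by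
      rwa [← Subgroup.mem_centralizer_iff.1 hg x hx, mul_inv_cancel_right]

theorem minimalNonAbelian_structure (hna : ¬ IsMulCommutative G)
    (h : ∀ H : Subgroup G, H ≠ ⊤ → IsMulCommutative H) :
    (∃ p : ℕ, p.Prime ∧ IsPGroup p G) ∨ ∃ p q : ℕ, p.Prime ∧ q.Prime ∧ p ≠ q ∧
      ∃ (P : Sylow p G) (Q : Sylow q G), IsCyclic P ∧ (Q : Subgroup G).Normal ∧
        Cfsg.IsElementaryAbelian q (Q : Subgroup G) ∧ (P : Subgroup G) ⊔ Q = ⊤ := by
  by_cases hnil : Group.IsNilpotent G
  · left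
    by_contra hcon
    push Not at hcon
    refine hna (isMulCommutative_of_nilpotent hnil fun p hp P => h _ fun e => ?_)
    exact hcon p hp ((e ▸ P.2 : IsPGroup p (⊤ : Subgroup G)).of_equiv Subgroup.topEquiv)
  right
  have hG : Cfsg.IsMinimalNonNilpotent G := ⟨hnil, fun H hH => by
    haveI := h H hH
    open scoped IsMulCommutative in infer_instance⟩
  obtain ⟨p, q, hp, hq, hpq, P, Q, hPc, hQn, hPQ, hPn, hQP⟩ := minimalNonNilpotent_structure hG
  haveI : Fact p.Prime := ⟨hp⟩
  haveI : Fact q.Prime := ⟨hq⟩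
  refine ⟨p, q, hp, hq, hpq, P, Q, hPc, hQn, ?_, hPQ⟩
  have hQt : (Q : Subgroup G) ≠ ⊤ := fun e => hnil (Group.nilpotent_of_mulEquiv
    (_h := Q.2.isNilpotent) (e ▸ (Subgroup.topEquiv : (⊤ : Subgroup G) ≃* G)))
  haveI hQc := h _ hQt
  have hQcomm : ∀ a ∈ (Q : Subgroup G), ∀ b ∈ (Q : Subgroup G), a * b = b * a := fun a ha b hb =>
    congrArg Subtype.val (mul_comm' (⟨a, ha⟩ : (Q : Subgroup G)) ⟨b, hb⟩)
  have hnQ : (P : Subgroup G) ≤ Subgroup.normalizer ((Q : Subgroup G) : Set G) :=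
    Subgroup.normalizer_eq_top (Q : Subgroup G) ▸ le_top
  have hcop : (Nat.card (P : Subgroup G)).Coprime (Nat.card (Q : Subgroup G)) :=
    IsPGroup.coprime_card_of_ne p q hpq _ _ P.2 Q.2
  have hfix : (Q : Subgroup G) ⊓ Subgroup.centralizer ((P : Subgroup G) : Set G) = ⊥ := by
    have h1 := inf_centralizer_inf_commutator (P : Subgroup G) (Q : Subgroup G) hnQ hcop
    rwa [hQP, inf_right_comm, inf_idem] at h1
  refine CfsgLib.PGroup.isElementaryAbelian_mk hQcomm ?_
  let E : Subgroup G :=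
    { carrier := {x | x ∈ (Q : Subgroup G) ∧ x ^ q = 1}
      one_mem' := ⟨one_mem _, one_pow q⟩
      mul_mem' := fun {a b} ha hb => ⟨mul_mem ha.1 hb.1, by
        rw [Commute.mul_pow (hQcomm a ha.1 b hb.1), ha.2, hb.2, one_mul]⟩
      inv_mem' := fun {a} ha => ⟨inv_mem ha.1, by rw [inv_pow, ha.2, inv_one]⟩ }
  have hEQ : E ≤ Q := fun x hx => hx.1
  by_contra hcon
  push Not at hcon
  obtain ⟨a, ha, ha'⟩ := hcon
  haveI hEn : E.Normal := ⟨fun x hx g => ⟨hQn.conj_mem x hx.1 g, by
    rw [conj_pow, hx.2, mul_one, mul_inv_cancel]⟩⟩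
  have hlt : E ⊔ (P : Subgroup G) ≠ ⊤ := by
    intro e
    have h3 := card_sup_of_disjoint (K := E) (A := (P : Subgroup G))
      (Subgroup.normalizer_eq_top E ▸ le_top)
      (eq_bot_mono (inf_le_inf_right _ hEQ) (disjoint_of_coprime hcop.symm))
    have h4 := card_sup_of_disjoint (K := (Q : Subgroup G)) (A := (P : Subgroup G)) hnQ
      (disjoint_of_coprime hcop.symm)
    rw [sup_comm, hPQ] at h4
    rw [e, h4] at h3
    exact ha' ((Subgroup.eq_of_le_of_card_ge hEQ
      (Nat.eq_of_mul_eq_mul_right Nat.card_pos h3).le).ge ha).2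
  haveI := h _ hlt
  have hEbot : E = ⊥ := eq_bot_mono (le_inf hEQ fun x hx => Subgroup.mem_centralizer_iff.2
    fun y hy => congrArg Subtype.val (mul_comm'
      (⟨y, Subgroup.mem_sup_right hy⟩ : (E ⊔ (P : Subgroup G) : Subgroup G))
      ⟨x, Subgroup.mem_sup_left hx⟩)) hfix
  obtain ⟨j, hj⟩ := IsPGroup.iff_orderOf.1 Q.2 ⟨a, ha⟩
  rw [← Subgroup.orderOf_coe] at hj
  have hj0 : j ≠ 0 := fun e => ha' (by
    rw [e, pow_zero, orderOf_eq_one_iff] at hj
    rw [show a = 1 from hj, one_pow])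
  have hmem : a ^ q ^ (j - 1) ∈ E := ⟨pow_mem ha _, by
    rw [← pow_mul, ← pow_succ, Nat.sub_add_cancel (Nat.pos_of_ne_zero hj0)]
    exact orderOf_dvd_iff_pow_eq_one.1 (dvd_of_eq hj)⟩
  rw [hEbot, Subgroup.mem_bot, ← orderOf_dvd_iff_pow_eq_one, show orderOf a = q ^ j from hj,
    Nat.pow_dvd_pow_iff_le_right hq.one_lt] at hmem
  omega

theorem minimalNonNilpotent_quotient (hG : Cfsg.IsMinimalNonNilpotent G) (q : ℕ) [Fact q.Prime]
    (Q : Sylow q G) (hQ : (Q : Subgroup G).Normal) (hq : q ∣ Nat.card G) (D : Subgroup G) [D.Normal]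
    (hD : D = (commutator ↥(Q : Subgroup G)).map (Q : Subgroup G).subtype) :
    ¬ IsMulCommutative (G ⧸ D) ∧ ∀ K : Subgroup (G ⧸ D), K ≠ ⊤ → IsMulCommutative K := by
  obtain ⟨p, q', hp, hq', hpq, P, Q', hPc, hQn, hPQ, hPn, hQP⟩ := minimalNonNilpotent_structure hG
  haveI : Fact p.Prime := ⟨hp⟩
  haveI : Fact q'.Prime := ⟨hq'⟩
  haveI := hQn
  have hnQ : (P : Subgroup G) ≤ Subgroup.normalizer ((Q' : Subgroup G) : Set G) :=
    Subgroup.normalizer_eq_top (Q' : Subgroup G) ▸ le_top
  have hdisj : (Q' : Subgroup G) ⊓ P = ⊥ := (IsPGroup.disjoint_of_ne q' p hpq.symm _ _ Q'.2 P.2).eq_bot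
  have hqq : q = q' := by
    have h1 := card_sup_of_disjoint hnQ hdisj
    rw [sup_comm, hPQ, Subgroup.card_top] at h1
    rw [h1, Q'.card_eq_multiplicity, P.card_eq_multiplicity] at hq
    rcases (Fact.out : q.Prime).dvd_mul.1 hq with h | h
    · exact (Nat.prime_dvd_prime_iff_eq Fact.out hq').1 ((Fact.out : q.Prime).dvd_of_dvd_pow h)
    · exfalso
      obtain rfl := (Nat.prime_dvd_prime_iff_eq Fact.out hp).1 ((Fact.out : q.Prime).dvd_of_dvd_pow h)
      haveI := Sylow.unique_of_normal Q hQ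
      exact hPn (Subsingleton.elim Q P ▸ hQ)
  subst hqq
  haveI := Sylow.unique_of_normal Q hQ
  obtain rfl : Q' = Q := Subsingleton.elim _ _
  have hDQ : D ≤ Q' := hD ▸ Subgroup.map_subtype_le _
  have hDcomm : D = ⁅(Q' : Subgroup G), (Q' : Subgroup G)⁆ := by
    rw [hD, Subgroup.map_subtype_commutator]
  -- commutators of `G` lie in `Q'`
  have hG' : ∀ a b : G, ⁅a, b⁆ ∈ (Q' : Subgroup G) := by
    have hsurj : Function.Surjective
        ((QuotientGroup.mk' (Q' : Subgroup G)).comp (P : Subgroup G).subtype) := by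
      intro x
      obtain ⟨g, rfl⟩ := QuotientGroup.mk'_surjective _ x
      obtain ⟨y, hy, z, hz, e⟩ := exists_mul_of_mem_sup hnQ
        (show g ∈ (Q' : Subgroup G) ⊔ P by rw [sup_comm, hPQ]; exact Subgroup.mem_top g)
      refine ⟨⟨z, hz⟩, ?_⟩
      show (z : G ⧸ (Q' : Subgroup G)) = ((g : G) : G ⧸ (Q' : Subgroup G))
      rw [e, QuotientGroup.mk_mul, (QuotientGroup.eq_one_iff y).2 hy, one_mul]
    haveI : IsCyclic (P : Subgroup G) := hPc
    haveI := isCyclic_of_surjective _ hsurj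
    letI := IsCyclic.commGroup (α := G ⧸ (Q' : Subgroup G))
    intro a b
    rw [← QuotientGroup.eq_one_iff, ← QuotientGroup.mk'_apply, map_commutatorElement,
      commutatorElement_eq_one_iff_mul_comm]
    exact mul_comm _ _
  refine ⟨fun hc => ?_, fun K hK => ?_⟩
  · have h1 : ⁅(Q' : Subgroup G), (P : Subgroup G)⁆ ≤ D := by
      rw [Subgroup.commutator_le]
      intro a _ b _
      rw [← QuotientGroup.eq_one_iff, ← QuotientGroup.mk'_apply, map_commutatorElement,
        commutatorElement_eq_one_iff_mul_comm]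
      exact mul_comm' _ _
    rw [hQP] at h1
    by_cases hQb : (Q' : Subgroup G) = ⊥
    · exact hPn (by rw [show (P : Subgroup G) = ⊤ by rw [← hPQ, hQb, sup_bot_eq]]; infer_instance)
    · haveI := Q'.2.isNilpotent
      exact ((hDcomm ▸ commutator_self_lt (inferInstance : Group.IsSolvable (Q' : Subgroup G)) hQb :
        D < Q')).not_ge h1
  · have hK' : K.comap (QuotientGroup.mk' D) ≠ ⊤ := fun e => hK (by
      rw [← Subgroup.map_comap_eq_self_of_surjective (QuotientGroup.mk'_surjective D) K, e,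
        Subgroup.map_top_of_surjective _ (QuotientGroup.mk'_surjective D)])
    have hKnil : Group.IsNilpotent K := by
      rw [← Subgroup.map_comap_eq_self_of_surjective (QuotientGroup.mk'_surjective D) K]
      exact isNilpotent_map' _ (hG.2 _ hK')
    refine isMulCommutative_of_nilpotent hKnil fun r hr S => ⟨⟨fun x y => Subtype.ext ?_⟩⟩
    haveI : Fact r.Prime := ⟨hr⟩
    set Qb := (Q' : Subgroup G).map (QuotientGroup.mk' D) with hQb
    have hQbp : IsPGroup q Qb := Q'.2.map _
    set Sb := (S : Subgroup K).map K.subtype with hSb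
    have hSbp : IsPGroup r Sb := S.2.map _
    have hx : ((x : K) : G ⧸ D) ∈ Sb := ⟨x, x.2, rfl⟩
    have hy : ((y : K) : G ⧸ D) ∈ Sb := ⟨y, y.2, rfl⟩
    apply Subtype.ext
    show ((x : K) : G ⧸ D) * (y : K) = (y : K) * (x : K)
    obtain ⟨a, ha⟩ := QuotientGroup.mk'_surjective D (x : K)
    obtain ⟨b, hb⟩ := QuotientGroup.mk'_surjective D (y : K)
    rw [← commutatorElement_eq_one_iff_mul_comm]
    rcases eq_or_ne r q with rfl | hne
    · have hin : ∀ (g : G), QuotientGroup.mk' D g ∈ Sb → g ∈ (Q' : Subgroup G) := by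
        intro g hg
        obtain ⟨i, hi⟩ := IsPGroup.iff_orderOf.1 hSbp ⟨_, hg⟩
        rw [← Subgroup.orderOf_coe] at hi
        have hi' : g ^ r ^ i ∈ (Q' : Subgroup G) := hDQ ((QuotientGroup.eq_one_iff _).1 (by
          rw [QuotientGroup.mk_pow]; exact orderOf_dvd_iff_pow_eq_one.1 (dvd_of_eq hi)))
        haveI := Q'.2.isNilpotent
        rw [← QuotientGroup.eq_one_iff, ← orderOf_eq_one_iff]
        refine Nat.eq_one_of_dvd_coprimes (a := r ^ i) (b := (Q' : Subgroup G).index)
          (((hr.coprime_iff_not_dvd).2 Q'.not_dvd_index).pow_left i) ?_ ?_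
        · exact orderOf_dvd_iff_pow_eq_one.2 (by
            rw [← QuotientGroup.mk_pow]; exact (QuotientGroup.eq_one_iff _).2 hi')
        · rw [Subgroup.index_eq_card]; exact orderOf_dvd_natCard _
      rw [← ha, ← hb, ← map_commutatorElement, QuotientGroup.mk'_apply, QuotientGroup.eq_one_iff,
        hDcomm]
      exact Subgroup.commutator_mem_commutator (hin a (ha ▸ hx)) (hin b (hb ▸ hy))
    · rw [← Subgroup.mem_bot, ← (IsPGroup.disjoint_of_ne r q hne _ _ hSbp hQbp).eq_bot]
      refine ⟨?_, ?_⟩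
      · rw [commutatorElement_def]
        exact Sb.mul_mem (Sb.mul_mem (Sb.mul_mem hx hy) (Sb.inv_mem hx)) (Sb.inv_mem hy)
      · rw [← ha, ← hb, ← map_commutatorElement]
        exact ⟨_, hG' a b, rfl⟩

end CfsgLib.Solvable
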