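import Cfsg.Prelude.Def_Solvable
import Cfsg.Agent.Lib.Solvable.Basic
import Cfsg.Agent.Lib.Solvable.MinimalNormal
import Cfsg.Agent.Lib.Solvable.Fitting
import Cfsg.Agent.Lib.Solvable.Product
import Mathlib.GroupTheory.SpecificGroups.Cyclic

/-!
Assorted structure lemmas for solvable groups.
-/

set_option autoImplicit false

open scoped Pointwise commutatorElement

namespace CfsgLib.Solvable

universe u

variable {G : Type*} [Group G]

theorem aut_eq_refl_of_fix_fitting [Finite G] [Group.IsSolvable G] (σ : G ≃* G)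
    (hσ : ∀ x ∈ Cfsg.fittingSubgroup G, σ x = x) (hcop : (orderOf σ).Coprime (Nat.card G)) :
    σ = MulEquiv.refl G := by
  refine MulEquiv.ext fun g => ?_
  haveI : (Cfsg.fittingSubgroup G).Normal := CfsgLib.Cores.fittingSubgroup_normal
  set z := g⁻¹ * σ g with hz
  have hzF : z ∈ Cfsg.fittingSubgroup G := by
    refine centralizer_fittingSubgroup_le (Subgroup.mem_centralizer_iff.2 fun f hf => ?_)
    have hgf : g * f * g⁻¹ ∈ Cfsg.fittingSubgroup G := (inferInstance : (Cfsg.fittingSubgroup G).Normal).conj_mem f hf g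
    have h1 := hσ _ hgf
    rw [map_mul, map_mul, map_inv, hσ f hf] at h1
    calc f * z = g⁻¹ * (g * f * g⁻¹) * σ g := by rw [hz]; group
      _ = g⁻¹ * (σ g * f * (σ g)⁻¹) * σ g := by rw [h1]
      _ = z * f := by rw [hz]; group
  let e : G ≃* G := σ
  have hpow : ∀ n : ℕ, (σ ^ n) g = g * z ^ n := by
    intro n
    induction n with
    | zero => simp
    | succ n ih =>
      rw [pow_succ', MulAut.mul_apply, ih, map_mul, map_pow, hσ z hzF, pow_succ', ← mul_assoc,
        hz, mul_inv_cancel_left]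
  have h2 : g = g * z ^ orderOf σ := by rw [← hpow, pow_orderOf_eq_one]; rfl
  have h3 : z = 1 := orderOf_eq_one_iff.1 (Nat.eq_one_of_dvd_coprimes hcop
    (orderOf_dvd_iff_pow_eq_one.2 (left_eq_mul.1 h2)) (orderOf_dvd_natCard z))
  show σ g = g
  calc σ g = g * z := by rw [hz, mul_inv_cancel_left]
    _ = g := by rw [h3, mul_one]

theorem commute_aut_of_cyclic {C : Type*} [Group C] [IsCyclic C] (a b : MulAut C) :
    a * b = b * a := by
  obtain ⟨g, hg⟩ := IsCyclic.exists_generator (α := C)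
  obtain ⟨m, hm⟩ := hg (a g)
  obtain ⟨n, hn⟩ := hg (b g)
  have hm' : a g = g ^ m := hm.symm
  have hn' : b g = g ^ n := hn.symm
  refine MulEquiv.ext fun x => ?_
  obtain ⟨i, rfl⟩ := hg x
  show a (b (g ^ i)) = b (a (g ^ i))
  rw [map_zpow, map_zpow, map_zpow, map_zpow, hn', hm', map_zpow, map_zpow, hm', hn', ← zpow_mul,
    ← zpow_mul, ← zpow_mul]
  rw [← zpow_mul]
  congr 1
  ring

theorem derived_cyclic_collapse {i : ℕ} (hi : 1 ≤ i)
    (h₁ : IsCyclic (↥(derivedSeries G i) ⧸ (derivedSeries G (i + 1)).subgroupOf (derivedSeries G i)))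
    (h₂ : IsCyclic (↥(derivedSeries G (i + 1)) ⧸
      (derivedSeries G (i + 2)).subgroupOf (derivedSeries G (i + 1)))) :
    derivedSeries G (i + 1) = derivedSeries G (i + 2) := by
  set A := derivedSeries G i with hA
  set B := derivedSeries G (i + 1) with hB
  set D := derivedSeries G (i + 2) with hD
  have hBA : B ≤ A := derivedSeries_antitone G (Nat.le_succ i)
  have hDB : D ≤ B := derivedSeries_antitone G (Nat.le_succ _)
  haveI : A.Normal := derivedSeries_normal G i
  haveI : B.Normal := derivedSeries_normal G (i + 1)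
  haveI : D.Normal := derivedSeries_normal G (i + 2)
  set π := QuotientGroup.mk' D with hπ
  set Bq := B.map π with hBq
  haveI : Bq.Normal := Subgroup.Normal.map ‹_› π (QuotientGroup.mk'_surjective D)
  haveI : IsCyclic Bq := by
    haveI : (D.subgroupOf B).Normal := Subgroup.Normal.subgroupOf ‹_› _
    let f : B ⧸ D.subgroupOf B →* Bq := QuotientGroup.lift _ (π.subgroupMap B) fun x hx =>
      Subtype.ext ((QuotientGroup.eq_one_iff _).2 hx)
    refine isCyclic_of_surjective f fun y => ?_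
    obtain ⟨x, hx⟩ := π.subgroupMap_surjective B y
    exact ⟨(x : B ⧸ D.subgroupOf B), hx⟩
  -- the derived subgroup centralises the cyclic normal subgroup
  have hcent : ∀ a ∈ A.map π, ∀ b ∈ Bq, a * b = b * a := by
    intro a ha b hb
    have h1 : A.map π ≤ (MulAut.conjNormal (H := Bq)).ker := by
      refine (Subgroup.map_mono (derivedSeries_antitone G hi)).trans ?_
      rw [derivedSeries_one, Subgroup.map_le_iff_le_comap, commutator_def, Subgroup.commutator_le]
      intro x _ y _
      show MulAut.conjNormal (H := Bq) (π ⁅x, y⁆) = 1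
      rw [map_commutatorElement, map_commutatorElement, commutatorElement_eq_one_iff_mul_comm]
      exact commute_aut_of_cyclic _ _
    have h2 := congrArg (fun e : MulAut Bq => ((e ⟨b, hb⟩ : Bq) : G ⧸ D)) (h1 ha)
    simp only [MulAut.conjNormal_apply, MulAut.one_apply] at h2
    exact mul_inv_eq_iff_eq_mul.1 h2
  refine le_antisymm ?_ hDB
  have hcomm : B = ⁅A, A⁆ := rfl
  obtain ⟨⟨g, hg⟩⟩ := h₁
  induction g using QuotientGroup.induction_on with
  | _ g =>
  have hgen : ∀ x ∈ A, ∃ k : ℤ, ∃ b ∈ B, x = (g : G) ^ k * b := by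
    intro x hx
    obtain ⟨k, hk⟩ := hg ((⟨x, hx⟩ : A) : A ⧸ B.subgroupOf A)
    have hk' : ((g ^ k : A) : A ⧸ B.subgroupOf A) = ((⟨x, hx⟩ : A) : A ⧸ B.subgroupOf A) := by
      rw [QuotientGroup.mk_zpow]; exact hk
    rw [QuotientGroup.eq, Subgroup.mem_subgroupOf] at hk'
    exact ⟨k, _, hk', by simp⟩
  conv_lhs => rw [hcomm]
  rw [Subgroup.commutator_le]
  intro x hx y hy
  rw [← QuotientGroup.eq_one_iff, ← QuotientGroup.mk'_apply, map_commutatorElement,
    commutatorElement_eq_one_iff_mul_comm]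
  obtain ⟨k, b, hb, rfl⟩ := hgen x hx
  obtain ⟨l, c, hc, rfl⟩ := hgen y hy
  have hgA : π (g : G) ∈ A.map π := Subgroup.mem_map_of_mem π g.2
  have hb' : π b ∈ Bq := Subgroup.mem_map_of_mem π hb
  have hc' : π c ∈ Bq := Subgroup.mem_map_of_mem π hc
  have e1 : Commute (π b) (π (g : G) ^ l) := (hcent _ (zpow_mem hgA l) _ hb').symm
  have e2 : Commute (π (g : G) ^ k) (π c) := hcent _ (zpow_mem hgA k) _ hc'
  have e3 : Commute (π b) (π c) := hcent _ (Subgroup.map_mono hBA hb') _ hc'
  rw [map_mul, map_mul, map_zpow, map_zpow]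
  exact (((Commute.refl _).zpow_zpow k l).mul_right e2).mul_left (e1.mul_right e3) |>.eq

theorem prod_update_mul {N : Subgroup G} [N.Normal] :
    ∀ {t : ℕ} (s : Fin t → G) (j : Fin t), ∀ n ∈ N, ∃ n' ∈ N,
      (List.ofFn s).prod * n = (List.ofFn (Function.update s j (s j * n'))).prod := by
  intro t
  induction t with
  | zero => intro s j; exact j.elim0
  | succ t ih =>
    intro s j n hn
    simp only [List.ofFn_succ, List.prod_cons]
    refine Fin.cases ?_ (fun i => ?_) j
    · set r := (List.ofFn fun i : Fin t => s i.succ).prod with hr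
      refine ⟨r * n * r⁻¹, (inferInstance : N.Normal).conj_mem n hn r, ?_⟩
      rw [Function.update_self]
      have : (fun i : Fin t => Function.update s 0 (s 0 * (r * n * r⁻¹)) i.succ) = fun i => s i.succ :=
        funext fun i => Function.update_of_ne (Fin.succ_ne_zero i) _ _
      rw [this, ← hr]
      group
    · obtain ⟨n', hn', e⟩ := ih (fun l => s l.succ) i n hn
      refine ⟨n', hn', ?_⟩
      rw [Function.update_of_ne (Fin.succ_ne_zero i).symm]
      have : (fun l : Fin t => Function.update s i.succ (s i.succ * n') l.succ) =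
          Function.update (fun l => s l.succ) i (s i.succ * n') := by
        funext l
        rcases eq_or_ne l i with rfl | h
        · rw [Function.update_self, Function.update_self]
        · rw [Function.update_of_ne h, Function.update_of_ne (fun e => h (Fin.succ_injective _ e))]
      rw [this, mul_assoc, e]

private theorem sylow_product_aux : ∀ (n : ℕ) (G : Type u) [Group G] [Finite G]
    [Group.IsSolvable G], Nat.card G = n → ∀ (t : ℕ) (p : Fin t → ℕ), (∀ i, (p i).Prime) →
    (∀ q : ℕ, q.Prime → q ∣ Nat.card G → ∃ i, p i = q) → ∀ S : (i : Fin t) → Sylow (p i) G,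
    ∀ g : G, ∃ s : (i : Fin t) → G, (∀ i, s i ∈ (S i : Subgroup G)) ∧ g = (List.ofFn s).prod := by
  intro n
  induction n using Nat.strong_induction_on with
  | _ n ih =>
  intro G _ _ _ hn t p hp hall S g
  rcases subsingleton_or_nontrivial G with hs | hs
  · exact ⟨fun _ => 1, fun i => one_mem _, Subsingleton.elim _ _⟩
  obtain ⟨N, hNn, hN, hmin⟩ := exists_minimal_normal (G := G)
  obtain ⟨q, hq, hqN⟩ := exists_prime_pow_eq_one_of_minimal_normal N hN hmin inferInstance
  haveI : Fact q.Prime := ⟨hq⟩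
  have hqd : q ∣ Nat.card G := by
    haveI : Nontrivial N := (Subgroup.nontrivial_iff_ne_bot N).2 hN
    obtain ⟨x, hx⟩ := exists_ne (1 : N)
    have h1 : orderOf x = q := orderOf_eq_prime (Subtype.ext (hqN x x.2)) hx
    rw [← h1, ← Subgroup.orderOf_coe]
    exact orderOf_dvd_natCard _
  obtain ⟨j, hj⟩ := hall q hq hqd
  haveI : ∀ i, Fact (p i).Prime := fun i => ⟨hp i⟩
  have hNj : N ≤ (S j : Subgroup G) := by
    have hNp : IsPGroup (p j) N := fun x => ⟨1, by rw [pow_one, hj]; exact Subtype.ext (hqN x x.2)⟩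
    exact le_sup_right.trans ((S j).3 (IsPGroup.to_sup_of_normal_right (S j).2 hNp) le_sup_left).le
  set π := QuotientGroup.mk' N
  have hsurj : Function.Surjective π := QuotientGroup.mk'_surjective N
  obtain ⟨s', hs', hprod⟩ := ih _ (hn ▸ card_quotient_lt _ hN) (G ⧸ N) rfl t p hp
    (fun r hr hd => hall r hr (hd.trans (N.index_eq_card ▸ N.index_dvd_card)))
    (fun i => (S i).mapSurjective hsurj) (π g)
  choose s hsS hsπ using fun i => Subgroup.mem_map.1 (Sylow.coe_mapSurjective hsurj (S i) ▸ hs' i :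
    s' i ∈ (S i : Subgroup G).map π)
  have h1 : ((List.ofFn s).prod)⁻¹ * g ∈ N := by
    rw [← QuotientGroup.eq_one_iff, ← QuotientGroup.mk'_apply, map_mul, map_inv, map_list_prod,
      List.map_ofFn, show (⇑π ∘ s) = s' from funext hsπ, hprod, inv_mul_cancel]
  obtain ⟨n', hn', e⟩ := prod_update_mul s j _ h1
  refine ⟨Function.update s j (s j * n'), fun i => ?_, by rw [← e, mul_inv_cancel_left]⟩
  rcases eq_or_ne i j with rfl | h
  · rw [Function.update_self]; exact mul_mem (hsS _) (hNj hn')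
  · rw [Function.update_of_ne h]; exact hsS i

theorem exists_sylow_product {G : Type u} [Group G] [Finite G] [Group.IsSolvable G] (t : ℕ)
    (p : Fin t → ℕ) (hp : ∀ i, (p i).Prime)
    (hall : ∀ q : ℕ, q.Prime → q ∣ Nat.card G → ∃ i, p i = q) (S : (i : Fin t) → Sylow (p i) G)
    (g : G) : ∃ s : (i : Fin t) → G, (∀ i, s i ∈ (S i : Subgroup G)) ∧ g = (List.ofFn s).prod :=
  sylow_product_aux _ G rfl t p hp hall S g

theorem exists_sylow_factorization [Finite G] {H K : Subgroup G}
    (hHK : ∀ g : G, ∃ h ∈ H, ∃ k ∈ K, g = h * k) (p : ℕ) [hp : Fact p.Prime] :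
    ∃ (P : Sylow p H) (Q : Sylow p K) (R : Sylow p G), ((R : Subgroup G) : Set G) =
      (((P : Subgroup H).map H.subtype : Subgroup G) : Set G) *
        (((Q : Subgroup K).map K.subtype : Subgroup G) : Set G) := by
  obtain ⟨P₀⟩ := (inferInstance : Nonempty (Sylow p H))
  obtain ⟨Q₀⟩ := (inferInstance : Nonempty (Sylow p K))
  obtain ⟨R₁, hR₁⟩ := (P₀.2.map H.subtype).exists_le_sylow
  obtain ⟨R₂, hR₂⟩ := (Q₀.2.map K.subtype).exists_le_sylow
  obtain ⟨g, hg⟩ := MulAction.exists_smul_eq G R₁ R₂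
  obtain ⟨k, hk, h, hh, rfl⟩ := mul_factor_symm hHK g
  set R := h • R₁ with hR
  have hR2 : R = k⁻¹ • R₂ := by rw [hR, ← hg, ← mul_smul, inv_mul_cancel_left]
  set P := (⟨h, hh⟩ : H) • P₀ with hP
  set Q := (⟨k, hk⟩ : K)⁻¹ • Q₀ with hQ
  have hPR : (P : Subgroup H).map H.subtype ≤ (R : Subgroup G) := by
    rintro _ ⟨x, hx, rfl⟩
    rw [hP, Sylow.coe_subgroup_smul, SetLike.mem_coe, mem_conj_smul_iff] at hx
    rw [hR, Sylow.coe_subgroup_smul, mem_conj_smul_iff]
    exact hR₁ ⟨_, hx, rfl⟩
  have hQR : (Q : Subgroup K).map K.subtype ≤ (R : Subgroup G) := by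
    rintro _ ⟨x, hx, rfl⟩
    rw [hQ, Sylow.coe_subgroup_smul, SetLike.mem_coe, mem_conj_smul_iff] at hx
    rw [hR2, Sylow.coe_subgroup_smul, mem_conj_smul_iff]
    exact hR₂ ⟨_, hx, rfl⟩
  set P' := (P : Subgroup H).map H.subtype with hP'
  set Q' := (Q : Subgroup K).map K.subtype with hQ'
  refine ⟨P, Q, R, ?_⟩
  set e : Subgroup G → ℕ := fun X => (Nat.card X).factorization p with he
  have hPc : Nat.card P' = p ^ e H := by
    rw [hP', Subgroup.card_subtype, P.card_eq_multiplicity]
  have hQc : Nat.card Q' = p ^ e K := by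
    rw [hQ', Subgroup.card_subtype, Q.card_eq_multiplicity]
  have hrel : ∀ X Y : Subgroup G, Nat.card (X ⊓ Y : Subgroup G) * Y.relIndex X = Nat.card X := by
    intro X Y
    rw [← Subgroup.inf_relIndex_left X Y, ← Subgroup.relIndex_bot_left (X ⊓ Y),
      ← Subgroup.relIndex_bot_left X]
    exact Subgroup.relIndex_mul_relIndex ⊥ (X ⊓ Y) X bot_le inf_le_left
  -- orders
  have hG : e H + e K = (Nat.card G).factorization p + e (H ⊓ K) := by
    have h2 := hrel H K
    rw [relIndex_eq_index_of_mul hHK] at h2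
    have h3 : Nat.card (H ⊓ K : Subgroup G) * Nat.card G = Nat.card H * Nat.card K := by
      rw [← h2, ← K.card_mul_index]; ring
    have h4 := congrArg (fun m => m.factorization p) h3
    simp only [Nat.factorization_mul Nat.card_pos.ne' Nat.card_pos.ne', Finsupp.add_apply] at h4
    simp only [he]
    omega
  have hint : Nat.card (P' ⊓ Q' : Subgroup G) ∣ p ^ e (H ⊓ K) := by
    obtain ⟨i, hi⟩ := (IsPGroup.iff_card (p := p)).1
      ((P.2.map H.subtype).to_le (inf_le_left : P' ⊓ Q' ≤ P'))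
    rw [hi]
    refine pow_dvd_pow p ((hp.out.pow_dvd_iff_le_factorization Nat.card_pos.ne').1 ?_)
    rw [← hi]
    exact Subgroup.card_dvd_of_le (inf_le_inf (Subgroup.map_subtype_le _) (Subgroup.map_subtype_le _))
  have hPQ := hrel P' Q'
  set A := P'.subgroupOf (R : Subgroup G) with hA
  set B := Q'.subgroupOf (R : Subgroup G) with hB
  have hrAB : B.relIndex A = Q'.relIndex P' := Subgroup.relIndex_subgroupOf hPR
  have hBidx : B.relIndex A = B.index := by
    refine le_antisymm (relIndex_le_index' A B) ?_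
    have h1 := B.card_mul_index
    rw [Nat.card_congr (Subgroup.subgroupOfEquivOfLe hQR).toEquiv, hQc, R.card_eq_multiplicity] at h1
    have h2 : Nat.card P' ≤ p ^ e (H ⊓ K) * Q'.relIndex P' := by
      conv_lhs => rw [← hPQ]
      exact Nat.mul_le_mul_right _ (Nat.le_of_dvd (pow_pos hp.out.pos _) hint)
    rw [hPc] at h2
    rw [hrAB]
    refine Nat.le_of_mul_le_mul_left (c := p ^ (e K + e (H ⊓ K))) ?_ (pow_pos hp.out.pos _)
    calc p ^ (e K + e (H ⊓ K)) * B.index = p ^ e (H ⊓ K) * (p ^ e K * B.index) := by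
          rw [pow_add]; ring
      _ = p ^ (e H + e K) := by rw [h1, ← pow_add, hG, add_comm]
      _ ≤ p ^ (e K + e (H ⊓ K)) * Q'.relIndex P' := by
          rw [pow_add, pow_add, mul_comm (p ^ e H), mul_assoc]
          exact Nat.mul_le_mul_left _ h2
  refine Set.Subset.antisymm (fun x hx => ?_) ?_
  · obtain ⟨a, ha, b, hb, e'⟩ := mul_of_relIndex_eq_index hBidx ⟨x, hx⟩
    exact Set.mem_mul.2 ⟨a, ha, b, hb, (congrArg Subtype.val e').symm⟩
  · rintro _ ⟨a, ha, b, hb, rfl⟩
    exact mul_mem (hPR ha) (hQR hb)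

end CfsgLib.Solvable
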