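import Cfsg.Agent.Lib.Solvable.HallHigmanCyclic
import Cfsg.Agent.Lib.Solvable.MinimalNormal
import Cfsg.Agent.Lib.Solvable.MinimalNonNilpotent
import Cfsg.Agent.Lib.Solvable.MiscStructure
import Cfsg.Agent.Lib.Cores.Fitting

/-!
The Shult–Gross theorem: a finite solvable group with a fixed-point-free automorphism of order
`p ^ n`, `p` odd, has Fitting height at most `n`.
-/

set_option autoImplicit false

open scoped commutatorElement

namespace CfsgLib.Solvable

universe u

theorem not_dvd_card_of_fpf_pow {G : Type*} [Group G] [Finite G] {p n : ℕ} [hp : Fact p.Prime]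
    (σ : MulAut G) (hσ : σ ^ (p ^ n) = 1) (hfpf : ∀ x, σ x = x → x = 1) : ¬ p ∣ Nat.card G := by
  intro hdvd
  obtain ⟨j, -, hj⟩ := (Nat.dvd_prime_pow hp.out).1 (orderOf_dvd_of_pow_eq_one hσ)
  have hP : IsPGroup p (Subgroup.zpowers σ) := IsPGroup.of_card (by rw [Nat.card_zpowers, hj])
  letI : MulAction (Subgroup.zpowers σ) G :=
    { smul := fun a x => (a : MulAut G) x
      one_smul := fun x => rfl
      mul_smul := fun a b x => rfl }
  have h1 : (1 : G) ∈ MulAction.fixedPoints (Subgroup.zpowers σ) G :=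
    fun a => map_one (a : MulAut G)
  obtain ⟨b, hb, hne⟩ := hP.exists_fixed_point_of_prime_dvd_card_of_fixed_point G hdvd h1
  exact hne (hfpf b (hb ⟨σ, Subgroup.mem_zpowers σ⟩)).symm

theorem fpf_quotient {G : Type*} [Group G] [Finite G] (σ : MulAut G)
    (hfpf : ∀ x, σ x = x → x = 1) {N : Subgroup G} [N.Normal] (hN : ∀ x ∈ N, σ x ∈ N)
    {g : MulAut (G ⧸ N)} (hg : ∀ x, g (QuotientGroup.mk' N x) = QuotientGroup.mk' N (σ x)) :
    ∀ t, g t = t → t = 1 := by
  intro t ht
  obtain ⟨y, rfl⟩ := QuotientGroup.mk'_surjective N t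
  rw [hg] at ht
  have h1 : y⁻¹ * σ y ∈ N := QuotientGroup.eq.1 ht.symm
  obtain ⟨ψ, hψ⟩ := CfsgLib.FGS.exists_restrict_mulAut σ hN
  have hψ1 : ∀ z : N, ((ψ z : N) : G) = σ z := fun z => by
    have h := hψ 1 z
    rwa [pow_one, pow_one] at h
  obtain ⟨z, hz⟩ := (CfsgLib.FGS.bijective_inv_mul_apply ψ fun z hz =>
    Subtype.ext (hfpf z (by rw [← hψ1, hz]))).2 ⟨_, h1⟩
  have hzy : (z : G) = y := (CfsgLib.FGS.bijective_inv_mul_apply σ hfpf).1 (by
    have := congrArg Subtype.val hz
    simp only [Subgroup.coe_mul, Subgroup.coe_inv, hψ1] at this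
    exact this)
  exact (QuotientGroup.eq_one_iff y).2 (hzy ▸ z.2)

theorem apply_mem_of_characteristic {G : Type*} [Group G] (σ : MulAut G) (H : Subgroup G)
    [hH : H.Characteristic] {x : G} (hx : x ∈ H) : σ x ∈ H :=
  (Subgroup.characteristic_iff_map_eq.1 hH σ).le ⟨x, hx, rfl⟩

theorem zmodLin_apply {A : Type*} [CommGroup A] (r : ℕ) [Module (ZMod r) (Additive A)] (f : A →* A) (v : Additive A) : (MonoidHom.toAdditive f).toZModLinearMap r v = Additive.ofMul (f v.toMul) := by
  rw [AddMonoidHom.coe_toZModLinearMap]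
  simp

noncomputable def zmodAut {A : Type*} [CommGroup A] (r : ℕ) [Module (ZMod r) (Additive A)] : MulAut A →* Module.End (ZMod r) (Additive A) where
  toFun f := (MonoidHom.toAdditive f.toMonoidHom).toZModLinearMap r
  map_one' := LinearMap.ext fun v => (zmodLin_apply r _ v).trans rfl
  map_mul' a b := LinearMap.ext fun v => by
    refine (zmodLin_apply r _ v).trans ?_
    rw [Module.End.mul_apply, zmodLin_apply, zmodLin_apply]; rfl

theorem zmodAut_apply {A : Type*} [CommGroup A] (r : ℕ) [Module (ZMod r) (Additive A)] (f : MulAut A) (v : Additive A) : zmodAut r f v = Additive.ofMul (f v.toMul) := zmodLin_apply r f.toMonoidHom v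

/-- A faithful representation of the automorphisms of an elementary abelian group over an
algebraically closed field of the same characteristic, preserving fixed-point-freeness. -/
theorem exists_scalar_rep_aux (A : Type u) [CommGroup A] [Finite A] (r : ℕ) [hr : Fact r.Prime]
    [Module (ZMod r) (Additive A)] :
    ∃ (d : ℕ) (f : MulAut A →* Module.End (AlgebraicClosure (ZMod r))
        (Fin d → AlgebraicClosure (ZMod r))),
      Function.Injective f ∧
        ∀ a : MulAut A, (∀ v, a v = v → v = 1) → ∀ w, f a w = w → w = 0 := by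
  classical
  haveI : Finite (Additive A) := Finite.of_equiv A Additive.ofMul
  haveI : Module.Finite (ZMod r) (Additive A) := Module.Finite.of_finite
  let K := AlgebraicClosure (ZMod r)
  let B := Module.finBasis (ZMod r) (Additive A)
  let d := Module.finrank (ZMod r) (Additive A)
  let g : Module.End (ZMod r) (Additive A) →+* Module.End K (Fin d → K) :=
    ((Matrix.toLinAlgEquiv' : Matrix (Fin d) (Fin d) K ≃ₐ[K] _).toRingEquiv.toRingHom).comp
      (((algebraMap (ZMod r) K).mapMatrix).comp (LinearMap.toMatrixAlgEquiv B).toRingEquiv.toRingHom)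
  have hginj : Function.Injective g :=
    (Matrix.toLinAlgEquiv' : Matrix (Fin d) (Fin d) K ≃ₐ[K] _).injective.comp
      ((Matrix.map_injective (algebraMap (ZMod r) K).injective).comp
        (LinearMap.toMatrixAlgEquiv B).injective)
  refine ⟨d, (g : _ →* _).comp (zmodAut r), ?_, fun a ha v hv => ?_⟩
  · intro a b hab
    refine MulEquiv.ext fun x => ?_
    have h := LinearMap.congr_fun (hginj hab) (Additive.ofMul x)
    rw [zmodAut_apply, zmodAut_apply] at h
    exact Additive.ofMul.injective h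
  · set T := zmodAut (A := A) r a
    by_contra hv0
    have h1 : g (T - 1) v = 0 := by
      rw [map_sub, map_one, LinearMap.sub_apply, Module.End.one_apply, sub_eq_zero]
      exact hv
    have h2 : ((algebraMap (ZMod r) K).mapMatrix (LinearMap.toMatrixAlgEquiv B (T - 1))).det = 0 :=
      Matrix.exists_mulVec_eq_zero_iff.1 ⟨v, hv0, by
        have h := h1
        simp only [g, RingHom.comp_apply] at h
        exact h⟩
    rw [← RingHom.map_det, map_eq_zero_iff _ (algebraMap (ZMod r) K).injective] at h2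
    obtain ⟨w, hw0, hw⟩ := Matrix.exists_mulVec_eq_zero_iff.2 h2
    refine hw0 ?_
    have h3 : (T - 1) (B.equivFun.symm w) = 0 := by
      apply B.equivFun.injective
      rw [map_zero]
      have := LinearMap.toMatrix_mulVec_repr B B (T - 1) (B.equivFun.symm w)
      rw [show ⇑(B.repr (B.equivFun.symm w)) = w from B.equivFun.apply_symm_apply w] at this
      exact this.symm.trans hw
    rw [LinearMap.sub_apply, Module.End.one_apply, sub_eq_zero, zmodAut_apply] at h3
    have h4 := ha _ (Additive.ofMul.injective (h3.trans (ofMul_toMul _).symm))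
    have h5 : B.equivFun.symm w = 0 := Additive.toMul.injective (h4.trans toMul_zero.symm)
    have h6 := congrArg B.equivFun h5
    rwa [LinearEquiv.apply_symm_apply, map_zero] at h6

theorem exists_scalar_rep (A : Type u) [CommGroup A] [Finite A] (r : ℕ) [hr : Fact r.Prime]
    (hexp : ∀ a : A, a ^ r = 1) :
    ∃ (d : ℕ) (f : MulAut A →* Module.End (AlgebraicClosure (ZMod r))
        (Fin d → AlgebraicClosure (ZMod r))),
      Function.Injective f ∧
        ∀ a : MulAut A, (∀ v, a v = v → v = 1) → ∀ w, f a w = w → w = 0 := by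
  have h0 : ∀ v : Additive A, r • v = 0 := fun v => by
    refine Additive.toMul.injective ?_
    rw [toMul_nsmul, toMul_zero]
    exact hexp _
  exact @exists_scalar_rep_aux A _ _ r _ (AddCommGroup.zmodModule h0)

set_option maxHeartbeats 1000000 in
/-- The power of order `p` centralises every minimal `σ`-invariant normal subgroup modulo nothing
but its centraliser. -/
theorem inv_mul_mem_centralizer_of_minimal {G : Type u} [Group G] [Finite G] [Group.IsSolvable G]
    {p n : ℕ} [hp : Fact p.Prime] (hp2 : p ≠ 2) (σ : MulAut G) (hσ : σ ^ (p ^ n) = 1)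
    (hfpf : ∀ x, σ x = x → x = 1) (N : Subgroup G) [hNn : N.Normal] (hN : N ≠ ⊥)
    (hNσ : ∀ x ∈ N, σ x ∈ N)
    (hmin : ∀ K : Subgroup G, K.Normal → (∀ x ∈ K, σ x ∈ K) → K ≤ N → K = ⊥ ∨ K = N) (x : G) :
    x⁻¹ * (σ ^ (p ^ (n - 1))) x ∈ Subgroup.centralizer (N : Set G) := by
  classical
  set τ := σ ^ (p ^ (n - 1)) with hτ
  have hpG := not_dvd_card_of_fpf_pow σ hσ hfpf
  obtain ⟨ψ, hψ⟩ := CfsgLib.FGS.exists_restrict_mulAut σ hNσ
  have hψ1 : ∀ z : N, ((ψ z : N) : G) = σ z := fun z => by
    have h := hψ 1 z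
    rwa [pow_one, pow_one] at h
  -- `N` is elementary abelian
  have hNab : ∀ a ∈ N, ∀ b ∈ N, a * b = b * a := by
    have hlt : ⁅N, N⁆ < N :=
      commutator_self_lt (isSolvable_of_le (K := (⊤ : Subgroup G))
        (Group.isSolvable_of_isSolvable_injective (f := (⊤ : Subgroup G).subtype)
          Subtype.val_injective) le_top) hN
    have hσ' : ∀ z ∈ ⁅N, N⁆, σ z ∈ ⁅N, N⁆ := fun z hz => by
      have : (⁅N, N⁆ : Subgroup G).map σ.toMonoidHom ≤ ⁅N, N⁆ := by
        rw [Subgroup.map_commutator]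
        exact Subgroup.commutator_mono (Subgroup.map_le_iff_le_comap.2 hNσ)
          (Subgroup.map_le_iff_le_comap.2 hNσ)
      exact this ⟨z, hz, rfl⟩
    rcases hmin _ inferInstance hσ' hlt.le with h | h
    · intro a ha b hb
      rw [← commutatorElement_eq_one_iff_mul_comm, ← Subgroup.mem_bot, ← h]
      exact Subgroup.commutator_mem_commutator ha hb
    · exact absurd h hlt.ne
  obtain ⟨r, hr, hrdvd⟩ := Nat.exists_prime_and_dvd
    (fun h : Nat.card N = 1 => hN (Subgroup.eq_bot_of_card_eq _ h))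
  haveI := Fact.mk hr
  have hexp : ∀ z ∈ N, z ^ r = 1 := by
    let E : Subgroup G :=
      { carrier := {z | z ∈ N ∧ z ^ r = 1}
        one_mem' := ⟨N.one_mem, one_pow r⟩
        mul_mem' := fun {a b} ha hb => ⟨N.mul_mem ha.1 hb.1, by
          rw [(show Commute a b from hNab a ha.1 b hb.1).mul_pow, ha.2, hb.2, one_mul]⟩
        inv_mem' := fun {a} ha => ⟨N.inv_mem ha.1, by rw [inv_pow, ha.2, inv_one]⟩ }
    have hEn : E.Normal := ⟨fun z hz g => ⟨hNn.conj_mem z hz.1 g, by
      rw [conj_pow, hz.2]; simp⟩⟩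
    have hEσ : ∀ z ∈ E, σ z ∈ E := fun z hz => ⟨hNσ z hz.1, by rw [← map_pow, hz.2, map_one]⟩
    obtain ⟨a, ha⟩ := exists_prime_orderOf_dvd_card' r hrdvd
    rcases hmin E hEn hEσ (fun z hz => hz.1) with h | h
    · exfalso
      have h1 : (a : G) ∈ E := ⟨a.2, by
        rw [← Subgroup.coe_pow, ← ha, pow_orderOf_eq_one]; rfl⟩
      rw [h, Subgroup.mem_bot] at h1
      rw [← Subgroup.orderOf_coe, h1, orderOf_one] at ha
      exact hr.ne_one ha.symm
    · intro z hz
      exact ((h.symm ▸ hz : z ∈ E)).2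
  -- the quotient by the centraliser
  set C := Subgroup.centralizer (N : Set G) with hC
  have hCσ : ∀ z ∈ C, σ z ∈ C := by
    intro z hz
    rw [hC, Subgroup.mem_centralizer_iff]
    intro a ha
    obtain ⟨b, hb⟩ := ψ.surjective ⟨a, ha⟩
    have hba : σ b = a := by rw [← hψ1, hb]
    rw [← hba, ← map_mul, ← map_mul, Subgroup.mem_centralizer_iff.1 hz b b.2]
  haveI hCn : C.Normal := inferInstance
  obtain ⟨g, hg⟩ := CfsgLib.FGS.exists_quotient_mulAut σ hCσ
  have hg1 : ∀ y, g (QuotientGroup.mk' C y) = QuotientGroup.mk' C (σ y) := fun y => by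
    have h := hg 1 y
    rwa [pow_one, pow_one] at h
  have hgfpf := fpf_quotient σ hfpf hCσ hg1
  set H := G ⧸ C
  have hgn : g ^ (p ^ n) = 1 := MulEquiv.ext fun t => by
    obtain ⟨y, rfl⟩ := QuotientGroup.mk'_surjective C t
    rw [hg, hσ]; rfl
  have hpH : ¬ p ∣ Nat.card H := fun h => hpG (h.trans (Subgroup.card_quotient_dvd_card C))
  suffices hkey : g ^ (p ^ (n - 1)) = 1 by
    refine (QuotientGroup.eq.1 ?_)
    have h := hg (p ^ (n - 1)) x
    rw [hkey] at h
    exact h
  by_contra hne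
  set t := g ^ (p ^ (n - 1)) with ht
  haveI : Group.IsSolvable H := inferInstance
  set F := Cfsg.fittingSubgroup H with hF
  haveI hFn : F.Normal := CfsgLib.Cores.fittingSubgroup_normal
  haveI hFc : F.Characteristic := CfsgLib.Cores.fittingSubgroup_characteristic
  haveI hFnil : Group.IsNilpotent F := CfsgLib.Cores.isNilpotent_fittingSubgroup
  have htp : t ^ (p ^ n) = 1 := by rw [ht, ← pow_mul, mul_comm, pow_mul, hgn, one_pow]
  obtain ⟨z, hzF, hz⟩ : ∃ z ∈ F, t z ≠ z := by
    by_contra hcon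
    push Not at hcon
    refine hne (aut_eq_refl_of_fix_fitting t hcon ?_)
    obtain ⟨j, -, hj⟩ := (Nat.dvd_prime_pow hp.out).1 (orderOf_dvd_of_pow_eq_one htp)
    rw [show orderOf (t : H ≃* H) = p ^ j from hj]
    exact (hp.out.coprime_iff_not_dvd.2 hpH).pow_left j
  obtain ⟨q, hq, Qs, z', hz'Q, hz'⟩ : ∃ q : ℕ, q.Prime ∧ ∃ Qs : Sylow q F, ∃ z' : F,
      z' ∈ (Qs : Subgroup F) ∧ t z' ≠ z' := by
    by_contra hcon
    push Not at hcon
    let Fx : Subgroup F :=
      { carrier := {y | t (y : H) = y}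
        one_mem' := map_one t
        mul_mem' := fun {a b} (ha : t (a : H) = a) (hb : t (b : H) = b) => by
          show t ((a : H) * b) = a * b
          rw [map_mul, ha, hb]
        inv_mem' := fun {a} (ha : t (a : H) = a) => by
          show t ((a : H))⁻¹ = (a : H)⁻¹
          rw [map_inv, ha] }
    have htop : Fx = ⊤ := eq_top_of_sylow_le fun q hq =>
      ⟨Classical.arbitrary _, fun y hy => hcon q hq _ y hy⟩
    exact hz (show (⟨z, hzF⟩ : F) ∈ Fx from htop ▸ Subgroup.mem_top _)
  haveI := Fact.mk hq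
  have hQsn : (Qs : Subgroup F).Normal :=
    ((Group.isNilpotent_of_finite_tfae (G := F)).out 0 3 rfl rfl).1 hFnil q inferInstance Qs
  haveI := Qs.characteristic_of_normal hQsn
  set Qq : Subgroup H := (Qs : Subgroup F).map F.subtype with hQq
  have hQqn : Qq.Normal := inferInstance
  have hQqp : IsPGroup q Qq := Qs.2.map _
  have hQqσ : ∀ y ∈ Qq, g y ∈ Qq := by
    rintro _ ⟨y, hy, rfl⟩
    obtain ⟨φ, hφ⟩ := CfsgLib.FGS.exists_restrict_mulAut g (H := F)
      (fun w hw => apply_mem_of_characteristic g F hw)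
    refine ⟨φ y, apply_mem_of_characteristic φ _ hy, ?_⟩
    have h := hφ 1 y
    rwa [pow_one, pow_one] at h
  have hQne : Qq ≠ ⊥ := fun h => hz' (by
    have h1 : (z' : H) ∈ Qq := ⟨z', hz'Q, rfl⟩
    rw [h, Subgroup.mem_bot] at h1
    rw [h1, map_one])
  have hqH : q ∣ Nat.card H := by
    obtain ⟨j, hj⟩ := hQqp.exists_card_eq
    have hj0 : j ≠ 0 := fun e => hQne (Subgroup.eq_bot_of_card_eq _ (by rw [hj, e, pow_zero]))
    exact (dvd_pow_self q hj0).trans (hj ▸ Qq.card_subgroup_dvd_card)
  have hqp : q ≠ p := fun h => hpH (h ▸ hqH)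
  have hrp : r ≠ p := fun h => hpG (h ▸ hrdvd.trans N.card_subgroup_dvd_card)
  -- action on `N`
  haveI hNc : IsMulCommutative N := ⟨⟨fun a b => Subtype.ext (hNab a a.2 b b.2)⟩⟩
  letI : CommGroup N :=
    { N.toGroup with mul_comm := fun a b => Subtype.ext (hNab a a.2 b b.2) }
  have hker : C ≤ (MulAut.conjNormal : G →* MulAut N).ker := fun y hy => by
    rw [MonoidHom.mem_ker]
    refine MulEquiv.ext fun v => Subtype.ext ?_
    rw [MulAut.conjNormal_apply, ← Subgroup.mem_centralizer_iff.1 hy v v.2, mul_inv_cancel_right]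
    rfl
  let cH : H →* MulAut N := QuotientGroup.lift C MulAut.conjNormal hker
  have hcH : ∀ (y : G) (v : N), (cH (QuotientGroup.mk' C y) v : G) = y * v * y⁻¹ :=
    fun y v => MulAut.conjNormal_apply y v
  have hcHinj : ∀ y, cH y = 1 → y = 1 := by
    intro y hy
    obtain ⟨y, rfl⟩ := QuotientGroup.mk'_surjective C y
    refine (QuotientGroup.eq_one_iff y).2 (Subgroup.mem_centralizer_iff.2 fun a ha => ?_)
    have h' := hcH y ⟨a, ha⟩
    rw [hy] at h'
    calc a * y = y * a * y⁻¹ * y := by rw [← h']; rfl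
      _ = y * a := by group
  have hSc : ∀ y : H, ψ * cH y = cH (g y) * ψ := by
    intro y
    obtain ⟨y, rfl⟩ := QuotientGroup.mk'_surjective C y
    rw [hg1]
    refine MulEquiv.ext fun v => Subtype.ext ?_
    rw [MulAut.mul_apply, MulAut.mul_apply, hψ1, hcH, hcH, hψ1, map_mul, map_mul, map_inv]
  -- `q ≠ r`
  have hqr : q ≠ r := by
    rintro rfl
    letI : MulAction Qq N :=
      { smul := fun y v => cH (y : H) v
        one_smul := fun v => by
          show cH ((1 : Qq) : H) v = v
          rw [OneMemClass.coe_one, map_one]; rfl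
        mul_smul := fun a b v => by
          show cH ((a * b : Qq) : H) v = cH (a : H) (cH (b : H) v)
          rw [Subgroup.coe_mul, map_mul]; rfl }
    obtain ⟨v, hv, hv0⟩ := hQqp.exists_fixed_point_of_prime_dvd_card_of_fixed_point N
      hrdvd (a := (1 : N)) (fun y => map_one (cH (y : H)))
    set L := Qq.comap (QuotientGroup.mk' C) with hL
    have hLn : L.Normal := hQqn.comap _
    have hLσ : ∀ y ∈ L, σ y ∈ L := fun y hy => by
      rw [hL, Subgroup.mem_comap, ← hg1]; exact hQqσ _ hy
    let M : Subgroup G := N ⊓ Subgroup.centralizer (L : Set G)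
    have hMn : M.Normal := inferInstance
    have hMσ : ∀ y ∈ M, σ y ∈ M := fun y hy => ⟨hNσ y hy.1, by
      refine Subgroup.mem_centralizer_iff.2 ?_
      intro l hl
      obtain ⟨l, rfl⟩ := σ.surjective l
      have hl' : l ∈ L := by
        obtain ⟨η, hη⟩ := CfsgLib.FGS.exists_restrict_mulAut σ hLσ
        obtain ⟨l₀, hl₀⟩ := η.surjective ⟨_, hl⟩
        have h := hη 1 l₀
        rw [pow_one, pow_one, hl₀] at h
        rw [σ.injective h]
        exact l₀.2
      rw [← map_mul, ← map_mul, Subgroup.mem_centralizer_iff.1 hy.2 l hl']⟩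
    have hvM : (v : G) ∈ M := ⟨v.2, by
      refine Subgroup.mem_centralizer_iff.2 ?_
      intro l hl
      have h : cH (QuotientGroup.mk' C l) v = v := hv ⟨_, hl⟩
      have h2 := hcH l v
      rw [h] at h2
      calc l * (v : G) = l * v * l⁻¹ * l := by group
        _ = _ := by rw [← h2]⟩
    rcases hmin M hMn hMσ inf_le_left with h | h
    · rw [h, Subgroup.mem_bot] at hvM
      exact hv0 (Subtype.ext hvM).symm
    · refine hQne ((Subgroup.eq_bot_iff_forall _).2 fun y hy => ?_)
      obtain ⟨y, rfl⟩ := QuotientGroup.mk'_surjective C y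
      refine (QuotientGroup.eq_one_iff y).2 (Subgroup.mem_centralizer_iff.2 fun a ha => ?_)
      have ha' : a ∈ M := h ▸ ha
      exact (Subgroup.mem_centralizer_iff.1 ha'.2 y hy).symm
  obtain ⟨d, f, hfinj, hffix⟩ := exists_scalar_rep N r (fun a => Subtype.ext (hexp a a.2))
  obtain ⟨η, hη⟩ := CfsgLib.FGS.exists_restrict_mulAut g hQqσ
  have hη1 : ∀ y : Qq, ((η y : Qq) : H) = g y := fun y => by
    have h := hη 1 y
    rwa [pow_one, pow_one] at h
  have hcastK : ∀ l : ℕ, l.Prime → l ≠ r → (l : AlgebraicClosure (ZMod r)) ≠ 0 :=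
    fun l hl hlr h => hlr
      ((Nat.prime_dvd_prime_iff_eq hr hl).1
        ((CharP.cast_eq_zero_iff (AlgebraicClosure (ZMod r)) r l).1 h)).symm
  have hψn : ψ ^ (p ^ n) = 1 := MulEquiv.ext fun v => Subtype.ext (by rw [hψ, hσ]; rfl)
  have hmain := hall_higman_cyclic (n := n) hp2 hqp
    (hcastK q hq hqr) (hcastK p hp.out hrp.symm) hQqp η
    (MulEquiv.ext fun y => Subtype.ext (by rw [hη, hgn]; rfl))
    (fun y hy => Subtype.ext (hgfpf y (by rw [← hη1, hy])))
    (f.comp (cH.comp Qq.subtype)) (f ψ)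
    (fun y => by
      show f ψ * f (cH y) = f (cH ((η y : Qq) : H)) * f ψ
      rw [← map_mul, ← map_mul, hη1, hSc])
    (by rw [← map_pow, hψn, map_one])
    (hffix ψ fun v hv => Subtype.ext (hfpf v (by rw [← hψ1, hv]))) ⟨z', z', hz'Q, rfl⟩
  have hmain' : cH ((η ^ (p ^ (n - 1))) (⟨z', z', hz'Q, rfl⟩ : Qq) : Qq) = cH z' := hfinj hmain
  rw [hη] at hmain'
  refine hz' (mul_inv_eq_one.1 (hcHinj _ ?_))
  rw [map_mul, map_inv]
  exact mul_inv_eq_one.2 hmain'

/-- For a fixed-point-free `σ` of order dividing `p ^ n`, `p` odd, the power of index `p ^ (n - 1)`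
is trivial modulo the Fitting subgroup. -/
theorem inv_mul_mem_fittingSubgroup {p n : ℕ} [hp : Fact p.Prime] (hp2 : p ≠ 2) :
    ∀ (c : ℕ) {G : Type u} [Group G] [Finite G] [Group.IsSolvable G] (σ : MulAut G),
      Nat.card G = c → σ ^ (p ^ n) = 1 → (∀ x, σ x = x → x = 1) →
      ∀ x : G, x⁻¹ * (σ ^ (p ^ (n - 1))) x ∈ Cfsg.fittingSubgroup G := by
  intro c
  induction c using Nat.strong_induction_on with
  | _ c ih =>
    intro G _ _ _ σ hc hσ hfpf x
    rcases subsingleton_or_nontrivial G with hs | hs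
    · rw [Subsingleton.elim (x⁻¹ * _) 1]
      exact one_mem _
    obtain ⟨N, ⟨hNn, hNσ, hN⟩, hNmin⟩ := (wellFounded_lt (α := Subgroup G)).has_min
      {K : Subgroup G | K.Normal ∧ (∀ y ∈ K, σ y ∈ K) ∧ K ≠ ⊥}
      ⟨⊤, inferInstance, fun y _ => Subgroup.mem_top _, top_ne_bot⟩
    haveI := hNn
    have hmin : ∀ K : Subgroup G, K.Normal → (∀ y ∈ K, σ y ∈ K) → K ≤ N → K = ⊥ ∨ K = N :=
      fun K hK hKσ hle => by
        by_contra hcon
        push Not at hcon
        exact hNmin K ⟨hK, hKσ, hcon.1⟩ (lt_of_le_of_ne hle hcon.2)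
    have h1 := inv_mul_mem_centralizer_of_minimal hp2 σ hσ hfpf N hN hNσ hmin x
    obtain ⟨g, hg⟩ := CfsgLib.FGS.exists_quotient_mulAut σ hNσ
    have hg1 : ∀ y, g (QuotientGroup.mk' N y) = QuotientGroup.mk' N (σ y) := fun y => by
      have h := hg 1 y
      rwa [pow_one, pow_one] at h
    have h2 := ih _ (hc ▸ card_quotient_lt N hN) g rfl
      (MulEquiv.ext fun t => by
        obtain ⟨y, rfl⟩ := QuotientGroup.mk'_surjective N t
        rw [hg, hσ]; rfl)
      (fpf_quotient σ hfpf hNσ hg1) (QuotientGroup.mk' N x)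
    rw [hg, ← map_inv, ← map_mul] at h2
    haveI : (Cfsg.fittingSubgroup (G ⧸ N)).Normal := CfsgLib.Cores.fittingSubgroup_normal
    set Z : Subgroup G := Subgroup.centralizer (N : Set G) ⊓
      (Cfsg.fittingSubgroup (G ⧸ N)).comap (QuotientGroup.mk' N) with hZ
    haveI : ((Cfsg.fittingSubgroup (G ⧸ N)).comap (QuotientGroup.mk' N)).Normal := inferInstance
    haveI : Z.Normal := inferInstance
    suffices hnil : Group.IsNilpotent Z from CfsgLib.Cores.le_fittingSubgroup hnil ⟨h1, h2⟩
    let f : Z →* Cfsg.fittingSubgroup (G ⧸ N) :=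
      ((QuotientGroup.mk' N).comp Z.subtype).codRestrict _ fun z => z.2.2
    haveI := CfsgLib.Cores.isNilpotent_fittingSubgroup (G := G ⧸ N)
    refine Subgroup.isNilpotent_of_ker_le_center f ?_
    intro z hz
    have hzN : (z : G) ∈ N := (QuotientGroup.eq_one_iff _).1 (congrArg Subtype.val hz :)
    exact Subgroup.mem_center_iff.2 fun w => Subtype.ext
      (Subgroup.mem_centralizer_iff.1 w.2.1 (z : G) hzN).symm

/-- **Shult–Gross**: the Fitting height is at most `n`. -/
theorem shult_gross {p : ℕ} [hp : Fact p.Prime] (hp2 : p ≠ 2) :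
    ∀ (n : ℕ) {G : Type u} [Group G] [Finite G] [Group.IsSolvable G] (σ : MulAut G),
      σ ^ (p ^ n) = 1 → (∀ x, σ x = x → x = 1) →
      ∃ F : Fin (n + 1) → Subgroup G, F 0 = ⊥ ∧ F (Fin.last n) = ⊤ ∧ Monotone F ∧
        (∀ i, (F i).Normal) ∧
        ∀ i : Fin n, ∃ k : ℕ, (F i.succ).lowerCentralSeries k ≤ F i.castSucc := by
  intro n
  induction n with
  | zero =>
    intro G _ _ _ σ hσ hfpf
    rw [pow_zero, pow_one] at hσ
    have htriv : ∀ x : G, x = 1 := fun x => hfpf x (by rw [hσ]; rfl)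
    exact ⟨fun _ => ⊥, rfl, eq_top_iff.2 fun x _ => (Subgroup.mem_bot).2 (htriv x),
      monotone_const, fun _ => inferInstance, fun i => i.elim0⟩
  | succ n ih =>
    intro G _ _ _ σ hσ hfpf
    set FG := Cfsg.fittingSubgroup G
    haveI hFn : FG.Normal := CfsgLib.Cores.fittingSubgroup_normal
    haveI hFc : FG.Characteristic := CfsgLib.Cores.fittingSubgroup_characteristic
    have hFσ : ∀ y ∈ FG, σ y ∈ FG := fun y hy => apply_mem_of_characteristic σ FG hy
    obtain ⟨g, hg⟩ := CfsgLib.FGS.exists_quotient_mulAut σ hFσ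
    have hg1 : ∀ y, g (QuotientGroup.mk' FG y) = QuotientGroup.mk' FG (σ y) := fun y => by
      have h := hg 1 y
      rwa [pow_one, pow_one] at h
    have hgn : g ^ (p ^ n) = 1 := MulEquiv.ext fun t => by
      obtain ⟨y, rfl⟩ := QuotientGroup.mk'_surjective FG t
      rw [hg]
      show _ = QuotientGroup.mk' FG y
      refine (QuotientGroup.eq.2 ?_).symm
      have h := inv_mul_mem_fittingSubgroup (n := n + 1) hp2 _ σ rfl hσ hfpf y
      rwa [Nat.add_sub_cancel] at h
    obtain ⟨F, hF0, hFl, hFm, hFN, hFs⟩ := ih g hgn (fpf_quotient σ hfpf hFσ hg1)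
    let F' : Fin (n + 1 + 1) → Subgroup G :=
      Fin.cons ⊥ fun i => (F i).comap (QuotientGroup.mk' FG)
    refine ⟨F', rfl, ?_, ?_, ?_, ?_⟩
    · rw [← Fin.succ_last]
      simp only [F', Fin.cons_succ, hFl, Subgroup.comap_top]
    · refine Fin.monotone_iff_le_succ.2 fun i => ?_
      induction i using Fin.cases with
      | zero => exact bot_le
      | succ j =>
        simp only [F', Fin.castSucc_succ, Fin.cons_succ]
        exact Subgroup.comap_mono (hFm (Fin.castSucc_le_succ j))
    · intro i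
      induction i using Fin.cases with
      | zero => simp only [F', Fin.cons_zero]; infer_instance
      | succ j => simp only [F', Fin.cons_succ]; exact (hFN j).comap _
    · intro i
      induction i using Fin.cases with
      | zero =>
        haveI := CfsgLib.Cores.isNilpotent_fittingSubgroup (G := G)
        obtain ⟨k, hk⟩ := (Subgroup.isNilpotent_iff_lowerCentralSeries FG).1 this
        refine ⟨k, ?_⟩
        simp only [F', Fin.castSucc_zero, Fin.cons_zero, Fin.cons_succ, hF0, MonoidHom.comap_bot,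
          QuotientGroup.ker_mk']
        exact hk.le
      | succ j =>
        obtain ⟨k, hk⟩ := hFs j
        refine ⟨k, ?_⟩
        simp only [F', Fin.castSucc_succ, Fin.cons_succ]
        rw [← Subgroup.map_le_iff_le_comap, Subgroup.map_lowerCentralSeries,
          Subgroup.map_comap_eq_self_of_surjective (QuotientGroup.mk'_surjective FG)]
        exact hk

end CfsgLib.Solvable
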