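import Cfsg.Agent.Lib.Solvable.MinimalNormal
import Mathlib.GroupTheory.Frattini

/-!
Normal subgroups of nilpotent groups and Frattini-type criteria for nilpotency.
-/

set_option autoImplicit false

open scoped Pointwise commutatorElement

namespace CfsgLib.Solvable

variable {G : Type*} [Group G]

/-- In a nilpotent group, a normal subgroup not contained in the normal subgroup `N` has an element
outside `N` which is central modulo `N`. -/
theorem exists_central_mod_of_isNilpotent [Group.IsNilpotent G] {C N : Subgroup G} [hC : C.Normal]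
    (h : ¬ C ≤ N) : ∃ x ∈ C, x ∉ N ∧ ∀ g : G, ⁅x, g⁆ ∈ C ⊓ N := by
  obtain ⟨n, hn⟩ := Group.IsNilpotent.nilpotent G
  have hex : ∃ i, ¬ C ⊓ Subgroup.upperCentralSeries G i ≤ N := ⟨n, by rwa [hn, inf_top_eq]⟩
  classical
  have hi := Nat.find_spec hex
  cases hi' : Nat.find hex with
  | zero =>
    rw [hi', Subgroup.upperCentralSeries_zero, inf_bot_eq] at hi
    exact absurd bot_le hi
  | succ i =>
    rw [hi'] at hi
    have hmin : C ⊓ Subgroup.upperCentralSeries G i ≤ N :=
      not_not.1 (Nat.find_min hex (by omega))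
    obtain ⟨x, ⟨hxC, hxZ⟩, hxN⟩ := SetLike.not_le_iff_exists.1 hi
    refine ⟨x, hxC, hxN, fun g => ?_⟩
    have h1 : ⁅x, g⁆ ∈ C := by
      have := mul_mem hxC (hC.conj_mem x⁻¹ (inv_mem hxC) g)
      simpa [commutatorElement_def, mul_assoc] using this
    exact ⟨h1, hmin ⟨h1, Subgroup.mem_upperCentralSeries_succ_iff.1 hxZ g⟩⟩

theorem inf_center_ne_bot_of_isNilpotent [Group.IsNilpotent G] {N : Subgroup G} [N.Normal]
    (hN : N ≠ ⊥) : N ⊓ Subgroup.center G ≠ ⊥ := by
  obtain ⟨x, hx, hx1, hxc⟩ := exists_central_mod_of_isNilpotent (C := N) (N := ⊥)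
    (fun h => hN (le_bot_iff.1 h))
  intro hb
  refine hx1 ?_
  rw [← hb]
  refine ⟨hx, Subgroup.mem_center_iff.2 fun g => ?_⟩
  exact (commutatorElement_eq_one_iff_mul_comm.1 (Subgroup.mem_bot.1 (hxc g).2)).symm

/-- If `B ≤ A` are normal, `B ≤ Φ(G)` and `A / B` is nilpotent then so is `A`. -/
theorem isNilpotent_of_quotient_frattini [Finite G] (A B : Subgroup G) [A.Normal] [B.Normal]
    (hBA : B ≤ A) (hB : B ≤ frattini G) (h : Group.IsNilpotent (A ⧸ B.subgroupOf A)) :
    Group.IsNilpotent A := by
  refine (Group.isNilpotent_of_finite_tfae (G := A)).out 3 0 |>.1 ?_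
  intro p hp P
  set f := QuotientGroup.mk' (B.subgroupOf A)
  have hf : Function.Surjective f := QuotientGroup.mk'_surjective _
  have : ((P : Subgroup A) ⊔ B.subgroupOf A).Normal := by
    have h1 : Subgroup.Normal ((P.mapSurjective hf : Sylow p _) : Subgroup (A ⧸ B.subgroupOf A)) :=
      inferInstance
    rw [Sylow.coe_mapSurjective] at h1
    have h2 := h1.comap f
    rwa [Subgroup.comap_map_eq, QuotientGroup.ker_mk'] at h2
  set P₀ : Subgroup G := (P : Subgroup A).map A.subtype with hP₀
  have hstep : ∀ g : G, g ∈ Subgroup.normalizer (P₀ : Set G) ⊔ B := by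
    intro g
    let e : A ≃* A := MulAut.conjNormal g
    have h3 : (P : Subgroup A).map e.toMonoidHom ≤ ⊤ := le_top
    obtain ⟨Q, hQ⟩ : ∃ Q : Sylow p A, (Q : Subgroup A) = (P : Subgroup A).map e.toMonoidHom :=
      ⟨P.mapSurjective (f := e.toMonoidHom) e.surjective, Sylow.coe_mapSurjective _ _⟩
    obtain ⟨a, ha⟩ := MulAction.exists_smul_eq A P Q
    -- `a` can be taken inside `P ⊔ B`, so inside `B`
    have hgP : MulAut.conj g • P₀ = MulAut.conj (a : G) • P₀ := by
      rw [hP₀, conj_smul_eq_map, conj_smul_eq_map, Subgroup.map_map, Subgroup.map_map]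
      have : (P : Subgroup A).map e.toMonoidHom = MulAut.conj a • (P : Subgroup A) := by
        rw [← hQ, ← ha, Sylow.coe_subgroup_smul]
      rw [conj_smul_eq_map] at this
      have := congrArg (Subgroup.map A.subtype) this
      rw [Subgroup.map_map, Subgroup.map_map] at this
      exact this
    set N₀ := (P : Subgroup A) ⊔ B.subgroupOf A
    have hPN : (P : Subgroup A) ≤ N₀ := le_sup_left
    have hconj : MulAut.conj a • (P : Subgroup A) ≤ N₀ :=
      conj_smul_le_iff.2 fun x hx => this.conj_mem x (hPN hx) a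
    obtain ⟨b, hb⟩ := MulAction.exists_smul_eq N₀ (P.subtype hPN) ((a • P).subtype (by
      rwa [Sylow.coe_subgroup_smul]))
    rw [Sylow.smul_subtype] at hb
    have hb' : (b : A) • P = a • P := Sylow.subtype_injective hb
    obtain ⟨y, hy, z, hz, hyz⟩ := exists_mul_of_mem_sup
      (A := (P : Subgroup A)) (K := B.subgroupOf A) Subgroup.le_normalizer_of_normal
      (g := (b : A)) (by rw [sup_comm]; exact b.2)
    have hzP : z • P = P := Sylow.smul_eq_iff_mem_normalizer.2 (Subgroup.le_normalizer hz)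
    rw [hyz, mul_smul, hzP] at hb'
    have hyP : MulAut.conj (a : G) • P₀ = MulAut.conj (y : G) • P₀ := by
      have h4 := congrArg (fun S : Sylow p A => (S : Subgroup A).map A.subtype) hb'
      simp only [Sylow.coe_subgroup_smul, conj_smul_eq_map, Subgroup.map_map] at h4
      rw [hP₀, conj_smul_eq_map, conj_smul_eq_map, Subgroup.map_map, Subgroup.map_map]
      exact h4.symm
    have hn : (y : G)⁻¹ * g ∈ Subgroup.normalizer (P₀ : Set G) := by
      rw [mem_normalizer_iff_conj_smul, ← conj_smul_conj_smul, hgP, hyP, conj_smul_conj_smul,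
        inv_mul_cancel, map_one, one_smul]
    have := mul_mem (Subgroup.mem_sup_right (S := Subgroup.normalizer (P₀ : Set G))
      (show (y : G) ∈ B from hy)) (Subgroup.mem_sup_left hn)
    simpa using this
  have htop : Subgroup.normalizer (P₀ : Set G) = ⊤ :=
    frattini_nongenerating (eq_top_iff.2 fun g _ => sup_le_sup_left hB _ (hstep g))
  refine ⟨fun x hx a => ?_⟩
  have := normalizer_conj_mem (htop.ge (Subgroup.mem_top (a : G)))
    (Subgroup.mem_map_of_mem A.subtype hx)
  obtain ⟨y, hy, hy'⟩ := this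
  have : y = a * x * a⁻¹ := Subtype.ext (by simpa using hy')
  rwa [← this]

end CfsgLib.Solvable
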