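import Cfsg.Agent.Lib.Solvable.MinimalNormal
import Cfsg.Agent.Lib.Solvable.SchurZassenhaus

/-!
Hall's theorems for finite solvable groups: for `|G| = m * n` with `m`, `n` coprime there are
subgroups of order `m`, and any subgroup of order prime to `n` is conjugate into any of them.
-/

set_option autoImplicit false

open scoped Pointwise

namespace CfsgLib.Solvable

universe u

private theorem hall_aux (c : ℕ) : ∀ (G : Type u) [Group G] [Finite G] [Group.IsSolvable G],
    Nat.card G = c → ∀ m n : ℕ, Nat.card G = m * n → m.Coprime n →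
    (∃ H : Subgroup G, Nat.card H = m) ∧
    ∀ H K : Subgroup G, Nat.card H = m → (Nat.card K).Coprime n →
      ∃ g : G, MulAut.conj g • K ≤ H := by
  induction c using Nat.strong_induction_on with
  | _ c ih =>
  intro G _ _ _ hc m n hG hmn
  subst hc
  rcases subsingleton_or_nontrivial G with hs | hnt
  · have h1 : Nat.card G = 1 := Nat.card_unique
    rw [h1, eq_comm, mul_eq_one] at hG
    refine ⟨⟨⊥, by simp [hG.1]⟩, fun H K _ _ => ⟨1, ?_⟩⟩
    intro x _
    rw [Subsingleton.elim x 1]
    exact one_mem _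
  obtain ⟨N, p, a, hN, hp, ha, -, hNc, hNbot, -, -⟩ := exists_normal_prime_pow_card (G := G)
  have hlt := card_quotient_lt N hNbot
  set π := QuotientGroup.mk' N
  have hsurj : Function.Surjective π := QuotientGroup.mk'_surjective N
  haveI : Group.IsSolvable (G ⧸ N) := Group.isSolvable_of_surjective hsurj
  have hpn : p ∣ Nat.card G :=
    (dvd_pow_self p ha.ne').trans (hNc ▸ N.card_subgroup_dvd_card)
  have hprod : Nat.card N * Nat.card (G ⧸ N) = m * n := by
    rw [← Subgroup.index_eq_card, N.card_mul_index, hG]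
  have hNdvd : Nat.card N ∣ m * n := hG ▸ N.card_subgroup_dvd_card
  have hNpos : 0 < Nat.card N := Nat.card_pos
  rcases (Nat.Prime.dvd_mul hp).1 (hG ▸ hpn) with hpm | hpn
  · -- `N` lies in every subgroup of order `m`
    have hpn' : ¬ p ∣ n := fun h => hp.ne_one (Nat.eq_one_of_dvd_coprimes hmn hpm h)
    have hNn : (Nat.card N).Coprime n := by
      rw [hNc]; exact Nat.Coprime.pow_left _ (hp.coprime_iff_not_dvd.2 hpn')
    obtain ⟨m', rfl⟩ := hNn.dvd_of_dvd_mul_right hNdvd
    have hq : Nat.card (G ⧸ N) = m' * n := by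
      rw [mul_assoc] at hprod
      exact Nat.eq_of_mul_eq_mul_left hNpos hprod
    obtain ⟨⟨H', hH'⟩, hdom⟩ := ih _ hlt (G ⧸ N) rfl m' n hq hmn.coprime_mul_left
    refine ⟨⟨H'.comap π, by rw [card_comap_mk', hH']⟩, fun H K hH hK => ?_⟩
    have hNH : N ≤ H := by
      have h1 : Nat.card ↥(N ⊔ H) ∣ Nat.card N * Nat.card H := by
        have h2 : Nat.card (H.map π) ∣ Nat.card H := card_map_dvd π H
        have h3 : (H.map π).comap π = N ⊔ H := by
          rw [Subgroup.comap_map_eq, QuotientGroup.ker_mk', sup_comm]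
        rw [← h3, card_comap_mk']
        exact Nat.mul_dvd_mul_left _ h2
      have h4 : Nat.card ↥(N ⊔ H) ∣ Nat.card N * m' := by
        refine Nat.Coprime.dvd_of_dvd_mul_right ?_ (hG ▸ (N ⊔ H).card_subgroup_dvd_card)
        refine Nat.Coprime.coprime_dvd_left h1 (Nat.Coprime.mul_left hNn ?_)
        rw [hH]; exact hmn
      have h5 : H = N ⊔ H := Subgroup.eq_of_le_of_card_ge le_sup_right
        (hH ▸ Nat.le_of_dvd (hH ▸ Nat.card_pos) h4)
      rw [h5]; exact le_sup_left
    have hHmap : Nat.card (H.map π) = m' := by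
      have h := card_comap_mk' N (H.map π)
      rw [Subgroup.comap_map_eq, QuotientGroup.ker_mk', sup_eq_left.2 hNH, hH] at h
      exact (Nat.eq_of_mul_eq_mul_left hNpos h).symm
    obtain ⟨g', hg'⟩ := hdom (H.map π) (K.map π) hHmap (hK.coprime_dvd_left (card_map_dvd π K))
    obtain ⟨g, rfl⟩ := hsurj g'
    refine ⟨g, ?_⟩
    rw [← map_conj_smul] at hg'
    simpa [sup_eq_right.2 hNH] using le_of_map_mk'_le hg'
  · -- subgroups of order `m` are complements to `N` in their product with it
    have hpm' : ¬ p ∣ m := fun h => hp.ne_one (Nat.eq_one_of_dvd_coprimes hmn h hpn)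
    have hNm : (Nat.card N).Coprime m := by
      rw [hNc]; exact Nat.Coprime.pow_left _ (hp.coprime_iff_not_dvd.2 hpm')
    obtain ⟨n', rfl⟩ := hNm.dvd_of_dvd_mul_left hNdvd
    have hq : Nat.card (G ⧸ N) = m * n' := by
      rw [mul_left_comm] at hprod
      exact Nat.eq_of_mul_eq_mul_left hNpos hprod
    obtain ⟨⟨H', hH'⟩, hdom⟩ := ih _ hlt (G ⧸ N) rfl m n' hq hmn.coprime_mul_left_right
    have hNs : Group.IsSolvable N := inferInstance
    constructor
    · set L := H'.comap π
      have hNL : N ≤ L := fun x hx => by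
        rw [Subgroup.mem_comap, show π x = 1 from (QuotientGroup.eq_one_iff x).2 hx]; exact one_mem _
      have hcard : Nat.card (N.subgroupOf L) = Nat.card N :=
        Nat.card_congr (Subgroup.subgroupOfEquivOfLe hNL).toEquiv
      have hindex : (N.subgroupOf L).index = m := by
        have h := (N.subgroupOf L).card_mul_index
        rw [hcard, card_comap_mk', hH'] at h
        exact Nat.eq_of_mul_eq_mul_left hNpos h
      obtain ⟨B, hB⟩ := Subgroup.exists_right_complement'_of_coprime
        (N := N.subgroupOf L) (by rw [hcard, hindex]; exact hNm)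
      refine ⟨B.map L.subtype, ?_⟩
      rw [Subgroup.card_map_of_injective L.subtype_injective, ← hB.symm.index_eq_card, hindex]
    · intro H K hH hK
      have hd : N ⊓ H = ⊥ := disjoint_of_coprime (by rw [hH]; exact hNm)
      have hHmap : Nat.card (H.map π) = m := by
        have h := card_comap_mk' N (H.map π)
        rw [Subgroup.comap_map_eq, QuotientGroup.ker_mk', sup_comm,
          card_sup_of_disjoint Subgroup.le_normalizer_of_normal hd, hH] at h
        exact (Nat.eq_of_mul_eq_mul_left hNpos h).symm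
      obtain ⟨g', hg'⟩ := hdom (H.map π) (K.map π) hHmap
        ((hK.coprime_dvd_right (dvd_mul_left _ _)).coprime_dvd_left (card_map_dvd π K))
      obtain ⟨g, rfl⟩ := hsurj g'
      rw [← map_conj_smul] at hg'
      obtain ⟨k, -, hk⟩ := exists_conj_le N H (MulAut.conj g • K)
        Subgroup.le_normalizer_of_normal hd (le_of_map_mk'_le hg')
        (by rw [card_conj_smul]; exact (hK.coprime_dvd_right (dvd_mul_right _ _)).symm)
        (Or.inl hNs)
      exact ⟨k * g, by rwa [← conj_smul_conj_smul]⟩

variable {G : Type u} [Group G] [Finite G]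

/-- Hall: existence. -/
theorem exists_hall [Group.IsSolvable G] {m n : ℕ} (hG : Nat.card G = m * n) (hmn : m.Coprime n) :
    ∃ H : Subgroup G, Nat.card H = m :=
  (hall_aux _ G rfl m n hG hmn).1

/-- Hall: dominance. -/
theorem exists_conj_le_hall [Group.IsSolvable G] {m n : ℕ} (hG : Nat.card G = m * n)
    (hmn : m.Coprime n) {H K : Subgroup G} (hH : Nat.card H = m) (hK : (Nat.card K).Coprime n) :
    ∃ g : G, MulAut.conj g • K ≤ H :=
  (hall_aux _ G rfl m n hG hmn).2 H K hH hK

/-- Hall: conjugacy. -/
theorem exists_conj_eq_hall [Group.IsSolvable G] {m n : ℕ} (hG : Nat.card G = m * n)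
    (hmn : m.Coprime n) {H K : Subgroup G} (hH : Nat.card H = m) (hK : Nat.card K = m) :
    ∃ g : G, MulAut.conj g • H = K := by
  obtain ⟨g, hg⟩ := exists_conj_le_hall hG hmn hK (K := H) (by rw [hH]; exact hmn)
  exact ⟨g, conj_smul_eq_of_le hg (by rw [hH, hK])⟩

/-- Hall subgroups in terms of the index. -/
theorem exists_conj_le_of_coprime_index [Group.IsSolvable G] {H K : Subgroup G}
    (hH : (Nat.card H).Coprime H.index) (hK : (Nat.card K).Coprime H.index) :
    ∃ g : G, MulAut.conj g • K ≤ H :=
  exists_conj_le_hall H.card_mul_index.symm hH rfl hK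

end CfsgLib.Solvable
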