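import Cfsg.Agent.Lib.Solvable.Basic
import Cfsg.Agent.Lib.Solvable.Nilpotent
import Cfsg.Agent.Lib.Solvable.MinimalNonNilpotent
import Cfsg.Agent.Lib.Cores.Fitting
import Cfsg.Agent.Lib.OddLocal.Basic

/-!
Primary parts of nilpotent subgroups, seen inside the ambient group.
-/

set_option autoImplicit false

open scoped Pointwise

namespace CfsgLib.Solvable

variable {G : Type*} [Group G] [Finite G]

/-- The `p`-part of a nilpotent subgroup `A`. -/
def nilPart (p : ℕ) (A : Subgroup G) : Subgroup G := (Cfsg.pCore p A).map A.subtype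

omit [Finite G] in
theorem nilPart_le {p : ℕ} {A : Subgroup G} : nilPart p A ≤ A := Subgroup.map_subtype_le _

theorem isPGroup_nilPart {p : ℕ} {A : Subgroup G} : IsPGroup p (nilPart p A) :=
  (CfsgLib.Cores.isPGroup_pCore p).map _

theorem pCore_eq_sylow_of_nilpotent {H : Type*} [Group H] [Finite H] (hH : Group.IsNilpotent H)
    {p : ℕ} [Fact p.Prime] (P : Sylow p H) : Cfsg.pCore p H = (P : Subgroup H) := by
  haveI := hH
  haveI : (P : Subgroup H).Normal :=
    Sylow.normal_of_normalizerCondition Group.normalizerCondition_of_isNilpotent P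
  exact CfsgLib.Cores.pCore_eq_of_normal_sylow P

theorem le_nilPart {p : ℕ} [Fact p.Prime] {A X : Subgroup G} (hA : Group.IsNilpotent A)
    (hXA : X ≤ A) (hX : IsPGroup p X) : X ≤ nilPart p A := by
  obtain ⟨P, hP⟩ := (hX.of_equiv (Subgroup.subgroupOfEquivOfLe hXA).symm).exists_le_sylow
  rw [← Subgroup.map_subgroupOf_eq_of_le hXA, nilPart, pCore_eq_sylow_of_nilpotent hA P]
  exact Subgroup.map_mono hP

theorem mem_nilPart {p : ℕ} [Fact p.Prime] {A : Subgroup G} (hA : Group.IsNilpotent A) {x : G}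
    (hx : x ∈ A) {i : ℕ} (h : orderOf x = p ^ i) : x ∈ nilPart p A :=
  le_nilPart hA ((Subgroup.zpowers_le).2 hx)
    (IsPGroup.of_card (n := i) (by rw [Nat.card_zpowers, h])) (Subgroup.mem_zpowers x)

theorem orderOf_mem_nilPart {p : ℕ} [Fact p.Prime] {A : Subgroup G} {x : G}
    (hx : x ∈ nilPart p A) : ∃ i, orderOf x = p ^ i := by
  obtain ⟨i, hi⟩ := IsPGroup.iff_orderOf.1 (isPGroup_nilPart (p := p) (A := A)) ⟨x, hx⟩
  exact ⟨i, by rw [← hi, ← Subgroup.orderOf_coe]⟩

theorem card_nilPart {p : ℕ} [Fact p.Prime] {A : Subgroup G} (hA : Group.IsNilpotent A) :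
    Nat.card (nilPart p A) = p ^ (Nat.card A).factorization p := by
  obtain ⟨P⟩ := (inferInstance : Nonempty (Sylow p A))
  rw [nilPart, pCore_eq_sylow_of_nilpotent hA P, Subgroup.card_subtype, P.card_eq_multiplicity]

theorem nilPart_ne_bot {p : ℕ} [hp : Fact p.Prime] {A : Subgroup G} (hA : Group.IsNilpotent A)
    (hd : p ∣ Nat.card A) : nilPart p A ≠ ⊥ := fun e => by
  have h := card_nilPart (p := p) hA
  rw [e, Subgroup.card_bot] at h
  exact (Nat.one_lt_pow (hp.out.factorization_pos_of_dvd Nat.card_pos.ne' hd).ne' hp.out.one_lt).ne h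

omit [Finite G] in
theorem conj_smul_nilPart_of_mem {p : ℕ} {A : Subgroup G} {a : G}
    (ha : a ∈ Subgroup.normalizer (A : Set G)) :
    ∀ x ∈ nilPart p A, a * x * a⁻¹ ∈ nilPart p A := by
  rintro _ ⟨y, hy, rfl⟩
  let φ : A ≃* A :=
    { toFun := fun z => ⟨a * z * a⁻¹, (Subgroup.mem_normalizer_iff.1 ha z).1 z.2⟩
      invFun := fun z => ⟨a⁻¹ * z * a, (Subgroup.mem_normalizer_iff.1 ha _).2 (by
        simpa [mul_assoc] using z.2)⟩
      left_inv := fun z => Subtype.ext (by simp [mul_assoc])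
      right_inv := fun z => Subtype.ext (by simp [mul_assoc])
      map_mul' := fun z w => Subtype.ext (by simp [mul_assoc]) }
  exact ⟨φ y, (CfsgLib.Cores.map_pCore_equiv φ).le ⟨y, hy, rfl⟩, rfl⟩

theorem normalizer_le_normalizer_nilPart (p : ℕ) (A : Subgroup G) :
    Subgroup.normalizer (A : Set G) ≤ Subgroup.normalizer (nilPart p A : Set G) :=
  fun _ ha => mem_normalizer_of_conj_mem (conj_smul_nilPart_of_mem ha)

theorem commute_nilPart {p q : ℕ} [hp : Fact p.Prime] [hq : Fact q.Prime] {A : Subgroup G}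
    (hA : Group.IsNilpotent A) (hpq : p ≠ q) {x y : G} (hx : x ∈ nilPart p A) (hy : y ∈ nilPart q A) :
    x * y = y * x := by
  refine CfsgLib.OddLocal.commute_of_mem_nilpotent hA (nilPart_le hx) (nilPart_le hy) ?_
  obtain ⟨i, hi⟩ := orderOf_mem_nilPart hx
  obtain ⟨j, hj⟩ := orderOf_mem_nilPart hy
  rw [hi, hj]
  exact ((Nat.coprime_primes hp.out hq.out).2 hpq).pow i j

/-- A nilpotent subgroup is generated by its primary parts. -/
theorem le_of_nilPart_le {A X : Subgroup G} (hA : Group.IsNilpotent A)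
    (h : ∀ p : ℕ, p.Prime → p ∣ Nat.card A → nilPart p A ≤ X) : A ≤ X := by
  refine Subgroup.subgroupOf_eq_top.1 (eq_top_of_sylow_le fun p hp => ?_)
  haveI : Fact p.Prime := ⟨hp⟩
  obtain ⟨P⟩ := (inferInstance : Nonempty (Sylow p A))
  refine ⟨P, fun x hx => ?_⟩
  by_cases hd : p ∣ Nat.card A
  · refine h p hp hd ?_
    rw [nilPart, pCore_eq_sylow_of_nilpotent hA P]
    exact Subgroup.mem_map_of_mem _ hx
  · have : (P : Subgroup A) = ⊥ := Subgroup.card_eq_one.1
      (by rw [P.card_eq_multiplicity, Nat.factorization_eq_zero_of_not_dvd hd, pow_zero])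
    rw [this, Subgroup.mem_bot] at hx
    subst hx
    exact one_mem _

/-- An element of a primary part central there is central in the whole nilpotent subgroup. -/
theorem commute_of_central_nilPart {p : ℕ} [Fact p.Prime] {A : Subgroup G} (hA : Group.IsNilpotent A)
    {z : G} (hz : z ∈ nilPart p A) (hc : ∀ x ∈ nilPart p A, x * z = z * x) :
    ∀ x ∈ A, x * z = z * x := by
  have : A ≤ Subgroup.centralizer {z} := le_of_nilPart_le hA fun q hq _ x hx => by
    haveI : Fact q.Prime := ⟨hq⟩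
    refine Subgroup.mem_centralizer_iff.2 fun w hw => ?_
    obtain rfl := Set.mem_singleton_iff.1 hw
    by_cases hqp : q = p
    · subst hqp; exact (hc x hx).symm
    · exact (commute_nilPart hA hqp hx hz).symm
  exact fun x hx => (Subgroup.mem_centralizer_iff.1 (this hx) z rfl).symm

/-- Every nontrivial normal subgroup of the `p`-part contains a central element of order `p`. -/
theorem exists_central_orderOf_eq {p : ℕ} [hp : Fact p.Prime] {A N : Subgroup G}
    (hA : Group.IsNilpotent A) (hN : N ≤ nilPart p A)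
    (hNn : nilPart p A ≤ Subgroup.normalizer (N : Set G)) (hNb : N ≠ ⊥) :
    ∃ z ∈ N, orderOf z = p ∧ ∀ x ∈ A, x * z = z * x := by
  set P := nilPart p A
  haveI : Group.IsNilpotent P := (isPGroup_nilPart (p := p) (A := A)).isNilpotent
  haveI : (N.subgroupOf P).Normal := (Subgroup.normal_subgroupOf_iff_le_normalizer hN).2 hNn
  have h1 : N.subgroupOf P ⊓ Subgroup.center P ≠ ⊥ := inf_center_ne_bot_of_isNilpotent
    (by rw [Ne, Subgroup.subgroupOf_eq_bot, disjoint_iff, inf_eq_left.2 hN]; exact hNb)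
  obtain ⟨x, hx, hx1⟩ := (Subgroup.bot_or_exists_ne_one _).resolve_left h1
  obtain ⟨i, hi⟩ := IsPGroup.iff_orderOf.1 (isPGroup_nilPart (p := p) (A := A)) x
  have hd : p ∣ orderOf x := by
    rw [hi]
    refine dvd_pow_self p fun e => hx1 ?_
    rw [← orderOf_eq_one_iff, hi, e, pow_zero]
  set z := x ^ (orderOf x / p) with hz
  have hzo : orderOf z = p := orderOf_pow_orderOf_div (orderOf_pos x).ne' hd
  have hzm : z ∈ N.subgroupOf P ⊓ Subgroup.center P := pow_mem hx _
  refine ⟨z, hzm.1, (Subgroup.orderOf_coe z).trans hzo,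
    commute_of_central_nilPart hA z.2 fun w hw => ?_⟩
  exact congrArg Subtype.val (Subgroup.mem_center_iff.1 hzm.2 ⟨w, hw⟩)

theorem exists_central_of_prime_dvd {p : ℕ} [Fact p.Prime] {A : Subgroup G}
    (hA : Group.IsNilpotent A) (hd : p ∣ Nat.card A) :
    ∃ z ∈ A, orderOf z = p ∧ ∀ x ∈ A, x * z = z * x := by
  obtain ⟨z, hz, h1, h2⟩ := exists_central_orderOf_eq hA le_rfl Subgroup.le_normalizer
    (nilPart_ne_bot (p := p) hA hd)
  exact ⟨z, nilPart_le hz, h1, h2⟩

theorem card_sup_dvd_of_le_normalizer {A X : Subgroup G} (h : X ≤ Subgroup.normalizer (A : Set G)) :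
    Nat.card (A ⊔ X : Subgroup G) ∣ Nat.card A * Nat.card X := by
  set N := Subgroup.normalizer (A : Set G)
  have hAN : A ≤ N := Subgroup.le_normalizer
  haveI : (A.subgroupOf N).Normal := Subgroup.normal_in_normalizer
  have h1 := CfsgLib.Cores.card_sup_dvd_mul (A.subgroupOf N) (X.subgroupOf N)
  rw [← Subgroup.subgroupOf_sup hAN h,
    Nat.card_congr (Subgroup.subgroupOfEquivOfLe (sup_le hAN h)).toEquiv,
    Nat.card_congr (Subgroup.subgroupOfEquivOfLe hAN).toEquiv,
    Nat.card_congr (Subgroup.subgroupOfEquivOfLe h).toEquiv] at h1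
  exact h1

/-- In a subgroup with a complementary pair of orders, a normalised pair collapses. -/
theorem le_of_coprime_of_normalizes {A X L : Subgroup G} {b : ℕ} (hAL : A ≤ L) (hXL : X ≤ L)
    (hL : Nat.card L ∣ Nat.card A * b) (hX : (Nat.card X).Coprime b)
    (hA : (Nat.card A).Coprime b)
    (hn : X ≤ Subgroup.normalizer (A : Set G) ∨ A ≤ Subgroup.normalizer (X : Set G)) : X ≤ A := by
  have h1 : Nat.card (A ⊔ X : Subgroup G) ∣ Nat.card A * Nat.card X := by
    rcases hn with hn | hn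
    · exact card_sup_dvd_of_le_normalizer hn
    · rw [sup_comm, mul_comm]; exact card_sup_dvd_of_le_normalizer hn
  have h2 : (Nat.card (A ⊔ X : Subgroup G)).Coprime b :=
    Nat.Coprime.coprime_dvd_left h1 (Nat.Coprime.mul_left hA hX)
  have h3 := h2.dvd_of_dvd_mul_right ((Subgroup.card_dvd_of_le (sup_le hAL hXL)).trans hL)
  rw [Subgroup.eq_of_le_of_card_ge (le_sup_left : A ≤ A ⊔ X) (Nat.le_of_dvd Nat.card_pos h3)]
  exact le_sup_right

end CfsgLib.Solvable
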