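import Mathlib

/-!
Arithmetic for the Hall–Higman exceptional case: orders of `2` modulo powers of `p` when
`p ^ m = 2 ^ l + 1`, and small facts on cyclic actions of prime-power order.
-/

set_option autoImplicit false

namespace CfsgLib.Solvable

theorem pow_mul_dvd_of_exceptional {p m l s e : ℕ} [hp : Fact p.Prime] (hp2 : p ≠ 2) (hl : 0 < l)
    (hm : 0 < m) (hpm : p ^ m = 2 ^ l + 1) (he : p ^ (m + s) ∣ 2 ^ e - 1) :
    p ^ s * (2 * l) ∣ e := by
  have hp3 : 3 ≤ p := by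
    have := hp.out.two_le
    omega
  have h2l : 2 ≤ 2 ^ l := Nat.le_self_pow hl.ne' 2
  have hprod : 2 ^ (2 * l) - 1 = p ^ m * (2 ^ l - 1) := by
    have h2 : 2 ^ (2 * l) = 2 ^ l * 2 ^ l := by rw [two_mul, pow_add]
    obtain ⟨c, hc⟩ : ∃ c, 2 ^ l = c + 1 := ⟨2 ^ l - 1, by omega⟩
    rw [h2, hpm, hc, Nat.add_sub_cancel]
    have : (c + 1) * (c + 1) = (c + 1 + 1) * c + 1 := by ring
    omega
  have hmod : ∀ a : ℕ, p ^ m ∣ 2 ^ a - 1 ↔ (2 : ZMod (p ^ m)) ^ a = 1 := by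
    intro a
    rw [← ZMod.natCast_eq_zero_iff, Nat.cast_sub Nat.one_le_two_pow, sub_eq_zero]
    simp
  have hpow : (2 : ZMod (p ^ m)) ^ (2 * l) = 1 := (hmod _).1 (hprod ▸ dvd_mul_right _ _)
  have ho : orderOf (2 : ZMod (p ^ m)) = 2 * l := by
    set o := orderOf (2 : ZMod (p ^ m))
    obtain ⟨c, hc⟩ : o ∣ 2 * l := orderOf_dvd_of_pow_eq_one hpow
    have ho0 : 0 < o := by
      rcases Nat.eq_zero_or_pos o with h | h
      · rw [h, zero_mul] at hc; omega
      · exact h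
    have hnd : ∀ a, 0 < a → a ≤ l → ¬ p ^ m ∣ 2 ^ a - 1 := by
      intro a ha hal hd
      have h1 : 2 ^ a ≤ 2 ^ l := Nat.pow_le_pow_right (by norm_num) hal
      have h2 : 2 ≤ 2 ^ a := Nat.le_self_pow ha.ne' 2
      have h3 := Nat.le_of_dvd (by omega) hd
      omega
    by_contra hne
    have hc2 : 2 ≤ c := by
      rcases c with _ | _ | c
      · omega
      · omega
      · omega
    refine hnd o ho0 ?_ ((hmod o).2 (pow_orderOf_eq_one _))
    have : o * 2 ≤ o * c := Nat.mul_le_mul_left o hc2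
    omega
  have he' : p ^ m ∣ 2 ^ e - 1 := (pow_dvd_pow p (Nat.le_add_right m s)).trans he
  obtain ⟨j, rfl⟩ : 2 * l ∣ e := ho ▸ orderOf_dvd_of_pow_eq_one ((hmod e).1 he')
  rcases Nat.eq_zero_or_pos j with rfl | hj
  · simp
  have hnd : ¬ p ∣ 2 ^ l - 1 := by
    intro hd
    have h1 : p ∣ 2 ^ l + 1 := hpm ▸ dvd_pow_self p hm.ne'
    have h2 : p ∣ 2 := by
      have h3 := Nat.dvd_sub h1 hd
      have : 2 ^ l + 1 - (2 ^ l - 1) = 2 := by omega
      rwa [this] at h3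
    have := Nat.le_of_dvd two_pos h2
    omega
  have h2 : ¬ p ∣ 2 ^ (2 * l) := fun h => by
    have := Nat.le_of_dvd two_pos (hp.out.dvd_of_dvd_pow h)
    omega
  have hodd : Odd p := hp.out.odd_of_ne_two hp2
  have hdvd1 : p ∣ 2 ^ (2 * l) - 1 := by
    rw [hprod]
    exact (dvd_pow_self p hm.ne').trans (dvd_mul_right _ _)
  have hlt : 1 < 2 ^ (2 * l) := Nat.one_lt_pow (by omega) (by norm_num)
  have hv := padicValNat.pow_sub_pow (p := p) hodd hlt hdvd1 h2 (n := j) hj.ne'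
  rw [one_pow] at hv
  have hv1 : padicValNat p (2 ^ (2 * l) - 1) = m := by
    rw [hprod, padicValNat.mul (pow_ne_zero _ hp.out.ne_zero) (by omega),
      padicValNat.prime_pow, padicValNat.eq_zero_of_not_dvd hnd, add_zero]
  rw [hv1] at hv
  rw [pow_mul] at he
  have hne : (2 ^ (2 * l)) ^ j - 1 ≠ 0 := by
    have : 1 < (2 ^ (2 * l)) ^ j := Nat.one_lt_pow hj.ne' hlt
    omega
  have h4 := (padicValNat_dvd_iff_le hne).1 he
  rw [hv] at h4
  have h5 : p ^ s ∣ j := (padicValNat_dvd_iff_le hj.ne').2 (by omega)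
  obtain ⟨c, rfl⟩ := h5
  exact ⟨c, by ring⟩

/-- In a cyclic group of order `p ^ m`, every nontrivial power generates the power of order `p`. -/
theorem exists_mul_mod_prime_pow {p m j : ℕ} [hp : Fact p.Prime] (hj : 0 < j) (hjm : j < p ^ m) :
    ∃ i, j * i % p ^ m = p ^ (m - 1) % p ^ m := by
  obtain ⟨b, hb, hgcd⟩ := (Nat.dvd_prime_pow hp.out).1 (Nat.gcd_dvd_right j (p ^ m))
  have hbm : b < m := by
    refine (Nat.pow_lt_pow_iff_right hp.out.one_lt).1 ?_
    rw [← hgcd]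
    exact lt_of_le_of_lt (Nat.le_of_dvd hj (Nat.gcd_dvd_left _ _)) hjm
  obtain ⟨i, -, hi⟩ := Nat.exists_mul_mod_eq_gcd (n := j) (k := p ^ m)
    (hgcd ▸ Nat.pow_lt_pow_right hp.out.one_lt hbm)
  refine ⟨i * p ^ (m - 1 - b), ?_⟩
  rw [← mul_assoc, Nat.mul_mod, hi, hgcd, Nat.mul_mod_mod]
  congr 1
  rw [← pow_add]
  congr 1
  omega

/-- A permutation of order dividing `p ^ n` whose power of order `p` fixes only `x₀`. -/
theorem pow_dvd_card_sub_one {X : Type*} [Finite X] {p n : ℕ} [hp : Fact p.Prime]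
    (g : Equiv.Perm X) (hg : g ^ (p ^ n) = 1) (x₀ : X) (hx₀ : g x₀ = x₀)
    (hfix : ∀ x, (g ^ (p ^ (n - 1))) x = x → x = x₀) : p ^ n ∣ Nat.card X - 1 := by
  classical
  letI := Fintype.ofFinite X
  rcases Nat.eq_zero_or_pos n with rfl | hn
  · simp
  have hiff : ∀ (h : Subgroup.zpowers g) (x : X), (h : Equiv.Perm X) x = x₀ ↔ x = x₀ := by
    rintro ⟨_, z, rfl⟩ x
    have hfx : ∀ z : ℤ, (g ^ z) x₀ = x₀ := fun z =>
      Equiv.Perm.zpow_apply_eq_self_of_apply_eq_self hx₀ z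
    constructor
    · intro h
      exact (g ^ z).injective (h.trans (hfx z).symm)
    · rintro rfl
      exact hfx z
  letI act : MulAction (Subgroup.zpowers g) {x : X // x ≠ x₀} :=
    { smul := fun h x => ⟨(h : Equiv.Perm X) x.1, fun e => x.2 ((hiff h x.1).1 e)⟩
      one_smul := fun x => Subtype.ext rfl
      mul_smul := fun a b x => Subtype.ext rfl }
  by_cases hτ : g ^ (p ^ (n - 1)) = 1
  · have : ∀ x : X, x = x₀ := fun x => hfix x (by rw [hτ]; rfl)
    have h1 : Nat.card X = 1 :=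
      Nat.card_eq_one_iff_unique.2 ⟨⟨fun a b => (this a).trans (this b).symm⟩, ⟨x₀⟩⟩
    rw [h1]; simp
  have hord : orderOf g = p ^ n := by
    have := orderOf_eq_prime_pow (p := p) (x := g) (n := n - 1) (hnot := hτ)
      (hfin := by rw [Nat.sub_add_cancel hn]; exact hg)
    rwa [Nat.sub_add_cancel hn] at this
  have hstab : ∀ x : {x : X // x ≠ x₀}, MulAction.stabilizer (Subgroup.zpowers g) x = ⊥ := by
    intro x
    rw [Subgroup.eq_bot_iff_forall]
    rintro ⟨h, hh⟩ hhx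
    obtain ⟨i, hi⟩ := (isOfFinOrder_of_finite g).mem_zpowers_iff_mem_range_orderOf.1 hh |>
      Finset.mem_image.1
    obtain ⟨hi, rfl⟩ := hi
    rw [Finset.mem_range, hord] at hi
    refine Subtype.ext ?_
    show g ^ i = 1
    rcases Nat.eq_zero_or_pos i with rfl | hi0
    · exact pow_zero g
    exfalso
    obtain ⟨c, hc⟩ := exists_mul_mod_prime_pow hi0 hi
    have hfx : (g ^ i) x.1 = x.1 := congrArg Subtype.val hhx
    have hfc : ((g ^ i) ^ c) x.1 = x.1 := Equiv.Perm.pow_apply_eq_self_of_apply_eq_self hfx c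
    rw [← pow_mul, pow_eq_pow_mod (i * c) hg, hc, ← pow_eq_pow_mod _ hg] at hfc
    exact x.2 (hfix _ hfc)
  have h1 := Nat.card_congr (MulAction.selfEquivOrbitsQuotientProd hstab)
  rw [Nat.card_prod, Nat.card_zpowers, hord] at h1
  have h2 : Nat.card {x : X // x ≠ x₀} = Nat.card X - 1 := by
    simp [Nat.card_eq_fintype_card, Fintype.card_subtype_compl]
  exact ⟨_, (h2.symm.trans h1).trans (mul_comm _ _)⟩

end CfsgLib.Solvable
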