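import Cfsg.Agent.Lib.Solvable.HallHigmanComponent
import Cfsg.Agent.Lib.Solvable.HallHigmanArith

/-!
The Hall–Higman–Shult theorem for a fixed-point-free automorphism of odd prime-power order: if
`σ` has order dividing `p ^ n`, `p` odd, fixes no element of the `q`-group `Q`, and a linear operator
without fixed vectors intertwines a representation of `Q` with its `σ`-twist, then
`σ ^ (p ^ (n - 1))` acts trivially in the representation.
-/

set_option autoImplicit false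

open scoped commutatorElement

namespace CfsgLib.Solvable

universe u v w

theorem pow_apply_fixed {G : Type*} [Group G] {φ : MulAut G} {x : G} (h : φ x = x) :
    ∀ i : ℕ, (φ ^ i) x = x := by
  intro i
  induction i with
  | zero => rfl
  | succ i ih => rw [pow_succ', MulAut.mul_apply, ih, h]

theorem pow_apply_mul_fixed {G : Type*} [Group G] {φ : MulAut G} {x z : G} (h : φ x = x * z)
    (hz : φ z = z) : ∀ i : ℕ, (φ ^ i) x = x * z ^ i := by
  intro i
  induction i with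
  | zero => simp
  | succ i ih => rw [pow_succ', MulAut.mul_apply, ih, map_mul, map_pow, h, hz, pow_succ', mul_assoc]

theorem eq_one_of_pow_eq_one_of_pGroup {Q : Type*} [Group Q] {p q : ℕ} [hp : Fact p.Prime]
    [hq : Fact q.Prime] (hQ : IsPGroup q Q) (hqp : q ≠ p) {z : Q} {j : ℕ} (hz : z ^ (p ^ j) = 1) :
    z = 1 := by
  obtain ⟨i, hi⟩ := IsPGroup.iff_orderOf.1 hQ z
  have h1 : orderOf z ∣ p ^ j := orderOf_dvd_of_pow_eq_one hz
  rw [hi] at h1
  have h2 : (q ^ i).Coprime (p ^ j) := Nat.coprime_pow_primes _ _ hq.out hp.out hqp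
  rw [← orderOf_eq_one_iff, hi]
  exact Nat.eq_one_of_dvd_coprimes h2 dvd_rfl h1

/-- Facts on a minimal `q`-group moved by a power of a fixed-point-free automorphism. -/
theorem minimal_moved_structure {Q : Type u} [Group Q] [Finite Q] {p q n : ℕ} [Fact p.Prime]
    [Fact q.Prime] (hqp : q ≠ p) (hQ : IsPGroup q Q) (σ : MulAut Q) (hn : 0 < n)
    (hσ : σ ^ (p ^ n) = 1)
    (hsub : ∀ H : Subgroup Q, H ≠ ⊤ → (∀ x ∈ H, σ x ∈ H) →
      ∀ x ∈ H, (σ ^ (p ^ (n - 1))) x = x)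
    (hmoved : ∃ x, (σ ^ (p ^ (n - 1))) x ≠ x) :
    ∃ C : Subgroup Q, C ≤ Subgroup.center Q ∧ (∀ x ∈ C, σ x ∈ C) ∧ C ≠ ⊤ ∧
      (∀ x y : Q, ⁅x, y⁆ ∈ C) ∧ (∀ x, x ∈ C ↔ (σ ^ (p ^ (n - 1))) x = x) ∧
      (∀ x, x⁻¹ * (σ ^ (p ^ (n - 1))) x ∈ C → x ∈ C) ∧
      Subgroup.closure (Set.range fun x : Q => x⁻¹ * (σ ^ (p ^ (n - 1))) x) = ⊤ := by
  set τ := σ ^ (p ^ (n - 1)) with hτ
  have hτp : τ ^ p = 1 := by
    rw [hτ, ← pow_mul, ← pow_succ, Nat.sub_add_cancel hn]; exact hσ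
  have hcomm : ∀ x, σ (τ x) = τ (σ x) := fun x => by
    rw [← MulAut.mul_apply, ← MulAut.mul_apply, hτ, (Commute.self_pow σ _).eq]
  have hstep : ∀ x z : Q, τ x = x * z → τ z = z → z = 1 := by
    intro x z h hz
    refine eq_one_of_pow_eq_one_of_pGroup (p := p) (j := 1) hQ hqp ?_
    have h1 := pow_apply_mul_fixed h hz p
    rw [hτp] at h1
    rw [pow_one]
    exact (left_eq_mul.1 h1)
  have hgen : Subgroup.closure (Set.range fun x : Q => x⁻¹ * τ x) = ⊤ := by
    by_contra hne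
    have hinv : ∀ x ∈ Subgroup.closure (Set.range fun x : Q => x⁻¹ * τ x),
        σ x ∈ Subgroup.closure (Set.range fun x : Q => x⁻¹ * τ x) := by
      suffices Subgroup.closure (Set.range fun x : Q => x⁻¹ * τ x) ≤
          (Subgroup.closure (Set.range fun x : Q => x⁻¹ * τ x)).comap σ.toMonoidHom from
        fun x hx => this hx
      rw [Subgroup.closure_le]
      rintro _ ⟨x, rfl⟩
      refine Subgroup.subset_closure ⟨σ x, ?_⟩
      simp only [MulEquiv.coe_toMonoidHom, map_mul, map_inv, hcomm]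
    obtain ⟨x, hx⟩ := hmoved
    refine hx ?_
    have h1 := hstep x (x⁻¹ * τ x) (by rw [mul_inv_cancel_left])
      (hsub _ hne hinv _ (Subgroup.subset_closure ⟨x, rfl⟩))
    exact (inv_mul_eq_one.1 h1).symm
  let C : Subgroup Q :=
    { carrier := {x | τ x = x}
      one_mem' := map_one τ
      mul_mem' := fun {a b} (ha : τ a = a) (hb : τ b = b) => by
        show τ (a * b) = a * b
        rw [map_mul, ha, hb]
      inv_mem' := fun {a} (ha : τ a = a) => by
        show τ a⁻¹ = a⁻¹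
        rw [map_inv, ha] }
  have hCmem : ∀ x, x ∈ C ↔ τ x = x := fun x => Iff.rfl
  have hCσ : ∀ x ∈ C, σ x ∈ C := fun x hx => by
    rw [hCmem] at hx ⊢
    rw [← hcomm, hx]
  have hCtop : C ≠ ⊤ := fun h => by
    obtain ⟨x, hx⟩ := hmoved
    exact hx ((hCmem x).1 (h ▸ Subgroup.mem_top x))
  haveI : Nontrivial Q := by
    obtain ⟨x, hx⟩ := hmoved
    exact ⟨⟨τ x, x, hx⟩⟩
  haveI : Group.IsSolvable Q := by
    haveI := hQ.isNilpotent
    infer_instance
  have hDC : ∀ x y : Q, ⁅x, y⁆ ∈ C := by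
    intro x y
    refine (hCmem _).2 (hsub (commutator Q)
      (Group.IsSolvable.commutator_lt_top_of_nontrivial Q).ne (fun z hz => ?_) _
      (Subgroup.commutator_mem_commutator (Subgroup.mem_top x) (Subgroup.mem_top y)))
    have : (commutator Q).map σ.toMonoidHom ≤ commutator Q :=
      (Subgroup.map_commutator ⊤ ⊤ _).trans_le (Subgroup.commutator_mono le_top le_top)
    exact this ⟨z, hz, rfl⟩
  have hgencent : ∀ c : Q, (∀ x, Commute (x⁻¹ * τ x) c) → c ∈ Subgroup.center Q := by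
    intro c hc
    have h1 : Subgroup.closure (Set.range fun x : Q => x⁻¹ * τ x) ≤
        Subgroup.centralizer {c} := by
      rw [Subgroup.closure_le]
      rintro _ ⟨x, rfl⟩
      exact Subgroup.mem_centralizer_singleton_iff.2 (hc x).eq
    rw [hgen] at h1
    exact Subgroup.mem_center_iff.2 fun g =>
      Subgroup.mem_centralizer_singleton_iff.1 (h1 (Subgroup.mem_top g))
  have hDcent : ∀ x y : Q, ⁅x, y⁆ ∈ Subgroup.center Q := by
    intro a b
    refine hgencent _ fun x => ?_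
    set d := ⁅a, b⁆
    have hd : τ d = d := (hCmem d).1 (hDC a b)
    have h1 : τ (x * d * x⁻¹) = x * d * x⁻¹ := by
      have e : x * d * x⁻¹ = ⁅x * a * x⁻¹, x * b * x⁻¹⁆ := by
        simp only [d, commutatorElement_def]; group
      rw [e]; exact (hCmem _).1 (hDC _ _)
    rw [map_mul, map_mul, map_inv, hd] at h1
    calc x⁻¹ * τ x * d = x⁻¹ * (τ x * d * (τ x)⁻¹) * τ x := by group
      _ = x⁻¹ * (x * d * x⁻¹) * τ x := by rw [h1]
      _ = d * (x⁻¹ * τ x) := by group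
  refine ⟨C, fun c hc => hgencent c fun x => ?_, hCσ, hCtop, hDC, hCmem, fun x hx => ?_, hgen⟩
  · have hc' : τ c = c := hc
    set z := x⁻¹ * τ x
    have h1 : τ ⁅x, c⁆ = ⁅x, c⁆ := (hCmem _).1 (hDC x c)
    rw [map_commutatorElement, hc', show τ x = x * z by simp [z]] at h1
    have h2 : ⁅x * z, c⁆ = ⁅z, c⁆ * ⁅x, c⁆ := by
      calc ⁅x * z, c⁆ = x * ⁅z, c⁆ * x⁻¹ * ⁅x, c⁆ := by simp only [commutatorElement_def]; group
        _ = _ := by rw [Subgroup.mem_center_iff.1 (hDcent z c) x, mul_inv_cancel_right]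
    rw [h2, mul_eq_right] at h1
    exact commutatorElement_eq_one_iff_commute.1 h1
  · rw [hCmem] at hx ⊢
    have h1 := hstep x (x⁻¹ * τ x) (by rw [mul_inv_cancel_left]) hx
    exact (inv_mul_eq_one.1 h1).symm

set_option maxHeartbeats 1000000 in
theorem hall_higman_cyclic_aux {k : Type v} [Field k] [IsAlgClosed k] {V : Type w} [AddCommGroup V]
    [Module k V] [FiniteDimensional k V] {p q n : ℕ} [hp : Fact p.Prime] [hq : Fact q.Prime]
    (hp2 : p ≠ 2) (hqp : q ≠ p) (hqk : (q : k) ≠ 0) (hpk : (p : k) ≠ 0) :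
    ∀ (c : ℕ) {Q : Type u} [Group Q] [Finite Q], Nat.card Q = c → IsPGroup q Q →
      ∀ (σ : MulAut Q), σ ^ (p ^ n) = 1 → (∀ x, σ x = x → x = 1) →
      ∀ (ρ : Q →* Module.End k V), Function.Injective ρ → ∀ (S : Module.End k V),
        (∀ x, S * ρ x = ρ (σ x) * S) → S ^ (p ^ n) = 1 → (∀ v, S v = v → v = 0) →
        ∀ x, (σ ^ (p ^ (n - 1))) x = x := by
  intro c
  induction c using Nat.strong_induction_on with
  | _ c ih =>
  intro Q _ _ hc hQ σ hσ hfpf ρ hinj S hS hSn hfix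
  classical
  rcases Nat.eq_zero_or_pos n with rfl | hn
  · intro x
    rw [pow_zero, pow_one] at hσ
    simp [hσ]
  by_contra hmoved
  push Not at hmoved
  have hsub : ∀ H : Subgroup Q, H ≠ ⊤ → (∀ x ∈ H, σ x ∈ H) →
      ∀ x ∈ H, (σ ^ (p ^ (n - 1))) x = x := by
    intro H hH hHσ x hx
    obtain ⟨ψ, hψ⟩ := CfsgLib.FGS.exists_restrict_mulAut σ hHσ
    have hlt : Nat.card H < c := by
      rw [← hc]
      exact lt_of_le_of_ne (Subgroup.card_le_card_group H) fun h => hH (Subgroup.eq_top_of_card_eq H h)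
    have h := ih _ hlt (Q := H) rfl (hQ.to_subgroup H) ψ
      (MulEquiv.ext fun y => Subtype.ext (by rw [hψ, hσ]; rfl))
      (fun y hy => Subtype.ext (hfpf y (by
        have h1 := hψ 1 y
        rw [pow_one, pow_one, hy] at h1
        exact h1.symm)))
      (ρ.comp H.subtype) (hinj.comp Subtype.val_injective) S (fun y => by
        have h1 := hψ 1 y
        rw [pow_one, pow_one] at h1
        show S * ρ y = ρ (ψ y : H) * S
        rw [h1]; exact hS y) hSn hfix ⟨x, hx⟩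
    have h1 := congrArg Subtype.val h
    rwa [hψ] at h1
  obtain ⟨C, hCcent, hCσ, hCtop, hDC, hCmem, hCfpf, hgen⟩ :=
    minimal_moved_structure hqp hQ σ hn hσ hsub hmoved
  set τ := σ ^ (p ^ (n - 1)) with hτ
  have hCnorm : C.Normal := ⟨fun x hx g => by
    rw [Subgroup.mem_center_iff.1 (hCcent hx) g, mul_inv_cancel_right]; exact hx⟩
  have hcomm : ∀ {a b : Q}, a ∈ C → Commute b a := fun ha => Subgroup.mem_center_iff.1 (hCcent ha) _
  letI : CommGroup C :=
    { (inferInstance : Group C) with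
      mul_comm := fun a b => Subtype.ext (hcomm b.2).eq }
  obtain ⟨φ, hφ⟩ := CfsgLib.FGS.exists_restrict_mulAut σ hCσ
  have hφ1 : ∀ x : C, ((φ x : C) : Q) = σ x := fun x => by
    have h1 := hφ 1 x
    rwa [pow_one, pow_one] at h1
  let ρC : C →* Module.End k V := ρ.comp C.subtype
  have hqpow : ∀ i : ℕ, ((q ^ i : ℕ) : k) ≠ 0 := fun i => by
    rw [Nat.cast_pow]; exact pow_ne_zero _ hqk
  have hcardk : ∀ (H : Subgroup Q), (Nat.card H : k) ≠ 0 := fun H => by
    obtain ⟨i, hi⟩ := (hQ.to_subgroup H).exists_card_eq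
    rw [hi]; exact hqpow i
  have hQk : (Nat.card Q : k) ≠ 0 := by
    obtain ⟨i, hi⟩ := hQ.exists_card_eq
    rw [hi]; exact hqpow i
  have hSC : ∀ u : C, S * ρC u = ρC (φ u) * S := fun u => by
    show S * ρ u = ρ ((φ u : C) : Q) * S
    rw [hφ1]; exact hS u
  -- a component on which `τ` acts nontrivially
  obtain ⟨x₀, hx₀⟩ := hmoved
  obtain ⟨χ, hχ⟩ : ∃ χ, charProj ρC χ * ρ (τ x₀) ≠ charProj ρC χ * ρ x₀ := by
    by_contra hcon
    push Not at hcon
    exact hx₀ (hinj (ext_charProj ρC (hcardk C) hcon))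
  set e := charProj ρC χ
  have hee : e * e = e := charProj_idem ρC (hcardk C) χ
  have hec : ∀ y, ρ y * e = e * ρ y := fun y => charProj_comm ρC χ fun u => by
    show ρ y * ρ (u : Q) = ρ (u : Q) * ρ y
    rw [← map_mul, ← map_mul, (hcomm u.2).eq]
  set W : Submodule k V := LinearMap.range e
  have hWe : ∀ w ∈ W, e w = w := by
    rintro _ ⟨w, rfl⟩
    rw [← Module.End.mul_apply, hee]
  have hWinv : ∀ y, ∀ w ∈ W, ρ y w ∈ W := by
    rintro y _ ⟨w, rfl⟩
    exact ⟨ρ y w, by rw [← Module.End.mul_apply, ← hec, Module.End.mul_apply]⟩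
  have hφn : φ ^ (p ^ n) = 1 := MulEquiv.ext fun u => Subtype.ext (by rw [hφ, hσ]; rfl)
  obtain ⟨a, han, hper, hne⟩ := exists_period φ hφn χ
  have hlt : a < n := by
    rcases han.lt_or_eq with h | rfl
    · exact h
    exfalso
    have he0 : e = 0 := LinearMap.ext fun v =>
      eq_zero_of_component ρC (hcardk C) φ hSC hfix (pow_pos hp.out.pos a) hne
        (hWe _ ⟨v, rfl⟩) (by rw [hSn]; rfl)
    exact hχ (by rw [he0, zero_mul, zero_mul])
  obtain ⟨m, rfl⟩ : ∃ m, n = a + (m + 1) := ⟨n - a - 1, by omega⟩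
  set M := m + 1 with hMdef
  have hτa : τ = (σ ^ p ^ a) ^ (p ^ (M - 1)) := by
    rw [hτ, ← pow_mul, ← pow_add]; congr 2
  set γ := σ ^ p ^ a with hγ
  set N := p ^ M with hNdef
  have hγN : γ ^ N = 1 := by rw [hγ, ← pow_mul, hNdef, ← pow_add]; exact hσ
  have hN0 : 0 < N := pow_pos hp.out.pos _
  have hNk : (N : k) ≠ 0 := by rw [hNdef, Nat.cast_pow]; exact pow_ne_zero _ hpk
  have hSpow : ∀ (i : ℕ) (y : Q), S ^ i * ρ y = ρ ((σ ^ i) y) * S ^ i := by
    intro i
    induction i with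
    | zero => intro y; simp
    | succ i ih' =>
      intro y
      calc S ^ (i + 1) * ρ y = S * (S ^ i * ρ y) := by rw [pow_succ', mul_assoc]
        _ = S * ρ ((σ ^ i) y) * S ^ i := by rw [ih', mul_assoc]
        _ = ρ (σ ((σ ^ i) y)) * S * S ^ i := by rw [hS]
        _ = ρ ((σ ^ (i + 1)) y) * S ^ (i + 1) := by rw [mul_assoc, ← pow_succ', pow_succ' σ]; rfl
  have hSe : S ^ (p ^ a) * e = e * S ^ (p ^ a) := by
    have h := charProj_semiconj ρC (φ ^ p ^ a) (semiconj_pow ρC φ hSC (p ^ a)) χ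
    rwa [hper] at h
  have hSW : ∀ w ∈ W, (S ^ (p ^ a)) w ∈ W := by
    rintro _ ⟨w, rfl⟩
    exact ⟨(S ^ (p ^ a)) w, by rw [← Module.End.mul_apply, ← hSe, Module.End.mul_apply]⟩
  set Γ : Module.End k W := (S ^ (p ^ a)).restrict hSW with hΓdef
  let ρW : Q →* Module.End k W :=
    { toFun := fun y => (ρ y).restrict (hWinv y)
      map_one' := LinearMap.ext fun w => Subtype.ext (by simp)
      map_mul' := fun y z => LinearMap.ext fun w => Subtype.ext (by
        rw [LinearMap.restrict_coe_apply, map_mul]; rfl) }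
  have hρW : ∀ y (w : W), ((ρW y w : W) : V) = ρ y w := fun y w => rfl
  have hΓρ : ∀ y, Γ * ρW y = ρW (γ y) * Γ := fun y => LinearMap.ext fun w => Subtype.ext
    (LinearMap.congr_fun (hSpow (p ^ a) y) (w : V))
  have hΓpow : ∀ (i : ℕ) (w : W), (((Γ ^ i) w : W) : V) = ((S ^ (p ^ a)) ^ i) (w : V) := by
    intro i
    induction i with
    | zero => intro w; rfl
    | succ i ih' =>
      intro w
      rw [pow_succ', pow_succ', Module.End.mul_apply, Module.End.mul_apply, ← ih']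
      rfl
  have hΓN : Γ ^ N = 1 := LinearMap.ext fun w => Subtype.ext (by
    rw [hΓpow, ← pow_mul, hNdef, ← pow_add, hSn]; rfl)
  have hfixW : ∀ w : W, Γ w = w → w = 0 := fun w hw => Subtype.ext
    (eq_zero_of_component ρC (hcardk C) φ hSC hfix (pow_pos hp.out.pos a) hne (hWe _ w.2)
      (congrArg Subtype.val hw))
  haveI : Nontrivial W := Submodule.nontrivial_iff_ne_bot.2 fun h => hχ (by
    have h0 : e = 0 := LinearMap.ext fun v => by
      have h1 : e v ∈ W := ⟨v, rfl⟩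
      rw [h, Submodule.mem_bot] at h1
      exact h1
    rw [h0, zero_mul, zero_mul])
  have hscal : ∀ u : C, ρW (u : Q) = ((χ u : kˣ) : k) • 1 := fun u => LinearMap.ext fun w =>
    Subtype.ext (by
      show ρ u (w : V) = ((χ u : kˣ) : k) • (w : V)
      conv_lhs => rw [← hWe _ w.2, ← Module.End.mul_apply]
      rw [show ρ (u : Q) * e = ((χ u : kˣ) : k) • e from apply_mul_charProj ρC χ u,
        LinearMap.smul_apply, hWe _ w.2])
  have hscalC : ∀ y ∈ C, ∃ c : k, ρW y = c • 1 := fun y hy => ⟨_, hscal ⟨y, hy⟩⟩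
  have hγC : ∀ y ∈ C, γ y ∈ C := fun y hy => CfsgLib.FGS.pow_apply_mem hCσ _ y hy
  have hΓinv : Γ * Γ ^ (N - 1) = 1 := by rw [← pow_succ', Nat.sub_add_cancel hN0, hΓN]
  have hγρC : ∀ y ∈ C, ρW (γ y) = ρW y := by
    intro y hy
    obtain ⟨c, hc⟩ := hscalC y hy
    calc ρW (γ y) = ρW (γ y) * Γ * Γ ^ (N - 1) := by rw [mul_assoc, hΓinv, mul_one]
      _ = Γ * ρW y * Γ ^ (N - 1) := by rw [hΓρ]
      _ = ρW y := by rw [hc, mul_smul_comm, mul_one, smul_mul_assoc, hΓinv]
  have hτC : ∀ y ∈ C, τ y = y := fun y hy => (hCmem y).1 hy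
  -- commutator pairing and its radical
  have hmulL : ∀ x x' y : Q, ⁅x * x', y⁆ = ⁅x', y⁆ * ⁅x, y⁆ := fun x x' y => by
    calc ⁅x * x', y⁆ = x * ⁅x', y⁆ * x⁻¹ * ⁅x, y⁆ := by simp only [commutatorElement_def]; group
      _ = _ := by rw [(hcomm (hDC x' y)).eq, mul_inv_cancel_right]
  have hmulR : ∀ x y y' : Q, ⁅x, y * y'⁆ = ⁅x, y⁆ * ⁅x, y'⁆ := fun x y y' => by
    calc ⁅x, y * y'⁆ = ⁅x, y⁆ * (y * ⁅x, y'⁆ * y⁻¹) := by simp only [commutatorElement_def]; group
      _ = _ := by rw [(hcomm (hDC x y')).eq, mul_inv_cancel_right]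
  let R : Subgroup Q :=
    { carrier := {x | ∀ y : Q, ρW ⁅x, y⁆ = 1}
      one_mem' := fun y => by rw [commutatorElement_one_left, map_one]
      mul_mem' := fun {a b} ha hb y => by rw [hmulL, map_mul, ha y, hb y, mul_one]
      inv_mem' := fun {a} ha y => by
        have h := congrArg ρW (hmulL a⁻¹ a y)
        rw [inv_mul_cancel, commutatorElement_one_left, map_one, map_mul, ha y, one_mul] at h
        exact h.symm }
  have hCR : ∀ y ∈ C, y ∈ R := fun y hy z => by
    rw [commutatorElement_eq_one_iff_commute.2 (hcomm hy).symm, map_one]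
  have hDR : ∀ x y : Q, ⁅x, y⁆ ∈ R := fun x y => hCR _ (hDC x y)
  haveI hRn : R.Normal := ⟨fun x hx g => by
    have e : g * x * g⁻¹ = ⁅g, x⁆ * x := by rw [commutatorElement_def]; group
    rw [e]; exact R.mul_mem (hDR g x) hx⟩
  have hnd : ∀ x : Q, x ∉ R → ∃ y : Q, ρW ⁅y, x⁆ ≠ 1 := fun x hx => by
    by_contra hcon
    push Not at hcon
    refine hx fun y => ?_
    have h := congrArg ρW (mul_inv_cancel ⁅x, y⁆)
    rw [map_mul, commutatorElement_inv, hcon y, mul_one, map_one] at h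
    exact h
  have hγR : ∀ x ∈ R, γ x ∈ R := fun x hx y => by
    obtain ⟨y, rfl⟩ := γ.surjective y
    rw [← map_commutatorElement, hγρC _ (hDC x y)]
    exact hx y
  have hγpowR : ∀ (i : ℕ), ∀ x ∈ R, (γ ^ i) x ∈ R := fun i =>
    CfsgLib.FGS.pow_apply_mem hγR i
  have hτR : ∀ x ∈ R, τ x ∈ R := fun x hx => by rw [hτa]; exact hγpowR _ x hx
  -- `R` acts by scalars
  obtain ⟨ψ, hψ⟩ := CfsgLib.FGS.exists_restrict_mulAut γ hγR
  have hkerR : commutator R ≤ (ρW.comp R.subtype).ker := by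
    rw [commutator_def, Subgroup.commutator_le]
    intro r _ r' _
    show ρW ((⁅r, r'⁆ : R) : Q) = 1
    exact r.2 r'
  let ρA : Abelianization R →* Module.End k W :=
    QuotientGroup.lift (commutator R) (ρW.comp R.subtype) hkerR
  have hρA : ∀ r : R, ρA (Abelianization.of r) = ρW r := fun r => rfl
  have hτρR : ∀ r ∈ R, ρW (τ r) = ρW r := by
    intro r hr
    let φA := ψ.abelianizationCongr
    have hφA : ∀ (i : ℕ) (s : R), (φA ^ i) (Abelianization.of s) = Abelianization.of ((ψ ^ i) s) := by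
      intro i
      induction i with
      | zero => intro s; rfl
      | succ i ih' =>
        intro s
        rw [pow_succ', pow_succ', MulAut.mul_apply, MulAut.mul_apply, ih']
        exact abelianizationCongr_of ψ _
    have hA : (Nat.card (Abelianization R) : k) ≠ 0 := fun h => hcardk R (by
      obtain ⟨d, hd⟩ : Nat.card (Abelianization R) ∣ Nat.card R :=
        Subgroup.card_quotient_dvd_card (commutator R)
      rw [hd, Nat.cast_mul, h, zero_mul])
    have hφAN : φA ^ (p ^ M) = 1 := MulEquiv.ext fun t => by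
      obtain ⟨s, rfl⟩ := QuotientGroup.mk_surjective t
      refine (hφA _ s).trans ?_
      have : (ψ ^ (p ^ M)) s = s := Subtype.ext (by rw [hψ, ← hNdef, hγN]; rfl)
      rw [this]; rfl
    have hSA : ∀ t, Γ * ρA t = ρA (φA t) * Γ := fun t => by
      obtain ⟨s, rfl⟩ := QuotientGroup.mk_surjective t
      have h1 : φA (Abelianization.of s) = Abelianization.of (ψ s) := by
        have := hφA 1 s
        rwa [pow_one, pow_one] at this
      show Γ * ρW s = ρA (φA (Abelianization.of s)) * Γ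
      rw [h1, hρA, hΓρ]
      have h2 := hψ 1 s
      rw [pow_one, pow_one] at h2
      rw [h2]
    have h := abelian_step ρA hA φA hSA hfixW hφAN hΓN (Abelianization.of ⟨r, hr⟩)
    rw [hφA, hρA, hρA, hψ, ← hτa] at h
    exact h
  have hRscal : ∀ r ∈ R, ∃ c : k, ρW r = c • 1 := by
    let C' := C.subgroupOf R
    have hmkR : ∀ r : R, ∃ u ∈ R, ∃ c ∈ C, (r : Q) = u⁻¹ * τ u * c := by
      let f : R ⧸ C' → R ⧸ C' := fun t =>
        QuotientGroup.mk (⟨(t.out : Q)⁻¹ * τ t.out,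
          R.mul_mem (R.inv_mem t.out.2) (hτR _ t.out.2)⟩ : R)
      have hf : Function.Injective f := by
        intro t t' h
        obtain ⟨c, hc, he⟩ : ∃ c ∈ C, (t'.out : Q)⁻¹ * τ t'.out = (t.out : Q)⁻¹ * τ t.out * c := by
          refine ⟨_, Subgroup.mem_subgroupOf.1 (QuotientGroup.eq.1 h), ?_⟩
          simp only [Subgroup.coe_mul, Subgroup.coe_inv]
          group
        set u := (t.out : Q) with hu
        set v := (t'.out : Q)
        have hw : (v * u⁻¹)⁻¹ * τ (v * u⁻¹) ∈ C := by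
          have e : (v * u⁻¹)⁻¹ * τ (v * u⁻¹) = u * (v⁻¹ * τ v) * (τ u)⁻¹ := by
            rw [map_mul, map_inv]; group
          rw [e, he]
          have e2 : u * (u⁻¹ * τ u * c) * (τ u)⁻¹ = τ u * c * (τ u)⁻¹ := by group
          rw [e2]
          exact hCnorm.conj_mem c hc _
        have h2 := hCfpf _ hw
        rw [← QuotientGroup.out_eq' t, ← QuotientGroup.out_eq' t', QuotientGroup.eq]
        show (u⁻¹ * v) ∈ C
        have h3 := hCnorm.conj_mem _ h2 u⁻¹
        rwa [show u⁻¹ * (v * u⁻¹) * u⁻¹⁻¹ = u⁻¹ * v by group] at h3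
      intro r
      obtain ⟨t, ht⟩ := (Finite.injective_iff_surjective.1 hf) (QuotientGroup.mk r)
      refine ⟨t.out, t.out.2, _, Subgroup.mem_subgroupOf.1 (QuotientGroup.eq.1 ht), ?_⟩
      simp only [Subgroup.coe_mul, Subgroup.coe_inv]
      group
    intro r hr
    obtain ⟨u, hu, c, hc, he⟩ := hmkR ⟨r, hr⟩
    obtain ⟨z, hz⟩ := hscalC c hc
    refine ⟨z, ?_⟩
    show ρW r = z • 1
    rw [show r = u⁻¹ * τ u * c from he, map_mul, map_mul, hτρR u hu, ← map_mul, inv_mul_cancel,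
      map_one, one_mul, hz]
  have hRtop : R ≠ ⊤ := by
    intro h
    apply hχ
    refine LinearMap.ext fun v => ?_
    have h1 := congrArg (fun T : Module.End k W => ((T ⟨e v, v, rfl⟩ : W) : V))
      (hτρR x₀ (h ▸ Subgroup.mem_top x₀))
    simp only [hρW] at h1
    rw [Module.End.mul_apply, Module.End.mul_apply]
    calc e (ρ (τ x₀) v) = ρ (τ x₀) (e v) := (LinearMap.congr_fun (hec (τ x₀)) v).symm
      _ = ρ x₀ (e v) := h1
      _ = e (ρ x₀ v) := LinearMap.congr_fun (hec x₀) v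
  -- semiregularity on `Q / R`
  have hτfpfR : ∀ x : Q, x⁻¹ * τ x ∈ R → x ∈ R := by
    intro x hx
    have key : ∀ y : Q, ρW ⁅x, y⁻¹ * τ y⁆ = 1 := by
      intro y
      have h1 : ρW ⁅τ x, τ y⁆ = ρW ⁅x, y⁆ := by
        rw [← map_commutatorElement, hτC _ (hDC x y)]
      have h2 : ∀ y' : Q, ρW ⁅τ x, y'⁆ = ρW ⁅x, y'⁆ := fun y' => by
        conv_lhs => rw [show τ x = x * (x⁻¹ * τ x) by group]
        rw [hmulL, map_mul, hx y', one_mul]
      have h3 : ρW ⁅x, τ y⁆ = ρW ⁅x, y⁆ := (h2 _).symm.trans h1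
      have h4 := congrArg ρW (hmulR x y (y⁻¹ * τ y))
      rw [mul_inv_cancel_left, map_mul, h3] at h4
      calc ρW ⁅x, y⁻¹ * τ y⁆ = ρW ⁅x, y⁆⁻¹ * (ρW ⁅x, y⁆ * ρW ⁅x, y⁻¹ * τ y⁆) := by
            rw [← mul_assoc, ← map_mul, inv_mul_cancel, map_one, one_mul]
        _ = 1 := by rw [← h4, ← map_mul, inv_mul_cancel, map_one]
    intro y
    let K : Subgroup Q :=
      { carrier := {y | ρW ⁅x, y⁆ = 1}
        one_mem' := by
          show ρW ⁅x, (1 : Q)⁆ = 1
          rw [commutatorElement_one_right, map_one]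
        mul_mem' := fun {a b} (ha : ρW ⁅x, a⁆ = 1) (hb : ρW ⁅x, b⁆ = 1) => by
          show ρW ⁅x, a * b⁆ = 1
          rw [hmulR, map_mul, ha, hb, one_mul]
        inv_mem' := fun {a} (ha : ρW ⁅x, a⁆ = 1) => by
          show ρW ⁅x, a⁻¹⁆ = 1
          have h := congrArg ρW (hmulR x a a⁻¹)
          rw [mul_inv_cancel, commutatorElement_one_right, map_one, map_mul, ha, one_mul] at h
          exact h.symm }
    have hK : Subgroup.closure (Set.range fun x : Q => x⁻¹ * τ x) ≤ K := by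
      rw [Subgroup.closure_le]
      rintro _ ⟨z, rfl⟩
      exact key z
    rw [hgen] at hK
    exact hK (Subgroup.mem_top y)
  have hsemi : ∀ x, x ∉ R → ∀ j, 0 < j → j < N → x⁻¹ * (γ ^ j) x ∉ R := by
    intro x hx j hj hjN hjR
    obtain ⟨i, hi⟩ := exists_mul_mod_prime_pow hj hjN
    have key : ∀ i : ℕ, x⁻¹ * ((γ ^ j) ^ i) x ∈ R := by
      intro i
      induction i with
      | zero => simp
      | succ i ih' =>
        rw [pow_succ', MulAut.mul_apply]
        have e : x⁻¹ * (γ ^ j) (((γ ^ j) ^ i) x) =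
            (x⁻¹ * (γ ^ j) x) * (γ ^ j) (x⁻¹ * ((γ ^ j) ^ i) x) := by
          rw [map_mul, map_inv]; group
        rw [e]
        exact R.mul_mem hjR (hγpowR j _ ih')
    refine hx (hτfpfR x ?_)
    have h := key i
    rw [← pow_mul, pow_eq_pow_mod (j * i) hγN, hNdef, hi, ← hNdef, ← pow_eq_pow_mod _ hγN,
      ← hτa] at h
    exact h
  -- an irreducible constituent
  obtain ⟨W₀, ⟨hW₀inv, hW₀ne⟩, hW₀min⟩ := (wellFounded_lt (α := Submodule k W)).has_min
    {U | (∀ y, ∀ w ∈ U, ρW y w ∈ U) ∧ U ≠ ⊥} ⟨⊤, fun y w _ => Submodule.mem_top, top_ne_bot⟩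
  haveI : Nontrivial W₀ := Submodule.nontrivial_iff_ne_bot.2 hW₀ne
  let ρ₀ : Q →* Module.End k W₀ :=
    { toFun := fun y => (ρW y).restrict (hW₀inv y)
      map_one' := LinearMap.ext fun w => Subtype.ext (by simp)
      map_mul' := fun y z => LinearMap.ext fun w => Subtype.ext (by
        rw [LinearMap.restrict_coe_apply, map_mul]; rfl) }
  have hirr : ∀ U : Submodule k W₀, (∀ y, ∀ w ∈ U, ρ₀ y w ∈ U) → U = ⊥ ∨ U = ⊤ := by
    intro U hU
    by_contra hcon
    push Not at hcon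
    refine hW₀min (U.map W₀.subtype) ⟨?_, fun h => hcon.1 ?_⟩ ?_
    · rintro y _ ⟨w, hw, rfl⟩
      exact ⟨ρ₀ y w, hU y w hw, rfl⟩
    · exact Submodule.map_injective_of_injective (Submodule.injective_subtype W₀)
        (h.trans (Submodule.map_bot _).symm)
    · refine lt_of_le_of_ne (Submodule.map_subtype_le _ _) fun h => hcon.2 ?_
      refine Submodule.map_injective_of_injective (Submodule.injective_subtype W₀) ?_
      rw [h, Submodule.map_top, Submodule.range_subtype]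
  have hsmul0 : ∀ (y : Q) (c : k), ρW y = c • 1 → ρ₀ y = c • 1 := fun y c h =>
    LinearMap.ext fun w => Subtype.ext (by
      show ρW y (w : W) = c • (w : W)
      rw [h]; rfl)
  have hR0 : ∀ r ∈ R, ∃ c : k, ρ₀ r = c • 1 := fun r hr => by
    obtain ⟨c, hc⟩ := hRscal r hr
    exact ⟨c, hsmul0 r c hc⟩
  have hnd0 : ∀ x : Q, x ∉ R → ∃ y : Q, ρ₀ ⁅y, x⁆ ≠ 1 := fun x hx => by
    obtain ⟨y, hy⟩ := hnd x hx
    obtain ⟨c, hc⟩ := hscalC _ (hDC y x)
    refine ⟨y, fun h => hy ?_⟩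
    rw [hsmul0 _ c hc] at h
    obtain ⟨w, hw⟩ := exists_ne (0 : W₀)
    have hc1 : c = 1 := smul_left_injective k hw
      (show c • w = (1 : k) • w by simpa using LinearMap.congr_fun h w)
    rw [hc, hc1, one_smul]
  have hγρR : ∀ r ∈ R, ρW (γ r) = ρW r := by
    intro r hr
    obtain ⟨c, hc⟩ := hRscal r hr
    calc ρW (γ r) = ρW (γ r) * Γ * Γ ^ (N - 1) := by rw [mul_assoc, hΓinv, mul_one]
      _ = Γ * ρW r * Γ ^ (N - 1) := by rw [hΓρ]
      _ = ρW r := by rw [hc, mul_smul_comm, mul_one, smul_mul_assoc, hΓinv]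
  have hγρ0 : ∀ r ∈ R, ρ₀ (γ r) = ρ₀ r := fun r hr => by
    obtain ⟨c, hc⟩ := hRscal r hr
    rw [hsmul0 r c hc, hsmul0 (γ r) c ((hγρR r hr).trans hc)]
  obtain ⟨Γ₀, hΓ₀, hΓ₀N⟩ := exists_intertwiner ρ₀ hR0 hDR hnd0 hirr γ hγR hγρ0 hN0 hγN
  -- `Γ₀` misses an eigenvalue
  let H : Submodule k (W₀ →ₗ[k] W) :=
    { carrier := {f | ∀ y (w : W₀), ρW y (f w) = f (ρ₀ y w)}
      add_mem' := fun {f g} hf hg y w => by simp [hf y w, hg y w]
      zero_mem' := fun y w => by simp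
      smul_mem' := fun c f hf y w => by simp [hf y w] }
  set Θ := Γ₀ ^ (N - 1) with hΘ
  have hΘ0 : Γ₀ * Θ = 1 := by rw [hΘ, ← pow_succ', Nat.sub_add_cancel hN0, hΓ₀N]
  have hΘ1 : Θ * Γ₀ = 1 := by rw [hΘ, ← pow_succ, Nat.sub_add_cancel hN0, hΓ₀N]
  have hΘρ : ∀ y, Θ * ρ₀ (γ y) = ρ₀ y * Θ := fun y => by
    calc Θ * ρ₀ (γ y) = Θ * (ρ₀ (γ y) * Γ₀) * Θ := by
          rw [mul_assoc Θ (ρ₀ (γ y) * Γ₀) Θ, mul_assoc (ρ₀ (γ y)), hΘ0, mul_one]
      _ = Θ * (Γ₀ * ρ₀ y) * Θ := by rw [hΓ₀]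
      _ = _ := by rw [← mul_assoc, hΘ1, one_mul]
  let L₀ : (W₀ →ₗ[k] W) →ₗ[k] (W₀ →ₗ[k] W) :=
    (LinearMap.llcomp k W₀ W W Γ).comp (LinearMap.lcomp k W Θ)
  have hL₀ : ∀ f w, L₀ f w = Γ (f (Θ w)) := fun f w => rfl
  have hLmem : ∀ f ∈ H, L₀ f ∈ H := by
    intro f hf y w
    obtain ⟨y, rfl⟩ := γ.surjective y
    rw [hL₀, hL₀, ← Module.End.mul_apply, ← hΓρ, Module.End.mul_apply, hf,
      ← Module.End.mul_apply (ρ₀ y) Θ, ← hΘρ, Module.End.mul_apply]
  have hH : Nontrivial H :=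
    ⟨⟨⟨W₀.subtype, fun y w => rfl⟩, 0, fun h => by
      obtain ⟨w, hw⟩ := exists_ne (0 : W₀)
      exact hw (Subtype.ext (LinearMap.congr_fun (congrArg Subtype.val h) w))⟩⟩
  obtain ⟨ω, hω⟩ := Module.End.exists_eigenvalue (K := k) (V := H) (L₀.restrict hLmem)
  obtain ⟨⟨f, hfH⟩, hf, hfne⟩ := hω.exists_hasEigenvector
  rw [Module.End.mem_eigenspace_iff] at hf
  have hfeq : ∀ w, Γ (f (Θ w)) = ω • f w := fun w =>
    LinearMap.congr_fun (congrArg Subtype.val hf) w
  have hfinj : Function.Injective f := by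
    rw [← LinearMap.ker_eq_bot]
    refine (hirr _ fun y w hw => ?_).resolve_right fun h => hfne (Subtype.ext ?_)
    · rw [LinearMap.mem_ker] at hw ⊢
      rw [← hfH y w, hw, map_zero]
    · exact LinearMap.ker_eq_top.1 h
  have hωN : ω ^ N = 1 := by
    have key : ∀ (i : ℕ) w, (Γ ^ i) (f ((Θ ^ i) w)) = ω ^ i • f w := by
      intro i
      induction i with
      | zero => intro w; simp
      | succ i ih' =>
        intro w
        rw [pow_succ', pow_succ, Module.End.mul_apply, Module.End.mul_apply, ih' (Θ w), map_smul,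
          hfeq, smul_smul, ← pow_succ]
    obtain ⟨w, hw⟩ := exists_ne (0 : W₀)
    have h := key N w
    rw [hΓN, hΘ, ← pow_mul, mul_comm, pow_mul, hΓ₀N, one_pow, Module.End.one_apply,
      Module.End.one_apply] at h
    exact (smul_left_injective k (fun h0 => hw (hfinj (h0.trans (map_zero f).symm)))
      ((one_smul k (f w)).trans h)).symm
  have hω0 : ω ≠ 0 := fun h => by rw [h, zero_pow hN0.ne'] at hωN; exact zero_ne_one hωN
  have hmiss : ∀ w : W₀, Γ₀ w = ω⁻¹ • w → w = 0 := by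
    intro w hw
    refine hfinj ((hfixW _ ?_).trans (map_zero f).symm)
    have h := hfeq (Γ₀ w)
    rw [← Module.End.mul_apply Θ, hΘ1, Module.End.one_apply, hw, map_smul, smul_smul,
      mul_inv_cancel₀ hω0, one_smul] at h
    exact h
  -- dimensions
  letI := Fintype.ofFinite (Q ⧸ R)
  have hcardT : Nat.card (Q ⧸ R) = Module.finrank k W₀ * Module.finrank k W₀ := by
    rw [← Module.finrank_linearMap k k W₀ W₀,
      Module.finrank_eq_card_basis (Module.Basis.mk
        (rep_section_independent ρ₀ hR0 hDR hnd0 (fun t : Q ⧸ R => t.out) fun t => t.out_eq')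
        (rep_section_span ρ₀ hR0 hDR hnd0 hQk hirr (fun t : Q ⧸ R => t.out)
          fun t => t.out_eq').ge), Nat.card_eq_fintype_card]
  have hd1 : 1 < Module.finrank k W₀ := by
    have hnt : Nontrivial (Q ⧸ R) := QuotientGroup.nontrivial_iff.2 hRtop
    have h1 : 1 < Nat.card (Q ⧸ R) := Finite.one_lt_card
    rw [hcardT] at h1
    by_contra hle
    push Not at hle
    interval_cases Module.finrank k W₀ <;> simp at h1
  have hdN := finrank_of_missing_eigenvalue hNk hΓ₀N (α₀ := ω⁻¹) (by rw [inv_pow, hωN, inv_one])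
    hmiss hd1 (fun ψ hψ => finrank_twistComm_le ρ₀ hR0 hDR hnd0 hQk hirr γ hγR hN0 hγN hsemi
      hΓ₀ hΓ₀N hψ)
  set d := Module.finrank k W₀
  obtain ⟨e', he'⟩ := (hQ.to_quotient R).exists_card_eq
  rw [hcardT] at he'
  obtain ⟨l, -, hdl⟩ := (Nat.dvd_prime_pow hq.out).1 (Dvd.intro d he' : d ∣ q ^ e')
  have hq2 : q = 2 := by
    have hNodd : Odd N := (hp.out.odd_of_ne_two hp2).pow
    have h2 : 2 ∣ q ^ l := by
      obtain ⟨t, ht⟩ := hNodd
      exact ⟨t, by omega⟩
    exact ((Nat.prime_dvd_prime_iff_eq Nat.prime_two hq.out).1 (Nat.prime_two.dvd_of_dvd_pow h2)).symm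
  subst hq2
  have hl : 0 < l := by
    rcases Nat.eq_zero_or_pos l with rfl | h
    · rw [pow_zero] at hdl; omega
    · exact h
  have hpM : p ^ M = 2 ^ l + 1 := by rw [← hdl, hdN]
  -- `Q / C` is the full product of the translates of `Q / R`
  have hσpowC : ∀ (i : ℕ), ∀ y ∈ C, (σ ^ i) y ∈ C := CfsgLib.FGS.pow_apply_mem hCσ
  let K : Subgroup Q := ⨅ i : ℕ, R.comap (σ ^ i).toMonoidHom
  have hK : K = C := by
    refine le_antisymm (fun y hy => (hCmem y).2 ?_) fun y hy =>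
      Subgroup.mem_iInf.2 fun i => hCR _ (hσpowC i y hy)
    refine hsub K (fun h => hRtop ?_) (fun z hz => Subgroup.mem_iInf.2 fun i => ?_) y hy
    · rw [eq_top_iff, ← h]
      intro z hz
      exact (Subgroup.mem_iInf.1 hz 0 :)
    · have := Subgroup.mem_iInf.1 hz (i + 1)
      rw [Subgroup.mem_comap, MulEquiv.coe_toMonoidHom, pow_succ] at this
      exact this
  have hKr : ∀ y, (∀ i, i < p ^ a → (σ ^ i) y ∈ R) → y ∈ C := by
    intro y hy
    rw [← hK, Subgroup.mem_iInf]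
    intro i
    show (σ ^ i) y ∈ R
    rw [← Nat.div_add_mod i (p ^ a), pow_add, pow_mul, ← hγ]
    exact hγpowR _ _ (hy _ (Nat.mod_lt _ (pow_pos hp.out.pos a)))
  haveI := hCnorm
  let Φ : Q ⧸ C → (Fin (p ^ a) → Q ⧸ R) := fun t i => QuotientGroup.mk ((σ ^ (i : ℕ)) t.out)
  have hΦinj : Function.Injective Φ := by
    intro t t' h
    rw [← QuotientGroup.out_eq' t, ← QuotientGroup.out_eq' t', QuotientGroup.eq]
    refine hKr _ fun i hi => ?_
    have := QuotientGroup.eq.1 (congrFun h ⟨i, hi⟩)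
    rwa [← map_inv, ← map_mul] at this
  obtain ⟨f', hf'⟩ := (hQ.to_quotient C).exists_card_eq
  obtain ⟨g, hg⟩ := CfsgLib.FGS.exists_quotient_mulAut σ hCσ
  have hgperm : ∀ (i : ℕ) (t : Q ⧸ C), ((MulAut.toPerm (Q ⧸ C) g) ^ i) t = (g ^ i) t := fun i t => by
    rw [← map_pow]; rfl
  have hfdvd : p ^ (a + M) ∣ 2 ^ f' - 1 := by
    rw [← hf']
    refine pow_dvd_card_sub_one (MulAut.toPerm (Q ⧸ C) g) (Equiv.ext fun t => ?_) 1 (map_one g)
      fun t ht => ?_
    · obtain ⟨y, rfl⟩ := QuotientGroup.mk'_surjective C t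
      rw [hgperm, hg, hσ]; rfl
    · obtain ⟨y, rfl⟩ := QuotientGroup.mk'_surjective C t
      rw [hgperm, hg] at ht
      refine (QuotientGroup.eq_one_iff y).2 (hCfpf y ?_)
      exact QuotientGroup.eq.1 ht.symm
  have hf0 : 0 < f' := by
    rcases Nat.eq_zero_or_pos f' with rfl | h
    · haveI : Nontrivial (Q ⧸ C) := QuotientGroup.nontrivial_iff.2 hCtop
      have := Finite.one_lt_card (α := Q ⧸ C)
      rw [hf', pow_zero] at this
      omega
    · exact h
  have hΦsurj : Function.Surjective Φ := by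
    refine (hΦinj.bijective_of_nat_card_le ?_).2
    rw [Nat.card_fun, Nat.card_fin, hcardT, hf']
    have h1 := Nat.le_of_dvd hf0
      (pow_mul_dvd_of_exceptional hp2 hl (Nat.succ_pos m) hpM (s := a) (by rwa [add_comm]))
    calc (d * d) ^ p ^ a = 2 ^ (p ^ a * (2 * l)) := by
          rw [hdl, ← pow_add, ← pow_mul]; congr 1; ring
      _ ≤ 2 ^ f' := Nat.pow_le_pow_right two_pos h1
  -- two elements commuting in all components but one
  obtain ⟨t₀, ht₀⟩ : ∃ t : Q, t ∉ R := by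
    by_contra hcon
    push Not at hcon
    exact hRtop (eq_top_iff.2 fun y _ => hcon y)
  obtain ⟨s₀, hs₀⟩ := hnd t₀ ht₀
  have hlift : ∀ t : Q, ∃ x : Q, (QuotientGroup.mk x : Q ⧸ R) = QuotientGroup.mk t ∧
      ∀ i, 0 < i → i < p ^ a → (σ ^ i) x ∈ R := by
    intro t
    obtain ⟨u, hu⟩ := hΦsurj fun i => if (i : ℕ) = 0 then QuotientGroup.mk t else 1
    refine ⟨u.out, ?_, fun i hi hlt => ?_⟩
    · simpa [Φ] using congrFun hu ⟨0, pow_pos hp.out.pos a⟩
    · exact (QuotientGroup.eq_one_iff _).1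
        (by simpa [Φ, hi.ne'] using congrFun hu ⟨i, hlt⟩)
  obtain ⟨y, hy0, hy⟩ := hlift t₀
  obtain ⟨x, hx0, -⟩ := hlift s₀
  set cc : C := ⟨⁅y, x⁆, hDC y x⟩ with hcc
  have hχ1 : ∀ u : C, ρW (u : Q) = 1 → χ u = 1 := fun u h => Units.ext
    (smul_left_injective k (one_ne_zero : (1 : Module.End k W) ≠ 0)
      ((hscal u).symm.trans (h.trans (one_smul k _).symm)))
  have hχcc : χ cc ≠ 1 := by
    intro h
    apply hs₀
    have h1 : ρW ⁅y, x⁆ = 1 := by
      have := hscal cc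
      rw [h, Units.val_one, one_smul] at this
      exact this
    obtain ⟨r, hr, rfl⟩ : ∃ r ∈ R, t₀ = y * r := ⟨y⁻¹ * t₀, QuotientGroup.eq.1 hy0, by group⟩
    obtain ⟨r', hr', rfl⟩ : ∃ r' ∈ R, s₀ = x * r' := ⟨x⁻¹ * s₀, QuotientGroup.eq.1 hx0, by group⟩
    have hswap : ∀ u v : Q, ρW ⁅u, v⁆ = 1 → ρW ⁅v, u⁆ = 1 := fun u v huv => by
      rw [← commutatorElement_inv u v]
      have := congrArg ρW (mul_inv_cancel ⁅u, v⁆)
      rw [map_mul, huv, one_mul, map_one] at this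
      exact this
    refine hswap _ _ ?_
    rw [hmulL, map_mul, hr (x * r'), one_mul, hmulR, map_mul, h1, hswap _ _ (hr' y), one_mul]
  have hχper : ∀ (j : ℕ) (u : C), χ ((φ ^ (p ^ a * j)) u) = χ u := by
    intro j
    induction j with
    | zero => intro u; simp
    | succ j ih' =>
      intro u
      rw [mul_add, mul_one, pow_add, MulAut.mul_apply, ih']
      exact DFunLike.congr_fun hper u
  have hχlow : ∀ r, 0 < r → r < p ^ a → χ ((φ ^ r) cc) = 1 := fun r hr hlt' => hχ1 _ (by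
    rw [hφ, hcc, map_commutatorElement]
    exact hy r hr hlt' _)
  have hprod : ∀ j : ℕ, χ (∏ i ∈ Finset.range (p ^ a * j), (φ ^ i) cc) = χ cc ^ j := by
    intro j
    induction j with
    | zero => simp
    | succ j ih' =>
      rw [mul_add, mul_one, Finset.prod_range_add, map_mul, ih', map_prod,
        Finset.prod_eq_single 0, add_zero, hχper, pow_succ]
      · intro r hr hne0
        rw [pow_add, MulAut.mul_apply, hχper]
        exact hχlow r (Nat.pos_of_ne_zero hne0) (Finset.mem_range.1 hr)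
      · intro h; exact absurd (Finset.mem_range.2 (pow_pos hp.out.pos a)) h
  set Z := ∏ i ∈ Finset.range (p ^ (a + M)), (φ ^ i) cc with hZ
  have hφZ : φ Z = Z := by
    rw [hZ, map_prod]
    have e : ∀ i, φ ((φ ^ i) cc) = (φ ^ (i + 1)) cc := fun i => by rw [pow_succ']; rfl
    simp only [e]
    have h2 := Finset.prod_range_succ' (fun i => (φ ^ i) cc) (p ^ (a + M))
    rw [Finset.prod_range_succ, hφn, pow_zero] at h2
    exact (mul_right_cancel h2).symm
  have hZ1 : Z = 1 := Subtype.ext (hfpf _ (by rw [← hφ1, hφZ]))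
  have h1 : χ cc ^ N = 1 := by
    rw [← hprod, hNdef, ← pow_add, ← hZ, hZ1, map_one]
  obtain ⟨i, hi⟩ := (hQ.to_subgroup C).exists_card_eq
  refine hχcc (orderOf_eq_one_iff.1 (Nat.eq_one_of_dvd_coprimes (a := N) (b := 2 ^ i) ?_
    (orderOf_dvd_of_pow_eq_one h1) (orderOf_dvd_of_pow_eq_one ?_)))
  · exact Nat.coprime_pow_primes _ _ hp.out Nat.prime_two hp2
  · rw [← map_pow, ← hi, pow_card_eq_one', map_one]

/-- **Hall–Higman–Shult**: a fixed-point-free automorphism of odd prime-power order `p ^ n` of a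
`q`-group, intertwining a representation with an operator without fixed vectors, has its power of
order `p` trivial in the representation. -/
theorem hall_higman_cyclic {k : Type v} [Field k] [IsAlgClosed k] {V : Type w} [AddCommGroup V]
    [Module k V] [FiniteDimensional k V] {p q n : ℕ} [hp : Fact p.Prime] [hq : Fact q.Prime]
    (hp2 : p ≠ 2) (hqp : q ≠ p) (hqk : (q : k) ≠ 0) (hpk : (p : k) ≠ 0)
    {Q : Type u} [Group Q] [Finite Q] (hQ : IsPGroup q Q) (σ : MulAut Q) (hσ : σ ^ (p ^ n) = 1)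
    (hfpf : ∀ x, σ x = x → x = 1) (ρ : Q →* Module.End k V) (S : Module.End k V)
    (hS : ∀ x, S * ρ x = ρ (σ x) * S) (hSn : S ^ (p ^ n) = 1) (hfix : ∀ v, S v = v → v = 0)
    (x : Q) : ρ ((σ ^ (p ^ (n - 1))) x) = ρ x := by
  set K := ρ.ker
  have hSinv : S * S ^ (p ^ n - 1) = 1 := by
    rw [← pow_succ', Nat.sub_add_cancel (pow_pos hp.out.pos n), hSn]
  have hKσ : ∀ y ∈ K, σ y ∈ K := fun y hy => by
    show ρ (σ y) = 1
    calc ρ (σ y) = ρ (σ y) * S * S ^ (p ^ n - 1) := by rw [mul_assoc, hSinv, mul_one]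
      _ = S * ρ y * S ^ (p ^ n - 1) := by rw [hS]
      _ = 1 := by rw [show ρ y = 1 from hy, mul_one, hSinv]
  obtain ⟨g, hg⟩ := CfsgLib.FGS.exists_quotient_mulAut σ hKσ
  have hg1 : ∀ y : Q, g (QuotientGroup.mk' K y) = QuotientGroup.mk' K (σ y) := fun y => by
    have h := hg 1 y
    rwa [pow_one, pow_one] at h
  have hgn : g ^ (p ^ n) = 1 := MulEquiv.ext fun t => by
    obtain ⟨y, rfl⟩ := QuotientGroup.mk'_surjective K t
    rw [hg, hσ]; rfl
  have hgfpf : ∀ t, g t = t → t = 1 := fun t ht => by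
    obtain ⟨y, rfl⟩ := QuotientGroup.mk'_surjective K t
    rw [hg1] at ht
    have h1 : y⁻¹ * σ y ∈ K := QuotientGroup.eq.1 ht.symm
    obtain ⟨ψ, hψ⟩ := CfsgLib.FGS.exists_restrict_mulAut σ hKσ
    have hψ1 : ∀ z : K, ((ψ z : K) : Q) = σ z := fun z => by
      have h := hψ 1 z
      rwa [pow_one, pow_one] at h
    obtain ⟨z, hz⟩ := (CfsgLib.FGS.bijective_inv_mul_apply ψ fun z hz =>
      Subtype.ext (hfpf z (by rw [← hψ1, hz]))).2 ⟨_, h1⟩
    have hzy : (z : Q) = y := (CfsgLib.FGS.bijective_inv_mul_apply σ hfpf).1 (by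
      have := congrArg Subtype.val hz
      simp only [Subgroup.coe_mul, Subgroup.coe_inv, hψ1] at this
      exact this)
    exact (QuotientGroup.eq_one_iff y).2 (hzy ▸ z.2)
  let ρ' : Q ⧸ K →* Module.End k V := QuotientGroup.lift K ρ (le_refl K)
  have hρ' : ∀ y : Q, ρ' (QuotientGroup.mk' K y) = ρ y := fun y =>
    QuotientGroup.lift_mk K (le_refl K) y
  have hinj : Function.Injective ρ' := by
    intro s t hst
    obtain ⟨y, rfl⟩ := QuotientGroup.mk'_surjective K s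
    obtain ⟨z, rfl⟩ := QuotientGroup.mk'_surjective K t
    rw [hρ', hρ'] at hst
    refine QuotientGroup.eq.2 ?_
    show ρ (y⁻¹ * z) = 1
    rw [map_mul, ← hst, ← map_mul, inv_mul_cancel, map_one]
  have hS' : ∀ t : Q ⧸ K, S * ρ' t = ρ' (g t) * S := fun t => by
    obtain ⟨y, rfl⟩ := QuotientGroup.mk'_surjective K t
    rw [hg1, hρ', hρ']
    exact hS y
  have hQK : IsPGroup q (Q ⧸ K) := hQ.to_quotient K
  have h : (g ^ (p ^ (n - 1))) (QuotientGroup.mk' K x) = QuotientGroup.mk' K x :=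
    hall_higman_cyclic_aux (k := k) (V := V) (p := p) (q := q) (n := n) hp2 hqp hqk hpk
      (Nat.card (Q ⧸ K)) (Q := Q ⧸ K) rfl hQK g hgn hgfpf ρ' hinj S hS' hSn hfix
      (QuotientGroup.mk' K x)
  rw [hg] at h
  have h2 := congrArg ρ' h
  rwa [hρ', hρ'] at h2

end CfsgLib.Solvable
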