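import Cfsg.Agent.Lib.Solvable.Supersolvable
import Cfsg.Agent.Lib.Solvable.Maximal
import Cfsg.Agent.Lib.Solvable.MinimalNormal
import Cfsg.Agent.Lib.Solvable.Hall
import Cfsg.Agent.Lib.Solvable.Nilpotent
import Cfsg.Agent.Lib.Solvable.CoprimeAction
import Cfsg.Agent.Lib.PGroup.Basic
import Mathlib.Algebra.Module.ZMod
import Mathlib.FieldTheory.Finite.Basic

/-!
Supersolvable series by decreasing primes, Huppert's criterion, groups with subgroups of all
orders.
-/

set_option autoImplicit false

open scoped Pointwise commutatorElement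

namespace CfsgLib.Solvable

universe u

variable {G : Type u} [Group G] [Finite G]

omit [Finite G] in
theorem ne_bot_of_prime_dvd {P : Subgroup G} {p : ℕ} (hp : p.Prime) (h : p ∣ Nat.card P) :
    P ≠ ⊥ := fun e => by
  rw [e, Subgroup.card_bot, Nat.dvd_one] at h
  exact hp.one_lt.ne' h

omit [Finite G] in
theorem normal_of_le_center' {N : Subgroup G} (h : N ≤ Subgroup.center G) : N.Normal :=
  ⟨fun x hx g => by rwa [Subgroup.mem_center_iff.1 (h hx) g, mul_inv_cancel_right]⟩

theorem normal_sylow_of_max_prime (hG : Cfsg.IsSupersolvable G) {p : ℕ} [Fact p.Prime]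
    (hmax : ∀ q : ℕ, q.Prime → q ∣ Nat.card G → q ≤ p) (P : Sylow p G) :
    (P : Subgroup G).Normal :=
  sylow_normal_of_prime_index_maximal (fun _ hM => index_prime_of_isCoatom hG hM) hmax P

/-- The largest prime occurs as the order of a normal subgroup. -/
theorem exists_normal_card_max_prime (hG : Cfsg.IsSupersolvable G) {p : ℕ} [hp : Fact p.Prime]
    (hmax : ∀ q : ℕ, q.Prime → q ∣ Nat.card G → q ≤ p) (hdvd : p ∣ Nat.card G) :
    ∃ N : Subgroup G, N.Normal ∧ Nat.card N = p := by
  obtain ⟨P⟩ := (inferInstance : Nonempty (Sylow p G))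
  haveI hPn := normal_sylow_of_max_prime hG hmax P
  have hPb := P.ne_bot_of_dvd_card hdvd
  obtain ⟨n, H, h0, hl, hn, hs⟩ := hG
  by_contra hcon
  push Not at hcon
  have : ∀ i, H i ⊓ (P : Subgroup G) = ⊥ := by
    refine Fin.induction (by rw [h0, bot_inf_eq]) fun i ih => ?_
    by_contra hne
    obtain ⟨g, hg⟩ := hs i
    haveI := hn i.castSucc
    haveI := hn i.succ
    obtain ⟨k, hk⟩ := exists_comap_step (P : Subgroup G).subtype (H i.castSucc) g
    set L := H i.succ ⊓ (P : Subgroup G) with hL
    have hcyc : L = Subgroup.zpowers (k : G) := by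
      have h2 := congrArg (Subgroup.map (P : Subgroup G).subtype) hk
      rw [← hg, Subgroup.map_comap_eq, Subgroup.range_subtype, inf_comm, Subgroup.map_sup,
        Subgroup.map_comap_eq, Subgroup.range_subtype, inf_comm (P : Subgroup G) (H i.castSucc),
        ih, bot_sup_eq, MonoidHom.map_zpowers] at h2
      exact h2
    haveI : IsCyclic L := hcyc ▸ inferInstance
    haveI : Nontrivial L := (Subgroup.nontrivial_iff_ne_bot L).2 hne
    obtain ⟨e, he0, he⟩ := (P.2.to_le inf_le_right : IsPGroup p L).nontrivial_iff_card.1 inferInstance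
    obtain ⟨x, hx⟩ := exists_prime_orderOf_dvd_card' (G := L) p (he ▸ dvd_pow_self p (by omega))
    exact hcon _ (normal_of_le_cyclic_normal (Subgroup.zpowers_le.2 x.2))
      (by rw [Nat.card_zpowers, Subgroup.orderOf_coe, hx])
  exact hPb (by simpa [hl] using this (Fin.last n))

private theorem series_aux : ∀ (n : ℕ) (G : Type u) [Group G] [Finite G], Nat.card G = n →
    Cfsg.IsSupersolvable G →
    ∃ (n : ℕ) (H : Fin (n + 1) → Subgroup G), H 0 = ⊥ ∧ H (Fin.last n) = ⊤ ∧ (∀ i, (H i).Normal) ∧
      (∀ i : Fin n, H i.castSucc ≤ H i.succ ∧ ((H i.castSucc).relIndex (H i.succ)).Prime) ∧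
      ∀ i j : Fin n, i ≤ j → (H j.castSucc).relIndex (H j.succ) ≤ (H i.castSucc).relIndex (H i.succ) := by
  intro n
  induction n using Nat.strong_induction_on with
  | _ n ih =>
  intro G _ _ hn hG
  rcases subsingleton_or_nontrivial G with hs | hs
  · exact ⟨0, fun _ => ⊥, rfl, Subsingleton.elim _ _, fun _ => inferInstance, fun i => i.elim0,
      fun i => i.elim0⟩
  have hne : (Nat.card G).primeFactors.Nonempty := by
    rw [Nat.nonempty_primeFactors]; exact Finite.one_lt_card
  set p := (Nat.card G).primeFactors.max' hne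
  have hp := Nat.mem_primeFactors.1 ((Nat.card G).primeFactors.max'_mem hne)
  haveI : Fact p.Prime := ⟨hp.1⟩
  have hmax : ∀ q : ℕ, q.Prime → q ∣ Nat.card G → q ≤ p := fun q hq hd =>
    Finset.le_max' _ q (Nat.mem_primeFactors.2 ⟨hq, hd, Nat.card_pos.ne'⟩)
  obtain ⟨N, hNn, hN⟩ := exists_normal_card_max_prime hG hmax hp.2.1
  obtain ⟨m, H, h0, hl, hnorm, hstep, hmono⟩ := ih _
    (hn ▸ card_quotient_lt _ (ne_bot_of_card_prime (hN ▸ hp.1))) (G ⧸ N) rfl
    (isSupersolvable_quotient hG N)
  set π := QuotientGroup.mk' N with hπ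
  have hrel : ∀ i : Fin m, ((H i.castSucc).comap π).relIndex ((H i.succ).comap π) =
      (H i.castSucc).relIndex (H i.succ) := fun i => by
    rw [Subgroup.relIndex_comap, Subgroup.map_comap_eq_self_of_surjective (QuotientGroup.mk'_surjective N)]
  refine ⟨m + 1, Fin.cons ⊥ fun i => (H i).comap π, Fin.cons_zero _ _, ?_, ?_, ?_, ?_⟩
  · rw [show Fin.last (m + 1) = (Fin.last m).succ from rfl, Fin.cons_succ, hl, Subgroup.comap_top]
  · refine Fin.cases ?_ fun i => ?_
    · rw [Fin.cons_zero]; infer_instance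
    · rw [Fin.cons_succ]; exact (hnorm i).comap π
  · refine Fin.cases ?_ fun i => ?_
    · rw [Fin.cons_succ, Fin.castSucc_zero, Fin.cons_zero, h0, MonoidHom.comap_bot, hπ,
        QuotientGroup.ker_mk', Subgroup.relIndex_bot_left, hN]
      exact ⟨bot_le, hp.1⟩
    · rw [Fin.cons_succ, Fin.castSucc_succ, Fin.cons_succ, hrel]
      exact ⟨Subgroup.comap_mono (hstep i).1, (hstep i).2⟩
  · refine Fin.cases ?_ fun i => ?_
    · refine Fin.cases (fun _ => le_rfl) fun j _ => ?_
      rw [Fin.cons_succ, Fin.castSucc_succ, Fin.cons_succ, hrel, Fin.cons_succ, Fin.castSucc_zero,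
        Fin.cons_zero, h0, MonoidHom.comap_bot, hπ, QuotientGroup.ker_mk',
        Subgroup.relIndex_bot_left, hN]
      refine hmax _ (hstep j).2 ?_
      exact ((Subgroup.relIndex_dvd_card _ _).trans (Subgroup.card_subgroup_dvd_card _)).trans
        N.index_dvd_card
    · refine Fin.cases (fun h => absurd h (Fin.not_le.2 (Fin.succ_pos i))) fun j h => ?_
      rw [Fin.cons_succ, Fin.castSucc_succ, Fin.cons_succ, hrel, Fin.cons_succ, Fin.castSucc_succ,
        Fin.cons_succ, hrel]
      exact hmono i j (Fin.succ_le_succ_iff.1 h)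

/-- A chief series with prime steps in decreasing order. -/
theorem exists_prime_series (hG : Cfsg.IsSupersolvable G) :
    ∃ (n : ℕ) (H : Fin (n + 1) → Subgroup G), H 0 = ⊥ ∧ H (Fin.last n) = ⊤ ∧ (∀ i, (H i).Normal) ∧
      (∀ i : Fin n, H i.castSucc ≤ H i.succ ∧ ((H i.castSucc).relIndex (H i.succ)).Prime) ∧
      ∀ i j : Fin n, i ≤ j → (H j.castSucc).relIndex (H j.succ) ≤ (H i.castSucc).relIndex (H i.succ) :=
  series_aux _ G rfl hG

private theorem nilpotent_aux : ∀ (n : ℕ) (G : Type u) [Group G] [Finite G], Nat.card G = n →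
    Group.IsNilpotent G → Cfsg.IsSupersolvable G := by
  intro n
  induction n using Nat.strong_induction_on with
  | _ n ih =>
  intro G _ _ hn hG
  rcases subsingleton_or_nontrivial G with hs | hs
  · exact isSupersolvable_of_subsingleton
  haveI := hG
  have hZ : Subgroup.center G ≠ ⊥ := Group.IsNilpotent.center_ne_bot G
  obtain ⟨z, hz, hz1⟩ := (Subgroup.nontrivial_iff_exists_ne_one _).1
    ((Subgroup.nontrivial_iff_ne_bot _).2 hZ)
  haveI : (Subgroup.zpowers z).Normal :=
    normal_of_le_center' (Subgroup.zpowers_le.2 hz)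
  exact isSupersolvable_extension (Subgroup.zpowers z)
    (ih _ (hn ▸ card_quotient_lt _ (fun h => hz1 (Subgroup.zpowers_eq_bot.1 h))) _ rfl inferInstance)

theorem isSupersolvable_of_nilpotent (hG : Group.IsNilpotent G) : Cfsg.IsSupersolvable G :=
  nilpotent_aux _ G rfl hG

private theorem two_pow_aux : ∀ (m : ℕ) (G : Type u) [Group G] [Finite G], Nat.card G = m →
    ∀ (p n : ℕ), p.Prime → Nat.card G ∣ 2 * p ^ n → Cfsg.IsSupersolvable G := by
  intro m
  induction m using Nat.strong_induction_on with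
  | _ m ih =>
  intro G _ _ hm p n hp hG
  haveI : Fact p.Prime := ⟨hp⟩
  by_cases hpg : IsPGroup p G
  · exact isSupersolvable_of_nilpotent hpg.isNilpotent
  have h2 : 2 ∣ Nat.card G := by
    by_contra h
    obtain ⟨k, -, hk⟩ := (Nat.dvd_prime_pow hp).1
      (((Nat.Prime.coprime_iff_not_dvd Nat.prime_two).2 h).symm.dvd_of_dvd_mul_left hG)
    exact hpg (IsPGroup.of_card hk)
  have hp2 : p ≠ 2 := by
    rintro rfl
    rw [← pow_succ'] at hG
    obtain ⟨k, -, hk⟩ := (Nat.dvd_prime_pow hp).1 hG
    exact hpg (IsPGroup.of_card hk)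
  obtain ⟨P⟩ := (inferInstance : Nonempty (Sylow p G))
  have hidx : (P : Subgroup G).index = 2 := by
    have h1 : (P : Subgroup G).index ∣ 2 :=
      ((hp.coprime_iff_not_dvd.2 P.not_dvd_index).symm.pow_right n).dvd_of_dvd_mul_right
        ((P : Subgroup G).index_dvd_card.trans hG)
    rcases (Nat.dvd_prime Nat.prime_two).1 h1 with h | h
    · exact absurd ((Subgroup.index_eq_one.1 h ▸ P.2 : IsPGroup p (⊤ : Subgroup G)).of_equiv
        Subgroup.topEquiv) hpg
    · exact h
  haveI hPn : (P : Subgroup G).Normal := Subgroup.normal_of_index_eq_two hidx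
  by_cases hPb : (P : Subgroup G) = ⊥
  · rw [hPb, Subgroup.index_bot] at hidx
    exact isSupersolvable_of_nilpotent (IsPGroup.of_card (p := 2) (n := 1) (by rw [hidx, pow_one])).isNilpotent
  haveI : Nontrivial (P : Subgroup G) := (Subgroup.nontrivial_iff_ne_bot _).2 hPb
  haveI := P.2.center_nontrivial
  obtain ⟨x, hx⟩ := exists_ne (1 : Subgroup.center (P : Subgroup G))
  have hx1 : ((x : (P : Subgroup G)) : G) ≠ 1 := fun h => hx (Subtype.ext (Subtype.ext h))
  obtain ⟨t, ht⟩ := exists_prime_orderOf_dvd_card' (G := G) 2 h2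
  have htP : t ∉ (P : Subgroup G) := fun h => by
    obtain ⟨j, hj⟩ := IsPGroup.iff_orderOf.1 P.2 ⟨t, h⟩
    rw [← Subgroup.orderOf_coe, ht] at hj
    exact hp2 ((Nat.prime_dvd_prime_iff_eq Nat.prime_two hp).1
      (Nat.prime_two.dvd_of_dvd_pow (dvd_of_eq hj))).symm
  have hgen : ∀ H : Subgroup G, (P : Subgroup G) ≤ H → t ∈ H → H = ⊤ := by
    intro H h1 h3
    have hne : (P : Subgroup G).relIndex H ≠ 1 := fun e => htP (Subgroup.relIndex_eq_one.1 e h3)
    have hmul := Subgroup.relIndex_mul_index h1
    rw [hidx] at hmul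
    rcases (Nat.dvd_prime Nat.prime_two).1 (Dvd.intro _ hmul) with h | h
    · exact absurd h hne
    · rw [h] at hmul
      exact Subgroup.index_eq_one.1 (by omega)
  set a : G := ((x : (P : Subgroup G)) : G) with ha
  have htt : t * t = 1 := by rw [← pow_two, ← ht, pow_orderOf_eq_one]
  have hti : t⁻¹ = t := inv_eq_of_mul_eq_one_right htt
  have haP : a ∈ (P : Subgroup G) := (x : (P : Subgroup G)).2
  have hbP : t * a * t⁻¹ ∈ (P : Subgroup G) := hPn.conj_mem a haP t
  have hcx : ∀ y ∈ (P : Subgroup G), y * a = a * y := fun y hy =>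
    congrArg Subtype.val (Subgroup.mem_center_iff.1 x.2 ⟨y, hy⟩)
  have hcb : ∀ y ∈ (P : Subgroup G), y * (t * a * t⁻¹) = (t * a * t⁻¹) * y := fun y hy => by
    have h3 := hcx _ (hPn.conj_mem y hy t⁻¹)
    calc y * (t * a * t⁻¹) = t * ((t⁻¹ * y * t⁻¹⁻¹) * a) * t⁻¹ := by group
      _ = _ := by rw [h3]; group
  have hfin : ∀ c : G, c ≠ 1 → (Subgroup.zpowers c).Normal → Cfsg.IsSupersolvable G := by
    intro c hc hcn
    haveI := hcn
    exact isSupersolvable_extension (Subgroup.zpowers c) (ih _
      (hm ▸ card_quotient_lt _ (fun h => hc (Subgroup.zpowers_eq_bot.1 h))) _ rfl p n hp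
      (((Subgroup.zpowers c).index_eq_card ▸ (Subgroup.zpowers c).index_dvd_card).trans hG))
  by_cases hy : a * (t * a * t⁻¹) = 1
  · refine hfin a hx1 (Subgroup.normalizer_eq_top_iff.1 (hgen _ (fun y hy' => ?_) ?_))
    · refine mem_normalizer_of_conj_mem fun z hz => ?_
      obtain ⟨i, rfl⟩ := hz
      rw [← conj_zpow, hcx y hy', mul_inv_cancel_right]
      exact zpow_mem (Subgroup.mem_zpowers a) i
    · refine mem_normalizer_of_conj_mem fun z hz => ?_
      obtain ⟨i, rfl⟩ := hz
      rw [← conj_zpow, ← inv_eq_of_mul_eq_one_right hy]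
      exact zpow_mem (inv_mem (Subgroup.mem_zpowers a)) i
  · refine hfin _ hy (normal_of_le_center' (Subgroup.zpowers_le.2 ?_))
    rw [Subgroup.mem_center_iff]
    intro g
    have : g ∈ Subgroup.centralizer {a * (t * a * t⁻¹)} := by
      refine (hgen _ (fun y hy' => ?_) ?_).ge (Subgroup.mem_top g)
      · rw [Subgroup.mem_centralizer_singleton_iff, ← mul_assoc, hcx y hy', mul_assoc,
          hcb y hy', ← mul_assoc]
      · rw [Subgroup.mem_centralizer_singleton_iff]
        calc t * (a * (t * a * t⁻¹)) = (t * a * t⁻¹) * (t * t * a * t⁻¹) := by group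
          _ = (t * a * t⁻¹) * (a * t) := by rw [htt, one_mul, hti]
          _ = _ := by rw [← mul_assoc, ← hcx _ hbP]
    exact Subgroup.mem_centralizer_singleton_iff.1 this

theorem isSupersolvable_of_card_two_mul_pow {p n : ℕ} (hp : p.Prime)
    (hG : Nat.card G = 2 * p ^ n) : Cfsg.IsSupersolvable G :=
  two_pow_aux _ G rfl p n hp (dvd_of_eq hG)

private theorem every_order_aux : ∀ (n : ℕ) (G : Type u) [Group G] [Finite G], Nat.card G = n →
    Cfsg.IsSupersolvable G → Cfsg.HasSubgroupOfEveryOrder G := by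
  intro n
  induction n using Nat.strong_induction_on with
  | _ n ih =>
  intro G _ _ hn hG d hd
  rcases subsingleton_or_nontrivial G with hs | hs
  · exact ⟨⊥, by
      rw [Nat.card_of_subsingleton (1 : G), Nat.dvd_one] at hd
      rw [Subgroup.card_bot, hd]⟩
  obtain ⟨N, hNn, hN⟩ := exists_prime_order_normal hG
  set π := QuotientGroup.mk' N with hπ
  have hcard : Nat.card G = Nat.card (G ⧸ N) * Nat.card N :=
    Subgroup.card_eq_card_quotient_mul_card_subgroup N
  have hpre : ∀ e, e ∣ Nat.card (G ⧸ N) →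
      ∃ L : Subgroup G, N ≤ L ∧ Nat.card L = e * Nat.card N := by
    intro e he
    obtain ⟨L, hL⟩ := ih _ (hn ▸ card_quotient_lt _ (ne_bot_of_card_prime hN)) (G ⧸ N) rfl
      (isSupersolvable_quotient hG N) e he
    refine ⟨L.comap π, (QuotientGroup.ker_mk' N).ge.trans (Subgroup.ker_le_comap _ _), ?_⟩
    have h1 := (L.comap π).card_mul_index
    have h2 := L.card_mul_index
    rw [Subgroup.index_comap_of_surjective _ (QuotientGroup.mk'_surjective N), hcard, ← h2, hL,
      mul_right_comm] at h1
    exact Nat.eq_of_mul_eq_mul_right (Nat.pos_of_ne_zero Subgroup.index_ne_zero_of_finite) h1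
  by_cases hpd : Nat.card N ∣ d
  · obtain ⟨e, rfl⟩ := hpd
    obtain ⟨L, -, hL⟩ := hpre e (Nat.dvd_of_mul_dvd_mul_right (Nat.card_pos (α := N))
      (by rwa [mul_comm e, ← hcard]))
    exact ⟨L, by rw [hL, mul_comm]⟩
  · have hcop : (Nat.card N).Coprime d := hN.coprime_iff_not_dvd.2 hpd
    obtain ⟨L, hNL, hL⟩ := hpre d (Nat.Coprime.dvd_of_dvd_mul_right hcop.symm (hcard ▸ hd))
    haveI : (N.subgroupOf L).Normal := hNn.subgroupOf L
    have hcN : Nat.card (N.subgroupOf L) = Nat.card N :=
      Nat.card_congr (Subgroup.subgroupOfEquivOfLe hNL).toEquiv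
    have hidx : (N.subgroupOf L).index = d := by
      have h1 := (N.subgroupOf L).card_mul_index
      rw [hcN, hL, mul_comm d] at h1
      exact Nat.eq_of_mul_eq_mul_left Nat.card_pos h1
    obtain ⟨C, hC⟩ := Subgroup.exists_right_complement'_of_coprime (N := N.subgroupOf L)
      (by rw [hcN, hidx]; exact hcop)
    refine ⟨C.map L.subtype, ?_⟩
    rw [Subgroup.card_subtype, ← hidx]
    exact hC.symm.index_eq_card.symm

theorem hasSubgroupOfEveryOrder_of_supersolvable (hG : Cfsg.IsSupersolvable G) :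
    Cfsg.HasSubgroupOfEveryOrder G :=
  every_order_aux _ G rfl hG

theorem exists_eigen_add {W : Type*} [AddCommGroup W] [Nontrivial W] {p : ℕ} [hp : Fact p.Prime]
    [Module (ZMod p) W] (f : W →+ W) (hf : ∀ v, f^[p] v = f v) :
    ∃ v : W, v ≠ 0 ∧ ∃ a : ℕ, f v = a • v := by
  classical
  set F : Module.End (ZMod p) W := f.toZModLinearMap p with hFdef
  have hFf : ⇑F = ⇑f := rfl
  by_contra hcon
  push Not at hcon
  have hinj : ∀ s : Multiset (ZMod p), Function.Injective
      ⇑(Polynomial.aeval F ((s.map fun a => Polynomial.X - Polynomial.C a).prod)) := by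
    intro s
    induction s using Multiset.induction with
    | empty => simp [Function.Injective]
    | cons a s ih =>
      rw [Multiset.map_cons, Multiset.prod_cons, map_mul, Module.End.coe_mul]
      refine Function.Injective.comp ?_ ih
      rw [← LinearMap.ker_eq_bot, LinearMap.ker_eq_bot']
      intro v hv
      by_contra hv0
      refine hcon v hv0 a.val ?_
      have hv' : F v = a • v := by
        simpa [sub_eq_zero, Module.algebraMap_end_apply] using hv
      rw [← ZMod.natCast_zmod_val a, Nat.cast_smul_eq_nsmul, hFf] at hv'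
      exact hv'
  have hroots : (Polynomial.X ^ p - Polynomial.X : Polynomial (ZMod p)).roots = Finset.univ.val := by
    have := FiniteField.roots_X_pow_card_sub_X (ZMod p)
    rwa [ZMod.card] at this
  have hprod : ((Polynomial.X ^ p - Polynomial.X : Polynomial (ZMod p)).roots.map
      fun a => Polynomial.X - Polynomial.C a).prod = Polynomial.X ^ p - Polynomial.X := by
    refine Polynomial.prod_multiset_X_sub_C_of_monic_of_roots_card_eq ?_ ?_
    · exact Polynomial.monic_X_pow_sub (by rw [Polynomial.degree_X]; exact_mod_cast hp.out.one_lt)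
    · rw [hroots, FiniteField.X_pow_card_sub_X_natDegree_eq _ hp.out.one_lt]
      simp
  obtain ⟨v, hv⟩ := exists_ne (0 : W)
  have h0 : Polynomial.aeval F (Polynomial.X ^ p - Polynomial.X : Polynomial (ZMod p)) v = 0 := by
    rw [map_sub, map_pow, Polynomial.aeval_X, LinearMap.sub_apply, Module.End.coe_pow, hFf,
      sub_eq_zero]
    exact hf v
  rw [← hprod] at h0
  exact hv (hinj _ (h0.trans (map_zero _).symm))

/-- An endomorphism of a nontrivial abelian group of exponent `p` with `f^p = f` maps some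
nontrivial element to one of its powers. -/
theorem exists_eigen {V : Type*} [CommGroup V] [Nontrivial V] {p : ℕ} [hp : Fact p.Prime]
    (hexp : ∀ v : V, v ^ p = 1) (f : V →* V) (hf : ∀ v, f^[p] v = f v) :
    ∃ v : V, v ≠ 1 ∧ ∃ a : ℕ, f v = v ^ a := by
  letI : Module (ZMod p) (Additive V) :=
    AddCommGroup.zmodModule fun x => congrArg Additive.ofMul (hexp x.toMul)
  obtain ⟨v, hv, a, ha⟩ := exists_eigen_add (W := Additive V) (p := p) (MonoidHom.toAdditive f)
    (fun x => congrArg Additive.ofMul (hf x.toMul))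
  exact ⟨v.toMul, fun h => hv (congrArg Additive.ofMul h), a, congrArg Additive.toMul ha⟩

theorem isNilpotent_commutator_sup {N : Subgroup G} [N.Normal] (hNΦ : N ≤ frattini G)
    (h : Group.IsNilpotent (commutator (G ⧸ N))) : Group.IsNilpotent (commutator G ⊔ N : Subgroup G) := by
  haveI := h
  set H := commutator G ⊔ N with hH
  haveI : H.Normal := Subgroup.sup_normal _ _
  refine isNilpotent_of_quotient_frattini H N le_sup_right hNΦ ?_
  have hmem : ∀ x : H, QuotientGroup.mk' N (x : G) ∈ commutator (G ⧸ N) := by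
    intro x
    have h1 : H.map (QuotientGroup.mk' N) = commutator (G ⧸ N) := by
      rw [hH, Subgroup.map_sup, commutator_def, Subgroup.map_commutator,
        Subgroup.map_top_of_surjective _ (QuotientGroup.mk'_surjective N), QuotientGroup.map_mk'_self,
        sup_bot_eq, commutator_def]
    exact h1 ▸ Subgroup.mem_map_of_mem _ x.2
  let f : H ⧸ N.subgroupOf H →* commutator (G ⧸ N) :=
    QuotientGroup.lift (N.subgroupOf H)
      (((QuotientGroup.mk' N).comp H.subtype).codRestrict _ hmem) fun x hx =>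
        Subtype.ext ((QuotientGroup.eq_one_iff _).2 hx)
  refine Subgroup.isNilpotent_of_ker_le_center f (fun x hx => ?_)
  induction x using QuotientGroup.induction_on with
  | _ y =>
    have hy : (y : G) ∈ N := (QuotientGroup.eq_one_iff _).1 (congrArg Subtype.val hx)
    rw [(QuotientGroup.eq_one_iff y).2 hy]
    exact one_mem _

private theorem huppert_aux : ∀ (n : ℕ) (G : Type u) [Group G] [Finite G], Nat.card G = n →
    (∀ M : Subgroup G, IsCoatom M → M.index.Prime) → Cfsg.IsSupersolvable G := by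
  intro n
  induction n using Nat.strong_induction_on with
  | _ n ih =>
  intro G _ _ hn h
  rcases subsingleton_or_nontrivial G with hs | hs
  · exact isSupersolvable_of_subsingleton
  haveI := isSolvable_of_prime_index_maximal h
  have hquot : ∀ (N : Subgroup G) [N.Normal], N ≠ ⊥ → Cfsg.IsSupersolvable (G ⧸ N) := by
    intro N _ hN
    refine ih _ (hn ▸ card_quotient_lt _ hN) _ rfl fun M hM => ?_
    have := h _ (isCoatom_comap_mk' hM)
    rwa [Subgroup.index_comap_of_surjective _ (QuotientGroup.mk'_surjective N)] at this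
  obtain ⟨N, hNn, hN, hmin⟩ := exists_minimal_normal (G := G)
  have hcomm := commute_of_minimal_normal N hN hmin inferInstance
  obtain ⟨p, hp, hpN⟩ := exists_prime_pow_eq_one_of_minimal_normal N hN hmin inferInstance
  haveI : Fact p.Prime := ⟨hp⟩
  by_cases hNΦ : N ≤ frattini G
  swap
  · obtain ⟨M, hM, hNM⟩ : ∃ M : Subgroup G, IsCoatom M ∧ ¬ N ≤ M := by
      by_contra hcon
      push Not at hcon
      exact hNΦ (le_iInf₂ fun M hM => hcon M hM)
    have htop : N ⊔ M = ⊤ := hM.2 _ (lt_of_le_of_ne le_sup_right fun e => hNM (e ▸ le_sup_left))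
    have hnor : (N ⊓ M).Normal := Subgroup.normalizer_eq_top_iff.1 (top_le_iff.1 (htop.ge.trans
      (sup_le (fun x hx => mem_normalizer_of_conj_mem fun y hy => by
          rwa [hcomm x hx y hy.1, mul_inv_cancel_right])
        (le_normalizer_inf (Subgroup.normalizer_eq_top N ▸ le_top) Subgroup.le_normalizer))))
    have hd : N ⊓ M = ⊥ := (hmin _ hnor inf_le_left).resolve_right fun e => hNM (inf_eq_left.1 e)
    have h1 := card_sup_of_disjoint (K := N) (A := M) (Subgroup.normalizer_eq_top N ▸ le_top) hd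
    rw [htop, Subgroup.card_top, ← M.card_mul_index, mul_comm (Nat.card N)] at h1
    have hc : (Nat.card N).Prime := Nat.eq_of_mul_eq_mul_left Nat.card_pos h1 ▸ h M hM
    haveI := isCyclic_of_prime hc
    exact isSupersolvable_extension N (hquot N hN)
  by_cases huniq : ∃ N₂ : Subgroup G, N₂.Normal ∧ N₂ ≠ ⊥ ∧ ¬ N ≤ N₂
  · obtain ⟨N₂, hN₂n, hN₂, hle⟩ := huniq
    have hd : N ⊓ N₂ = ⊥ := (hmin _ (Subgroup.normal_inf_normal N N₂) inf_le_left).resolve_right
      fun e => hle (inf_eq_left.1 e)
    refine isSupersolvable_of_injective ((QuotientGroup.mk' N).prod (QuotientGroup.mk' N₂)) ?_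
      (isSupersolvable_prod (hquot N hN) (hquot N₂ hN₂))
    rw [← MonoidHom.ker_eq_bot_iff, MonoidHom.ker_prod, QuotientGroup.ker_mk', QuotientGroup.ker_mk', hd]
  push Not at huniq
  have hQ := hquot N hN
  -- `G' N` is a `p`-group
  set H := commutator G ⊔ N with hHdef
  have hHnil : Group.IsNilpotent H :=
    isNilpotent_commutator_sup hNΦ (isNilpotent_commutator_of_supersolvable hQ)
  haveI : H.Normal := Subgroup.sup_normal _ _
  have hNp : IsPGroup p N := fun x => ⟨1, by rw [pow_one]; exact Subtype.ext (hpN x x.2)⟩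
  have hHp : IsPGroup p H := by
    refine IsPGroup.of_card
      (Nat.eq_prime_pow_of_unique_prime_dvd Nat.card_pos.ne' fun {r} hr hrd => ?_) |>.of_equiv
      (MulEquiv.refl _)
    haveI : Fact r.Prime := ⟨hr⟩
    obtain ⟨Q⟩ := (inferInstance : Nonempty (Sylow r H))
    haveI : (Q : Subgroup H).Normal :=
      ((Group.isNilpotent_of_finite_tfae (G := H)).out 0 3 rfl rfl).1 hHnil r ‹_› Q
    haveI := Sylow.characteristic_of_normal Q ‹_›
    have hQn : ((Q : Subgroup H).map H.subtype).Normal := inferInstance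
    have hQb : (Q : Subgroup H).map H.subtype ≠ ⊥ := by
      rw [Ne, Subgroup.map_eq_bot_iff_of_injective _ H.subtype_injective]
      exact Q.ne_bot_of_dvd_card hrd
    by_contra hne
    exact hN (eq_bot_mono (le_inf le_rfl (huniq _ hQn hQb))
      (IsPGroup.disjoint_of_ne p r (Ne.symm hne) _ _ hNp (Q.2.map _)).eq_bot)
  obtain ⟨P, hHP⟩ := hHp.exists_le_sylow
  haveI hPn : (P : Subgroup G).Normal := ⟨fun x hx g => by
    have h1 := mul_mem ((le_sup_left.trans hHP) (Subgroup.commutator_mem_commutator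
      (Subgroup.mem_top g) (Subgroup.mem_top x))) hx
    rwa [commutatorElement_def, inv_mul_cancel_right] at h1⟩
  have hNP : N ≤ (P : Subgroup G) := le_sup_right.trans hHP
  obtain ⟨K, hK⟩ := Subgroup.exists_right_complement'_of_coprime P.card_coprime_index
  have hPK : (P : Subgroup G) ⊔ K = ⊤ := hK.sup_eq_top
  have hKp : (Nat.card K).Coprime (Nat.card (P : Subgroup G)) := by
    rw [← hK.symm.index_eq_card]; exact (P.card_coprime_index).symm
  have hKc : ∀ a ∈ K, ∀ b ∈ K, a * b = b * a := by
    intro a ha b hb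
    have h1 : ⁅a, b⁆ ∈ (P : Subgroup G) ⊓ K := ⟨le_sup_left.trans hHP
      (Subgroup.commutator_mem_commutator (Subgroup.mem_top a) (Subgroup.mem_top b)), by
      rw [commutatorElement_def]
      exact K.mul_mem (K.mul_mem (K.mul_mem ha hb) (K.inv_mem ha)) (K.inv_mem hb)⟩
    rw [hK.disjoint.eq_bot, Subgroup.mem_bot] at h1
    exact commutatorElement_eq_one_iff_mul_comm.1 h1
  have hNc : ∀ x ∈ (P : Subgroup G), ∀ y ∈ N, x * y = y * x := by
    have h1 : N ≤ (Subgroup.center (P : Subgroup G)).map (P : Subgroup G).subtype := by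
      haveI : ((Subgroup.center (P : Subgroup G)).map (P : Subgroup G).subtype).Normal := inferInstance
      haveI : (N.subgroupOf (P : Subgroup G)).Normal := hNn.subgroupOf _
      have h2 : (Subgroup.center (P : Subgroup G)) ≠ ⊥ := by
        have := CfsgLib.PGroup.inf_center_ne_bot P.2 (N.subgroupOf (P : Subgroup G))
          (by rw [Ne, Subgroup.subgroupOf_eq_bot, disjoint_iff, inf_eq_left.2 hNP]; exact hN)
        exact fun e => this (eq_bot_mono inf_le_right e)
      exact huniq _ inferInstance ((Subgroup.map_eq_bot_iff_of_injective _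
        (P : Subgroup G).subtype_injective).not.2 h2)
    intro x hx y hy
    obtain ⟨z, hz, rfl⟩ := h1 hy
    exact congrArg Subtype.val (Subgroup.mem_center_iff.1 hz ⟨x, hx⟩)
  have hsplit : ∀ g : G, ∃ x ∈ (P : Subgroup G), ∃ k ∈ K, g = x * k := fun g =>
    exists_mul_of_mem_sup (Subgroup.normalizer_eq_top (P : Subgroup G) ▸ le_top)
      (hPK ▸ Subgroup.mem_top g)
  -- the exponent of `K` divides `p - 1`
  have hexpK : ∀ k ∈ K, k ^ (p - 1) = 1 := by
    intro k hk
    set y := k ^ (p - 1) with hy
    have hyK : y ∈ K := pow_mem hk _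
    set A := Subgroup.zpowers y with hA
    have hAK : A ≤ K := Subgroup.zpowers_le.2 hyK
    set C := (P : Subgroup G) ⊓ Subgroup.centralizer {y} with hC
    obtain ⟨m, S, h0, hl, hSn, hstep, -⟩ := exists_prime_series hQ
    set T : Fin (m + 1) → Subgroup G := fun i => (S i).comap (QuotientGroup.mk' N) with hT
    have hTn : ∀ i, (T i).Normal := fun i => (hSn i).comap _
    have hind : ∀ i, T i ⊓ (P : Subgroup G) ≤ N ⊔ C := by
      refine Fin.induction ?_ fun i ih => ?_
      · refine le_sup_of_le_left ((inf_le_left).trans ?_)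
        simp [hT, h0]
      intro x hx
      haveI := hTn i.castSucc
      haveI := hTn i.succ
      set D := T i.castSucc with hD
      set r := D.relIndex (T i.succ) with hr
      have hrp : r.Prime := by
        rw [hr, hD, hT]
        show ((S i.castSucc).comap _).relIndex ((S i.succ).comap _) |>.Prime
        rw [Subgroup.relIndex_comap, Subgroup.map_comap_eq_self_of_surjective
          (QuotientGroup.mk'_surjective N)]
        exact (hstep i).2
      set L := (T i.succ).map (QuotientGroup.mk' D) with hL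
      have hLcard : Nat.card L = r := by
        rw [hL, hr]
        have h4 : Subgroup.relIndex ⊥ L = r := by
          rw [hL, ← Subgroup.relIndex_comap, MonoidHom.comap_bot, QuotientGroup.ker_mk', hr]
        rw [← Subgroup.relIndex_bot_left L]
        exact h4
      haveI : L.Normal := (hTn i.succ).map _ (QuotientGroup.mk'_surjective D)
      have hxL : (x : G ⧸ D) ∈ L := Subgroup.mem_map_of_mem _ hx.1
      by_cases hxD : x ∈ D
      · exact ih ⟨hxD, hx.2⟩
      have hrp' : r = p := by
        obtain ⟨j, hj⟩ := IsPGroup.iff_orderOf.1 P.2 ⟨x, hx.2⟩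
        rw [← Subgroup.orderOf_coe] at hj
        by_contra hne
        refine hxD ((QuotientGroup.eq_one_iff x).1 (orderOf_eq_one_iff.1 (Nat.eq_one_of_dvd_coprimes
          (Nat.coprime_pow_primes j 1 hp hrp (Ne.symm hne)) (hj ▸ orderOf_map_dvd (QuotientGroup.mk' D) x) ?_)))
        rw [pow_one, ← hLcard]
        exact Subgroup.orderOf_dvd_natCard _ hxL
      haveI : IsCyclic L := isCyclic_of_prime (by rw [hLcard]; exact hrp)
      have hconj : MulAut.conjNormal (H := L) (y : G ⧸ D) = 1 := by
        rw [hy, QuotientGroup.mk_pow, map_pow]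
        refine orderOf_dvd_iff_pow_eq_one.1 ((orderOf_dvd_natCard _).trans ?_)
        rw [IsCyclic.card_mulAut, hLcard, hrp', Nat.totient_prime hp]
      have hcom : ∀ b ∈ A, ⁅b, x⁆ ∈ D ⊓ (P : Subgroup G) := by
        intro b hb
        obtain ⟨j, rfl⟩ := hb
        refine ⟨(QuotientGroup.eq_one_iff _).1 ?_, ?_⟩
        · have h5 : MulAut.conjNormal (H := L) ((y : G ⧸ D) ^ j) = 1 := by
            rw [map_zpow, hconj, one_zpow]
          have h6 := congrArg (fun e : MulAut L => ((e ⟨_, hxL⟩ : L) : G ⧸ D)) h5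
          simp only [MulAut.conjNormal_apply, MulAut.one_apply] at h6
          rw [← QuotientGroup.mk'_apply, map_commutatorElement, commutatorElement_def, map_zpow,
            QuotientGroup.mk'_apply, QuotientGroup.mk'_apply, h6, mul_inv_cancel]
        · rw [commutatorElement_def]
          exact (P : Subgroup G).mul_mem (hPn.conj_mem x hx.2 _) ((P : Subgroup G).inv_mem hx.2)
      obtain ⟨d, hd, hdx⟩ := exists_mul_mem_centralizer A (D ⊓ (P : Subgroup G))
        (le_normalizer_inf (Subgroup.normalizer_eq_top D ▸ le_top)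
          (Subgroup.normalizer_eq_top (P : Subgroup G) ▸ le_top))
        ((hKp.coprime_dvd_left (Subgroup.card_dvd_of_le hAK)).coprime_dvd_right
          (Subgroup.card_dvd_of_le inf_le_right)) (Or.inr inferInstance) x hcom
      have hdC : d * x ∈ C := ⟨mul_mem hd.2 hx.2, Subgroup.mem_centralizer_singleton_iff.2
        (Subgroup.mem_centralizer_iff.1 hdx y (Subgroup.mem_zpowers y)).symm⟩
      have := mul_mem (inv_mem (ih hd)) (Subgroup.mem_sup_right hdC : d * x ∈ N ⊔ C)
      rwa [inv_mul_cancel_left] at this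
    have hPC : (P : Subgroup G) ≤ N ⊔ C := fun x hx =>
      hind (Fin.last m) ⟨by simp [hT, hl], hx⟩
    have hCn : C.Normal := by
      refine Subgroup.normalizer_eq_top_iff.1 (top_le_iff.1 (hPK.ge.trans (sup_le
        (hPC.trans (sup_le ?_ Subgroup.le_normalizer)) ?_)))
      · intro z hz
        refine mem_normalizer_of_conj_mem fun c hc => ?_
        rw [← hNc c hc.1 z hz, mul_inv_cancel_right]
        exact hc
      · refine le_normalizer_inf (Subgroup.normalizer_eq_top (P : Subgroup G) ▸ le_top)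
          fun z hz => mem_normalizer_of_conj_mem fun c hc => ?_
        rw [Subgroup.mem_centralizer_singleton_iff] at hc ⊢
        have h1 : z⁻¹ * y = y * z⁻¹ := hKc _ (K.inv_mem hz) _ hyK
        calc z * c * z⁻¹ * y = z * c * (z⁻¹ * y) := by group
          _ = z * (c * y) * z⁻¹ := by rw [h1]; group
          _ = (z * y) * c * z⁻¹ := by rw [hc]; group
          _ = _ := by rw [hKc z hz y hyK]; group
    have hNC : N ≤ C := by
      by_contra hle
      have hCb : C = ⊥ := by
        by_contra hCb
        exact hle (huniq C hCn hCb)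
      rw [hCb, sup_bot_eq] at hPC
      obtain ⟨M, hM, hKM⟩ := (eq_top_or_exists_le_coatom K).resolve_left fun e => by
        have := hK.symm.index_eq_card
        rw [e] at hKp
        exact hN (eq_bot_mono hNP (disjoint_of_coprime hKp |> (fun h => by simpa using h)))
      exact hM.1 (top_le_iff.1 (hPK.ge.trans (sup_le
        (hPC.trans (hNΦ.trans (frattini_le_coatom hM))) hKM)))
    have hyc : ∀ x ∈ (P : Subgroup G), y * x = x * y := fun x hx =>
      (Subgroup.mem_centralizer_singleton_iff.1 (sup_le hNC le_rfl (hPC hx)).2).symm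
    -- the centraliser of `P` in `K` is trivial
    by_contra hy1
    have hn' : (K ⊓ Subgroup.centralizer ((P : Subgroup G) : Set G)).Normal := by
      refine ⟨fun z hz g => ?_⟩
      obtain ⟨x, hx, l, hl', rfl⟩ := hsplit g
      have h1 : l * z * l⁻¹ = z := by rw [hKc l hl' z hz.1, mul_inv_cancel_right]
      have h2 : x * z * x⁻¹ = z := by
        rw [Subgroup.mem_centralizer_iff.1 hz.2 x hx, mul_inv_cancel_right]
      rw [show x * l * z * (x * l)⁻¹ = x * (l * z * l⁻¹) * x⁻¹ by group, h1, h2]
      exact hz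
    have hyin : y ∈ K ⊓ Subgroup.centralizer ((P : Subgroup G) : Set G) :=
      ⟨hyK, Subgroup.mem_centralizer_iff.2 fun x hx => (hyc x hx).symm⟩
    refine hN (eq_bot_mono (le_inf hNP ((huniq _ hn' fun e => hy1 ?_).trans inf_le_left))
      hK.disjoint.eq_bot)
    rw [e, Subgroup.mem_bot] at hyin
    exact hyin
  -- every element of `K` acts on `N` as a power map
  letI : CommGroup N := { (inferInstance : Group N) with
    mul_comm := fun a b => Subtype.ext (hcomm _ a.2 _ b.2) }
  haveI : Nontrivial N := (Subgroup.nontrivial_iff_ne_bot N).2 hN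
  have hpow : ∀ k ∈ K, ∃ a : ℕ, ∀ v ∈ N, k * v * k⁻¹ = v ^ a := by
    intro k hk
    have hiter : ∀ (i : ℕ) (v : N), ((((MulAut.conjNormal k : MulAut N).toMonoidHom)^[i] v : N) : G) =
        k ^ i * v * (k ^ i)⁻¹ := by
      intro i v
      induction i with
      | zero => simp
      | succ i ih =>
        rw [Function.iterate_succ_apply', pow_succ']
        show k * _ * k⁻¹ = _
        rw [ih]; group
    obtain ⟨v, hv, a, ha⟩ := exists_eigen (p := p) (V := N) (fun v => Subtype.ext (hpN v v.2))
      (MulAut.conjNormal k : MulAut N).toMonoidHom fun v => Subtype.ext (by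
        rw [hiter, show k ^ p = k by
          conv_lhs => rw [← Nat.sub_add_cancel hp.pos, pow_succ, hexpK k hk, one_mul]]
        rfl)
    let E : Subgroup G :=
      { carrier := {w | w ∈ N ∧ k * w * k⁻¹ = w ^ a}
        one_mem' := ⟨one_mem _, by simp⟩
        mul_mem' := fun {u w} hu hw => ⟨mul_mem hu.1 hw.1, by
          rw [Commute.mul_pow (hcomm u hu.1 w hw.1), ← hu.2, ← hw.2]; group⟩
        inv_mem' := fun {u} hu => ⟨inv_mem hu.1, by rw [inv_pow, ← hu.2]; group⟩ }
    have hEn : E.Normal := ⟨fun w hw g => by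
      obtain ⟨x, hx, l, hl', rfl⟩ := hsplit g
      have hlw : l * w * l⁻¹ ∈ N := hNn.conj_mem w hw.1 l
      have e : x * l * w * (x * l)⁻¹ = l * w * l⁻¹ := by
        calc x * l * w * (x * l)⁻¹ = x * (l * w * l⁻¹) * x⁻¹ := by group
          _ = _ := by rw [hNc x hx _ hlw, mul_inv_cancel_right]
      rw [e]
      refine ⟨hlw, ?_⟩
      rw [conj_pow, ← hw.2]
      calc k * (l * w * l⁻¹) * k⁻¹ = (k * l) * w * (k * l)⁻¹ := by group
        _ = _ := by rw [hKc k hk l hl']; group⟩
    have hEN : E = N := (hmin E hEn fun w hw => hw.1).resolve_left fun e => hv (Subtype.ext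
      (Subgroup.mem_bot.1 (e.le (show (v : G) ∈ E from ⟨v.2, congrArg Subtype.val ha⟩))))
    exact ⟨a, fun w hw => (hEN.ge hw).2⟩
  obtain ⟨v, hv, hv1⟩ := (Subgroup.nontrivial_iff_exists_ne_one N).1 inferInstance
  have hzn : (Subgroup.zpowers v).Normal := ⟨fun w hw g => by
    obtain ⟨x, hx, l, hl', rfl⟩ := hsplit g
    have hwN : w ∈ N := Subgroup.zpowers_le.2 hv hw
    obtain ⟨a, ha⟩ := hpow l hl'
    rw [show x * l * w * (x * l)⁻¹ = x * (l * w * l⁻¹) * x⁻¹ by group, ha w hwN,
      hNc x hx _ (pow_mem hwN a), mul_inv_cancel_right]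
    exact pow_mem hw a⟩
  have hNv : Subgroup.zpowers v = N := (hmin _ hzn (Subgroup.zpowers_le.2 hv)).resolve_left
    fun e => hv1 (Subgroup.zpowers_eq_bot.1 e)
  haveI : IsCyclic N := hNv ▸ inferInstance
  exact isSupersolvable_extension N hQ

/-- Huppert: if all maximal subgroups have prime index the group is supersolvable. -/
theorem isSupersolvable_of_prime_index_maximal (h : ∀ M : Subgroup G, IsCoatom M → M.index.Prime) :
    Cfsg.IsSupersolvable G :=
  huppert_aux _ G rfl h

end CfsgLib.Solvable
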