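import Cfsg.Agent.Lib.Solvable.MinimalNonNilpotent
import Cfsg.Agent.Lib.Solvable.Huppert

/-!
Wielandt's theorem on nilpotent Hall subgroups; conjugacy of supersolvable Hall subgroups.
-/

set_option autoImplicit false

open scoped Pointwise

namespace CfsgLib.Solvable

universe u

variable {G : Type u} [Group G] [Finite G]

omit [Finite G] in
theorem conj_smul_inv_le {g : G} {H K : Subgroup G} (h : H ≤ MulAut.conj g⁻¹ • K) :
    MulAut.conj g • H ≤ K :=
  (conj_smul_mono g h).trans
    (by rw [conj_smul_conj_smul, mul_inv_cancel, map_one, one_smul])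

theorem map_subgroupOf_conj_le {N A B : Subgroup G} (x : N)
    (h : A.subgroupOf N ≤ MulAut.conj x • B.subgroupOf N) (hA : A ≤ N) :
    A ≤ MulAut.conj (x : G) • B := by
  intro a ha
  have h1 := mem_conj_smul_iff.1 (h (Subgroup.mem_subgroupOf.2 (show ((⟨a, hA ha⟩ : N) : G) ∈ A from ha)))
  exact mem_conj_smul_iff.2 h1

theorem index_conj_smul (g : G) (H : Subgroup G) :
    (MulAut.conj g • H : Subgroup G).index = H.index := by
  have e1 := (MulAut.conj g • H : Subgroup G).card_mul_index
  rw [card_conj_smul, ← H.card_mul_index] at e1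
  exact Nat.eq_of_mul_eq_mul_left Nat.card_pos e1

theorem le_conj_smul_of_map {N : Subgroup G} [N.Normal] {A B : Subgroup G} (hNB : N ≤ B) (x : G)
    (h : A.map (QuotientGroup.mk' N) ≤
      MulAut.conj (QuotientGroup.mk' N x) • B.map (QuotientGroup.mk' N)) :
    A ≤ MulAut.conj x • B := by
  intro a ha
  have h1 := mem_conj_smul_iff.1 (h (Subgroup.mem_map_of_mem _ ha))
  rw [← map_inv, ← map_mul, ← map_mul] at h1
  have h2 : x⁻¹ * a * x ∈ (B.map (QuotientGroup.mk' N)).comap (QuotientGroup.mk' N) := h1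
  rw [Subgroup.comap_map_eq_self ((QuotientGroup.ker_mk' N).le.trans hNB)] at h2
  exact mem_conj_smul_iff.2 h2

private theorem wielandt_aux : ∀ (n : ℕ) (G : Type u) [Group G] [Finite G], Nat.card G = n →
    ∀ (H : Subgroup G), Group.IsNilpotent H → (Nat.card H).Coprime H.index →
    ∀ (m : ℕ) (K : Subgroup G), Nat.card K = m →
      (∀ p : ℕ, p.Prime → p ∣ Nat.card K → p ∣ Nat.card H) → ∃ x : G, K ≤ MulAut.conj x • H := by
  intro n
  induction n using Nat.strong_induction_on with
  | _ n ih =>
  intro G _ _ hn H hnil hHall m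
  induction m using Nat.strong_induction_on with
  | _ m ihm =>
  intro K hm hK
  by_cases hKb : K = ⊥
  · exact ⟨1, hKb ▸ bot_le⟩
  haveI : Nontrivial K := (Subgroup.nontrivial_iff_ne_bot K).2 hKb
  have hsolv : Group.IsSolvable K := by
    refine isSolvable_of_proper_nilpotent fun L hL => ?_
    have hcard : Nat.card (L.map K.subtype) = Nat.card L := Subgroup.card_subtype K L
    obtain ⟨x, hx⟩ := ihm _ (hm ▸ lt_of_le_of_ne
      (hcard ▸ Subgroup.card_le_card_group L) fun e => hL
        ((Subgroup.card_eq_iff_eq_top L).1 (hcard ▸ e))) (L.map K.subtype) rfl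
      fun p hp hd => hK p hp ((hcard ▸ hd).trans (Subgroup.card_subgroup_dvd_card L))
    have hnx : Group.IsNilpotent (MulAut.conj x • H : Subgroup G) := by
      rw [conj_smul_eq_map]; exact isNilpotent_map' _ hnil
    haveI := isNilpotent_le hnx hx
    exact Group.nilpotent_of_mulEquiv (L.equivMapOfInjective _ K.subtype_injective).symm
  obtain ⟨N₀, hN₀n, hN₀, hmin⟩ := exists_minimal_normal (G := K)
  obtain ⟨q, hq, hqN⟩ := exists_prime_pow_eq_one_of_minimal_normal N₀ hN₀ hmin inferInstance
  haveI : Fact q.Prime := ⟨hq⟩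
  set Q := N₀.map K.subtype with hQ
  have hN₀q : IsPGroup q N₀ := fun x => ⟨1, by rw [pow_one]; exact Subtype.ext (hqN x x.2)⟩
  have hQp : IsPGroup q Q := hN₀q.map _
  have hQb : Q ≠ ⊥ := (Subgroup.map_eq_bot_iff_of_injective _ K.subtype_injective).not.2 hN₀
  have hKN : K ≤ Subgroup.normalizer (Q : Set G) := le_normalizer_of_conj_mem fun a ha x hx => by
    obtain ⟨y, hy, rfl⟩ := hx
    exact ⟨_, hN₀n.conj_mem y hy ⟨a, ha⟩, rfl⟩
  have hqH : q ∣ Nat.card H := by
    refine hK q hq (dvd_trans ?_ (Subgroup.card_subgroup_dvd_card N₀))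
    haveI : Nontrivial N₀ := (Subgroup.nontrivial_iff_ne_bot _).2 hN₀
    obtain ⟨e, he0, he⟩ := hN₀q.nontrivial_iff_card.1 inferInstance
    exact he ▸ dvd_pow_self q (by omega)
  have hfact : ∀ r : ℕ, r.Prime → r ∣ Nat.card H →
      (Nat.card G).factorization r = (Nat.card H).factorization r := by
    intro r hr hrH
    rw [← H.card_mul_index, Nat.factorization_mul Nat.card_pos.ne' Subgroup.index_ne_zero_of_finite,
      Finsupp.add_apply, Nat.factorization_eq_zero_of_not_dvd fun h =>
        hr.one_lt.ne' (Nat.eq_one_of_dvd_coprimes hHall hrH h), add_zero]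
  obtain ⟨SH⟩ := (inferInstance : Nonempty (Sylow q H))
  set T₀ : Sylow q G := Sylow.ofCard ((SH : Subgroup H).map H.subtype) (by
    rw [Subgroup.card_subtype, SH.card_eq_multiplicity, hfact q hq hqH]) with hT₀
  set N := Subgroup.normalizer (Q : Set G) with hN
  obtain ⟨S, hQS⟩ := ((hQp.of_equiv (Subgroup.subgroupOfEquivOfLe
    (Subgroup.le_normalizer : Q ≤ N)).symm) : IsPGroup q (Q.subgroupOf N)).exists_le_sylow
  obtain ⟨T, hST⟩ := (S.2.map N.subtype).exists_le_sylow
  obtain ⟨g, hg⟩ := MulAction.exists_smul_eq G T₀ T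
  set H' := MulAut.conj g • H with hH'
  have hnil' : Group.IsNilpotent H' := by
    rw [hH', conj_smul_eq_map]; exact isNilpotent_map' _ hnil
  have hTH : (T : Subgroup G) ≤ H' := by
    rw [← hg, Sylow.coe_subgroup_smul]
    exact conj_smul_mono g (Subgroup.map_subtype_le _)
  have hQT : Q ≤ (T : Subgroup G) := fun x hx =>
    hST ⟨⟨x, Subgroup.le_normalizer hx⟩, hQS (Subgroup.mem_subgroupOf.2 hx), rfl⟩
  have hcop' : (Nat.card H').Coprime H'.index := by
    rwa [hH', card_conj_smul, index_conj_smul]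
  by_cases hNt : N = ⊤
  · haveI : Q.Normal := Subgroup.normalizer_eq_top_iff.1 hNt
    have hQH' : Q ≤ H' := hQT.trans hTH
    have hker : (QuotientGroup.mk' Q).ker ≤ H' := (QuotientGroup.ker_mk' Q).le.trans hQH'
    have hidx := Subgroup.index_map_eq H' (QuotientGroup.mk'_surjective Q) hker
    have hcard : Nat.card (H'.map (QuotientGroup.mk' Q)) ∣ Nat.card H' :=
      Subgroup.card_map_dvd _ _
    obtain ⟨x, hx⟩ := ih _ (hn ▸ card_quotient_lt _ hQb) (G ⧸ Q) rfl (H'.map (QuotientGroup.mk' Q))
      (isNilpotent_map' _ hnil') (by rw [hidx]; exact hcop'.coprime_dvd_left hcard) _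
      (K.map (QuotientGroup.mk' Q)) rfl (fun r hr hd => by
        have h1 : r ∣ Nat.card (H'.map (QuotientGroup.mk' Q)) * H'.index := by
          rw [← hidx, Subgroup.card_mul_index]
          exact hd.trans (Subgroup.card_subgroup_dvd_card _)
        rcases hr.dvd_mul.1 h1 with h | h
        · exact h
        · exfalso
          refine hr.one_lt.ne' (Nat.eq_one_of_dvd_coprimes hcop' ?_ h)
          rw [hH', card_conj_smul]
          exact hK r hr (hd.trans (Subgroup.card_map_dvd _ _)))
    obtain ⟨y, rfl⟩ := QuotientGroup.mk'_surjective Q x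
    refine ⟨y * g, ?_⟩
    rw [← conj_smul_conj_smul]
    exact le_conj_smul_of_map hQH' y hx
  · have hfull : ∀ r : ℕ, r.Prime → r ∣ Nat.card H →
        r ^ (Nat.card N).factorization r ∣ Nat.card (H' ⊓ N : Subgroup G) := by
      intro r hr hrH
      haveI : Fact r.Prime := ⟨hr⟩
      rcases eq_or_ne r q with rfl | hne
      · rw [← S.card_eq_multiplicity, ← Subgroup.card_subtype N (S : Subgroup N)]
        exact Subgroup.card_dvd_of_le (le_inf (hST.trans hTH) (Subgroup.map_subtype_le _))
      · obtain ⟨R⟩ := (inferInstance : Nonempty (Sylow r H'))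
        have hRN : (R : Subgroup H').map H'.subtype ≤ H' ⊓ N := by
          refine le_inf (Subgroup.map_subtype_le _) fun y hy => ?_
          refine mem_normalizer_of_conj_mem fun x hx => ?_
          have hc : x * y = y * x := by
            refine CfsgLib.OddLocal.commute_of_mem_nilpotent hnil' (hTH (hQT hx))
              (Subgroup.map_subtype_le _ hy) ?_
            obtain ⟨i, hi⟩ := IsPGroup.iff_orderOf.1 hQp ⟨x, hx⟩
            obtain ⟨j, hj⟩ := IsPGroup.iff_orderOf.1 (R.2.map H'.subtype) ⟨y, hy⟩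
            rw [← Subgroup.orderOf_coe] at hi hj
            rw [hi, hj]
            exact Nat.coprime_pow_primes _ _ hq hr hne.symm
          rwa [← hc, mul_inv_cancel_right]
        refine dvd_trans (pow_dvd_pow r ?_) (Subgroup.card_dvd_of_le hRN |> fun h => by
          rwa [Subgroup.card_subtype, R.card_eq_multiplicity] at h)
        rw [hH', card_conj_smul, ← hfact r hr hrH]
        exact (Nat.factorization_le_iff_dvd Nat.card_pos.ne' Nat.card_pos.ne').2
          (Subgroup.card_subgroup_dvd_card N) r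
    have hHallN : (Nat.card ((H' ⊓ N).subgroupOf N)).Coprime ((H' ⊓ N).subgroupOf N).index := by
      refine Nat.coprime_of_dvd fun r hr hd1 hd2 => ?_
      rw [Nat.card_congr (Subgroup.subgroupOfEquivOfLe inf_le_right).toEquiv] at hd1
      have hrH : r ∣ Nat.card H := by
        have := hd1.trans (Subgroup.card_dvd_of_le inf_le_left)
        rwa [hH', card_conj_smul] at this
      have h1 := ((H' ⊓ N).subgroupOf N).card_mul_index
      rw [Nat.card_congr (Subgroup.subgroupOfEquivOfLe inf_le_right).toEquiv] at h1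
      have h2 := Nat.mul_dvd_mul (hfull r hr hrH) hd2
      rw [← pow_succ, h1] at h2
      exact Nat.pow_succ_factorization_not_dvd Nat.card_pos.ne' hr h2
    obtain ⟨x, hx⟩ := ih (Nat.card N) (hn ▸ lt_of_le_of_ne (Subgroup.card_le_card_group N)
      fun e => hNt ((Subgroup.card_eq_iff_eq_top N).1 e)) N rfl ((H' ⊓ N).subgroupOf N)
      (Group.nilpotent_of_mulEquiv (_h := isNilpotent_le hnil' inf_le_left)
        (Subgroup.subgroupOfEquivOfLe inf_le_right).symm) hHallN _ (K.subgroupOf N) rfl
      (fun r hr hd => by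
        rw [Nat.card_congr (Subgroup.subgroupOfEquivOfLe inf_le_right).toEquiv]
        rw [Nat.card_congr (Subgroup.subgroupOfEquivOfLe hKN).toEquiv] at hd
        exact (dvd_pow_self r (hr.factorization_pos_of_dvd Nat.card_pos.ne'
          (hd.trans (Subgroup.card_dvd_of_le hKN))).ne').trans (hfull r hr (hK r hr hd)))
    refine ⟨(x : G) * g, ?_⟩
    rw [← conj_smul_conj_smul]
    exact (map_subgroupOf_conj_le x hx hKN).trans (conj_smul_mono _ inf_le_left)

theorem nilpotent_hall_dominates {H K : Subgroup G} (hH : Group.IsNilpotent H)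
    (hHall : (Nat.card H).Coprime H.index)
    (hK : ∀ p : ℕ, p.Prime → p ∣ Nat.card K → p ∣ Nat.card H) :
    ∃ x : G, K ≤ MulAut.conj x • H :=
  wielandt_aux _ G rfl H hH hHall _ K rfl hK

private theorem ss_hall_aux : ∀ (n : ℕ) (G : Type u) [Group G] [Finite G], Nat.card G = n →
    ∀ H K : Subgroup G, Cfsg.IsSupersolvable H → Cfsg.IsSupersolvable K →
      Nat.card H = Nat.card K → (Nat.card H).Coprime H.index →
      ∃ x : G, MulAut.conj x • H = K := by
  intro n
  induction n using Nat.strong_induction_on with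
  | _ n ih =>
  intro G _ _ hn H K hH hK hcard hHall
  by_cases hd : Nat.card H = 1
  · exact ⟨1, by rw [show H = ⊥ from Subgroup.card_eq_one.1 hd,
      show K = ⊥ from Subgroup.card_eq_one.1 (hcard.symm.trans hd), map_one, one_smul]⟩
  have hne : (Nat.card H).primeFactors.Nonempty := by
    rw [Nat.nonempty_primeFactors]
    exact lt_of_le_of_ne Nat.card_pos (Ne.symm hd)
  set p := (Nat.card H).primeFactors.max' hne
  have hp := Nat.mem_primeFactors.1 ((Nat.card H).primeFactors.max'_mem hne)
  haveI : Fact p.Prime := ⟨hp.1⟩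
  have hmax : ∀ L : Subgroup G, Nat.card L = Nat.card H →
      ∀ q : ℕ, q.Prime → q ∣ Nat.card L → q ≤ p := fun L hL q hq hd =>
    Finset.le_max' _ q (Nat.mem_primeFactors.2 ⟨hq, hL ▸ hd, Nat.card_pos.ne'⟩)
  have hfact : (Nat.card G).factorization p = (Nat.card H).factorization p := by
    rw [← H.card_mul_index, Nat.factorization_mul Nat.card_pos.ne' Subgroup.index_ne_zero_of_finite,
      Finsupp.add_apply, Nat.factorization_eq_zero_of_not_dvd fun h =>
        hp.1.one_lt.ne' (Nat.eq_one_of_dvd_coprimes hHall hp.2.1 h), add_zero]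
  obtain ⟨PH⟩ := (inferInstance : Nonempty (Sylow p H))
  obtain ⟨PK⟩ := (inferInstance : Nonempty (Sylow p K))
  haveI hPH := normal_sylow_of_max_prime hH (hmax H rfl) PH
  haveI hPK := normal_sylow_of_max_prime hK (hmax K hcard.symm) PK
  set QH : Sylow p G := Sylow.ofCard ((PH : Subgroup H).map H.subtype) (by
    rw [Subgroup.card_subtype, PH.card_eq_multiplicity, hfact]) with hQH
  set QK : Sylow p G := Sylow.ofCard ((PK : Subgroup K).map K.subtype) (by
    rw [Subgroup.card_subtype, PK.card_eq_multiplicity, hfact, hcard]) with hQK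
  obtain ⟨g, hg⟩ := MulAction.exists_smul_eq G QH QK
  have hgQ : MulAut.conj g • ((PH : Subgroup H).map H.subtype) = (PK : Subgroup K).map K.subtype :=
    congrArg (fun S : Sylow p G => (S : Subgroup G)) hg
  set Q := (PK : Subgroup K).map K.subtype with hQ
  set H' := MulAut.conj g • H with hH'
  have hH's : Cfsg.IsSupersolvable H' := by
    rw [hH', conj_smul_eq_map]
    exact isSupersolvable_of_mulEquiv (H.equivMapOfInjective _ (MulAut.conj g).injective) hH
  have hcard' : Nat.card H' = Nat.card K := by rw [hH', card_conj_smul, hcard]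
  have hcop' : (Nat.card H').Coprime H'.index := by rwa [hH', card_conj_smul, index_conj_smul]
  have hnorm : ∀ (L : Subgroup G) (P : Subgroup L), P.Normal →
      L ≤ Subgroup.normalizer ((P.map L.subtype : Subgroup G) : Set G) := fun L P hP =>
    le_normalizer_of_conj_mem fun a ha x hx => by
      obtain ⟨y, hy, rfl⟩ := hx
      exact ⟨_, hP.conj_mem y hy ⟨a, ha⟩, rfl⟩
  have hKN : K ≤ Subgroup.normalizer (Q : Set G) := hnorm K _ hPK
  have hHN : H' ≤ Subgroup.normalizer (Q : Set G) := by
    refine le_normalizer_of_conj_mem fun a ha x hx => ?_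
    rw [← hgQ, mem_conj_smul_iff] at hx ⊢
    have := normalizer_conj_mem (hnorm H _ hPH (mem_conj_smul_iff.1 ha)) hx
    simpa [mul_assoc] using this
  set N := Subgroup.normalizer (Q : Set G) with hN
  suffices h : ∃ x : G, MulAut.conj x • H' = K by
    obtain ⟨x, hx⟩ := h
    exact ⟨x * g, by rw [← conj_smul_conj_smul]; exact hx⟩
  by_cases hNt : N = ⊤
  · haveI : Q.Normal := Subgroup.normalizer_eq_top_iff.1 hNt
    have hQH : Q ≤ H' := hgQ ▸ conj_smul_mono g (Subgroup.map_subtype_le _)
    have hQK' : Q ≤ K := Subgroup.map_subtype_le _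
    have hQb : Q ≠ ⊥ := by
      rw [hQ, Ne, Subgroup.map_eq_bot_iff_of_injective _ K.subtype_injective]
      exact PK.ne_bot_of_dvd_card (hcard ▸ hp.2.1)
    set π := QuotientGroup.mk' Q
    have hsurj : Function.Surjective π := QuotientGroup.mk'_surjective Q
    have hi : ∀ L : Subgroup G, Q ≤ L → (L.map π).index = L.index := fun L hL =>
      Subgroup.index_map_eq L hsurj ((QuotientGroup.ker_mk' Q).le.trans hL)
    have hidx : H'.index = K.index := by
      have e1 := H'.card_mul_index
      rw [hcard', ← K.card_mul_index] at e1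
      exact Nat.eq_of_mul_eq_mul_left Nat.card_pos e1
    have hc : Nat.card (H'.map π) = Nat.card (K.map π) := by
      have e1 := (H'.map π).card_mul_index
      rw [hi H' hQH, ← (K.map π).card_mul_index, hi K hQK', hidx] at e1
      exact Nat.eq_of_mul_eq_mul_right (Nat.pos_of_ne_zero Subgroup.index_ne_zero_of_finite) e1
    obtain ⟨x, hx⟩ := ih _ (hn ▸ card_quotient_lt _ hQb) (G ⧸ Q) rfl (H'.map π) (K.map π)
      (isSupersolvable_of_surjective (π.subgroupMap H') (π.subgroupMap_surjective H') hH's)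
      (isSupersolvable_of_surjective (π.subgroupMap K) (π.subgroupMap_surjective K) hK) hc
      (by rw [hi H' hQH]; exact hcop'.coprime_dvd_left (Subgroup.card_map_dvd _ _))
    obtain ⟨y, rfl⟩ := hsurj x
    refine ⟨y, Subgroup.eq_of_le_of_card_ge ?_ (by rw [card_conj_smul, hcard'])⟩
    refine conj_smul_inv_le (le_conj_smul_of_map hQK' y⁻¹ ?_)
    rw [← hx, conj_smul_conj_smul, ← map_mul, inv_mul_cancel, map_one, map_one, one_smul]
  · obtain ⟨x, hx⟩ := ih (Nat.card N) (hn ▸ lt_of_le_of_ne (Subgroup.card_le_card_group N)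
      fun e => hNt ((Subgroup.card_eq_iff_eq_top N).1 e)) N rfl (H'.subgroupOf N) (K.subgroupOf N)
      (isSupersolvable_of_mulEquiv (Subgroup.subgroupOfEquivOfLe hHN).symm hH's)
      (isSupersolvable_of_mulEquiv (Subgroup.subgroupOfEquivOfLe hKN).symm hK)
      (by rw [Nat.card_congr (Subgroup.subgroupOfEquivOfLe hHN).toEquiv,
        Nat.card_congr (Subgroup.subgroupOfEquivOfLe hKN).toEquiv, hcard'])
      (by
        rw [Nat.card_congr (Subgroup.subgroupOfEquivOfLe hHN).toEquiv]
        exact hcop'.coprime_dvd_right (Subgroup.relIndex_dvd_index_of_le hHN))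
    refine ⟨x, Subgroup.eq_of_le_of_card_ge (conj_smul_le_iff.2 fun a ha => ?_)
      (by rw [card_conj_smul, hcard'])⟩
    exact Subgroup.mem_subgroupOf.1 (conj_smul_le_iff.1 hx.le ⟨a, hHN ha⟩
      (Subgroup.mem_subgroupOf.2 ha))

theorem supersolvable_hall_conjugate {H K : Subgroup G} (hH : Cfsg.IsSupersolvable H)
    (hK : Cfsg.IsSupersolvable K) (hcard : Nat.card H = Nat.card K)
    (hHall : (Nat.card H).Coprime H.index) : ∃ x : G, MulAut.conj x • H = K :=
  ss_hall_aux _ G rfl H K hH hK hcard hHall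

end CfsgLib.Solvable
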