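import Cfsg.Agent.Lib.Solvable.GrossUpper
import Cfsg.Agent.Lib.Solvable.HallHigmanCyclic
import Cfsg.Agent.Lib.Solvable.ShultGross
import Cfsg.Agent.Lib.PGroup.Basic

/-!
Gross's lower level: a fixed-point-free automorphism of `2`-power order of a `q`-group with a
fixed-point-free linearisation centralises, in its power of order `2`, every invariant
`q'`-group of automorphisms of the `q`-group.
-/

set_option autoImplicit false

open scoped commutatorElement TensorProduct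

namespace CfsgLib.Solvable

universe u

/-- Restriction of a group of automorphisms to an invariant subgroup. -/
def restrictHom {Q : Type*} [Group Q] (Y : Subgroup (MulAut Q)) (H : Subgroup Q)
    (hH : ∀ y ∈ Y, ∀ x ∈ H, y x ∈ H) : Y →* MulAut H where
  toFun y :=
    { toFun := fun x => ⟨(y : MulAut Q) x, hH y y.2 x x.2⟩
      invFun := fun x => ⟨(y : MulAut Q)⁻¹ x, hH _ (Y.inv_mem y.2) x x.2⟩
      left_inv := fun x => Subtype.ext (MulAut.inv_apply_self Q (y : MulAut Q) (x : Q))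
      right_inv := fun x => Subtype.ext (MulAut.apply_inv_self Q (y : MulAut Q) (x : Q))
      map_mul' := fun x x' => Subtype.ext (map_mul (y : MulAut Q) (x : Q) x') }
  map_one' := rfl
  map_mul' _ _ := rfl

theorem restrictHom_coe {Q : Type*} [Group Q] (Y : Subgroup (MulAut Q)) (H : Subgroup Q)
    (hH : ∀ y ∈ Y, ∀ x ∈ H, y x ∈ H) (y : Y) (x : H) :
    ((restrictHom Y H hH y x : H) : Q) = (y : MulAut Q) x := rfl

theorem quotientHom_aux {Q : Type*} [Group Q] {N : Subgroup Q} [N.Normal] {a b : MulAut Q}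
    (ha : N ≤ N.comap a.toMonoidHom) (hb : N ≤ N.comap b.toMonoidHom) (hab : a * b = 1)
    (t : Q ⧸ N) :
    QuotientGroup.map N N a.toMonoidHom ha (QuotientGroup.map N N b.toMonoidHom hb t) = t := by
  induction t using QuotientGroup.induction_on with
  | H x =>
    show QuotientGroup.mk (a (b x)) = _
    rw [← MulAut.mul_apply, hab]; rfl

/-- Action of a group of automorphisms on an invariant quotient. -/
def quotientHom {Q : Type*} [Group Q] (Y : Subgroup (MulAut Q)) (N : Subgroup Q) [N.Normal]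
    (hN : ∀ y ∈ Y, ∀ x ∈ N, y x ∈ N) : Y →* MulAut (Q ⧸ N) where
  toFun y :=
    { toFun := QuotientGroup.map N N (y : MulAut Q).toMonoidHom (hN y y.2)
      invFun := QuotientGroup.map N N (y : MulAut Q)⁻¹.toMonoidHom (hN _ (Y.inv_mem y.2))
      left_inv := quotientHom_aux (hN _ (Y.inv_mem y.2)) (hN y y.2) (inv_mul_cancel _)
      right_inv := quotientHom_aux (hN y y.2) (hN _ (Y.inv_mem y.2)) (mul_inv_cancel _)
      map_mul' := map_mul _ }
  map_one' := MulEquiv.ext fun t => by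
    induction t using QuotientGroup.induction_on with
    | H x => rfl
  map_mul' y z := MulEquiv.ext fun t => by
    induction t using QuotientGroup.induction_on with
    | H x => rfl

theorem quotientHom_mk {Q : Type*} [Group Q] (Y : Subgroup (MulAut Q)) (N : Subgroup Q) [N.Normal]
    (hN : ∀ y ∈ Y, ∀ x ∈ N, y x ∈ N) (y : Y) (x : Q) :
    quotientHom Y N hN y (QuotientGroup.mk x) = QuotientGroup.mk ((y : MulAut Q) x) := rfl

theorem eq_one_of_pow_add_one_eq_two_pow {q l M : ℕ} (hodd : Odd q) (hM : 2 ≤ M)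
    (h : q ^ l + 1 = 2 ^ M) : l = 1 := by
  have h4 : 4 ∣ 2 ^ M := ⟨2 ^ (M - 2), by rw [show (4 : ℕ) = 2 ^ 2 by norm_num, ← pow_add]; congr 1; omega⟩
  rcases Nat.even_or_odd l with ⟨j, rfl⟩ | hl
  · exfalso
    obtain ⟨i, hi⟩ := hodd.pow (n := j)
    rw [pow_add, hi] at h
    rw [← h] at h4
    have e : (2 * i + 1) * (2 * i + 1) + 1 = 4 * (i * i + i) + 2 := by ring
    rw [e] at h4
    omega
  · set S := ∑ i ∈ Finset.range l, (-(q : ℤ)) ^ i with hS
    have h1 : S * ((q : ℤ) + 1) = 2 ^ M := by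
      have h2 := geom_sum_mul_neg (-(q : ℤ)) l
      rw [hl.neg_pow, sub_neg_eq_add, sub_neg_eq_add, add_comm (1 : ℤ) q,
        add_comm (1 : ℤ) ((q : ℤ) ^ l)] at h2
      rw [h2]
      exact_mod_cast h
    have hSodd : (S : ZMod 2) = 1 := by
      rw [hS, Int.cast_sum]
      have : (q : ZMod 2) = 1 := (ZMod.natCast_eq_one_iff_odd).2 hodd
      simp only [Int.cast_pow, Int.cast_neg, Int.cast_natCast, this, ZMod.neg_eq_self_mod_two,
        one_pow, Finset.sum_const, Finset.card_range, nsmul_eq_mul, mul_one]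
      exact (ZMod.natCast_eq_one_iff_odd).2 hl
    have hdvd : S.natAbs ∣ 2 ^ M := ⟨q + 1, by
      have := congrArg Int.natAbs h1
      rw [Int.natAbs_mul, Int.natAbs_pow] at this
      exact this.symm⟩
    obtain ⟨i, -, hi⟩ := (Nat.dvd_prime_pow Nat.prime_two).1 hdvd
    have hi0 : i = 0 := by
      by_contra hne
      have h0 : ((S : ℤ) : ZMod 2) = 0 := (ZMod.intCast_zmod_eq_zero_iff_dvd S 2).2
        (Int.natCast_dvd.2 (hi.symm ▸ dvd_pow_self 2 hne))
      exact zero_ne_one (h0.symm.trans hSodd)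
    have hpos : 0 < S := by
      by_contra hle
      have h2 : (0 : ℤ) < 2 ^ M := by positivity
      rw [← h1] at h2
      nlinarith
    have hS1 : S = 1 := by
      rw [hi0, pow_zero] at hi
      omega
    rw [hS1, one_mul] at h1
    have h2 : q + 1 = 2 ^ M := by exact_mod_cast h1
    have h3 : q ^ l = q ^ 1 := by rw [pow_one]; omega
    rcases eq_or_ne q 1 with hq | hq
    · subst hq
      have := Nat.le_of_dvd (by omega) h4
      omega
    · exact (Nat.pow_right_injective (by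
        obtain ⟨i, rfl⟩ := hodd
        omega) h3)

set_option maxHeartbeats 1000000 in
theorem false_of_two_level_groups_aux {A B : Type*} [CommGroup A] [CommGroup B] [Finite A]
    [Finite B] {q : ℕ} [Fact q.Prime] [Module (ZMod q) (Additive A)] [Module (ZMod q) (Additive B)]
    {Y : Type*} [Group Y] [Finite Y] {q' : ℕ} [hq' : Fact q'.Prime] (hqq : q' ≠ q) (hq2 : q ≠ 2)
    {n a M : ℕ} (hn : a + M = n) (hM : 2 ≤ M) (hqM : q + 1 = 2 ^ M)
    (hY : IsPGroup q' Y) (η : MulAut Y) (hη : η ^ (2 ^ n) = 1)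
    (U : Subgroup Y) (hUc : U ≤ Subgroup.center Y) (hUη : ∀ y ∈ U, η y ∈ U)
    (hUD : ∀ x y : Y, ⁅x, y⁆ ∈ U) (hUτ : ∀ y ∈ U, (η ^ (2 ^ (n - 1))) y = y)
    (hUfpf : ∀ x, x⁻¹ * (η ^ (2 ^ (n - 1))) x ∈ U → x ∈ U)
    (hgen : Subgroup.closure (Set.range fun x : Y => x⁻¹ * (η ^ (2 ^ (n - 1))) x) = ⊤)
    (αA : Y →* MulAut A) (φA : MulAut A) (hφA : ∀ y, φA * αA y = αA (η y) * φA)
    (hφAn : φA ^ (2 ^ n) = 1) (hφAfix : ∀ x, φA x = x → x = 1)
    (αB : Y →* MulAut B) (φB : MulAut B) (hφB : ∀ y, φB * αB y = αB ((η ^ (2 ^ a)) y) * φB)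
    (hφBn : φB ^ (2 ^ M) = 1)
    (π : A →* B) (hπ : Function.Surjective π) (hπα : ∀ y x, π (αA y x) = αB y (π x))
    (hπφ : ∀ x, π ((φA ^ (2 ^ a)) x) = φB (π x))
    (hmoved : ∃ y, αB ((η ^ (2 ^ (n - 1))) y) ≠ αB y)
    (hinv : Nat.card {x : B // (φB ^ (2 ^ (M - 1))) x = x⁻¹} ≤ q ^ 2) : False := by
  classical
  let K := AlgebraicClosure (ZMod q)
  haveI : Finite (Additive A) := Finite.of_equiv A Additive.ofMul
  haveI : Finite (Additive B) := Finite.of_equiv B Additive.ofMul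
  haveI : Module.Finite (ZMod q) (Additive A) := Module.Finite.of_finite
  haveI : Module.Finite (ZMod q) (Additive B) := Module.Finite.of_finite
  let gA : Module.End (ZMod q) (Additive A) →* Module.End K (K ⊗[ZMod q] Additive A) :=
    (Module.End.baseChangeHom (ZMod q) K (Additive A) : _ →ₐ[ZMod q] _)
  let gB : Module.End (ZMod q) (Additive B) →* Module.End K (K ⊗[ZMod q] Additive B) :=
    (Module.End.baseChangeHom (ZMod q) K (Additive B) : _ →ₐ[ZMod q] _)
  let eA : MulAut A →* Module.End K (K ⊗[ZMod q] Additive A) := gA.comp (zmodAut q)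
  let eB : MulAut B →* Module.End K (K ⊗[ZMod q] Additive B) := gB.comp (zmodAut q)
  let πL : Additive A →ₗ[ZMod q] Additive B := (MonoidHom.toAdditive π).toZModLinearMap q
  have hπL : ∀ v : Additive A, πL v = Additive.ofMul (π v.toMul) := fun v => by
    show (MonoidHom.toAdditive π).toZModLinearMap q v = _
    rw [AddMonoidHom.coe_toZModLinearMap]; simp
  have hcomp : ∀ (f : MulAut A) (g : MulAut B), (∀ x, π (f x) = g (π x)) →
      ∀ v, πL.baseChange K (eA f v) = eB g (πL.baseChange K v) := by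
    intro f g h v
    have h1 : πL ∘ₗ zmodAut q f = (zmodAut q g) ∘ₗ πL := LinearMap.ext fun w => by
      rw [LinearMap.comp_apply, LinearMap.comp_apply, zmodAut_apply, hπL, hπL, zmodAut_apply]
      exact congrArg Additive.ofMul (h _)
    have h2 := congrArg (fun F => LinearMap.baseChange K F v) h1
    simp only [LinearMap.baseChange_comp, LinearMap.comp_apply] at h2
    exact h2
  have hcast : ∀ l : ℕ, l.Prime → l ≠ q → (l : K) ≠ 0 := fun l hl hlq h => hlq
    ((Nat.prime_dvd_prime_iff_eq Fact.out hl).1 ((CharP.cast_eq_zero_iff K q l).1 h)).symm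
  have h2K : (2 : K) ≠ 0 := by exact_mod_cast hcast 2 Nat.prime_two hq2.symm
  refine false_of_two_level (K := K) hn hM h2K (hcast q' hq'.out hqq) hY (fun l hl => ?_) η hη U
    hUc hUη hUD hUτ hUfpf hgen (eA.comp αA) (eA φA) ?_ ?_ ?_ (eB.comp αB) (eB φB) ?_ ?_
    (πL.baseChange K) ?_ ?_ ?_ ?_ ?_
  · have h1 : q' ^ l = q := by omega
    have hl0 : l ≠ 0 := fun e => (Fact.out : q.Prime).ne_one (by rw [← h1, e, pow_zero])
    exact hqq ((Nat.prime_dvd_prime_iff_eq hq'.out Fact.out).1 (h1 ▸ dvd_pow_self q' hl0))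
  · intro y
    show eA φA * eA (αA y) = eA (αA (η y)) * eA φA
    rw [← map_mul, ← map_mul, hφA]
  · rw [← map_pow, hφAn, map_one]
  · intro v hv
    set T := zmodAut (A := A) q φA with hT
    have hu : IsUnit (T - 1) := by
      rw [Module.End.isUnit_iff]
      refine Finite.injective_iff_bijective.1 ?_
      rw [injective_iff_map_eq_zero]
      intro w hw
      rw [LinearMap.sub_apply, Module.End.one_apply, sub_eq_zero, hT, zmodAut_apply] at hw
      exact Additive.toMul.injective ((hφAfix _ (Additive.ofMul.injective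
        (hw.trans (ofMul_toMul w).symm))).trans toMul_zero.symm)
    have h1 := (Module.End.isUnit_iff _).1 (hu.map gA)
    refine h1.1 ?_
    show (gA (T - 1)) v = (gA (T - 1)) 0
    rw [map_zero]
    show (T - 1).baseChange K v = 0
    rw [LinearMap.baseChange_sub, LinearMap.baseChange_one, LinearMap.sub_apply,
      Module.End.one_apply, sub_eq_zero]
    exact hv
  · intro y
    show eB φB * eB (αB y) = eB (αB ((η ^ (2 ^ a)) y)) * eB φB
    rw [← map_mul, ← map_mul, hφB]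
  · rw [← map_pow, hφBn, map_one]
  · have hsurj : Function.Surjective πL := fun w => by
      obtain ⟨x, hx⟩ := hπ w.toMul
      exact ⟨Additive.ofMul x, by rw [hπL, toMul_ofMul, hx, ofMul_toMul]⟩
    exact LinearMap.lTensor_surjective K hsurj
  · intro y v
    exact hcomp _ _ (hπα y) v
  · intro v
    rw [← map_pow]
    exact hcomp _ _ hπφ v
  · obtain ⟨y, hy⟩ := hmoved
    refine ⟨y, fun h => hy (MulEquiv.ext fun x => ?_)⟩
    have h1 := LinearMap.baseChangeHom_injective (R := ZMod q) (S := K) (M := Additive B)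
      (N := Additive B) (a₁ := zmodAut q (αB ((η ^ (2 ^ (n - 1))) y))) (a₂ := zmodAut q (αB y)) h
    have h2 := LinearMap.congr_fun h1 (Additive.ofMul x)
    rw [zmodAut_apply, zmodAut_apply] at h2
    exact Additive.ofMul.injective h2
  · rw [← map_pow]
    set T := zmodAut (A := B) q (φB ^ (2 ^ (M - 1))) with hT
    set f : Module.End (ZMod q) (Additive B) := 1 - T with hf
    have hle : (eB (φB ^ (2 ^ (M - 1)))).eigenspace (-1) ≤
        LinearMap.range ((LinearMap.range f).subtype.baseChange K) := by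
      intro v hv
      rw [Module.End.mem_eigenspace_iff] at hv
      have h1 : f.baseChange K v = (2 : K) • v := by
        rw [hf, LinearMap.baseChange_sub, LinearMap.baseChange_one, LinearMap.sub_apply,
          Module.End.one_apply, show T.baseChange K v = _ from hv, neg_one_smul, sub_neg_eq_add,
          two_smul]
      refine ⟨(f.rangeRestrict).baseChange K ((2 : K)⁻¹ • v), ?_⟩
      rw [← LinearMap.comp_apply, ← LinearMap.baseChange_comp]
      show f.baseChange K ((2 : K)⁻¹ • v) = v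
      rw [map_smul, h1, smul_smul, inv_mul_cancel₀ h2K, one_smul]
    refine (Submodule.finrank_mono hle).trans ((LinearMap.finrank_range_le _).trans ?_)
    rw [Module.finrank_baseChange]
    have hT2 : ∀ w, T (T w) = w := fun w => by
      rw [← Module.End.mul_apply, hT, ← map_mul, ← pow_add, ← two_mul, ← pow_succ',
        Nat.sub_add_cancel (show 1 ≤ M by omega), hφBn, map_one, Module.End.one_apply]
    let i : LinearMap.range f → {x : B // (φB ^ (2 ^ (M - 1))) x = x⁻¹} := fun z =>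
      ⟨(z : Additive B).toMul, by
        obtain ⟨w, hw⟩ := z.2
        have h1 : T (z : Additive B) = -(z : Additive B) := by
          rw [← hw, hf, LinearMap.sub_apply, Module.End.one_apply, map_sub, hT2, neg_sub]
        rw [hT, zmodAut_apply] at h1
        exact congrArg Additive.toMul h1⟩
    have hi : Function.Injective i := fun z z' hzz => by
      have h' := congrArg Subtype.val hzz
      exact Subtype.ext (Additive.toMul.injective h')
    have h1 := (Nat.card_le_card_of_injective i hi).trans hinv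
    rw [Module.natCard_eq_pow_finrank (K := ZMod q), Nat.card_zmod] at h1
    exact (Nat.pow_le_pow_iff_right (Fact.out : q.Prime).one_lt).1 h1

theorem false_of_two_level_groups {A B : Type*} [CommGroup A] [CommGroup B] [Finite A]
    [Finite B] {q : ℕ} [Fact q.Prime] (hA : ∀ x : A, x ^ q = 1) (hB : ∀ x : B, x ^ q = 1)
    {Y : Type*} [Group Y] [Finite Y] {q' : ℕ} [hq' : Fact q'.Prime] (hqq : q' ≠ q) (hq2 : q ≠ 2)
    {n a M : ℕ} (hn : a + M = n) (hM : 2 ≤ M) (hqM : q + 1 = 2 ^ M)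
    (hY : IsPGroup q' Y) (η : MulAut Y) (hη : η ^ (2 ^ n) = 1)
    (U : Subgroup Y) (hUc : U ≤ Subgroup.center Y) (hUη : ∀ y ∈ U, η y ∈ U)
    (hUD : ∀ x y : Y, ⁅x, y⁆ ∈ U) (hUτ : ∀ y ∈ U, (η ^ (2 ^ (n - 1))) y = y)
    (hUfpf : ∀ x, x⁻¹ * (η ^ (2 ^ (n - 1))) x ∈ U → x ∈ U)
    (hgen : Subgroup.closure (Set.range fun x : Y => x⁻¹ * (η ^ (2 ^ (n - 1))) x) = ⊤)
    (αA : Y →* MulAut A) (φA : MulAut A) (hφA : ∀ y, φA * αA y = αA (η y) * φA)
    (hφAn : φA ^ (2 ^ n) = 1) (hφAfix : ∀ x, φA x = x → x = 1)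
    (αB : Y →* MulAut B) (φB : MulAut B) (hφB : ∀ y, φB * αB y = αB ((η ^ (2 ^ a)) y) * φB)
    (hφBn : φB ^ (2 ^ M) = 1)
    (π : A →* B) (hπ : Function.Surjective π) (hπα : ∀ y x, π (αA y x) = αB y (π x))
    (hπφ : ∀ x, π ((φA ^ (2 ^ a)) x) = φB (π x))
    (hmoved : ∃ y, αB ((η ^ (2 ^ (n - 1))) y) ≠ αB y)
    (hinv : Nat.card {x : B // (φB ^ (2 ^ (M - 1))) x = x⁻¹} ≤ q ^ 2) : False := by
  have hA0 : ∀ v : Additive A, q • v = 0 := fun v => by
    refine Additive.toMul.injective ?_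
    rw [toMul_nsmul, toMul_zero]
    exact hA _
  have hB0 : ∀ v : Additive B, q • v = 0 := fun v => by
    refine Additive.toMul.injective ?_
    rw [toMul_nsmul, toMul_zero]
    exact hB _
  exact @false_of_two_level_groups_aux A B _ _ _ _ q _ (AddCommGroup.zmodModule hA0)
    (AddCommGroup.zmodModule hB0) Y _ _ q' _ hqq hq2 n a M hn hM hqM hY η hη U hUc hUη hUD hUτ
    hUfpf hgen αA φA hφA hφAn hφAfix αB φB hφB hφBn π hπ hπα hπφ hmoved hinv

set_option maxHeartbeats 4000000 in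
theorem commute_of_moved_action_aux {k : Type*} [Field k] [IsAlgClosed k] {V : Type*}
    [AddCommGroup V] [Module k V] [FiniteDimensional k V] {q q' n : ℕ} [hq : Fact q.Prime]
    [hq' : Fact q'.Prime] (hqk : (q : k) ≠ 0) (h2k : (2 : k) ≠ 0) (hq2 : q ≠ 2) (hqq : q' ≠ q)
    (hq'2 : q' ≠ 2) (hn : 0 < n) :
    ∀ (c : ℕ) {Q : Type u} [Group Q] [Finite Q], IsPGroup q Q → ∀ σ : MulAut Q,
      σ ^ (2 ^ n) = 1 → (∀ x, σ x = x → x = 1) →
      ∀ ρ : Q →* Module.End k V, Function.Injective ρ → ∀ S : Module.End k V,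
        (∀ x, S * ρ x = ρ (σ x) * S) → S ^ (2 ^ n) = 1 → (∀ v, S v = v → v = 0) →
        ∀ Y : Subgroup (MulAut Q), Nat.card Q + Nat.card Y = c → IsPGroup q' Y →
          (∀ y ∈ Y, σ * y * σ⁻¹ ∈ Y) → (∀ y ∈ Y, σ * y * σ⁻¹ = y → y = 1) →
          ∀ y ∈ Y, σ ^ (2 ^ (n - 1)) * y = y * σ ^ (2 ^ (n - 1)) := by
  intro c
  induction c using Nat.strong_induction_on with
  | _ c ih =>
  intro Q _ _ hQ σ hσ hfpf ρ hinj S hS hSn hfix Y hc hY hYσ hYfpf
  classical
  by_contra hcon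
  push Not at hcon
  obtain ⟨y₀, hy₀Y, hy₀⟩ := hcon
  haveI h2 : Fact (Nat.Prime 2) := ⟨Nat.prime_two⟩
  set h := 2 ^ (n - 1) with hh
  set τ := σ ^ h with hτ
  -- the automorphism induced on `Y`
  obtain ⟨η, hη⟩ := CfsgLib.FGS.exists_restrict_mulAut (MulAut.conj σ) (H := Y) hYσ
  have hηi : ∀ (i : ℕ) (y : Y),
      (((η ^ i) y : Y) : MulAut Q) = σ ^ i * y * (σ ^ i)⁻¹ := fun i y => by
    rw [hη, ← map_pow, MulAut.conj_apply]
  have hη1 : ∀ y : Y, ((η y : Y) : MulAut Q) = σ * y * σ⁻¹ := fun y => by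
    have := hηi 1 y
    rwa [pow_one, pow_one] at this
  have hηn : η ^ (2 ^ n) = 1 := MulEquiv.ext fun y => Subtype.ext (by
    rw [hηi, hσ, inv_one, mul_one, one_mul]; rfl)
  have hηfpf : ∀ y, η y = y → y = 1 := fun y hy =>
    Subtype.ext (hYfpf y y.2 (by rw [← hη1, hy]))
  have hηfix : ∀ y : Y, (η ^ h) y = y ↔ τ * (y : MulAut Q) = y * τ := fun y => by
    rw [← Subtype.coe_inj, hηi, ← hτ, mul_inv_eq_iff_eq_mul]
  have hsubY : ∀ H : Subgroup Y, H ≠ ⊤ → (∀ x ∈ H, η x ∈ H) → ∀ x ∈ H, (η ^ h) x = x := by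
    intro H hH hHη x hx
    have hlt : Nat.card (H.map Y.subtype : Subgroup (MulAut Q)) < Nat.card Y := by
      rw [Subgroup.card_subtype]
      exact lt_of_le_of_ne (Subgroup.card_le_card_group H) fun e =>
        hH (Subgroup.eq_top_of_card_eq H e)
    have hYH : IsPGroup q' (H.map Y.subtype : Subgroup (MulAut Q)) := (hY.to_subgroup H).map _
    rw [hηfix]
    refine ih (Nat.card Q + Nat.card (H.map Y.subtype : Subgroup (MulAut Q))) (by omega) hQ σ hσ hfpf
      ρ hinj S hS hSn hfix _ rfl hYH ?_ ?_ _ ⟨x, hx, rfl⟩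
    · rintro _ ⟨z, hz, rfl⟩
      exact ⟨η z, hHη z hz, hη1 z⟩
    · rintro _ ⟨z, hz, rfl⟩ hz1
      exact hYfpf z z.2 hz1
  obtain ⟨U, hUc, hUη, -, hUD, hUmem, hUfpf, hgenY⟩ :=
    minimal_moved_structure (p := 2) hq'2 hY η hn hηn hsubY
      ⟨⟨y₀, hy₀Y⟩, fun e => hy₀ ((hηfix _).1 e)⟩
  -- proper invariant subgroups are fixed
  have hfixsub : ∀ H : Subgroup Q, H ≠ ⊤ → (∀ x ∈ H, σ x ∈ H) →
      (∀ y ∈ Y, ∀ x ∈ H, y x ∈ H) → ∀ y ∈ Y, ∀ x ∈ H, y x = x := by
    intro H hH hHσ hHY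
    obtain ⟨σ₀, hσ₀⟩ := CfsgLib.FGS.exists_restrict_mulAut σ hHσ
    have hσ₀1 : ∀ x : H, ((σ₀ x : H) : Q) = σ x := fun x => by
      have := hσ₀ 1 x
      rwa [pow_one, pow_one] at this
    let r := restrictHom Y H hHY
    have hr : ∀ (i : ℕ) (y : Y), σ₀ ^ i * r y = r ((η ^ i) y) * σ₀ ^ i := fun i y =>
      MulEquiv.ext fun x => Subtype.ext (by
        rw [MulAut.mul_apply, MulAut.mul_apply, hσ₀, restrictHom_coe, restrictHom_coe, hσ₀, hηi,
          MulAut.mul_apply, MulAut.mul_apply, MulAut.inv_apply, MulEquiv.symm_apply_apply])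
    have hr1 : ∀ y : Y, σ₀ * r y * σ₀⁻¹ = r (η y) := fun y => by
      rw [mul_inv_eq_iff_eq_mul]
      have := hr 1 y
      rwa [pow_one, pow_one] at this
    have hker : ∀ y ∈ r.ker, η y ∈ r.ker := fun y hy => by
      rw [MonoidHom.mem_ker] at hy ⊢
      rw [← hr1, hy, mul_one, mul_inv_cancel]
    have hlt : Nat.card H < Nat.card Q :=
      lt_of_le_of_ne (Subgroup.card_le_card_group H) fun e => hH (Subgroup.eq_top_of_card_eq H e)
    have hle : Nat.card r.range ≤ Nat.card Y :=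
      Nat.card_le_card_of_surjective r.rangeRestrict r.rangeRestrict_surjective
    have h0 := ih (Nat.card H + Nat.card r.range) (by omega) (hQ.to_subgroup H) σ₀
      (MulEquiv.ext fun x => Subtype.ext (by rw [hσ₀, hσ]; rfl))
      (fun x hx => Subtype.ext (hfpf x (by rw [← hσ₀1, hx])))
      (ρ.comp H.subtype) (hinj.comp Subtype.val_injective) S
      (fun x => by
        show S * ρ x = ρ ((σ₀ x : H) : Q) * S
        rw [hσ₀1]; exact hS x) hSn hfix r.range rfl
      (hY.of_surjective r.rangeRestrict r.rangeRestrict_surjective)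
      (by rintro _ ⟨y, rfl⟩; exact ⟨η y, (hr1 y).symm⟩)
      (by
        rintro _ ⟨y, rfl⟩ hy
        rw [hr1] at hy
        have h1 : y⁻¹ * η y ∈ r.ker := by
          rw [MonoidHom.mem_ker, map_mul, map_inv, hy, inv_mul_cancel]
        obtain ⟨ψ, hψ⟩ := CfsgLib.FGS.exists_restrict_mulAut η hker
        have hψ1 : ∀ z : r.ker, ((ψ z : r.ker) : Y) = η z := fun z => by
          have := hψ 1 z
          rwa [pow_one, pow_one] at this
        obtain ⟨z, hz⟩ := (CfsgLib.FGS.bijective_inv_mul_apply ψ fun z hz =>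
          Subtype.ext (hηfpf z (by rw [← hψ1, hz]))).2 ⟨_, h1⟩
        have hzy : (z : Y) = y := (CfsgLib.FGS.bijective_inv_mul_apply η hηfpf).1 (by
          have h2 := congrArg Subtype.val hz
          simp only [Subgroup.coe_mul, Subgroup.coe_inv, hψ1] at h2
          exact h2)
        rw [← hzy]
        exact z.2)
    have hcl : Subgroup.closure (Set.range fun x : Y => x⁻¹ * (η ^ h) x) ≤ r.ker := by
      rw [Subgroup.closure_le]
      rintro _ ⟨y, rfl⟩
      have h1 := h0 (r y) ⟨y, rfl⟩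
      rw [hr] at h1
      show r (y⁻¹ * (η ^ h) y) = 1
      rw [map_mul, map_inv, mul_right_cancel h1, inv_mul_cancel]
    rw [hgenY] at hcl
    intro y hy x hx
    have h1 : r ⟨y, hy⟩ = 1 := hcl (Subgroup.mem_top _)
    exact congrArg Subtype.val (DFunLike.congr_fun h1 ⟨x, hx⟩)
  -- fixed step
  have hYord : ∀ y ∈ Y, ∃ j : ℕ, y ^ (q' ^ j) = 1 := fun y hy => by
    obtain ⟨j, hj⟩ := hY ⟨y, hy⟩
    exact ⟨j, congrArg Subtype.val hj⟩
  have hstep : ∀ y ∈ Y, ∀ x : Q, y (x⁻¹ * y x) = x⁻¹ * y x → y x = x := by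
    intro y hy x hz
    obtain ⟨j, hj⟩ := hYord y hy
    have h1 := pow_apply_mul_fixed (φ := y) (x := x) (mul_inv_cancel_left x (y x)).symm hz (q' ^ j)
    rw [hj, MulAut.one_apply] at h1
    have h2 : x⁻¹ * y x = 1 :=
      eq_one_of_pow_eq_one_of_pGroup (p := q') hQ hqq.symm (left_eq_mul.1 h1)
    exact (inv_mul_eq_one.1 h2).symm
  have hστ : ∀ x, σ (τ x) = τ (σ x) := fun x => by
    rw [← MulAut.mul_apply, ← MulAut.mul_apply, hτ, (Commute.self_pow σ h).eq]
  set L := Subgroup.closure {z : Q | ∃ y ∈ Y, ∃ x, x⁻¹ * y x = z} with hL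
  have hLtop : L = ⊤ := by
    by_contra hne
    have hLσ : ∀ z ∈ L, σ z ∈ L := by
      suffices L ≤ L.comap σ.toMonoidHom from fun z hz => this hz
      rw [hL, Subgroup.closure_le]
      rintro _ ⟨y, hy, x, rfl⟩
      refine Subgroup.subset_closure ⟨σ * y * σ⁻¹, hYσ y hy, σ x, ?_⟩
      simp
    have hLY : ∀ y ∈ Y, ∀ z ∈ L, y z ∈ L := by
      intro y hy
      suffices L ≤ L.comap y.toMonoidHom from fun z hz => this hz
      rw [hL, Subgroup.closure_le]
      rintro _ ⟨y', hy', x, rfl⟩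
      refine Subgroup.subset_closure ⟨y * y' * y⁻¹, Y.mul_mem (Y.mul_mem hy hy') (Y.inv_mem hy),
        y x, ?_⟩
      simp
    refine hy₀ ?_
    have h1 : y₀ = 1 := MulEquiv.ext fun x => hstep y₀ hy₀Y x
      (hfixsub L hne hLσ hLY y₀ hy₀Y _ (Subgroup.subset_closure ⟨y₀, hy₀Y, x, rfl⟩))
    rw [h1, mul_one, one_mul]
  haveI : Nontrivial Q := by
    by_contra hnt
    rw [not_nontrivial_iff_subsingleton] at hnt
    exact hy₀ (MulEquiv.ext fun x => Subsingleton.elim _ _)
  set C := frattini Q with hC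
  haveI hCn : C.Normal := inferInstance
  have hCchar : ∀ (f : MulAut Q), ∀ x ∈ C, f x ∈ C := fun f x hx =>
    apply_mem_of_characteristic f C hx
  have hCY : ∀ y ∈ Y, ∀ x ∈ C, y x = x :=
    hfixsub C (CfsgLib.PGroup.frattini_ne_top hQ) (hCchar σ) fun y _ => hCchar y
  have hCcent : C ≤ Subgroup.center Q := by
    intro d hd
    have h1 : L ≤ Subgroup.centralizer {d} := by
      rw [hL, Subgroup.closure_le]
      rintro _ ⟨y, hy, x, rfl⟩
      refine Subgroup.mem_centralizer_singleton_iff.2 ?_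
      have h2 := hCY y hy _ (hCn.conj_mem d hd x)
      rw [map_mul, map_mul, map_inv, hCY y hy d hd] at h2
      calc x⁻¹ * y x * d = x⁻¹ * (y x * d * (y x)⁻¹) * y x := by group
        _ = x⁻¹ * (x * d * x⁻¹) * y x := by rw [h2]
        _ = d * (x⁻¹ * y x) := by group
    rw [hLtop] at h1
    exact Subgroup.mem_center_iff.2 fun g =>
      Subgroup.mem_centralizer_singleton_iff.1 (h1 (Subgroup.mem_top g))
  have hDC : ∀ x x' : Q, ⁅x, x'⁆ ∈ C := fun x x' => CfsgLib.PGroup.commutator_le_frattini hQ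
    (Subgroup.commutator_mem_commutator (Subgroup.mem_top x) (Subgroup.mem_top x'))
  have hcomm : ∀ {d g : Q}, d ∈ C → Commute g d :=
    fun hd => Subgroup.mem_center_iff.1 (hCcent hd) _
  have hqk' : ∀ H : Subgroup Q, (Nat.card H : k) ≠ 0 := fun H => by
    obtain ⟨i, hi⟩ := (hQ.to_subgroup H).exists_card_eq
    rw [hi, Nat.cast_pow]; exact pow_ne_zero _ hqk
  letI : CommGroup C :=
    { (inferInstance : Group C) with
      mul_comm := fun a b => Subtype.ext (hcomm b.2).eq }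
  obtain ⟨φ, hφ⟩ := CfsgLib.FGS.exists_restrict_mulAut σ (hCchar σ)
  have hφ1 : ∀ x : C, ((φ x : C) : Q) = σ x := fun x => by
    have h1 := hφ 1 x
    rwa [pow_one, pow_one] at h1
  have hφn : φ ^ (2 ^ n) = 1 := MulEquiv.ext fun u => Subtype.ext (by rw [hφ, hσ]; rfl)
  let ρC : C →* Module.End k V := ρ.comp C.subtype
  have hSC : ∀ u : C, S * ρC u = ρC (φ u) * S := fun u => by
    show S * ρ u = ρ ((φ u : C) : Q) * S
    rw [hφ1]; exact hS u
  have hτC : ∀ x ∈ C, τ x = x := fun x hx => by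
    have h1 := abelian_step ρC (hqk' C) φ hSC hfix hφn hSn ⟨x, hx⟩
    have h2 : ((((φ ^ h) ⟨x, hx⟩ : C)) : Q) = x := hinj h1
    rwa [hφ] at h2
  -- the centre is fixed by `Y`
  have hZY : ∀ y ∈ Y, ∀ x ∈ Subgroup.center Q, y x = x := by
    refine hfixsub _ ?_ (fun x hx => apply_mem_of_characteristic σ _ hx)
      (fun y _ x hx => apply_mem_of_characteristic y _ hx)
    intro htop
    have hab : ∀ a b : Q, a * b = b * a := fun a b =>
      Subgroup.mem_center_iff.1 (htop ▸ Subgroup.mem_top b) a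
    letI : CommGroup Q := { (inferInstance : Group Q) with mul_comm := hab }
    have hQk : (Nat.card Q : k) ≠ 0 := by
      obtain ⟨i, hi⟩ := hQ.exists_card_eq
      rw [hi, Nat.cast_pow]; exact pow_ne_zero _ hqk
    have h1 : τ = 1 := MulEquiv.ext fun x => hinj (abelian_step ρ hQk σ hS hfix hσ hSn x)
    exact hy₀ (by rw [h1, one_mul, mul_one])
  -- a moved commutator
  set w := y₀⁻¹ * τ * y₀ * τ⁻¹ with hw
  have hwY : w ∈ Y := by
    have h1 := ((η ^ h) ⟨y₀, hy₀Y⟩).2
    rw [hηi, ← hτ] at h1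
    rw [hw, mul_assoc, mul_assoc, ← mul_assoc τ]
    exact Y.mul_mem (Y.inv_mem hy₀Y) h1
  obtain ⟨x₁, hx₁⟩ : ∃ x, w x ≠ x := by
    by_contra hcon
    push Not at hcon
    have h1 : w = 1 := MulEquiv.ext hcon
    refine hy₀ ?_
    calc τ * y₀ = y₀ * w * τ := by rw [hw]; group
      _ = _ := by rw [h1, mul_one]
  set z := x₁⁻¹ * w x₁ with hzdef
  have hzc : z ∉ Subgroup.center Q := fun hz => hx₁ (hstep w hwY x₁ (hZY w hwY z hz))
  obtain ⟨x₂, hx₂⟩ : ∃ g : Q, ⁅z, g⁆ ≠ 1 := by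
    by_contra hcon
    push Not at hcon
    exact hzc (Subgroup.mem_center_iff.2 fun g =>
      (commutatorElement_eq_one_iff_mul_comm.1 (hcon g)).symm)
  set cc : C := ⟨⁅z, x₂⁆, hDC z x₂⟩ with hcc
  obtain ⟨χ, hχ⟩ : ∃ χ, charProj ρC χ * ρC cc ≠ charProj ρC χ * 1 := by
    by_contra hcon
    push Not at hcon
    exact hx₂ (hinj ((ext_charProj ρC (hqk' C) hcon).trans (map_one ρ).symm))
  set e := charProj ρC χ with he
  have hee : e * e = e := charProj_idem ρC (hqk' C) χ
  have he0 : e ≠ 0 := fun h0 => hχ (by rw [h0, zero_mul, zero_mul])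
  have hχcc : χ cc ≠ 1 := fun h1 => hχ (by
    rw [mul_one, charProj_mul_apply, h1, Units.val_one, one_smul])
  have hec : ∀ g, ρ g * e = e * ρ g := fun g => charProj_comm ρC χ fun u => by
    show ρ g * ρ (u : Q) = ρ (u : Q) * ρ g
    rw [← map_mul, ← map_mul, (hcomm u.2).eq]
  obtain ⟨a, ha, hper, hne⟩ := exists_period φ hφn χ
  have hlt : a < n := by
    rcases ha.lt_or_eq with h' | rfl
    · exact h'
    exfalso
    exact he0 (LinearMap.ext fun v => eq_zero_of_component ρC (hqk' C) φ hSC hfix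
      (Nat.two_pow_pos a) hne (LinearMap.congr_fun hee v) (by rw [hSn]; rfl))
  obtain ⟨m, hm⟩ : ∃ m, n = a + (m + 1) := ⟨n - a - 1, by omega⟩
  set M := m + 1 with hMdef
  set γ := σ ^ (2 ^ a) with hγ
  have hτa : γ ^ (2 ^ (M - 1)) = τ := by
    rw [hγ, hτ, hh, ← pow_mul, ← pow_add]; congr 2; omega
  have hγN : γ ^ (2 ^ M) = 1 := by rw [hγ, ← pow_mul, ← pow_add, ← hm]; exact hσ
  -- the radical of the component
  let χc : Q → Q → kˣ := fun g g' => χ ⟨⁅g, g'⁆, hDC g g'⟩
  have hχL : ∀ g g' g'', χc (g * g') g'' = χc g g'' * χc g' g'' := fun g g' g'' => by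
    simp only [χc, ← map_mul]
    exact congrArg χ (Subtype.ext (CfsgLib.PGroup.comm_mul_left (hCcent (hDC g' g''))))
  have hχR : ∀ g g' g'', χc g (g' * g'') = χc g g' * χc g g'' := fun g g' g'' => by
    simp only [χc, ← map_mul]
    exact congrArg χ (Subtype.ext (CfsgLib.PGroup.comm_mul_right (hCcent (hDC g g''))))
  have hχ1 : ∀ g, χc 1 g = 1 := fun g => by
    simp only [χc]
    rw [show (⟨⁅(1 : Q), g⁆, hDC 1 g⟩ : C) = 1 from Subtype.ext (commutatorElement_one_left g),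
      map_one]
  have hχC : ∀ d ∈ C, ∀ g, χc g d = 1 ∧ χc d g = 1 := fun d hd g => by
    constructor <;> simp only [χc]
    · rw [show (⟨⁅g, d⁆, hDC g d⟩ : C) = 1 from
        Subtype.ext (commutatorElement_eq_one_iff_commute.2 (hcomm hd)), map_one]
    · rw [show (⟨⁅d, g⁆, hDC d g⟩ : C) = 1 from
        Subtype.ext (commutatorElement_eq_one_iff_commute.2 (hcomm hd).symm), map_one]
  let R : Subgroup Q :=
    { carrier := {g | ∀ g', χc g g' = 1}
      one_mem' := hχ1
      mul_mem' := fun {a b} ha hb g' => by rw [hχL, ha g', hb g', one_mul]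
      inv_mem' := fun {a} ha g' => by
        have h1 := hχL a⁻¹ a g'
        rw [inv_mul_cancel, hχ1, ha g', mul_one] at h1
        exact h1.symm }
  have hzR : z ∉ R := fun hz => hχcc (hz x₂)
  have hCR : C ≤ R := fun d hd g => (hχC d hd g).2
  haveI hRn : R.Normal := ⟨fun g hg g' => by
    have e1 : g' * g * g'⁻¹ = ⁅g', g⁆ * g := by rw [commutatorElement_def]; group
    rw [e1]; exact R.mul_mem (hCR (hDC g' g)) hg⟩
  have hRY : ∀ y ∈ Y, ∀ g ∈ R, y g ∈ R := fun y hy g hg g' => by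
    obtain ⟨g', rfl⟩ := y.surjective g'
    refine Eq.trans ?_ (hg g')
    simp only [χc]
    exact congrArg χ (Subtype.ext (((map_commutatorElement y g g').symm).trans
      (hCY y hy _ (hDC g g'))))
  have hRγ : ∀ g ∈ R, γ g ∈ R := fun g hg g' => by
    obtain ⟨g', rfl⟩ := γ.surjective g'
    refine Eq.trans ?_ (hg g')
    show χ ⟨⁅γ g, γ g'⁆, hDC _ _⟩ = χ ⟨⁅g, g'⁆, hDC _ _⟩
    conv_rhs => rw [← hper]
    refine congrArg χ (Subtype.ext ?_)
    show ⁅γ g, γ g'⁆ = (((φ ^ (2 ^ a)) ⟨⁅g, g'⁆, hDC _ _⟩ : C) : Q)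
    rw [hφ, ← hγ, map_commutatorElement]
  have hτR : ∀ g ∈ R, τ g ∈ R := fun g hg => hτa ▸ CfsgLib.FGS.pow_apply_mem hRγ _ g hg
  have hqodd : Odd q := hq.out.odd_of_ne_two hq2
  have hsq : ∀ (H : Subgroup Q) (g : Q), g ^ 2 ∈ H → g ∈ H := fun H g hg => by
    obtain ⟨i, hi⟩ := IsPGroup.iff_orderOf.1 hQ g
    obtain ⟨j, hj⟩ := exists_pow_eq_self_of_coprime (x := g) (n := 2)
      (by rw [hi]; exact Nat.Coprime.pow_right i ((Nat.coprime_primes Nat.prime_two hq.out).2 hq2.symm))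
    rw [← hj]
    exact H.pow_mem hg j
  -- elements inverted modulo `C`
  have hτsq : τ * τ = 1 := by
    rw [hτ, hh, ← pow_add, ← two_mul, ← pow_succ', Nat.sub_add_cancel (by omega : 1 ≤ n), hσ]
  have hττ : ∀ g, τ (τ g) = g := fun g => by rw [← MulAut.mul_apply, hτsq]; rfl
  let X : Subgroup Q :=
    { carrier := {g | g * τ g ∈ C}
      one_mem' := by show (1 : Q) * τ 1 ∈ C; rw [map_one, one_mul]; exact C.one_mem
      mul_mem' := fun {a b} (ha : a * τ a ∈ C) (hb : b * τ b ∈ C) => by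
        show a * b * τ (a * b) ∈ C
        have e1 : a * b * τ (a * b) = a * ⁅b, τ a⁆ * a⁻¹ * (a * τ a) * (b * τ b) := by
          rw [map_mul, commutatorElement_def]; group
        rw [e1]
        exact C.mul_mem (C.mul_mem (hCn.conj_mem _ (hDC _ _) a) ha) hb
      inv_mem' := fun {a} (ha : a * τ a ∈ C) => by
        show a⁻¹ * τ a⁻¹ ∈ C
        rw [map_inv, ← mul_inv_rev]
        exact C.inv_mem ((hCn.mem_comm_iff).1 ha) }
  have hXmem : ∀ g, g ∈ X ↔ g * τ g ∈ C := fun g => Iff.rfl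
  have hXγ : ∀ g ∈ X, γ g ∈ X := fun g hg => by
    rw [hXmem] at hg ⊢
    have e1 : τ (γ g) = γ (τ g) := by
      rw [← MulAut.mul_apply, ← MulAut.mul_apply, hτ, hγ, (Commute.pow_pow_self σ h (2 ^ a)).eq]
    rw [e1, ← map_mul]
    exact hCchar γ _ hg
  have hcomX : ∀ g, g⁻¹ * τ g ∈ X := fun g => by
    have e1 : g⁻¹ * τ g * τ (g⁻¹ * τ g) = 1 := by rw [map_mul, map_inv, hττ]; group
    rw [hXmem, e1]
    exact C.one_mem
  -- the component
  set W := LinearMap.range e with hW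
  have hWe : ∀ v ∈ W, e v = v := by
    rintro _ ⟨v, rfl⟩
    exact LinearMap.congr_fun hee v
  have hWinv : ∀ g, ∀ v ∈ W, ρ g v ∈ W := by
    rintro g _ ⟨v, rfl⟩
    exact ⟨ρ g v, by rw [← Module.End.mul_apply, ← hec, Module.End.mul_apply]⟩
  haveI hWnt : Nontrivial W := Submodule.nontrivial_iff_ne_bot.2 fun h0 =>
    he0 (LinearMap.range_eq_bot.1 h0)
  set ρW := restrictRep ρ W hWinv with hρW
  have hscal : ∀ u : C, ρW (u : Q) = ((χ u : kˣ) : k) • 1 := fun u => LinearMap.ext fun v =>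
    Subtype.ext (by
      show ρ u (v : V) = ((χ u : kˣ) : k) • (v : V)
      conv_lhs => rw [← hWe _ v.2, ← Module.End.mul_apply]
      rw [show ρ (u : Q) * e = ((χ u : kˣ) : k) • e from apply_mul_charProj ρC χ u,
        LinearMap.smul_apply, hWe _ v.2])
  have hρχ : ∀ g g', ρW ⁅g, g'⁆ = 1 ↔ χc g g' = 1 := fun g g' => by
    rw [hscal ⟨_, hDC g g'⟩]
    constructor
    · intro h1
      obtain ⟨v, hv⟩ := exists_ne (0 : W)
      exact Units.ext (smul_left_injective k hv
        (show ((χc g g' : kˣ) : k) • v = (1 : k) • v by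
          simpa [χc] using LinearMap.congr_fun h1 v))
    · intro h1
      rw [show χ ⟨⁅g, g'⁆, hDC g g'⟩ = 1 from h1, Units.val_one, one_smul]
  have hSpow : ∀ (i : ℕ) (g : Q), S ^ i * ρ g = ρ ((σ ^ i) g) * S ^ i := by
    intro i
    induction i with
    | zero => intro g; simp
    | succ i ih' =>
      intro g
      calc S ^ (i + 1) * ρ g = S * (S ^ i * ρ g) := by rw [pow_succ', mul_assoc]
        _ = S * ρ ((σ ^ i) g) * S ^ i := by rw [ih', mul_assoc]
        _ = ρ (σ ((σ ^ i) g)) * S * S ^ i := by rw [hS]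
        _ = ρ ((σ ^ (i + 1)) g) * S ^ (i + 1) := by rw [mul_assoc, ← pow_succ', pow_succ' σ]; rfl
  have hSe : S ^ (2 ^ a) * e = e * S ^ (2 ^ a) := by
    have h1 := charProj_semiconj ρC (φ ^ 2 ^ a) (semiconj_pow ρC φ hSC (2 ^ a)) χ
    rwa [hper] at h1
  have hSW : ∀ v ∈ W, (S ^ (2 ^ a)) v ∈ W := by
    rintro _ ⟨v, rfl⟩
    exact ⟨(S ^ (2 ^ a)) v, by rw [← Module.End.mul_apply, ← hSe, Module.End.mul_apply]⟩
  set Γ : Module.End k W := (S ^ (2 ^ a)).restrict hSW with hΓdef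
  have hΓN : Γ ^ (2 ^ M) = 1 := by
    have key : ∀ (i : ℕ) (v : W), (((Γ ^ i) v : W) : V) = ((S ^ (2 ^ a)) ^ i) (v : V) := by
      intro i
      induction i with
      | zero => intro v; rfl
      | succ i ih' =>
        intro v
        rw [pow_succ', pow_succ', Module.End.mul_apply, Module.End.mul_apply, ← ih']
        rfl
    exact LinearMap.ext fun v => Subtype.ext (by
      rw [key, ← pow_mul, ← pow_add, ← hm, hSn]; rfl)
  have hfixW : ∀ v : W, Γ v = v → v = 0 := fun v hv => Subtype.ext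
    (eq_zero_of_component ρC (hqk' C) φ hSC hfix (Nat.two_pow_pos a) hne (hWe _ v.2)
      (congrArg Subtype.val hv))
  have hsq1 : ∀ g g', χc g g' * χc g g' = 1 → χc g g' = 1 := fun g g' h1 => by
    obtain ⟨d, hd, hd'⟩ := hsq (χ.ker.map C.subtype) ⁅g, g'⁆
      ⟨⟨⁅g, g'⁆, hDC g g'⟩ ^ 2, by rw [SetLike.mem_coe, MonoidHom.mem_ker, map_pow, sq]; exact h1, rfl⟩
    exact (congrArg χ (Subtype.ext hd'.symm)).trans hd
  have hXRfalse : ¬ X ≤ R := by
    intro hle
    refine hzR ?_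
    have e1 : z = x₁⁻¹ * τ x₁ * (y₀⁻¹ ((y₀ (τ x₁))⁻¹ * τ (y₀ (τ x₁)))) := by
      have e2 : τ⁻¹ x₁ = τ x₁ := τ.injective (by
        rw [← MulAut.mul_apply, mul_inv_cancel, hττ]; rfl)
      rw [hzdef, hw, MulAut.mul_apply, MulAut.mul_apply, MulAut.mul_apply, e2, map_mul,
        map_inv (y₀⁻¹), MulAut.inv_apply_self, ← mul_assoc, mul_inv_cancel_right]
    rw [e1]
    exact R.mul_mem (hle (hcomX _)) (hRY _ (Y.inv_mem hy₀Y) _ (hle (hcomX _)))
  obtain ⟨γX, hγX⟩ := CfsgLib.FGS.exists_restrict_mulAut γ hXγ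
  have hτX : ∀ g : X, (((γX ^ (2 ^ (M - 1))) g : X) : Q) = τ g := fun g => by rw [hγX, hτa]
  have hXk : (Nat.card X : k) ≠ 0 := hqk' X
  rcases component_data (p := 2) (M := M) (Nat.succ_pos m) (by exact_mod_cast h2k) hXk
    (C := C.subgroupOf X)
    (fun d hd => Subgroup.mem_center_iff.2 fun g => Subtype.ext (hcomm hd).eq)
    (fun g g' => hDC g g') γX
    (MulEquiv.ext fun g => Subtype.ext (by rw [hγX, hγN]; rfl))
    (fun d hd => Subtype.ext (by rw [hτX]; exact hτC _ hd))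
    (fun g hg => by
      have h1 : (g : Q)⁻¹ * τ g ∈ C := by rw [← hτX]; exact hg
      refine hsq C (g : Q) ?_
      have e1 : (g : Q) ^ 2 = (g * τ g) * ((g : Q)⁻¹ * τ g)⁻¹ := by rw [sq]; group
      rw [e1]
      exact C.mul_mem g.2 (C.inv_mem h1))
    (by
      rw [eq_top_iff]
      intro g _
      set H := Subgroup.closure (Set.range fun x : X => x⁻¹ * (γX ^ (2 ^ (M - 1))) x) ⊔
        C.subgroupOf X
      obtain ⟨g', hg', hgg⟩ := hsq (H.map X.subtype) (g : Q) ⟨g ^ 2, by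
        have e1 : g ^ 2 = (g * (γX ^ (2 ^ (M - 1))) g) * (g⁻¹ * (γX ^ (2 ^ (M - 1))) g)⁻¹ := by
          rw [sq]; group
        rw [e1]
        refine H.mul_mem (Subgroup.mem_sup_right ?_)
          (H.inv_mem (Subgroup.mem_sup_left (Subgroup.subset_closure ⟨g, rfl⟩)))
        show (g : Q) * (((γX ^ (2 ^ (M - 1))) g : X) : Q) ∈ C
        rw [hτX]; exact g.2, by simp⟩
      rwa [← Subtype.ext hgg])
    (fun d hd => by
      show ((γX d : X) : Q) ∈ C
      have h1 := hγX 1 d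
      rw [pow_one, pow_one] at h1
      rw [h1]; exact hCchar γ _ hd)
    (ρW.comp X.subtype) (fun d hd => ⟨_, hscal ⟨_, hd⟩⟩) (Γ := Γ)
    (fun g => by
      show Γ * ρW g = ρW ((γX g : X) : Q) * Γ
      have h1 := hγX 1 g
      rw [pow_one, pow_one] at h1
      rw [h1]
      exact LinearMap.ext fun v => Subtype.ext (LinearMap.congr_fun (hSpow (2 ^ a) g) (v : V)))
    hΓN hfixW with hleft | ⟨R', hR'n, hR'mem, -, -, -, -, -, hcard, -⟩
  · refine hXRfalse fun g hg g' => hsq1 g g' ?_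
    have h1 : ρW (τ g) = ρW g := by
      have h2 := hleft ⟨g, hg⟩
      show _ = ρW ((⟨g, hg⟩ : X) : Q)
      rw [← hτX ⟨g, hg⟩]
      exact h2
    have h2 : ρW (g ^ 2) = ρW (g * τ g) := by rw [map_mul, h1, sq, map_mul]
    obtain ⟨c', hc'⟩ : ∃ c', ρW (g ^ 2) = c' • 1 := ⟨_, h2.trans (hscal ⟨_, hg⟩)⟩
    have h3 : ρW ⁅g ^ 2, g'⁆ = 1 := by
      have h4 : ρW (g ^ 2) * ρW g' = ρW g' * ρW (g ^ 2) := by
        rw [hc', smul_mul_assoc, mul_smul_comm, one_mul, mul_one]
      rw [commutatorElement_def, map_mul, map_mul, map_mul, h4, mul_assoc (ρW g'),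
        ← map_mul, mul_inv_cancel, map_one, mul_one, ← map_mul, mul_inv_cancel, map_one]
    rw [hρχ, sq, hχL] at h3
    exact h3
  haveI := hR'n
  have hR' : ∀ g : X, g ∈ R' → (g : Q) ∈ R := by
    intro g hg g'
    refine hsq1 _ _ ?_
    have h1 : χc g (g'⁻¹ * τ g') = 1 :=
      (hρχ _ _).1 ((hR'mem g).1 hg ⟨_, hcomX g'⟩)
    have h2 : χc (τ g) (τ g') = χc g g' := congrArg χ (Subtype.ext (by
      show ⁅τ (g : Q), τ g'⁆ = ⁅(g : Q), g'⁆
      rw [← map_commutatorElement, hτC _ (hDC _ _)]))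
    have h3 : χc g (τ g') = χc g g' := by
      conv_lhs => rw [show τ g' = g' * (g'⁻¹ * τ g') by group]
      rw [hχR, h1, mul_one]
    have h4 := hχL g (τ g) (τ g')
    rw [(hχC _ g.2 _).2, h2, h3] at h4
    exact h4.symm
  obtain ⟨ee, hee'⟩ := (((hQ.to_subgroup X).to_quotient R')).exists_card_eq
  obtain ⟨l, -, hl⟩ := (Nat.dvd_prime_pow hq.out).1
    (⟨2 ^ M - 1, by rw [← hee', hcard, sq]⟩ : 2 ^ M - 1 ∣ q ^ ee)
  have hM2 : 2 ≤ M := by
    by_contra hle
    have hM1 : M = 1 := by omega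
    rw [hM1] at hcard
    norm_num at hcard
    refine hXRfalse fun g hg => hR' ⟨g, hg⟩ ?_
    have hsub := (Nat.card_eq_one_iff_unique.1 hcard).1
    exact (QuotientGroup.eq_one_iff _).1 (Subsingleton.elim _ _)
  have hl1 : l = 1 := eq_one_of_pow_add_one_eq_two_pow hqodd hM2 (by
    rw [← hl]; exact Nat.sub_add_cancel Nat.one_le_two_pow)
  rw [hl1, pow_one] at hl
  -- the two quotients
  letI : CommGroup (Q ⧸ C) :=
    { (inferInstance : Group (Q ⧸ C)) with
      mul_comm := CfsgLib.PGroup.quotient_frattini_comm hQ }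
  letI : CommGroup (Q ⧸ R) :=
    { (inferInstance : Group (Q ⧸ R)) with
      mul_comm := fun s t => by
        induction s using QuotientGroup.induction_on with
        | H g =>
          induction t using QuotientGroup.induction_on with
          | H g' =>
            show (QuotientGroup.mk (g * g') : Q ⧸ R) = QuotientGroup.mk (g' * g)
            refine QuotientGroup.eq.2 (hCR ?_)
            have e1 : (g * g')⁻¹ * (g' * g) = ⁅g'⁻¹, g⁻¹⁆ := by
              rw [commutatorElement_def]; group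
            rw [e1]
            exact hDC _ _ }
  let π : Q ⧸ C →* Q ⧸ R := QuotientGroup.map C R (MonoidHom.id Q) hCR
  obtain ⟨φA, hφA⟩ := CfsgLib.FGS.exists_quotient_mulAut σ (hCchar σ)
  obtain ⟨φB, hφB⟩ := CfsgLib.FGS.exists_quotient_mulAut γ hRγ
  have hφA1 : ∀ g : Q, φA (QuotientGroup.mk g) = QuotientGroup.mk (σ g) := fun g => by
    have h1 := hφA 1 g
    rwa [pow_one, pow_one] at h1
  have hφB1 : ∀ g : Q, φB (QuotientGroup.mk g) = QuotientGroup.mk (γ g) := fun g => by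
    have h1 := hφB 1 g
    rwa [pow_one, pow_one] at h1
  refine false_of_two_level_groups (A := Q ⧸ C) (B := Q ⧸ R) (q := q)
    (CfsgLib.PGroup.quotient_frattini_pow hQ) (fun t => ?_) hqq hq2 (a := a) (M := M) hm.symm hM2
    (by rw [← hl]; exact Nat.sub_add_cancel Nat.one_le_two_pow) hY η hηn U hUc hUη hUD
    (fun y hy => (hUmem y).1 hy) hUfpf hgenY
    (quotientHom Y C fun y _ => hCchar y) φA (fun y => ?_)
    (MulEquiv.ext fun t => ?_) (fpf_quotient σ hfpf (hCchar σ) hφA1)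
    (quotientHom Y R hRY) φB (fun y => ?_) (MulEquiv.ext fun t => ?_)
    π (fun t => ?_) (fun y t => ?_) (fun t => ?_) ⟨⟨y₀, hy₀Y⟩, fun hmv => ?_⟩ ?_
  · induction t using QuotientGroup.induction_on with
    | H g =>
      rw [← QuotientGroup.mk_pow, QuotientGroup.eq_one_iff]
      exact hCR (CfsgLib.PGroup.pow_mem_frattini hQ g)
  · refine MulEquiv.ext fun t => ?_
    induction t using QuotientGroup.induction_on with
    | H g =>
      rw [MulAut.mul_apply, MulAut.mul_apply, quotientHom_mk, hφA1, hφA1, quotientHom_mk, hη1]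
      congr 1
      simp
  · induction t using QuotientGroup.induction_on with
    | H g => exact (hφA _ g).trans (by rw [hσ]; rfl)
  · refine MulEquiv.ext fun t => ?_
    induction t using QuotientGroup.induction_on with
    | H g =>
      rw [MulAut.mul_apply, MulAut.mul_apply, quotientHom_mk, hφB1, hφB1, quotientHom_mk, hηi,
        ← hγ]
      congr 1
      simp
  · induction t using QuotientGroup.induction_on with
    | H g => exact (hφB _ g).trans (by rw [hγN]; rfl)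
  · induction t using QuotientGroup.induction_on with
    | H g => exact ⟨QuotientGroup.mk g, rfl⟩
  · induction t using QuotientGroup.induction_on with
    | H g => rfl
  · induction t using QuotientGroup.induction_on with
    | H g =>
      refine (congrArg π (hφA _ g)).trans ?_
      show (QuotientGroup.mk ((σ ^ (2 ^ a)) g) : Q ⧸ R) = φB (QuotientGroup.mk g)
      rw [hφB1]
  · refine hzR ?_
    have h1 := DFunLike.congr_fun hmv (QuotientGroup.mk x₁)
    rw [quotientHom_mk, quotientHom_mk, hηi, ← hτ, QuotientGroup.eq] at h1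
    have h2 := hRY _ (Y.inv_mem hy₀Y) _ h1
    rw [map_mul, map_inv, MulAut.inv_apply_self] at h2
    have h3 := R.inv_mem h2
    rw [mul_inv_rev, inv_inv] at h3
    have e1 : z = x₁⁻¹ * y₀⁻¹ ((τ * y₀ * τ⁻¹ : MulAut Q) x₁) := by
      rw [hzdef, hw, mul_assoc, mul_assoc, ← mul_assoc τ, MulAut.mul_apply]
    rw [e1]
    exact h3
  · let f : X →* Q ⧸ R := (QuotientGroup.mk' R).comp X.subtype
    have hf : R' ≤ f.ker := fun g hg => (QuotientGroup.eq_one_iff _).2 (hR' g hg)
    let F : X ⧸ R' →* Q ⧸ R := QuotientGroup.lift R' f hf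
    have hFr : ∀ t, (φB ^ (2 ^ (M - 1))) t = t⁻¹ → ∃ s, F s = t := by
      intro t ht
      induction t using QuotientGroup.induction_on with
      | H g =>
        rw [← QuotientGroup.mk'_apply, hφB, hτa, QuotientGroup.mk'_apply,
          QuotientGroup.mk'_apply] at ht
        obtain ⟨x, hx, hxg⟩ : g ∈ (X.map (QuotientGroup.mk' R)).comap (QuotientGroup.mk' R) := by
          refine hsq _ g ⟨(g⁻¹ * τ g)⁻¹, X.inv_mem (hcomX g), ?_⟩
          rw [map_inv, map_mul, map_inv, map_pow]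
          simp only [QuotientGroup.mk'_apply, ht]
          rw [mul_inv_rev, inv_inv, sq]
        exact ⟨QuotientGroup.mk ⟨x, hx⟩, hxg⟩
    choose s hs using hFr
    calc Nat.card {t : Q ⧸ R // (φB ^ (2 ^ (M - 1))) t = t⁻¹} ≤ Nat.card (X ⧸ R') :=
          Nat.card_le_card_of_injective (fun t => s t.1 t.2) fun t t' hh' => Subtype.ext (by
            rw [← hs t.1 t.2, ← hs t'.1 t'.2]; exact congrArg F hh')
      _ = q ^ 2 := by rw [hcard, hl]

/-- Gross's lower level. -/
theorem commute_of_moved_action {k : Type*} [Field k] [IsAlgClosed k] {V : Type*}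
    [AddCommGroup V] [Module k V] [FiniteDimensional k V] {q q' n : ℕ} [hq : Fact q.Prime]
    [hq' : Fact q'.Prime] (hqk : (q : k) ≠ 0) (h2k : (2 : k) ≠ 0) (hq2 : q ≠ 2) (hqq : q' ≠ q)
    (hq'2 : q' ≠ 2) (hn : 0 < n) {Q : Type u} [Group Q] [Finite Q] (hQ : IsPGroup q Q)
    (σ : MulAut Q) (hσ : σ ^ (2 ^ n) = 1) (hfpf : ∀ x, σ x = x → x = 1)
    (ρ : Q →* Module.End k V) (hinj : Function.Injective ρ) (S : Module.End k V)
    (hS : ∀ x, S * ρ x = ρ (σ x) * S) (hSn : S ^ (2 ^ n) = 1) (hfix : ∀ v, S v = v → v = 0)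
    (Y : Subgroup (MulAut Q)) (hY : IsPGroup q' Y) (hYσ : ∀ y ∈ Y, σ * y * σ⁻¹ ∈ Y)
    (hYfpf : ∀ y ∈ Y, σ * y * σ⁻¹ = y → y = 1) {y : MulAut Q} (hy : y ∈ Y) :
    σ ^ (2 ^ (n - 1)) * y = y * σ ^ (2 ^ (n - 1)) :=
  commute_of_moved_action_aux hqk h2k hq2 hqq hq'2 hn _ hQ σ hσ hfpf ρ hinj S hS hSn hfix Y rfl
    hY hYσ hYfpf y hy

end CfsgLib.Solvable
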