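import Cfsg.Agent.Lib.Solvable.CharProjection
import Cfsg.Agent.Lib.Solvable.HallHigmanCyclic
import Cfsg.Agent.Lib.Solvable.GrossLower
import Cfsg.Agent.Lib.PGroup.Basic

/-!
The core of Ward's theorem: a group of order `p ^ 2` without common fixed points on a `q`-group `Q`
and on a module for `Q`, with nilpotent centralisers, leaves no room for a second acting level.
-/

set_option autoImplicit false

open scoped commutatorElement

namespace CfsgLib.Solvable

/-- A `p`-group of automorphisms fixing a coset of a `p'`-subgroup fixes an element in it. -/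
theorem exists_common_fixed_in_coset {G : Type*} [Group G] [Finite G] {A : Type*} [Group A] {p : ℕ}
    [Fact p.Prime] (hA : IsPGroup p A) (φ : A →* MulAut G) {N : Subgroup G}
    (hN : ¬ p ∣ Nat.card N) (hNφ : ∀ a, ∀ x ∈ N, φ a x ∈ N) {x : G}
    (hx : ∀ a, x⁻¹ * φ a x ∈ N) : ∃ z, z⁻¹ * x ∈ N ∧ ∀ a, φ a z = z := by
  classical
  let T := {z : G // x⁻¹ * z ∈ N}
  letI : MulAction A T :=
    { smul := fun a z => ⟨φ a (z : G), by
        have h : x⁻¹ * φ a (z : G) = (x⁻¹ * φ a x) * φ a (x⁻¹ * (z : G)) := by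
          rw [map_mul, map_inv]; group
        rw [h]; exact N.mul_mem (hx a) (hNφ a _ z.2)⟩
      one_smul := fun z => Subtype.ext (by show φ 1 (z : G) = z; rw [map_one]; rfl)
      mul_smul := fun a b z => Subtype.ext (by
        show φ (a * b) (z : G) = φ a (φ b z); rw [map_mul]; rfl) }
  have hcard : Nat.card T = Nat.card N := Nat.card_congr
    { toFun := fun z => ⟨x⁻¹ * z, z.2⟩
      invFun := fun u => ⟨x * u, by rw [inv_mul_cancel_left]; exact u.2⟩
      left_inv := fun z => Subtype.ext (mul_inv_cancel_left x (z : G))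
      right_inv := fun u => Subtype.ext (inv_mul_cancel_left x (u : G)) }
  obtain ⟨z, hz⟩ := hA.nonempty_fixed_point_of_prime_not_dvd_card T (by rw [hcard]; exact hN)
  refine ⟨z, ?_, fun a => congrArg Subtype.val (hz a)⟩
  have h := N.inv_mem z.2
  rwa [mul_inv_rev, inv_inv] at h

/-- An automorphism of `p`-power order fixing a coset of a `p'`-subgroup fixes an element in it. -/
theorem exists_fixed_in_coset {G : Type*} [Group G] [Finite G] {p : ℕ} [Fact p.Prime] {φ : MulAut G}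
    {m : ℕ} (hφ : φ ^ (p ^ m) = 1) {N : Subgroup G} (hN : ¬ p ∣ Nat.card N)
    (hNφ : ∀ x ∈ N, φ x ∈ N) {x : G} (hx : x⁻¹ * φ x ∈ N) : ∃ z, z⁻¹ * x ∈ N ∧ φ z = z := by
  have hP : IsPGroup p (Subgroup.zpowers φ) := by
    obtain ⟨j, -, hj⟩ := (Nat.dvd_prime_pow Fact.out).1 (orderOf_dvd_of_pow_eq_one hφ)
    exact IsPGroup.of_card (by rw [Nat.card_zpowers, hj])
  have hpw : ∀ a : Subgroup.zpowers φ, ∃ i : ℕ, φ ^ i = (a : MulAut G) := fun a =>
    (isOfFinOrder_of_finite φ).mem_powers_iff_mem_zpowers.2 a.2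
  obtain ⟨z, hz, hfix⟩ := exists_common_fixed_in_coset hP (Subgroup.zpowers φ).subtype hN
    (fun a y hy => by
      obtain ⟨i, hi⟩ := hpw a
      show (a : MulAut G) y ∈ N
      rw [← hi]
      exact CfsgLib.FGS.pow_apply_mem hNφ i y hy)
    (x := x) (fun a => by
      obtain ⟨i, hi⟩ := hpw a
      show x⁻¹ * (a : MulAut G) x ∈ N
      rw [← hi]
      clear hi
      induction i with
      | zero => simp
      | succ i ih =>
        rw [pow_succ', MulAut.mul_apply]
        have e : x⁻¹ * φ ((φ ^ i) x) = (x⁻¹ * φ x) * φ (x⁻¹ * (φ ^ i) x) := by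
          rw [map_mul, map_inv]; group
        rw [e]
        exact N.mul_mem hx (hNφ _ ih))
  exact ⟨z, hz, hfix ⟨φ, Subgroup.mem_zpowers φ⟩⟩

section

variable {A : Type*} [CommGroup A] [Finite A] {p : ℕ} [hp : Fact p.Prime]

theorem pow_notMem_of_notMem {S : Subgroup A} (hexp : ∀ a : A, a ^ p = 1) {c : A} (hc : c ∉ S)
    {i : ℕ} (hi : 0 < i) (hip : i < p) : c ^ i ∉ S := by
  intro h
  have hcop : i.Coprime (orderOf c) := by
    refine Nat.Coprime.coprime_dvd_right (orderOf_dvd_of_pow_eq_one (hexp c)) ?_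
    exact ((hp.out.coprime_iff_not_dvd).2 (Nat.not_dvd_of_pos_of_lt hi hip)).symm
  obtain ⟨m, hm⟩ := exists_pow_eq_self_of_coprime hcop
  exact hc (hm ▸ S.pow_mem h m)

theorem sum_range_eq_of_pow {M : Type*} [AddCommGroup M] (ε : A →* AddMonoid.End M) {c : A}
    (hc : c ^ p = 1) (v : M) :
    ε c (∑ i ∈ Finset.range p, ε (c ^ i) v) = ∑ i ∈ Finset.range p, ε (c ^ i) v := by
  rw [map_sum]
  have e : ∀ i, ε c (ε (c ^ i) v) = ε (c ^ (i + 1)) v := fun i => by
    rw [pow_succ', map_mul]; rfl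
  simp only [e]
  have h2 := Finset.sum_range_succ' (fun i => ε (c ^ i) v) p
  rw [Finset.sum_range_succ, hc, pow_zero] at h2
  exact (add_right_cancel h2).symm

/-- `p • v` is a sum of vectors fixed by nontrivial elements. -/
theorem nsmul_mem_closure_fixed (hA : Nat.card A = p ^ 2) (hexp : ∀ a : A, a ^ p = 1) {M : Type*}
    [AddCommGroup M] (ε : A →* AddMonoid.End M) (hfix : ∀ v, (∀ a, ε a v = v) → v = 0) (v : M) :
    p • v ∈ AddSubgroup.closure {w : M | ∃ a : A, a ≠ 1 ∧ ε a w = w} := by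
  classical
  haveI : Nontrivial A := Finite.one_lt_card_iff_nontrivial.1
    (by rw [hA]; exact Nat.one_lt_pow two_ne_zero hp.out.one_lt)
  obtain ⟨b, hb⟩ := exists_ne (1 : A)
  have hob : orderOf b = p := orderOf_eq_prime (hexp b) hb
  obtain ⟨a, ha⟩ : ∃ a, a ∉ Subgroup.zpowers b := by
    by_contra hcon
    push Not at hcon
    have h1 : Subgroup.zpowers b = ⊤ := eq_top_iff.2 fun x _ => hcon x
    have h2 : Nat.card A = p := by
      rw [← Subgroup.card_top (G := A), ← h1, Nat.card_zpowers, hob]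
    rw [hA] at h2
    exact absurd h2 (by
      have := hp.out.two_le
      nlinarith)
  letI := Fintype.ofFinite A
  set B := Subgroup.zpowers b with hB
  letI := Fintype.ofFinite B
  have hcardB : Nat.card B = p := by rw [hB, Nat.card_zpowers, hob]
  have hinj : Function.Injective fun iy : Fin p × B => a ^ (iy.1 : ℕ) * (iy.2 : A) := by
    rintro ⟨i, y⟩ ⟨i', y'⟩ h
    simp only at h
    have hii : i = i' := by
      by_contra hne
      rcases lt_or_gt_of_ne hne with hlt | hlt
      · refine pow_notMem_of_notMem hexp ha (i := (i' : ℕ) - i) (by omega) (by omega) ?_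
        have : a ^ ((i' : ℕ) - i) = (y : A) * (y' : A)⁻¹ := by
          rw [eq_mul_inv_iff_mul_eq, ← mul_right_inj (a ^ (i : ℕ)), ← mul_assoc, ← pow_add,
            Nat.add_sub_cancel' hlt.le, h]
        rw [this]
        exact mul_mem y.2 (inv_mem y'.2)
      · refine pow_notMem_of_notMem hexp ha (i := (i : ℕ) - i') (by omega) (by omega) ?_
        have : a ^ ((i : ℕ) - i') = (y' : A) * (y : A)⁻¹ := by
          rw [eq_mul_inv_iff_mul_eq, ← mul_right_inj (a ^ (i' : ℕ)), ← mul_assoc, ← pow_add,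
            Nat.add_sub_cancel' hlt.le, h]
        rw [this]
        exact mul_mem y'.2 (inv_mem y.2)
    subst hii
    rw [Subtype.ext (mul_left_cancel h)]
  have hbij := (Nat.bijective_iff_injective_and_card
    (fun iy : Fin p × B => a ^ (iy.1 : ℕ) * (iy.2 : A))).2
    ⟨hinj, by rw [Nat.card_prod, Nat.card_fin, hcardB, hA, sq]⟩
  have hS : ∑ j ∈ Finset.range p, ∑ y : B, ε (a ^ j * y) v = 0 := by
    refine hfix _ fun c => ?_
    have e : ∑ j ∈ Finset.range p, ∑ y : B, ε (a ^ j * y) v = ∑ x : A, ε x v := by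
      rw [← Equiv.sum_comp (Equiv.ofBijective _ hbij) (fun x => ε x v), Fintype.sum_prod_type,
        Finset.sum_range]
      rfl
    rw [e, map_sum]
    refine Fintype.sum_equiv (Equiv.mulLeft c) _ _ fun x => ?_
    rw [Equiv.coe_mulLeft, map_mul]
    rfl
  set L := AddSubgroup.closure {w : M | ∃ a : A, a ≠ 1 ∧ ε a w = w} with hL
  have hay : ∀ y : B, a * (y : A) ≠ 1 := fun y h => ha (by
    rw [eq_inv_of_mul_eq_one_left h]; exact inv_mem y.2)
  have h1 : ∑ j ∈ Finset.range p, ∑ y : B, ε ((a * y) ^ j) v ∈ L := by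
    rw [Finset.sum_comm]
    exact L.sum_mem fun y _ => AddSubgroup.subset_closure
      ⟨_, hay y, sum_range_eq_of_pow ε (hexp _) v⟩
  have h2 : ∑ y : B, ε (y : A) v ∈ L := by
    refine AddSubgroup.subset_closure ⟨b, hb, ?_⟩
    rw [map_sum]
    refine Fintype.sum_equiv (Equiv.mulLeft ⟨b, Subgroup.mem_zpowers b⟩) _ _ fun y => ?_
    rw [Equiv.coe_mulLeft, Subgroup.coe_mul, map_mul]
    rfl
  obtain ⟨p', hp'⟩ : ∃ p', p = p' + 1 := ⟨p - 1, by have := hp.out.pos; omega⟩
  have h3 : ∑ j ∈ Finset.range p', ∑ y : B, ε ((a * y) ^ (j + 1)) v =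
      ∑ j ∈ Finset.range p', ∑ y : B, ε (a ^ (j + 1) * y) v := by
    refine Finset.sum_congr rfl fun j hj => ?_
    rw [Finset.mem_range] at hj
    have hcop : (Nat.card B).Coprime (j + 1) := by
      rw [hcardB]
      exact (hp.out.coprime_iff_not_dvd).2
        (Nat.not_dvd_of_pos_of_lt (Nat.succ_pos _) (by omega))
    rw [← Equiv.sum_comp (powCoprime hcop) (fun y : B => ε (a ^ (j + 1) * y) v)]
    exact Finset.sum_congr rfl fun y _ => by rw [mul_pow, powCoprime_apply, Subgroup.coe_pow]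
  have e1 : ∑ j ∈ Finset.range p, ∑ y : B, ε (a ^ j * y) v =
      ∑ j ∈ Finset.range p', ∑ y : B, ε (a ^ (j + 1) * y) v + ∑ y : B, ε (y : A) v := by
    rw [hp', Finset.sum_range_succ']
    simp only [pow_zero, one_mul]
  have e2 : ∑ j ∈ Finset.range p, ∑ y : B, ε ((a * y) ^ j) v =
      ∑ j ∈ Finset.range p', ∑ y : B, ε ((a * y) ^ (j + 1)) v + p • v := by
    conv_lhs => rw [hp', Finset.sum_range_succ']
    simp only [pow_zero, map_one, AddMonoid.End.coe_one, id_eq, Finset.sum_const, Finset.card_univ]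
    rw [← Nat.card_eq_fintype_card, hcardB]
  rw [e1, ← h3] at hS
  have h4 : p • v = ∑ j ∈ Finset.range p, ∑ y : B, ε ((a * y) ^ j) v + ∑ y : B, ε (y : A) v := by
    rw [e2, add_comm (∑ j ∈ Finset.range p', _) (p • v), add_assoc, hS, add_zero]
  rw [h4]
  exact L.add_mem h1 h2

theorem mem_of_pow_mem_of_coprime {G : Type*} [Group G] {H : Subgroup G} {g : G} {m : ℕ}
    (hm : g ^ m ∈ H) (hcop : m.Coprime (orderOf g)) : g ∈ H := by
  obtain ⟨j, hj⟩ := exists_pow_eq_self_of_coprime hcop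
  exact hj ▸ H.pow_mem hm j

/-- In a group of order `p ^ 2` two independent elements generate. -/
theorem exists_pow_mul_pow (hA : Nat.card A = p ^ 2) (hexp : ∀ a : A, a ^ p = 1) {a b : A}
    (ha : a ≠ 1) (hb : b ∉ Subgroup.zpowers a) (d : A) :
    ∃ i k : ℕ, d = a ^ i * b ^ k := by
  have hinj : Function.Injective fun ij : Fin p × Fin p => a ^ (ij.1 : ℕ) * b ^ (ij.2 : ℕ) := by
    rintro ⟨i, k⟩ ⟨i', k'⟩ h
    simp only at h
    have hoa : orderOf a = p := orderOf_eq_prime (hexp a) ha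
    have hkk : k = k' := by
      by_contra hne
      rcases lt_or_gt_of_ne hne with hlt | hlt
      · refine pow_notMem_of_notMem hexp hb (i := (k' : ℕ) - k) (by omega) (by omega) ?_
        have : b ^ ((k' : ℕ) - k) = a ^ (i : ℕ) * (a ^ (i' : ℕ))⁻¹ := by
          rw [eq_mul_inv_iff_mul_eq, ← mul_right_inj (b ^ (k : ℕ)), ← mul_assoc, ← pow_add,
            Nat.add_sub_cancel' hlt.le, mul_comm _ (a ^ (i' : ℕ)), mul_comm _ (a ^ (i : ℕ)), h]
        rw [this]
        exact mul_mem (Subgroup.npow_mem_zpowers a _) (inv_mem (Subgroup.npow_mem_zpowers a _))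
      · refine pow_notMem_of_notMem hexp hb (i := (k : ℕ) - k') (by omega) (by omega) ?_
        have : b ^ ((k : ℕ) - k') = a ^ (i' : ℕ) * (a ^ (i : ℕ))⁻¹ := by
          rw [eq_mul_inv_iff_mul_eq, ← mul_right_inj (b ^ (k' : ℕ)), ← mul_assoc, ← pow_add,
            Nat.add_sub_cancel' hlt.le, mul_comm _ (a ^ (i' : ℕ)), mul_comm _ (a ^ (i : ℕ)), h]
        rw [this]
        exact mul_mem (Subgroup.npow_mem_zpowers a _) (inv_mem (Subgroup.npow_mem_zpowers a _))
    subst hkk
    have hi : (i : ℕ) = i' := by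
      refine pow_injOn_Iio_orderOf ?_ ?_ (mul_right_cancel h) <;> rw [hoa] <;> simp
    rw [Fin.ext hi]
  obtain ⟨⟨i, k⟩, hik⟩ := ((Nat.bijective_iff_injective_and_card
    (fun ij : Fin p × Fin p => a ^ (ij.1 : ℕ) * b ^ (ij.2 : ℕ))).2
    ⟨hinj, by rw [Nat.card_prod, Nat.card_fin, hA, sq]⟩).2 d
  exact ⟨i, k, hik.symm⟩

theorem mem_zpowers_of_mem (hexp : ∀ a : A, a ^ p = 1) {a c : A} (hc : c ∈ Subgroup.zpowers a)
    (hc1 : c ≠ 1) : a ∈ Subgroup.zpowers c := by
  by_contra h
  obtain ⟨i, hi⟩ := (isOfFinOrder_of_finite a).mem_powers_iff_mem_zpowers.2 hc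
  have hi' : a ^ (i % p) = c := by rw [← hi]; exact (pow_eq_pow_mod i (hexp a)).symm
  rcases Nat.eq_zero_or_pos (i % p) with h0 | h0
  · rw [h0, pow_zero] at hi'
    exact hc1 hi'.symm
  · exact pow_notMem_of_notMem hexp h h0 (Nat.mod_lt _ hp.out.pos)
      (hi' ▸ Subgroup.mem_zpowers c)

/-- A subgroup of an abelian `p'`-group containing all fixed points of nontrivial elements is
everything. -/
theorem eq_top_of_fixed_le (hA : Nat.card A = p ^ 2) (hexp : ∀ a : A, a ^ p = 1) {M : Type*}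
    [CommGroup M] (f : A →* MulAut M) (hfix : ∀ m, (∀ a, f a m = m) → m = 1)
    (hM : ∀ m : M, p.Coprime (orderOf m)) (T : Subgroup M)
    (hT : ∀ a : A, a ≠ 1 → ∀ m, f a m = m → m ∈ T) : T = ⊤ := by
  let ε : A →* AddMonoid.End (Additive M) :=
    { toFun := fun a => MonoidHom.toAdditive (f a).toMonoidHom
      map_one' := by rw [map_one]; rfl
      map_mul' := fun a b => by rw [map_mul]; rfl }
  refine eq_top_iff.2 fun m _ => ?_
  have hle : AddSubgroup.closure {w : Additive M | ∃ a : A, a ≠ 1 ∧ ε a w = w} ≤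
      Subgroup.toAddSubgroup T := by
    rw [AddSubgroup.closure_le]
    rintro w ⟨a, ha, hw⟩
    exact hT a ha w.toMul (congrArg Additive.toMul hw :)
  have h := hle (nsmul_mem_closure_fixed hA hexp ε
    (fun v hv => congrArg Additive.ofMul (hfix v.toMul fun a => congrArg Additive.toMul (hv a)))
    (Additive.ofMul m))
  exact mem_of_pow_mem_of_coprime (m := p) h (hM m)

variable {K : Type*} [Field K] [IsAlgClosed K] {V : Type*} [AddCommGroup V] [Module K V]

/-- Stabiliser of a nontrivial character in the support. -/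
theorem exists_type_of_character {q : ℕ} [Fact q.Prime] (hqp : q ≠ p) (hA : Nat.card A = p ^ 2)
    (hexp : ∀ a : A, a ^ p = 1) (hpK : (p : K) ≠ 0) {U : Type*} [CommGroup U] [Finite U]
    (hU : IsPGroup q U) (hqK : (q : K) ≠ 0) (f : A →* MulAut U)
    (hfix : ∀ u, (∀ a, f a u = u) → u = 1) (ρ : U →* Module.End K V) (ε : A →* Module.End K V)
    (hρε : ∀ a u, ε a * ρ u = ρ (f a u) * ε a) (hVfix : ∀ v, (∀ a, ε a v = v) → v = 0)
    {χ : U →* Kˣ} (he : charProj ρ χ ≠ 0) (hχ : χ ≠ 1) :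
    ∃ a : A, a ≠ 1 ∧ χ.comp (f a).toMonoidHom = χ ∧
      ∀ c : A, c ∉ Subgroup.zpowers a → χ.comp (f c).toMonoidHom ≠ χ := by
  classical
  letI := Fintype.ofFinite A
  let S : Subgroup A :=
    { carrier := {a | ∀ u, χ (f a u) = χ u}
      one_mem' := fun u => by rw [map_one]; rfl
      mul_mem' := fun {a b} ha hb u => by rw [map_mul, MulAut.mul_apply, ha, hb]
      inv_mem' := fun {a} ha u => by
        have h := ha (f a⁻¹ u)
        rw [← MulAut.mul_apply, ← map_mul, mul_inv_cancel, map_one, MulAut.one_apply] at h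
        exact h.symm }
  have hS : ∀ a, a ∈ S ↔ χ.comp (f a).toMonoidHom = χ := fun a =>
    ⟨fun h => MonoidHom.ext h, fun h u => DFunLike.congr_fun h u⟩
  have hUK : (Nat.card U : K) ≠ 0 := by
    obtain ⟨i, hi⟩ := hU.exists_card_eq
    rw [hi, Nat.cast_pow]; exact pow_ne_zero _ hqK
  have hAK : (Nat.card A : K) ≠ 0 := by rw [hA, Nat.cast_pow]; exact pow_ne_zero _ hpK
  have hne : S ≠ ⊥ := by
    intro hbot
    refine he (LinearMap.ext fun v => ?_)
    set w := charProj ρ χ v with hw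
    have hew : charProj ρ χ w = w := LinearMap.congr_fun (charProj_idem ρ hUK χ) v
    have h0 : ∑ a : A, ε a w = 0 := hVfix _ fun c => by
      rw [map_sum]
      refine Fintype.sum_equiv (Equiv.mulLeft c) _ _ fun x => ?_
      rw [Equiv.coe_mulLeft, map_mul, Module.End.mul_apply]
    have h1 := congrArg (charProj ρ χ) h0
    rw [map_zero, map_sum, Finset.sum_eq_single 1] at h1
    · rw [map_one, Module.End.one_apply, hew] at h1
      exact h1
    · intro a _ ha
      have hac : χ.comp (f a).toMonoidHom ≠ χ := fun h => ha (by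
        rw [← Subgroup.mem_bot, ← hbot]; exact (hS a).2 h)
      have h2 := charProj_semiconj ρ (f a) (hρε a) χ
      rw [← Module.End.mul_apply, ← h2, Module.End.mul_apply]
      have h3 : charProj ρ (χ.comp (f a).toMonoidHom) w = 0 := by
        rw [← hew, ← Module.End.mul_apply, charProj_mul_of_ne ρ hac]; rfl
      rw [h3, map_zero]
    · intro h; exact absurd (Finset.mem_univ _) h
  have hntop : S ≠ ⊤ := by
    intro htop
    refine hχ (MonoidHom.ext fun u => ?_)
    have h0 : ∏ a : A, f a u = 1 := hfix _ fun c => by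
      rw [map_prod]
      refine Fintype.prod_equiv (Equiv.mulLeft c) _ _ fun x => ?_
      rw [Equiv.coe_mulLeft, map_mul, MulAut.mul_apply]
    have h1 := congrArg χ h0
    rw [map_prod, map_one, Finset.prod_congr rfl fun a _ => (htop ▸ Subgroup.mem_top a : a ∈ S) u,
      Finset.prod_const, Finset.card_univ, ← Nat.card_eq_fintype_card, hA] at h1
    obtain ⟨i, hi⟩ := hU u
    refine orderOf_eq_one_iff.1 (Nat.eq_one_of_dvd_coprimes
      (Nat.coprime_pow_primes 2 i hp.out Fact.out hqp.symm)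
      (orderOf_dvd_of_pow_eq_one h1) (orderOf_dvd_of_pow_eq_one ?_))
    rw [← map_pow, hi, map_one]
  obtain ⟨⟨a, haS⟩, ha'⟩ := Subgroup.ne_bot_iff_exists_ne_one.1 hne
  have ha : a ≠ 1 := fun e => ha' (Subtype.ext e)
  refine ⟨a, ha, (hS a).1 haS, fun c hc hceq => hntop (eq_top_iff.2 fun d _ => ?_)⟩
  obtain ⟨i, k, rfl⟩ := exists_pow_mul_pow hA hexp ha hc d
  exact mul_mem (pow_mem haS i) (pow_mem ((hS c).2 hceq) k)

/-- An element fixed by `c` acts trivially on a component on whose orbit `c` acts regularly. -/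
theorem apply_charProj_eq_self (hexp : ∀ a : A, a ^ p = 1) (hp0 : 0 < p) {U : Type*} [CommGroup U]
    [Finite U] (hUK : (Nat.card U : K) ≠ 0) (f : A →* MulAut U) (ρ : U →* Module.End K V)
    (ε : A →* Module.End K V) (hρε : ∀ a u, ε a * ρ u = ρ (f a u) * ε a) {χ : U →* Kˣ} {c : A}
    (hc : ∀ i, 0 < i → i < p → χ.comp (f (c ^ i)).toMonoidHom ≠ χ) {T : Module.End K V}
    (hT : T * charProj ρ χ = charProj ρ χ * T) (hfixT : ∀ v, ε c v = v → T v = v) :
    T * charProj ρ χ = charProj ρ χ := by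
  refine LinearMap.ext fun v => ?_
  rw [Module.End.mul_apply]
  set w := charProj ρ χ v with hw
  have hew : charProj ρ χ w = w := LinearMap.congr_fun (charProj_idem ρ hUK χ) v
  let ε' : A →* AddMonoid.End V :=
    { toFun := fun a => (ε a).toAddMonoidHom
      map_one' := by rw [map_one]; rfl
      map_mul' := fun a b => by rw [map_mul]; rfl }
  set s := ∑ i ∈ Finset.range p, ε (c ^ i) w with hs
  have h1 : T s = s := hfixT _ (sum_range_eq_of_pow ε' (hexp c) w)
  have h2 : charProj ρ χ s = w := by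
    rw [hs, map_sum, Finset.sum_eq_single 0]
    · rw [pow_zero, map_one, Module.End.one_apply, hew]
    · intro i hi hi0
      rw [← Module.End.mul_apply, ← charProj_semiconj ρ (f (c ^ i)) (hρε _) χ,
        Module.End.mul_apply]
      have h3 : charProj ρ (χ.comp (f (c ^ i)).toMonoidHom) w = 0 := by
        rw [← hew, ← Module.End.mul_apply,
          charProj_mul_of_ne ρ (hc i (Nat.pos_of_ne_zero hi0) (Finset.mem_range.1 hi))]
        rfl
      rw [h3, map_zero]
    · intro h; exact absurd (Finset.mem_range.2 hp0) h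
  conv_lhs => rw [← h2, ← Module.End.mul_apply, hT, Module.End.mul_apply, h1]
  exact h2

set_option maxHeartbeats 2000000 in
/-- The core of Ward's theorem. -/
theorem false_of_ward_core [FiniteDimensional K V] {q : ℕ} [hq : Fact q.Prime] (hqp : q ≠ p)
    (hqK : (q : K) ≠ 0) (hpK : (p : K) ≠ 0) (hA : Nat.card A = p ^ 2)
    (hexp : ∀ a : A, a ^ p = 1) {Q : Type*} [Group Q] [Finite Q] (hQ : IsPGroup q Q)
    (φ : A →* MulAut Q) (hQfix : ∀ x, (∀ a, φ a x = x) → x = 1) (ρ : Q →* Module.End K V)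
    (ε : A →* Module.End K V) (hρε : ∀ a x, ε a * ρ x = ρ (φ a x) * ε a)
    (hVfix : ∀ v, (∀ a, ε a v = v) → v = 0)
    (h1 : ∀ a : A, a ≠ 1 → ∀ x, φ a x = x → ∀ v, ε a v = v → ρ x v = v)
    (Y : Subgroup (MulAut Q)) (hYq : (Nat.card Y).Coprime q) (hYp : ¬ p ∣ Nat.card Y)
    (hYc : ∀ y ∈ Y, ∀ z ∈ Y, y * z = z * y) (hYA : ∀ a, ∀ y ∈ Y, φ a * y * (φ a)⁻¹ ∈ Y)
    (h2 : ∀ a : A, a ≠ 1 → ∀ y ∈ Y, φ a * y = y * φ a → ∀ x, φ a x = x → y x = x)
    (hB : ∀ y ∈ Y, ∃ B B' : Module.End K V, B * B' = 1 ∧ ∀ x, B * ρ x = ρ (y x) * B)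
    (hmin : ∀ H : Subgroup Q, H ≠ ⊤ → (∀ a, ∀ x ∈ H, φ a x ∈ H) →
      (∀ y ∈ Y, ∀ x ∈ H, y x ∈ H) → ∀ y ∈ Y, ∀ x ∈ H, y x = x)
    (hY1 : ∃ y ∈ Y, y ≠ 1) (hρ : ∃ x, ρ x ≠ 1) : False := by
  classical
  obtain ⟨y₀, hy₀, hy₀1⟩ := hY1
  have hAp : IsPGroup p A := IsPGroup.of_card hA
  have hpord : ∀ x : Q, p.Coprime (orderOf x) := fun x => by
    obtain ⟨i, hi⟩ := IsPGroup.iff_orderOf.1 hQ x
    rw [hi]; exact ((Nat.coprime_primes hp.out hq.out).2 hqp.symm).pow_right i
  have hstep : ∀ y ∈ Y, ∀ x : Q, y (x⁻¹ * y x) = x⁻¹ * y x → y x = x := by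
    intro y hy x hz
    have h := pow_apply_mul_fixed (φ := y) (x := x) (mul_inv_cancel_left x (y x)).symm hz
      (Nat.card Y)
    have hyc : y ^ Nat.card Y = 1 := by
      have := pow_card_eq_one' (x := (⟨y, hy⟩ : Y))
      exact congrArg Subtype.val this
    rw [hyc, MulAut.one_apply] at h
    have h3 : x⁻¹ * y x = 1 := by
      refine (Subgroup.mem_bot).1 (mem_of_pow_mem_of_coprime (H := ⊥) (m := Nat.card Y)
        (Subgroup.mem_bot.2 (left_eq_mul.1 h)) ?_)
      obtain ⟨i, hi⟩ := IsPGroup.iff_orderOf.1 hQ (x⁻¹ * y x)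
      rw [hi]; exact hYq.pow_right i
    exact (inv_mul_eq_one.1 h3).symm
  -- `Q = [Q, Y]`, the Frattini subgroup is central
  set L := Subgroup.closure {z : Q | ∃ y ∈ Y, ∃ x, x⁻¹ * y x = z} with hL
  have hLtop : L = ⊤ := by
    by_contra hne
    refine hy₀1 (MulEquiv.ext fun x => hstep y₀ hy₀ x (hmin L hne ?_ ?_ y₀ hy₀ _
      (Subgroup.subset_closure ⟨y₀, hy₀, x, rfl⟩)))
    · intro a
      suffices L ≤ L.comap (φ a).toMonoidHom from fun z hz => this hz
      rw [hL, Subgroup.closure_le]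
      rintro _ ⟨y, hy, x, rfl⟩
      refine Subgroup.subset_closure ⟨φ a * y * (φ a)⁻¹, hYA a y hy, φ a x, ?_⟩
      simp
    · intro y hy
      suffices L ≤ L.comap y.toMonoidHom from fun z hz => this hz
      rw [hL, Subgroup.closure_le]
      rintro _ ⟨y', hy', x, rfl⟩
      refine Subgroup.subset_closure ⟨y * y' * y⁻¹, Y.mul_mem (Y.mul_mem hy hy') (Y.inv_mem hy),
        y x, ?_⟩
      simp
  haveI : Nontrivial Q := by
    by_contra hnt
    rw [not_nontrivial_iff_subsingleton] at hnt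
    exact hy₀1 (MulEquiv.ext fun x => Subsingleton.elim _ _)
  set Z := frattini Q with hZ
  haveI hZn : Z.Normal := inferInstance
  have hZchar : ∀ (f : MulAut Q), ∀ x ∈ Z, f x ∈ Z := fun f x hx =>
    apply_mem_of_characteristic f Z hx
  have hZY : ∀ y ∈ Y, ∀ x ∈ Z, y x = x :=
    hmin Z (CfsgLib.PGroup.frattini_ne_top hQ) (fun a => hZchar (φ a)) fun y _ => hZchar y
  have hZcent : Z ≤ Subgroup.center Q := by
    intro d hd
    have h : L ≤ Subgroup.centralizer {d} := by
      rw [hL, Subgroup.closure_le]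
      rintro _ ⟨y, hy, x, rfl⟩
      refine Subgroup.mem_centralizer_singleton_iff.2 ?_
      have h3 := hZY y hy _ (hZn.conj_mem d hd x)
      rw [map_mul, map_mul, map_inv, hZY y hy d hd] at h3
      calc x⁻¹ * y x * d = x⁻¹ * (y x * d * (y x)⁻¹) * y x := by group
        _ = x⁻¹ * (x * d * x⁻¹) * y x := by rw [h3]
        _ = d * (x⁻¹ * y x) := by group
    rw [hLtop] at h
    exact Subgroup.mem_center_iff.2 fun g =>
      Subgroup.mem_centralizer_singleton_iff.1 (h (Subgroup.mem_top g))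
  have hcomm : ∀ {d g : Q}, d ∈ Z → Commute g d :=
    fun hd => Subgroup.mem_center_iff.1 (hZcent hd) _
  have hpZ : ¬ p ∣ Nat.card Z := by
    obtain ⟨i, hi⟩ := (hQ.to_subgroup Z).exists_card_eq
    rw [hi]
    exact fun h => hqp ((Nat.prime_dvd_prime_iff_eq hp.out hq.out).1 (hp.out.dvd_of_dvd_pow h)).symm
  -- the quotient `M`
  letI : CommGroup (Q ⧸ Z) :=
    { (inferInstance : Group (Q ⧸ Z)) with
      mul_comm := CfsgLib.PGroup.quotient_frattini_comm hQ }
  let fM : A →* MulAut (Q ⧸ Z) :=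
    (quotientHom φ.range Z fun y _ => hZchar y).comp φ.rangeRestrict
  have hfM : ∀ (a : A) (x : Q), fM a (QuotientGroup.mk x) = QuotientGroup.mk (φ a x) :=
    fun a x => rfl
  let αM : Y →* MulAut (Q ⧸ Z) := quotientHom Y Z fun y _ => hZchar y
  have hαM : ∀ (y : Y) (x : Q), αM y (QuotientGroup.mk x) = QuotientGroup.mk ((y : MulAut Q) x) :=
    fun y x => rfl
  have hMp : IsPGroup q (Q ⧸ Z) := hQ.to_quotient Z
  have hMord : ∀ m : Q ⧸ Z, p.Coprime (orderOf m) := fun m => by
    obtain ⟨i, hi⟩ := IsPGroup.iff_orderOf.1 hMp m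
    rw [hi]; exact ((Nat.coprime_primes hp.out hq.out).2 hqp.symm).pow_right i
  have hMfix : ∀ m, (∀ a, fM a m = m) → m = 1 := by
    intro m hm
    obtain ⟨x, rfl⟩ := QuotientGroup.mk_surjective m
    obtain ⟨z, hz, hzfix⟩ := exists_common_fixed_in_coset hAp φ hpZ (fun a => hZchar (φ a))
      (x := x) (fun a => QuotientGroup.eq.1 (hm a).symm)
    rw [hQfix z hzfix, inv_one, one_mul] at hz
    exact (QuotientGroup.eq_one_iff x).2 hz
  have hliftM : ∀ (a : A) (x : Q), fM a (QuotientGroup.mk x) = QuotientGroup.mk x →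
      ∃ z : Q, (QuotientGroup.mk z : Q ⧸ Z) = QuotientGroup.mk x ∧ φ a z = z := by
    intro a x hx
    obtain ⟨z, hz, hzfix⟩ := exists_fixed_in_coset (φ := φ a) (m := 1)
      (by rw [pow_one, ← map_pow, hexp, map_one]) hpZ (hZchar (φ a))
      (x := x) (QuotientGroup.eq.1 hx.symm)
    exact ⟨z, QuotientGroup.eq.2 hz, hzfix⟩
  have hfaith : ∀ y : Y, (∀ m, αM y m = m) → y = 1 := fun y hy =>
    Subtype.ext (MulEquiv.ext fun x => hstep y y.2 x
      (hZY y y.2 _ (QuotientGroup.eq.1 (hy (QuotientGroup.mk x)).symm)))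
  have hconj : ∀ (a : A) (y : Y) (m : Q ⧸ Z),
      fM a (αM y m) = αM ⟨_, hYA a y y.2⟩ (fM a m) := by
    intro a y m
    obtain ⟨x, rfl⟩ := QuotientGroup.mk_surjective m
    rw [hαM, hfM, hfM, hαM]
    congr 1
    simp
  letI := Fintype.ofFinite Y
  -- `Y` has no fixed points on `M`
  have hMY : ∀ m : Q ⧸ Z, (∀ y, αM y m = m) → m = 1 := by
    intro m hm
    let N : (Q ⧸ Z) →* Q ⧸ Z :=
      { toFun := fun m => ∏ y : Y, αM y m
        map_one' := by simp
        map_mul' := fun m m' => by simp [Finset.prod_mul_distrib] }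
    have hN : L ≤ (N.comp (QuotientGroup.mk' Z)).ker := by
      rw [hL, Subgroup.closure_le]
      rintro _ ⟨y, hy, x, rfl⟩
      show N (QuotientGroup.mk (x⁻¹ * y x)) = 1
      rw [QuotientGroup.mk_mul, QuotientGroup.mk_inv, map_mul, map_inv, inv_mul_eq_one]
      symm
      refine Fintype.prod_equiv (Equiv.mulRight ⟨y, hy⟩) _ _ fun y' => ?_
      rw [Equiv.coe_mulRight, map_mul]
      rfl
    obtain ⟨x, rfl⟩ := QuotientGroup.mk_surjective m
    have h : N (QuotientGroup.mk x) = 1 := hN (hLtop ▸ Subgroup.mem_top x)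
    simp only [N, MonoidHom.coe_mk, OneHom.coe_mk, Finset.prod_congr rfl fun y _ => hm y,
      Finset.prod_const, Finset.card_univ] at h
    rw [← Nat.card_eq_fintype_card] at h
    refine Subgroup.mem_bot.1 (mem_of_pow_mem_of_coprime (H := ⊥) (Subgroup.mem_bot.2 h) ?_)
    obtain ⟨i, hi⟩ := IsPGroup.iff_orderOf.1 hMp (QuotientGroup.mk x)
    rw [hi]; exact hYq.pow_right i
  have hgenM : ∀ T : Subgroup (Q ⧸ Z), (∀ a : A, a ≠ 1 → ∀ m, fM a m = m → m ∈ T) → T = ⊤ :=
    eq_top_of_fixed_le hA hexp fM hMfix hMord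
  -- the spanning lemma
  have hspan : ∀ (a : A), a ≠ 1 → ∀ T : Subgroup (Q ⧸ Z), (∀ y : Y, ∀ m ∈ T, αM y m ∈ T) →
      (∀ c, c ∉ Subgroup.zpowers a → ∀ m, fM c m = m → m ∈ T) → T = ⊤ := by
    intro a ha T hTY hTc
    set N0 := Subgroup.closure
      {m : Q ⧸ Z | ∃ (y : Y) (c : A), c ∉ Subgroup.zpowers a ∧ ∃ m', fM c m' = m' ∧ αM y m' = m}
      with hN0
    have hN0T : N0 ≤ T := by
      rw [hN0, Subgroup.closure_le]
      rintro _ ⟨y, c, hc, m', hm', rfl⟩
      exact hTY y _ (hTc c hc m' hm')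
    by_contra hT
    set H := N0.comap (QuotientGroup.mk' Z) with hH
    have hHne : H ≠ ⊤ := fun h => hT (top_le_iff.1 (le_trans (fun m _ => by
      obtain ⟨x, rfl⟩ := QuotientGroup.mk_surjective m
      exact (h ▸ Subgroup.mem_top x : x ∈ H)) hN0T))
    have hN0A : ∀ d : A, ∀ m ∈ N0, fM d m ∈ N0 := by
      intro d
      suffices N0 ≤ N0.comap (fM d).toMonoidHom from fun m hm => this hm
      rw [hN0, Subgroup.closure_le]
      rintro _ ⟨y, c, hc, m', hm', rfl⟩
      refine Subgroup.subset_closure ⟨⟨_, hYA d y y.2⟩, c, hc, fM d m', ?_, (hconj d y m').symm⟩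
      rw [← MulAut.mul_apply, ← map_mul, mul_comm, map_mul, MulAut.mul_apply, hm']
    have hN0Y : ∀ y : Y, ∀ m ∈ N0, αM y m ∈ N0 := by
      intro y
      suffices N0 ≤ N0.comap (αM y).toMonoidHom from fun m hm => this hm
      rw [hN0, Subgroup.closure_le]
      rintro _ ⟨y', c, hc, m', hm', rfl⟩
      refine Subgroup.subset_closure ⟨y * y', c, hc, m', hm', ?_⟩
      rw [map_mul]; rfl
    have hYH := hmin H hHne (fun d x hx => hN0A d _ hx) fun y hy x hx => hN0Y ⟨y, hy⟩ _ hx
    have hC1 : ∀ c, c ∉ Subgroup.zpowers a → ∀ m, fM c m = m → m = 1 := by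
      intro c hc m hm
      refine hMY m fun y => ?_
      obtain ⟨x, rfl⟩ := QuotientGroup.mk_surjective m
      have hxH : x ∈ H := Subgroup.subset_closure ⟨1, c, hc, _, hm, by rw [map_one]; rfl⟩
      rw [hαM, hYH y y.2 x hxH]
    have hatriv : ∀ m, fM a m = m := by
      have h := hgenM ((fM a).toMonoidHom.eqLocus (MonoidHom.id _)) (fun c hc m hm => by
        by_cases hca : c ∈ Subgroup.zpowers a
        · obtain ⟨i, hi⟩ :=
            (isOfFinOrder_of_finite c).mem_powers_iff_mem_zpowers.2 (mem_zpowers_of_mem hexp hca hc)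
          show fM a m = m
          rw [← hi, map_pow]
          exact pow_apply_fixed hm i
        · show fM a m = m
          rw [hC1 c hca m hm, map_one])
      exact fun m => (h ▸ Subgroup.mem_top m : m ∈ (fM a).toMonoidHom.eqLocus (MonoidHom.id _))
    have hcomY : ∀ y ∈ Y, φ a * y = y * φ a := by
      intro y hy
      have h := hfaith (⟨_, hYA a y hy⟩ * (⟨y, hy⟩ : Y)⁻¹) fun m => by
        rw [map_mul, MulAut.mul_apply]
        have h3 := hconj a ⟨y, hy⟩ ((αM ⟨y, hy⟩)⁻¹ m)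
        rw [MulAut.apply_inv_self, hatriv, hatriv] at h3
        rw [map_inv]
        exact h3.symm
      have h3 : φ a * y * (φ a)⁻¹ = y := congrArg Subtype.val (mul_inv_eq_one.1 h)
      exact mul_inv_eq_iff_eq_mul.1 h3
    refine hy₀1 (congrArg Subtype.val (hfaith ⟨y₀, hy₀⟩ fun m => ?_) :)
    obtain ⟨x, rfl⟩ := QuotientGroup.mk_surjective m
    obtain ⟨z, hz, hzfix⟩ := hliftM a x (hatriv _)
    rw [← hz, hαM, h2 a ha y₀ hy₀ (hcomY y₀ hy₀) z hzfix]
  have hQK : ∀ H : Subgroup Q, (Nat.card H : K) ≠ 0 := fun H => by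
    obtain ⟨i, hi⟩ := (hQ.to_subgroup H).exists_card_eq
    rw [hi, Nat.cast_pow]; exact pow_ne_zero _ hqK
  -- the Frattini subgroup acts trivially
  letI : CommGroup Z :=
    { (inferInstance : Group Z) with
      mul_comm := fun a b => Subtype.ext (hcomm b.2).eq }
  let fZ : A →* MulAut Z := (restrictHom φ.range Z fun y _ => hZchar y).comp φ.rangeRestrict
  let ρZ : Z →* Module.End K V := ρ.comp Z.subtype
  have hρεZ : ∀ a u, ε a * ρZ u = ρZ (fZ a u) * ε a := fun a u => hρε a u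
  have hρZ1 : ∀ u : Z, ρZ u = 1 := by
    intro u
    refine ext_charProj ρZ (hQK Z) fun ω => ?_
    rw [charProj_mul_apply, mul_one]
    set e := charProj ρZ ω with he
    by_cases he0 : e = 0
    · rw [he0, smul_zero]
    by_cases hω : ω = 1
    · rw [hω, MonoidHom.one_apply, Units.val_one, one_smul]
    exfalso
    obtain ⟨a, ha, -, hne⟩ := exists_type_of_character hqp hA hexp hpK (hQ.to_subgroup Z) hqK fZ
      (fun u hu => Subtype.ext (hQfix u fun d => congrArg Subtype.val (hu d))) ρZ ε hρεZ hVfix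
      he0 hω
    have hec : ∀ g, ρ g * e = e * ρ g := fun g => charProj_comm ρZ ω fun u => by
      show ρ g * ρ (u : Q) = ρ (u : Q) * ρ g
      rw [← map_mul, ← map_mul, (hcomm u.2).eq]
    let Kr : Subgroup Q :=
      { carrier := {x | ρ x * e = e}
        one_mem' := by show ρ 1 * e = e; rw [map_one, one_mul]
        mul_mem' := fun {g g'} (hg : ρ g * e = e) (hg' : ρ g' * e = e) => by
          show ρ (g * g') * e = e
          rw [map_mul, mul_assoc, hg', hg]
        inv_mem' := fun {g} (hg : ρ g * e = e) => by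
          show ρ g⁻¹ * e = e
          conv_lhs => rw [← hg, ← mul_assoc, ← map_mul, inv_mul_cancel, map_one, one_mul] }
    have hKrY : ∀ y ∈ Y, ∀ x, ∀ c : K, ρ x * e = c • e → ρ (y x) * e = c • e := by
      intro y hy x c hx
      obtain ⟨B, B', hBB, hBρ⟩ := hB y hy
      have hBe : B * e = e * B := charProj_comm ρZ ω fun u => by
        show B * ρ (u : Q) = ρ (u : Q) * B
        rw [hBρ, hZY y hy u u.2]
      calc ρ (y x) * e = ρ (y x) * (e * B) * B' := by rw [mul_assoc, mul_assoc e, hBB, mul_one]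
        _ = (ρ (y x) * B) * e * B' := by rw [← hBe, ← mul_assoc]
        _ = B * (ρ x * e) * B' := by rw [← hBρ, mul_assoc B]
        _ = c • (e * B * B') := by rw [hx, mul_smul_comm, hBe, smul_mul_assoc]
        _ = c • e := by rw [mul_assoc, hBB, mul_one]
    have hT := hspan a ha (Kr.map (QuotientGroup.mk' Z))
      (by
        rintro y _ ⟨x, hx, rfl⟩
        refine ⟨(y : MulAut Q) x, ?_, rfl⟩
        have h := hKrY y y.2 x 1 (by rw [one_smul]; exact hx)
        rwa [one_smul] at h)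
      (by
        intro c hc m hm
        obtain ⟨x, rfl⟩ := QuotientGroup.mk_surjective m
        obtain ⟨z, hz, hzfix⟩ := hliftM c x hm
        refine ⟨z, apply_charProj_eq_self hexp hp.out.pos (hQK Z) fZ ρZ ε hρεZ
          (fun i hi hip => hne _ (pow_notMem_of_notMem hexp hc hi hip)) (hec z)
          (h1 c (fun h => hc (h ▸ Subgroup.one_mem _)) z hzfix), hz⟩)
    have hscal : ∀ x, ∃ c : K, ρ x * e = c • e := by
      intro x
      obtain ⟨k', hk', hkx⟩ := (hT ▸ Subgroup.mem_top (QuotientGroup.mk' Z x) :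
        QuotientGroup.mk' Z x ∈ Kr.map (QuotientGroup.mk' Z))
      have hd : k'⁻¹ * x ∈ Z := QuotientGroup.eq.1 hkx
      refine ⟨((ω ⟨_, hd⟩ : Kˣ) : K), ?_⟩
      conv_lhs => rw [show x = k' * (k'⁻¹ * x) by group, map_mul, mul_assoc,
        show ρ (k'⁻¹ * x) * e = ((ω ⟨_, hd⟩ : Kˣ) : K) • e from apply_mul_charProj ρZ ω ⟨_, hd⟩,
        mul_smul_comm, show ρ k' * e = e from hk']
    have hLK : L ≤ Kr := by
      rw [hL, Subgroup.closure_le]
      rintro _ ⟨y, hy, x, rfl⟩
      obtain ⟨c, hc⟩ := hscal x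
      show ρ (x⁻¹ * y x) * e = e
      rw [map_mul, mul_assoc, hKrY y hy x c hc, ← hc, ← mul_assoc, ← map_mul, inv_mul_cancel,
        map_one, one_mul]
    refine hω (MonoidHom.ext fun u' => Units.ext ?_)
    have h : ρ (u' : Q) * e = e := hLK (hLtop ▸ Subgroup.mem_top _)
    rw [show ρ (u' : Q) * e = ((ω u' : Kˣ) : K) • e from apply_mul_charProj ρZ ω u'] at h
    exact smul_left_injective K he0 (show ((ω u' : Kˣ) : K) • e = (1 : K) • e by rw [h, one_smul])
  -- the abelian case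
  let ρM : Q ⧸ Z →* Module.End K V :=
    QuotientGroup.lift Z ρ fun u hu => hρZ1 ⟨u, hu⟩
  have hρM : ∀ x, ρM (QuotientGroup.mk x) = ρ x := fun x => rfl
  have hρεM : ∀ a m, ε a * ρM m = ρM (fM a m) * ε a := fun a m => by
    obtain ⟨x, rfl⟩ := QuotientGroup.mk_surjective m
    exact hρε a x
  have hMK : (Nat.card (Q ⧸ Z) : K) ≠ 0 := by
    obtain ⟨i, hi⟩ := hMp.exists_card_eq
    rw [hi, Nat.cast_pow]; exact pow_ne_zero _ hqK
  have hgenY : ∀ T : Subgroup Y,
      (∀ a : A, a ≠ 1 → ∀ y : Y, φ a * y = y * φ a → y ∈ T) → T = ⊤ := by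
    intro T hT
    letI : CommGroup Y :=
      { Y.toGroup with mul_comm := fun a b => Subtype.ext (hYc a a.2 b b.2) }
    let fY : A →* MulAut Y :=
      { toFun := fun a =>
          { toFun := fun y => ⟨φ a * y * (φ a)⁻¹, hYA a y y.2⟩
            invFun := fun y => ⟨φ a⁻¹ * y * (φ a⁻¹)⁻¹, hYA _ y y.2⟩
            left_inv := fun y => Subtype.ext (by simp [map_inv, mul_assoc])
            right_inv := fun y => Subtype.ext (by simp [map_inv, mul_assoc])
            map_mul' := fun y y' => Subtype.ext (by simp [mul_assoc]) }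
        map_one' := MulEquiv.ext fun y => Subtype.ext (by simp)
        map_mul' := fun a b => MulEquiv.ext fun y => Subtype.ext (by
          simp [map_mul, mul_assoc]) }
    have hfY : ∀ a (y : Y), fY a y = y ↔ φ a * (y : MulAut Q) = y * φ a := fun a y => by
      rw [← Subtype.coe_inj]
      exact mul_inv_eq_iff_eq_mul
    refine eq_top_of_fixed_le hA hexp fY (fun y hy => hfaith y ?_) (fun y => ?_) T
      (fun a ha y hy => hT a ha y ((hfY a y).1 hy))
    · have h := hgenM ((αM y).toMonoidHom.eqLocus (MonoidHom.id _)) (fun a ha m hm => by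
        obtain ⟨x, rfl⟩ := QuotientGroup.mk_surjective m
        obtain ⟨z, hz, hzfix⟩ := hliftM a x hm
        show αM y _ = _
        rw [← hz, hαM, h2 a ha y y.2 ((hfY a y).1 (hy a)) z hzfix]; rfl)
      exact fun m => (h ▸ Subgroup.mem_top m : m ∈ (αM y).toMonoidHom.eqLocus (MonoidHom.id _))
    · exact ((hp.out.coprime_iff_not_dvd).2 hYp).coprime_dvd_right (orderOf_dvd_natCard y)
  obtain ⟨χ, hχ0, hχ1⟩ : ∃ χ : Q ⧸ Z →* Kˣ, charProj ρM χ ≠ 0 ∧ χ ≠ 1 := by
    by_contra hcon
    push Not at hcon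
    obtain ⟨x, hx⟩ := hρ
    refine hx ?_
    rw [← hρM]
    refine ext_charProj ρM hMK fun χ => ?_
    rw [charProj_mul_apply, mul_one]
    by_cases h : charProj ρM χ = 0
    · rw [h, smul_zero]
    · rw [hcon χ h, MonoidHom.one_apply, Units.val_one, one_smul]
  obtain ⟨a, ha, haχ, -⟩ :=
    exists_type_of_character hqp hA hexp hpK hMp hqK fM hMfix ρM ε hρεM hVfix hχ0 hχ1
  let P : (Q ⧸ Z →* Kˣ) → Prop := fun ψ =>
    charProj ρM ψ ≠ 0 ∧ ψ ≠ 1 ∧ ψ.comp (fM a).toMonoidHom = ψ
  have hkill : ∀ ψ, P ψ → ∀ c, c ∉ Subgroup.zpowers a → ∀ m, fM c m = m → ψ m = 1 := by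
    rintro ψ ⟨hψ0, hψ1, hψa⟩ c hc m hm
    obtain ⟨x, rfl⟩ := QuotientGroup.mk_surjective m
    obtain ⟨z, hz, hzfix⟩ := hliftM c x hm
    obtain ⟨a2, ha2, -, hne⟩ :=
      exists_type_of_character hqp hA hexp hpK hMp hqK fM hMfix ρM ε hρεM hVfix hψ0 hψ1
    have ha' : a ∈ Subgroup.zpowers a2 := by
      by_contra h
      exact hne a h hψa
    have hc2 : c ∉ Subgroup.zpowers a2 := fun h => hc (Subgroup.zpowers_le.2
      (mem_zpowers_of_mem hexp ha' ha) h)
    have h := apply_charProj_eq_self hexp hp.out.pos hMK fM ρM ε hρεM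
      (fun i hi hip => hne _ (pow_notMem_of_notMem hexp hc2 hi hip))
      (T := ρM (QuotientGroup.mk z)) (charProj_comm ρM ψ fun u => by
        rw [← map_mul, ← map_mul, mul_comm])
      (h1 c (fun e => hc (e ▸ Subgroup.one_mem _)) z hzfix)
    rw [apply_mul_charProj, hz] at h
    exact Units.ext (smul_left_injective K hψ0
      (show ((ψ (QuotientGroup.mk x) : Kˣ) : K) • charProj ρM ψ = (1 : K) • charProj ρM ψ by
        rw [h, one_smul]))
  have hPY : ∀ y : Y, ∀ ψ, P ψ → ∀ a' : A, a' ≠ 1 → φ a' * y = y * φ a' →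
      P (ψ.comp (αM y).toMonoidHom) := by
    rintro y ψ ⟨hψ0, hψ1, hψa⟩ a' ha' hcom
    set μ := ψ.comp (αM y).toMonoidHom with hμ
    have hμ0 : charProj ρM μ ≠ 0 := by
      obtain ⟨B, B', hBB, hBρ⟩ := hB y y.2
      intro h0
      have h := charProj_semiconj ρM (αM y) (S := B) (fun m => by
        obtain ⟨x, rfl⟩ := QuotientGroup.mk_surjective m
        rw [hαM, hρM, hρM]
        exact hBρ x) ψ
      rw [← hμ, h0, mul_zero] at h
      refine hψ0 ?_
      calc charProj ρM ψ = charProj ρM ψ * B * B' := by rw [mul_assoc, hBB, mul_one]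
        _ = 0 := by rw [← h, zero_mul]
    have hμ1 : μ ≠ 1 := fun h => hψ1 (MonoidHom.ext fun m => by
      obtain ⟨m, rfl⟩ := (αM y).surjective m
      exact DFunLike.congr_fun h m)
    refine ⟨hμ0, hμ1, ?_⟩
    have hcomM : ∀ k : ℕ, ∀ m, αM y (fM (a' ^ k) m) = fM (a' ^ k) (αM y m) := by
      intro k m
      obtain ⟨x, rfl⟩ := QuotientGroup.mk_surjective m
      rw [hfM, hαM, hαM, hfM]
      congr 1
      have hc : Commute (φ (a' ^ k)) (y : MulAut Q) := by
        rw [map_pow]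
        exact (show Commute (φ a') (y : MulAut Q) from hcom).pow_left k
      exact (DFunLike.congr_fun hc x).symm
    by_cases haa : a' ∈ Subgroup.zpowers a
    · obtain ⟨i, hi⟩ :=
        (isOfFinOrder_of_finite a').mem_powers_iff_mem_zpowers.2 (mem_zpowers_of_mem hexp haa ha')
      refine MonoidHom.ext fun m => ?_
      show ψ (αM y (fM a m)) = ψ (αM y m)
      have hi' : a' ^ i = a := hi
      rw [← hi', hcomM, hi']
      exact DFunLike.congr_fun hψa (αM y m)
    obtain ⟨a2, ha2, ha2μ, -⟩ :=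
      exists_type_of_character hqp hA hexp hpK hMp hqK fM hMfix ρM ε hρεM hVfix hμ0 hμ1
    obtain ⟨i, k, hik⟩ := exists_pow_mul_pow hA hexp ha haa a2
    have hψai : ∀ (j : ℕ) (m : Q ⧸ Z), ψ (fM (a ^ j) m) = ψ m := by
      intro j
      induction j with
      | zero => intro m; rw [pow_zero, map_one]; rfl
      | succ j ih =>
        intro m
        rw [pow_succ, map_mul, MulAut.mul_apply, ih]
        exact DFunLike.congr_fun hψa m
    have hnot : a' ∉ Subgroup.zpowers a := haa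
    have hψk : ∀ j : ℕ, (∀ m, ψ (fM (a' ^ j) m) = ψ m) → a' ^ j = 1 := by
      intro j hj
      by_contra hj1
      obtain ⟨a3, ha3, ha3ψ, hne3⟩ :=
        exists_type_of_character hqp hA hexp hpK hMp hqK fM hMfix ρM ε hρεM hVfix hψ0 hψ1
      have e1 : a ∈ Subgroup.zpowers a3 := by
        by_contra h; exact hne3 a h hψa
      have e2 : a' ^ j ∈ Subgroup.zpowers a3 := by
        by_contra h; exact hne3 _ h (MonoidHom.ext hj)
      have e3 := Subgroup.zpowers_le.2 (mem_zpowers_of_mem hexp e1 ha) e2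
      have e4 := mem_zpowers_of_mem hexp (Subgroup.npow_mem_zpowers a' j) hj1
      exact hnot (Subgroup.zpowers_le.2 e3 e4)
    set y1 : Y := ⟨φ (a ^ i)⁻¹ * y * (φ (a ^ i)⁻¹)⁻¹, hYA _ y y.2⟩ with hy1
    have hy1com : φ a' * y1 = y1 * φ a' := by
      have hcA : ∀ d d' : A, Commute (φ d) (φ d') := fun d d' => (Commute.all d d').map φ
      exact (((hcA _ _).mul_right hcom).mul_right (hcA _ _).inv_right).eq
    have hcomM1 : ∀ j : ℕ, ∀ m, αM y1 (fM (a' ^ j) m) = fM (a' ^ j) (αM y1 m) := by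
      intro j m
      obtain ⟨x, rfl⟩ := QuotientGroup.mk_surjective m
      rw [hfM, hαM, hαM, hfM]
      congr 1
      have hc : Commute (φ (a' ^ j)) (y1 : MulAut Q) := by
        rw [map_pow]
        exact (show Commute (φ a') (y1 : MulAut Q) from hy1com).pow_left j
      exact (DFunLike.congr_fun hc x).symm
    have key : ∀ m, ψ (αM y m) = ψ (fM (a' ^ k) (αM y1 m)) := by
      intro m
      have e1 : ψ (αM y (fM (a ^ i) (fM (a' ^ k) m))) = ψ (αM y m) := by
        show ψ (αM y ((fM (a ^ i) * fM (a' ^ k)) m)) = _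
        rw [← map_mul, ← hik]
        exact DFunLike.congr_fun ha2μ m
      have e2 : αM y (fM (a ^ i) (fM (a' ^ k) m)) = fM (a ^ i) (αM y1 (fM (a' ^ k) m)) := by
        obtain ⟨x, hx⟩ := QuotientGroup.mk_surjective (fM (a' ^ k) m)
        rw [← hx, hfM, hαM, hαM, hfM, hy1]
        congr 1
        simp [map_inv]
      rw [← e1, e2, hψai, hcomM1]
    set z : Y := y * y1⁻¹ with hz
    have hz1 : ∀ m, ψ (αM z m) = ψ (fM (a' ^ k) m) := fun m => by
      rw [hz, map_mul, MulAut.mul_apply, key, map_inv, MulAut.apply_inv_self]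
    have hzcom : φ a' * z = z * φ a' := by
      have h : Commute (φ a') (y : MulAut Q) := hcom
      exact (h.mul_right (show Commute (φ a') (y1 : MulAut Q) from hy1com).inv_right).eq
    have hzfM : ∀ m, αM z (fM (a' ^ k) m) = fM (a' ^ k) (αM z m) := by
      intro m
      obtain ⟨x, rfl⟩ := QuotientGroup.mk_surjective m
      rw [hfM, hαM, hαM, hfM]
      congr 1
      have hc : Commute (φ (a' ^ k)) (z : MulAut Q) := by
        rw [map_pow]
        exact (show Commute (φ a') (z : MulAut Q) from hzcom).pow_left k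
      exact (DFunLike.congr_fun hc x).symm
    have hzj : ∀ j : ℕ, ∀ m, ψ (αM (z ^ j) m) = ψ (fM (a' ^ (k * j)) m) := by
      intro j
      induction j with
      | zero => intro m; simp
      | succ j ih =>
        intro m
        rw [pow_succ z j, map_mul αM (z ^ j) z, MulAut.mul_apply, ih,
          show a' ^ (k * (j + 1)) = a' ^ k * a' ^ (k * j) by rw [← pow_add]; congr 1; ring,
          map_mul fM (a' ^ k) (a' ^ (k * j)), MulAut.mul_apply, ← hz1]
        congr 1
        have hgen : ∀ l : ℕ, αM z (fM (a' ^ l) m) = fM (a' ^ l) (αM z m) := by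
          intro l
          obtain ⟨x, rfl⟩ := QuotientGroup.mk_surjective m
          rw [hfM, hαM, hαM, hfM]
          congr 1
          have hc : Commute (φ (a' ^ l)) (z : MulAut Q) := by
            rw [map_pow]
            exact (show Commute (φ a') (z : MulAut Q) from hzcom).pow_left l
          exact (DFunLike.congr_fun hc x).symm
        exact (hgen _).symm
    have hk1 : a' ^ k = 1 := by
      have h := hψk (k * Nat.card Y) fun m => by
        rw [← hzj, pow_card_eq_one', map_one]; rfl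
      rw [pow_mul] at h
      refine Subgroup.mem_bot.1 (mem_of_pow_mem_of_coprime (H := ⊥) (Subgroup.mem_bot.2 h) ?_)
      exact Nat.Coprime.coprime_dvd_right (orderOf_dvd_of_pow_eq_one (hexp _))
        ((hp.out.coprime_iff_not_dvd).2 hYp).symm
    have hai : a2 = a ^ i := by rw [hik, hk1, mul_one]
    obtain ⟨j, hj⟩ := (isOfFinOrder_of_finite a2).mem_powers_iff_mem_zpowers.2
      (mem_zpowers_of_mem hexp (hai ▸ Subgroup.npow_mem_zpowers a i : a2 ∈ Subgroup.zpowers a) ha2)
    have hpow : ∀ (j : ℕ) (m : Q ⧸ Z), μ (fM (a2 ^ j) m) = μ m := by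
      intro j
      induction j with
      | zero => intro m; rw [pow_zero, map_one]; rfl
      | succ j ih =>
        intro m
        rw [pow_succ, map_mul, MulAut.mul_apply, ih]
        exact DFunLike.congr_fun ha2μ m
    refine MonoidHom.ext fun m => ?_
    show μ (fM a m) = μ m
    rw [← hj]
    exact hpow j m
  let SY : Subgroup Y :=
      { carrier := {y : Y | ∀ ψ, P ψ ↔ P (ψ.comp (αM y).toMonoidHom)}
        one_mem' := fun ψ => by rw [map_one]; exact Iff.rfl
        mul_mem' := fun {y y'} hy hy' ψ => by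
          rw [map_mul]
          exact (hy ψ).trans (hy' (ψ.comp (αM y).toMonoidHom))
        inv_mem' := fun {y} hy ψ => by
          rw [map_inv]
          refine (hy (ψ.comp (αM y)⁻¹.toMonoidHom)).trans ?_ |>.symm
          refine Eq.to_iff (congrArg P (MonoidHom.ext fun m => ?_))
          show ψ ((αM y)⁻¹ (αM y m)) = ψ m
          rw [MulAut.inv_apply_self] }
  have hPiff : ∀ y : Y, ∀ ψ, P ψ ↔ P (ψ.comp (αM y).toMonoidHom) := by
    have h := hgenY SY fun a' ha' y hcom => by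
      show ∀ ψ, P ψ ↔ P (ψ.comp (αM y).toMonoidHom)
      intro ψ
      refine ⟨fun h => hPY y ψ h a' ha' hcom, fun h => ?_⟩
      have h' := hPY y⁻¹ _ h a' ha' (show Commute (φ a') (y : MulAut Q) from hcom).inv_right.eq
      refine (congrArg P (MonoidHom.ext fun m => ?_)).to_iff.1 h'
      show ψ (αM y (αM y⁻¹ m)) = ψ m
      rw [map_inv, MulAut.apply_inv_self]
    exact fun y => (h ▸ Subgroup.mem_top y : y ∈ SY)
  let T : Subgroup (Q ⧸ Z) :=
    { carrier := {m | ∀ ψ, P ψ → ψ m = 1}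
      one_mem' := fun ψ _ => map_one ψ
      mul_mem' := fun {m m'} hm hm' ψ hψ => by rw [map_mul, hm ψ hψ, hm' ψ hψ, one_mul]
      inv_mem' := fun {m} hm ψ hψ => by rw [map_inv, hm ψ hψ, inv_one] }
  have hTtop := hspan a ha T (fun y m hm ψ hψ => hm _ ((hPiff y ψ).1 hψ))
    (fun c hc m hm ψ hψ => hkill ψ hψ c hc m hm)
  exact hχ1 (MonoidHom.ext fun m => (hTtop ▸ Subgroup.mem_top m : m ∈ T) χ ⟨hχ0, hχ1, haχ⟩)

end

end CfsgLib.Solvable
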