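import Cfsg.Prelude.Def_Solvable
import Cfsg.Agent.Lib.Solvable.Basic
import Mathlib.GroupTheory.GroupAction.Quotient

/-!
Counting in Frobenius groups; the kernel set when the complement has an involution.
-/

set_option autoImplicit false

open scoped Pointwise

namespace CfsgLib.Solvable

variable {G : Type*} [Group G]

theorem frobenius_mem_of_conj_mem {H : Subgroup G} (hH : Cfsg.IsFrobeniusComplement H) {g h : G}
    (hh : h ∈ H) (h1 : h ≠ 1) (hgh : g * h * g⁻¹ ∈ H) : g ∈ H := by
  by_contra hg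
  have h2 : g * h * g⁻¹ ∈ H ⊓ MulAut.conj g • H := ⟨hgh, mem_conj_smul_iff.2 (by group; exact hh)⟩
  rw [hH.2.2 g hg, Subgroup.mem_bot] at h2
  exact h1 (by simpa using h2)

theorem frobenius_mem_of_commute {H : Subgroup G} (hH : Cfsg.IsFrobeniusComplement H) {g h : G}
    (hh : h ∈ H) (h1 : h ≠ 1) (hgh : g * h = h * g) : g ∈ H :=
  frobenius_mem_of_conj_mem hH hh h1 (by rwa [hgh, mul_inv_cancel_right])

theorem mem_frobeniusKernel_iff {H : Subgroup G} {x : G} :
    x ∈ Cfsg.frobeniusKernel H ↔ x = 1 ∨ ∀ g : G, g⁻¹ * x * g ∉ H := by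
  simp only [Cfsg.frobeniusKernel, Set.mem_setOf_eq, mem_conj_smul_iff]

theorem frobeniusKernel_conj {H : Subgroup G} {x : G} (hx : x ∈ Cfsg.frobeniusKernel H) (c : G) :
    c * x * c⁻¹ ∈ Cfsg.frobeniusKernel H := by
  rw [mem_frobeniusKernel_iff] at hx ⊢
  rcases hx with rfl | hx
  · exact Or.inl (by group)
  · refine Or.inr fun g hg => hx (c⁻¹ * g) ?_
    simpa [mul_assoc] using hg

theorem frobeniusKernel_inter {H : Subgroup G} {x : G} (hx : x ∈ Cfsg.frobeniusKernel H)
    (hxH : x ∈ H) : x = 1 := by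
  rcases mem_frobeniusKernel_iff.1 hx with rfl | hx
  · rfl
  · exact absurd (by simpa using hxH) (hx 1)

variable [Finite G]

/-- Number of nonidentity elements lying in conjugates of a Frobenius complement. -/
theorem card_conjugates_of_frobenius {H : Subgroup G} (hH : Cfsg.IsFrobeniusComplement H) :
    Nat.card {x : G // x ≠ 1 ∧ ∃ g, g⁻¹ * x * g ∈ H} = H.index * (Nat.card H - 1) := by
  classical
  have := Fintype.ofFinite H
  have hc : Nat.card {h : H // h ≠ 1} = Nat.card H - 1 := by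
    simp [Nat.card_eq_fintype_card, Fintype.card_subtype_compl]
  rw [← hc, Subgroup.index, ← Nat.card_prod]
  refine (Nat.card_congr (Equiv.ofBijective (fun p : (G ⧸ H) × {h : H // h ≠ 1} =>
    (⟨p.1.out * ((p.2 : H) : G) * p.1.out⁻¹, fun h => p.2.2 (Subtype.ext (conj_eq_one_iff.1 h)),
      p.1.out, by group; exact (p.2 : H).2⟩ : {x : G // x ≠ 1 ∧ ∃ g, g⁻¹ * x * g ∈ H}))
    ⟨?_, ?_⟩)).symm
  · rintro ⟨q, h⟩ ⟨r, k⟩ e
    have e' : q.out * ((h : H) : G) * q.out⁻¹ = r.out * ((k : H) : G) * r.out⁻¹ :=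
      congrArg Subtype.val e
    have hqr : r.out⁻¹ * q.out ∈ H := by
      refine frobenius_mem_of_conj_mem hH (h : H).2 (fun h1 => h.2 (Subtype.ext h1)) ?_
      have : r.out⁻¹ * q.out * ((h : H) : G) * (r.out⁻¹ * q.out)⁻¹ = ((k : H) : G) := by
        calc _ = r.out⁻¹ * (q.out * ((h : H) : G) * q.out⁻¹) * r.out := by group
          _ = _ := by rw [e']; group
      rw [this]; exact (k : H).2
    have : r = q := by
      rw [← QuotientGroup.out_eq' q, ← QuotientGroup.out_eq' r]
      exact QuotientGroup.eq.2 hqr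
    subst this
    refine Prod.ext rfl (Subtype.ext (Subtype.ext ?_))
    simpa using e'
  · rintro ⟨x, hx1, g, hg⟩
    obtain ⟨a, ha⟩ := QuotientGroup.mk_out_eq_mul H g
    refine ⟨⟨(g : G ⧸ H), ⟨⟨(a : G)⁻¹ * (g⁻¹ * x * g) * a, mul_mem (mul_mem (inv_mem a.2) hg) a.2⟩,
      fun h => hx1 ?_⟩⟩, Subtype.ext ?_⟩
    · have h' : (a : G)⁻¹ * (g⁻¹ * x * g) * a = 1 := congrArg Subtype.val h
      calc x = g * a * ((a : G)⁻¹ * (g⁻¹ * x * g) * a) * (g * a)⁻¹ := by group
        _ = 1 := by rw [h']; group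
    · show (g : G ⧸ H).out * ((a : G)⁻¹ * (g⁻¹ * x * g) * a) * ((g : G ⧸ H).out)⁻¹ = x
      rw [ha]; group

theorem card_frobeniusKernel {H : Subgroup G} (hH : Cfsg.IsFrobeniusComplement H) :
    Nat.card (Cfsg.frobeniusKernel H) = H.index := by
  classical
  have := Fintype.ofFinite G
  have h1 : Nat.card (Cfsg.frobeniusKernel H) =
      Nat.card {x : G // ¬ (x ≠ 1 ∧ ∃ g, g⁻¹ * x * g ∈ H)} :=
    Nat.card_congr (Equiv.subtypeEquivRight fun x => by
      rw [mem_frobeniusKernel_iff]; push Not; tauto)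
  rw [h1, Nat.card_eq_fintype_card, Fintype.card_subtype_compl, ← Nat.card_eq_fintype_card,
    ← Nat.card_eq_fintype_card, card_conjugates_of_frobenius hH, ← H.card_mul_index,
    Nat.mul_sub_one, mul_comm (Nat.card H)]
  have : H.index ≤ H.index * Nat.card H := Nat.le_mul_of_pos_right _ Nat.card_pos
  omega

theorem index_mod_card {H : Subgroup G} (hH : Cfsg.IsFrobeniusComplement H) :
    H.index % Nat.card H = 1 % Nat.card H := by
  classical
  have := Fintype.ofFinite (G ⧸ H)
  let S : SubMulAction H (G ⧸ H) :=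
    { carrier := {q | q ≠ ((1 : G) : G ⧸ H)}
      smul_mem' := fun a q hq h => hq (by
        rw [← inv_smul_smul a q, h]
        show (((a : G)⁻¹ * 1 : G) : G ⧸ H) = _
        rw [QuotientGroup.eq]; simpa using a.2) }
  have hfree : ∀ q : S, MulAction.stabilizer H q = ⊥ := by
    rintro ⟨q, hq⟩
    refine (Subgroup.eq_bot_iff_forall _).2 fun a ha => ?_
    by_contra ha1
    obtain ⟨g, rfl⟩ := QuotientGroup.mk_surjective q
    have h2 : (((a : G) * g : G) : G ⧸ H) = (g : G ⧸ H) := congrArg Subtype.val ha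
    rw [QuotientGroup.eq] at h2
    refine hq (QuotientGroup.eq.2 ?_)
    have h3 : g⁻¹ ∈ H := frobenius_mem_of_conj_mem hH (inv_mem a.2)
      (fun h => ha1 (Subtype.ext (inv_eq_one.1 h))) (by simpa [mul_assoc] using h2)
    simpa using h3
  have h1 : Nat.card H ∣ Nat.card S := by
    rw [Nat.card_congr (MulAction.selfEquivOrbitsQuotientProd hfree), Nat.card_prod]
    exact dvd_mul_left _ _
  have h2 : Nat.card S + 1 = H.index := by
    show Nat.card {q : G ⧸ H // q ≠ ((1 : G) : G ⧸ H)} + 1 = _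
    rw [Nat.card_eq_fintype_card, Fintype.card_subtype_compl, Fintype.card_subtype_eq,
      Subgroup.index, Nat.card_eq_fintype_card]
    have : 0 < Fintype.card (G ⧸ H) := Fintype.card_pos
    omega
  obtain ⟨c, hc⟩ := h1
  rw [← h2, hc, Nat.mul_add_mod_self_left]

/-- With an involution in the complement, the kernel set is multiplicatively closed. -/
theorem frobeniusKernel_mul_mem {H : Subgroup G} (hH : Cfsg.IsFrobeniusComplement H)
    {t : G} (ht : t ∈ H) (ht1 : t ≠ 1) (ht2 : t * t = 1) {x y : G}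
    (hx : x ∈ Cfsg.frobeniusKernel H) (hy : y ∈ Cfsg.frobeniusKernel H) :
    x * y ∈ Cfsg.frobeniusKernel H := by
  classical
  set K := Cfsg.frobeniusKernel H with hK
  have hout : ∀ g : G, g ∉ H → ∀ a ∈ H, a ≠ 1 → a * a = 1 → a * (g * t * g⁻¹) ∈ K := by
    intro g hg a ha ha1 ha2
    set s := g * t * g⁻¹ with hs
    have hs2 : s * s = 1 := by
      calc s * s = g * (t * t) * g⁻¹ := by rw [hs]; group
        _ = 1 := by rw [ht2]; group
    rw [hK, mem_frobeniusKernel_iff]
    by_contra hcon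
    push Not at hcon
    obtain ⟨hne, c, hc⟩ := hcon
    have hai : a⁻¹ = a := inv_eq_of_mul_eq_one_right ha2
    have hsi : s⁻¹ = s := inv_eq_of_mul_eq_one_right hs2
    have hca : c⁻¹ * a * c ∈ H := by
      refine frobenius_mem_of_conj_mem hH hc
        (fun h => hne (conj_eq_one_iff.1 (by simpa using h : c⁻¹ * (a * s) * c⁻¹⁻¹ = 1))) ?_
      have : (c⁻¹ * a * c) * (c⁻¹ * (a * s) * c) * (c⁻¹ * a * c)⁻¹ = (c⁻¹ * (a * s) * c)⁻¹ := by
        calc _ = c⁻¹ * (a * a * s * a⁻¹) * c := by group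
          _ = c⁻¹ * ((a * s)⁻¹) * c := by rw [ha2, one_mul, mul_inv_rev, hsi]
          _ = _ := by group
      rw [this]; exact inv_mem hc
    have hcH : c⁻¹ ∈ H := frobenius_mem_of_conj_mem hH ha ha1 (by simpa using hca)
    have hsH : s ∈ H := by
      have := mul_mem (inv_mem ha) (mul_mem (mul_mem (inv_mem hcH) hc) hcH)
      simpa [mul_assoc] using this
    exact hg (frobenius_mem_of_conj_mem hH ht ht1 hsH)
  let rep : G ⧸ H → G := fun q => if q = ((1 : G) : G ⧸ H) then 1 else q.out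
  have hrep : ∀ q, (rep q : G ⧸ H) = q := by
    intro q
    simp only [rep]
    split_ifs with h
    · exact h.symm
    · exact QuotientGroup.out_eq' q
  have hrepH : ∀ q, rep q ∈ H → rep q = 1 := by
    intro q hq
    simp only [rep] at hq ⊢
    split_ifs with h
    · rfl
    · rw [if_neg h] at hq
      exact absurd (show q = ((1 : G) : G ⧸ H) by
        rw [← QuotientGroup.out_eq' q]; exact QuotientGroup.eq.2 (by simpa using inv_mem hq)) h
  let f : G ⧸ H → G := fun q => t * (rep q * t * (rep q)⁻¹)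
  have hfK : ∀ q, f q ∈ K := by
    intro q
    by_cases hq : rep q ∈ H
    · simp only [f, hrepH q hq]
      exact mem_frobeniusKernel_iff.2 (Or.inl (by simpa using ht2))
    · exact hout _ hq t ht ht1 ht2
  have hfinj : Function.Injective f := by
    intro q r h
    have h' : rep q * t * (rep q)⁻¹ = rep r * t * (rep r)⁻¹ := mul_left_cancel h
    rw [← hrep q, ← hrep r]
    refine QuotientGroup.eq.2 (frobenius_mem_of_conj_mem hH ht ht1 ?_)
    have : (rep q)⁻¹ * rep r * t * ((rep q)⁻¹ * rep r)⁻¹ = t := by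
      calc _ = (rep q)⁻¹ * (rep r * t * (rep r)⁻¹) * rep q := by group
        _ = t := by rw [← h']; group
    rw [this]; exact ht
  have hsurj : ∀ z ∈ K, ∃ q, f q = z := by
    have : Function.Bijective (fun q => (⟨f q, hfK q⟩ : K)) :=
      (Nat.bijective_iff_injective_and_card _).2 ⟨fun q r h => hfinj (congrArg Subtype.val h),
        (card_frobeniusKernel hH).symm⟩
    intro z hz
    obtain ⟨q, hq⟩ := this.2 ⟨z, hz⟩
    exact ⟨q, congrArg Subtype.val hq⟩
  have hcent : ∀ h ∈ H, h * t * h⁻¹ = t := by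
    intro h hh
    by_contra hne
    obtain ⟨q, hq⟩ : ∃ q : G ⧸ H, q ≠ ((1 : G) : G ⧸ H) := by
      obtain ⟨g, -, hg⟩ := SetLike.exists_of_lt (hH.2.1.lt_top)
      exact ⟨(g : G ⧸ H), fun h => hg (by simpa using QuotientGroup.eq.1 h.symm)⟩
    have hqH : rep q ∉ H := fun hh' => hq (by rw [← hrep q, hrepH q hh'])
    set s := rep q * t * (rep q)⁻¹ with hs
    set a := h * t * h⁻¹ with ha
    have haH : a ∈ H := mul_mem (mul_mem hh ht) (inv_mem hh)
    have ha2 : a * a = 1 := by
      calc a * a = h * (t * t) * h⁻¹ := by rw [ha]; group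
        _ = 1 := by rw [ht2]; group
    have ha1 : a ≠ 1 := fun h' => ht1 (conj_eq_one_iff.1 h')
    have hz := hout _ hqH a haH ha1 ha2
    obtain ⟨r, hr⟩ := hsurj _ hz
    set s' := rep r * t * (rep r)⁻¹ with hs'
    have hr' : t * s' = a * s := hr
    have hinv : ∀ u : G, u * u = 1 → u⁻¹ = u := fun u hu => inv_eq_of_mul_eq_one_right hu
    have hs2 : s * s = 1 := by
      calc s * s = rep q * (t * t) * (rep q)⁻¹ := by rw [hs]; group
        _ = 1 := by rw [ht2]; group
    have hs'2 : s' * s' = 1 := by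
      calc s' * s' = rep r * (t * t) * (rep r)⁻¹ := by rw [hs']; group
        _ = 1 := by rw [ht2]; group
    have e1 : a * (a * s) * a = (a * s)⁻¹ := by
      rw [← mul_assoc a a s, ha2, one_mul, mul_inv_rev, hinv a ha2, hinv s hs2]
    have e2 : t * (a * s) * t = (a * s)⁻¹ := by
      rw [← hr', ← mul_assoc t t s', ht2, one_mul, mul_inv_rev, hinv t ht2, hinv s' hs'2]
    have e3 : (a * s) * (t * a) = (t * a) * (a * s) := by
      calc (a * s) * (t * a) = t * (t * (a * s) * t) * a := by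
            rw [← mul_assoc t (t * (a * s)) t, ← mul_assoc t t, ht2, one_mul]; group
        _ = t * (a * (a * s) * a) * a := by rw [e1, e2]
        _ = (t * a) * (a * s) * (a * a) := by group
        _ = _ := by rw [ha2, mul_one]
    have hxH : a * s ∈ H := frobenius_mem_of_commute hH (mul_mem ht haH)
      (fun h' => hne (show a = t from (inv_eq_of_mul_eq_one_right h').symm.trans (hinv t ht2))) e3
    exact hqH (frobenius_mem_of_conj_mem hH ht ht1 (show s ∈ H by
      simpa using mul_mem (inv_mem haH) hxH))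
  have hall : ∀ g : G, t * (g * t * g⁻¹) ∈ K := by
    intro g
    by_cases hg : g ∈ H
    · rw [hcent g hg, ht2]; exact mem_frobeniusKernel_iff.2 (Or.inl rfl)
    · exact hout g hg t ht ht1 ht2
  obtain ⟨q, hq⟩ := hsurj x hx
  obtain ⟨r, hr⟩ := hsurj _ (by simpa using frobeniusKernel_conj hy (rep q)⁻¹ :
    (rep q)⁻¹ * y * rep q ∈ K)
  have e : x * y = t * ((rep q * rep r) * t * (rep q * rep r)⁻¹) := by
    have hy' : y = rep q * f r * (rep q)⁻¹ := by rw [hr]; group
    rw [← hq, hy']
    simp only [f]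
    calc _ = t * (rep q * (t * t) * (rep r * t * (rep r)⁻¹) * (rep q)⁻¹) := by group
      _ = _ := by rw [ht2]; group
  rw [e]
  exact hall _

/-- A semidirect product with fixed-point-free complement is a Frobenius group, and conversely. -/
theorem isFrobeniusComplement_iff_fpf {K H : Subgroup G} [K.Normal]
    (hc : Subgroup.IsComplement' K H) (hK : K ≠ ⊥) (hH : H ≠ ⊥) :
    Cfsg.IsFrobeniusComplement H ↔
      ∀ h ∈ H, h ≠ 1 → K ⊓ Subgroup.centralizer {h} = ⊥ := by
  have hd : K ⊓ H = ⊥ := hc.disjoint.eq_bot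
  constructor
  · intro hF h hh h1
    refine (Subgroup.eq_bot_iff_forall _).2 fun k hk => ?_
    rw [← Subgroup.mem_bot, ← hd]
    exact ⟨hk.1, frobenius_mem_of_commute hF hh h1 (Subgroup.mem_centralizer_singleton_iff.1 hk.2)⟩
  · intro hfpf
    refine ⟨hH, ?_, fun g hg => ?_⟩
    · rintro rfl
      exact hK (by simpa using hd)
    · refine (Subgroup.eq_bot_iff_forall _).2 fun x hx => ?_
      by_contra hx1
      obtain ⟨⟨⟨k, hk⟩, ⟨a, ha⟩⟩, hka⟩ := hc.2 g
      obtain rfl : k * a = g := hka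
      have h2 : a⁻¹ * (k⁻¹ * x * k) * a ∈ H := by
        simpa [mul_assoc] using mem_conj_smul_iff.1 hx.2
      have h3 : k⁻¹ * x * k ∈ H := by
        have := mul_mem (mul_mem ha h2) (inv_mem ha)
        simpa [mul_assoc] using this
      have h4 : k⁻¹ * x * k * x⁻¹ ∈ K ⊓ H := by
        refine ⟨?_, mul_mem h3 (H.inv_mem hx.1)⟩
        have := mul_mem (inv_mem hk) ((inferInstance : K.Normal).conj_mem k hk x)
        simpa [mul_assoc] using this
      rw [hd, Subgroup.mem_bot, mul_inv_eq_one] at h4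
      have h5 : k ∈ K ⊓ Subgroup.centralizer {x} := by
        refine ⟨hk, Subgroup.mem_centralizer_singleton_iff.2 ?_⟩
        conv_lhs => rw [← h4]
        group
      rw [hfpf x hx.1 hx1, Subgroup.mem_bot] at h5
      exact hg (by simpa [h5] using ha)

end CfsgLib.Solvable
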