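import Cfsg.Agent.Lib.Solvable.Averaging
import Cfsg.Agent.Lib.Solvable.CoprimeAction
import Cfsg.Agent.Lib.Char.Burnside

/-!
Groups acting fixed-point-freely (Frobenius complements): cyclicity criteria, Sylow subgroups,
involutions and centres.
-/

set_option autoImplicit false

open scoped Pointwise commutatorElement

namespace CfsgLib.Solvable

variable {G : Type*} [Group G] [Finite G]

omit [Finite G] in
theorem eq_one_of_fpf {A K : Subgroup G} (hfpf : ∀ a ∈ A, a ≠ 1 → K ⊓ Subgroup.centralizer {a} = ⊥)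
    {a k : G} (ha : a ∈ A) (ha1 : a ≠ 1) (hk : k ∈ K) (h : a * k * a⁻¹ = k) : k = 1 := by
  rw [← Subgroup.mem_bot, ← hfpf a ha ha1]
  exact ⟨hk, Subgroup.mem_centralizer_singleton_iff.2 (mul_inv_eq_iff_eq_mul.1 h).symm⟩

/-- A group acting fixed-point-freely has order coprime to that of the group it acts on. -/
theorem coprime_card_of_fpf {A K : Subgroup G} (hAK : A ≤ Subgroup.normalizer (K : Set G))
    (hfpf : ∀ a ∈ A, a ≠ 1 → K ⊓ Subgroup.centralizer {a} = ⊥) :
    (Nat.card A).Coprime (Nat.card K) := by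
  refine Nat.coprime_of_dvd fun r hr hrA hrK => ?_
  haveI : Fact r.Prime := ⟨hr⟩
  obtain ⟨a, ha⟩ := exists_prime_orderOf_dvd_card' (G := A) r hrA
  set B := Subgroup.zpowers (a : G) with hB
  have hBA : B ≤ A := Subgroup.zpowers_le.2 a.2
  letI : MulAction B K := MulAction.compHom K
    (K.normalizerMonoidHom.comp (Subgroup.inclusion (hBA.trans hAK)))
  have hval : ∀ (b : B) (k : K), ((b • k : K) : G) = b * k * (b : G)⁻¹ := fun _ _ => rfl
  have h1 : (1 : K) ∈ MulAction.fixedPoints B K := fun b => Subtype.ext (by simp [hval])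
  obtain ⟨k, hk, hk1⟩ := (IsPGroup.of_card (G := B) (n := 1)
    (by rw [hB, Nat.card_zpowers, Subgroup.orderOf_coe, ha, pow_one]))
      |>.exists_fixed_point_of_prime_dvd_card_of_fixed_point K hrK h1
  refine hk1 (Subtype.ext ?_).symm
  refine eq_one_of_fpf hfpf a.2 (fun h => hr.one_lt.ne' ?_) k.2
    ((hval ⟨(a : G), Subgroup.mem_zpowers _⟩ k).symm.trans (congrArg Subtype.val (hk _)))
  rw [← ha, ← Subgroup.orderOf_coe, h, orderOf_one]

/-- An abelian group, or a group whose order is a product of two primes, acting fixed-point-freely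
on a nontrivial abelian group is cyclic. -/
theorem isCyclic_of_fpf_abelian {A V : Subgroup G} (hV : V ≠ ⊥)
    (hc : ∀ x ∈ V, ∀ y ∈ V, x * y = y * x) (hAV : A ≤ Subgroup.normalizer (V : Set G))
    (hfpf : ∀ a ∈ A, a ≠ 1 → V ⊓ Subgroup.centralizer {a} = ⊥)
    (hA : (∀ x ∈ A, ∀ y ∈ A, x * y = y * x) ∨
      ∃ p q : ℕ, p.Prime ∧ q.Prime ∧ Nat.card A = p * q) : IsCyclic A := by
  letI : CommGroup V := { (inferInstance : Group V) with
    mul_comm := fun x y => Subtype.ext (hc _ x.2 _ y.2) }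
  haveI : Nontrivial V := (Subgroup.nontrivial_iff_ne_bot V).2 hV
  let φ : A →* MulAut V := V.normalizerMonoidHom.comp (Subgroup.inclusion hAV)
  have hφ : ∀ a : A, a ≠ 1 → ∀ v : V, φ a v = v → v = 1 := fun a ha v hv =>
    Subtype.ext (eq_one_of_fpf hfpf a.2 (fun h => ha (Subtype.ext h)) v.2 (congrArg Subtype.val hv))
  rcases hA with h | ⟨p, q, hp, hq, h⟩
  · exact isCyclic_of_fpf_comm φ hφ fun a b => Subtype.ext (h _ a.2 _ b.2)
  · exact isCyclic_of_fpf_pq φ hφ hp hq h

/-- An abelian group, or a group whose order is a product of two primes, acting fixed-point-freely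
on a nontrivial group is cyclic. -/
theorem isCyclic_of_fpf {A K : Subgroup G} (hK : K ≠ ⊥) (hAK : A ≤ Subgroup.normalizer (K : Set G))
    (hfpf : ∀ a ∈ A, a ≠ 1 → K ⊓ Subgroup.centralizer {a} = ⊥)
    (hA : (∀ x ∈ A, ∀ y ∈ A, x * y = y * x) ∨
      ∃ p q : ℕ, p.Prime ∧ q.Prime ∧ Nat.card A = p * q) : IsCyclic A := by
  have hs : Group.IsSolvable A := by
    rcases hA with h | ⟨p, q, hp, hq, h⟩
    · exact Group.isSolvable_of_comm fun a b => Subtype.ext (h _ a.2 _ b.2)
    · exact CfsgLib.Char.isSolvable_of_card_eq_pow_mul_pow hp hq (a := 1) (b := 1) (by simp [h])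
  obtain ⟨p, hp, hpK⟩ := Nat.exists_prime_and_dvd fun h => hK (Subgroup.card_eq_one.1 h)
  haveI : Fact p.Prime := ⟨hp⟩
  obtain ⟨P, hP⟩ := exists_invariant_sylow A K hAK (coprime_card_of_fpf hAK hfpf) (Or.inl hs) p
  set Q := (P : Subgroup K).map K.subtype with hQ
  have hQp : IsPGroup p Q := P.2.map _
  haveI : Nontrivial Q := by
    rw [Subgroup.nontrivial_iff_ne_bot, hQ, Ne,
      Subgroup.map_eq_bot_iff_of_injective _ K.subtype_injective]
    exact P.ne_bot_of_dvd_card hpK
  haveI := hQp.center_nontrivial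
  set C := Q ⊓ Subgroup.centralizer (Q : Set G) with hC
  refine isCyclic_of_fpf_abelian (V := C) ?_ (fun x hx y hy => hy.2 x hx.1)
    (le_normalizer_inf hP (hP.trans (normalizer_le_normalizer_centralizer Q))) (fun a ha ha1 => ?_) hA
  · obtain ⟨z, hz⟩ := exists_ne (1 : Subgroup.center Q)
    intro h
    have : ((z : Q) : G) ∈ C :=
      ⟨(z : Q).2, fun x hx => congrArg Subtype.val (Subgroup.mem_center_iff.1 z.2 ⟨x, hx⟩)⟩
    rw [h, Subgroup.mem_bot] at this
    exact hz (Subtype.ext (Subtype.ext this))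
  · exact eq_bot_mono (inf_le_inf_right _ (inf_le_left.trans (Subgroup.map_subtype_le _)))
      (hfpf a ha ha1)

omit [Finite G] in
theorem fpf_mono {A B K : Subgroup G} (h : B ≤ A)
    (hfpf : ∀ a ∈ A, a ≠ 1 → K ⊓ Subgroup.centralizer {a} = ⊥) :
    ∀ a ∈ B, a ≠ 1 → K ⊓ Subgroup.centralizer {a} = ⊥ := fun a ha => hfpf a (h ha)

/-- In a finite cyclic group elements of equal order generate the same subgroup. -/
theorem mem_zpowers_of_isCyclic {C : Type*} [Group C] [Finite C] [IsCyclic C] {x y : C}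
    (h : orderOf x = orderOf y) : x ∈ Subgroup.zpowers y := by
  classical
  have := Fintype.ofFinite C
  have hsub : (Finset.univ.filter fun a : C => a ∈ Subgroup.zpowers y) ⊆
      Finset.univ.filter fun a : C => a ^ orderOf y = 1 := fun a ha => by
    simp only [Finset.mem_filter, Finset.mem_univ, true_and] at ha ⊢
    exact orderOf_dvd_iff_pow_eq_one.1 (orderOf_dvd_of_mem_zpowers ha)
  have hcard := IsCyclic.card_pow_eq_one_le (α := C) (orderOf_pos y)
  have e : (Finset.univ.filter fun a : C => a ∈ Subgroup.zpowers y).card = orderOf y := by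
    rw [← Nat.card_zpowers, Nat.card_eq_fintype_card, Fintype.card_subtype]
  have heq := Finset.eq_of_subset_of_card_le hsub (hcard.trans e.symm.le)
  have hx : x ∈ Finset.univ.filter fun a : C => a ^ orderOf y = 1 := by
    simp [← h, pow_orderOf_eq_one]
  rw [← heq] at hx
  simpa using hx

/-- Commuting elements of the same order in a fixed-point-free group generate the same subgroup. -/
theorem mem_zpowers_of_fpf {H K : Subgroup G} (hK : K ≠ ⊥)
    (hHK : H ≤ Subgroup.normalizer (K : Set G))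
    (hfpf : ∀ a ∈ H, a ≠ 1 → K ⊓ Subgroup.centralizer {a} = ⊥) {x y : G} (hx : x ∈ H) (hy : y ∈ H)
    (hxy : x * y = y * x) (ho : orderOf x = orderOf y) : x ∈ Subgroup.zpowers y := by
  set B := Subgroup.closure ({x, y} : Set G) with hB
  have hBH : B ≤ H := (Subgroup.closure_le H).2 (by
    rintro z (rfl | rfl)
    exacts [hx, hy])
  haveI : IsMulCommutative B := Subgroup.isMulCommutative_closure (by
    rintro a (rfl | rfl) b (rfl | rfl)
    exacts [rfl, hxy, hxy.symm, rfl])
  haveI : IsCyclic B := isCyclic_of_fpf hK (hBH.trans hHK) (fpf_mono hBH hfpf)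
    (Or.inl fun a ha b hb => congrArg Subtype.val (mul_comm' (⟨a, ha⟩ : B) ⟨b, hb⟩))
  have hxB : x ∈ B := Subgroup.subset_closure (Or.inl rfl)
  have hyB : y ∈ B := Subgroup.subset_closure (Or.inr rfl)
  obtain ⟨i, hi⟩ := mem_zpowers_of_isCyclic (x := (⟨x, hxB⟩ : B)) (y := ⟨y, hyB⟩)
    (by rwa [← Subgroup.orderOf_coe, ← Subgroup.orderOf_coe])
  exact ⟨i, congrArg Subtype.val hi⟩

/-- Elements of prime order in a fixed-point-free `p`-group generate the same subgroup. -/
theorem mem_zpowers_of_fpf_pGroup {p : ℕ} [Fact p.Prime] {P K : Subgroup G} (hK : K ≠ ⊥)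
    (hPK : P ≤ Subgroup.normalizer (K : Set G))
    (hfpf : ∀ a ∈ P, a ≠ 1 → K ⊓ Subgroup.centralizer {a} = ⊥) (hP : IsPGroup p P) {x y : P}
    (hx : orderOf x = p) (hy : orderOf y = p) : x ∈ Subgroup.zpowers y := by
  haveI : Nontrivial P := ⟨⟨x, 1, fun h => (Fact.out : p.Prime).one_lt.ne'
    (hx ▸ h ▸ orderOf_one)⟩⟩
  haveI := hP.center_nontrivial
  obtain ⟨n, hn0, hn⟩ := (hP.to_subgroup (Subgroup.center P)).nontrivial_iff_card.1 inferInstance
  obtain ⟨z, hz⟩ := exists_prime_orderOf_dvd_card' (G := Subgroup.center P) p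
    (hn ▸ dvd_pow_self p (by omega))
  have hz' : orderOf (z : P) = p := (Subgroup.orderOf_coe z).trans hz
  have key : ∀ w : P, orderOf w = p → Subgroup.zpowers (w : P) = Subgroup.zpowers (z : P) := by
    intro w hw
    have hwz : (w : G) ∈ Subgroup.zpowers ((z : P) : G) :=
      mem_zpowers_of_fpf hK hPK hfpf w.2 (z : P).2
        (congrArg Subtype.val (Subgroup.mem_center_iff.1 z.2 w))
        (by rw [Subgroup.orderOf_coe, Subgroup.orderOf_coe, hw, hz'])
    obtain ⟨i, hi⟩ := hwz
    refine Subgroup.eq_of_le_of_card_ge (Subgroup.zpowers_le.2 ⟨i, Subtype.ext hi⟩) ?_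
    rw [Nat.card_zpowers, Nat.card_zpowers, hw, hz']
  rw [key y hy, ← key x hx]
  exact Subgroup.mem_zpowers x

/-- An involution of a fixed-point-free group inverts everything. -/
theorem conj_eq_inv_of_fpf {H K : Subgroup G} (hHK : H ≤ Subgroup.normalizer (K : Set G))
    (hfpf : ∀ a ∈ H, a ≠ 1 → K ⊓ Subgroup.centralizer {a} = ⊥) {s : G} (hs : s ∈ H)
    (hs2 : orderOf s = 2) : ∀ k ∈ K, s * k * s⁻¹ = k⁻¹ := by
  have hs1 : s ≠ 1 := fun h => by simp [h] at hs2
  have hss : s * s = 1 := by rw [← pow_two, ← hs2, pow_orderOf_eq_one]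
  have hinv : s⁻¹ = s := inv_eq_of_mul_eq_one_right hss
  let f : K → K := fun k =>
    ⟨(k : G)⁻¹ * (s * k * s⁻¹), mul_mem (inv_mem k.2) (normalizer_conj_mem (hHK hs) k.2)⟩
  have hf : Function.Injective f := by
    intro k l h
    have h' : (k : G)⁻¹ * (s * k * s⁻¹) = (l : G)⁻¹ * (s * l * s⁻¹) := congrArg Subtype.val h
    have : (l : G) * (k : G)⁻¹ = 1 := by
      refine eq_one_of_fpf hfpf hs hs1 (mul_mem l.2 (inv_mem k.2)) ?_
      calc s * (l * (k : G)⁻¹) * s⁻¹
          = (l : G) * ((l : G)⁻¹ * (s * l * s⁻¹)) * (s * k * s⁻¹)⁻¹ := by group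
        _ = l * (k : G)⁻¹ := by rw [← h']; group
    exact Subtype.ext (mul_inv_eq_one.1 this).symm
  intro x hx
  obtain ⟨k, hk⟩ := Finite.surjective_of_injective hf ⟨x, hx⟩
  have hk' : (k : G)⁻¹ * (s * k * s⁻¹) = x := congrArg Subtype.val hk
  rw [← hk']
  calc s * ((k : G)⁻¹ * (s * k * s⁻¹)) * s⁻¹ = s * (k : G)⁻¹ * (s * k) * (s * s)⁻¹ := by group
    _ = _ := by rw [hss, hinv]; group; simp [hinv]

theorem center_ne_bot_of_fpf {H K : Subgroup G} (hK : K ≠ ⊥) (hH : H ≠ ⊥)
    (hHK : H ≤ Subgroup.normalizer (K : Set G))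
    (hfpf : ∀ a ∈ H, a ≠ 1 → K ⊓ Subgroup.centralizer {a} = ⊥) :
    Subgroup.center H ≠ ⊥ := by
  intro hbot
  by_cases heven : 2 ∣ Nat.card H
  · obtain ⟨s, hs⟩ := exists_prime_orderOf_dvd_card' (G := H) 2 heven
    have : s ∈ Subgroup.center H := by
      rw [Subgroup.mem_center_iff]
      intro g
      have hgs : orderOf (g * s * g⁻¹) = 2 := by
        rw [← MulAut.conj_apply, MulEquiv.orderOf_eq, hs]
      have h1 := conj_eq_inv_of_fpf hHK hfpf s.2 ((Subgroup.orderOf_coe s).trans hs)
      have h2 := conj_eq_inv_of_fpf hHK hfpf (g * s * g⁻¹).2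
        ((Subgroup.orderOf_coe _).trans hgs)
      suffices g * s * g⁻¹ = s by
        calc g * s = g * s * g⁻¹ * g := by group
          _ = s * g := by rw [this]
      by_contra hne
      obtain ⟨k, hk, hk1⟩ := (Subgroup.nontrivial_iff_exists_ne_one K).1
        ((Subgroup.nontrivial_iff_ne_bot K).2 hK)
      refine hk1 (eq_one_of_fpf hfpf (((g * s * g⁻¹) * s⁻¹ : H)).2
        (fun h => hne (mul_inv_eq_one.1 (Subtype.ext h))) hk ?_)
      have hsi : (s : G)⁻¹ * k * (s : G) = k⁻¹ := by
        have := congrArg (fun t => (s : G)⁻¹ * t * s) (h1 k⁻¹ (inv_mem hk))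
        simpa [mul_assoc] using this.symm
      push_cast at h2 ⊢
      calc (g : G) * s * (g : G)⁻¹ * (s : G)⁻¹ * k * ((g : G) * s * (g : G)⁻¹ * (s : G)⁻¹)⁻¹
          = ((g : G) * s * (g : G)⁻¹) * ((s : G)⁻¹ * k * s) * ((g : G) * s * (g : G)⁻¹)⁻¹ := by group
        _ = k := by rw [hsi, h2 _ (inv_mem hk), inv_inv]
    rw [hbot, Subgroup.mem_bot] at this
    simp [this] at hs
  · -- all Sylow subgroups are cyclic
    haveI : IsZGroup H := by
      refine ⟨fun q hq P => ?_⟩
      haveI : Fact q.Prime := ⟨hq⟩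
      have hP' : IsPGroup q ((P : Subgroup H).map H.subtype) := P.2.map _
      rcases isCyclic_or_quaternion hP' (fun x y hx hy => mem_zpowers_of_fpf_pGroup hK
          ((Subgroup.map_subtype_le _).trans hHK) (fpf_mono (Subgroup.map_subtype_le _) hfpf)
          hP' hx hy) with h | ⟨rfl, n, ⟨e⟩⟩
      · exact isCyclic_of_surjective _
          ((P : Subgroup H).equivMapOfInjective _ H.subtype_injective).symm.surjective
      · haveI : Subsingleton P := (Nat.card_eq_one_iff_unique.1 (by
          rw [P.card_eq_multiplicity, Nat.factorization_eq_zero_of_not_dvd heven, pow_zero])).1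
        infer_instance
    haveI : Nontrivial H := (Subgroup.nontrivial_iff_ne_bot H).2 hH
    set C := commutator H with hC
    have hidx : C.index ≠ 1 := fun h =>
      (IsZGroup.commutator_lt (G := H)).ne (Subgroup.index_eq_one.1 h)
    obtain ⟨r, hr, hrdvd⟩ := Nat.exists_prime_and_dvd hidx
    haveI : Fact r.Prime := ⟨hr⟩
    have hcop : r.Coprime (Nat.card C) :=
      ((IsZGroup.coprime_commutator_index (G := H)).coprime_dvd_right hrdvd).symm
    obtain ⟨b, hb⟩ := exists_prime_orderOf_dvd_card' (G := H) r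
      (hrdvd.trans C.index_dvd_card)
    haveI : IsCyclic C := IsZGroup.isCyclic_commutator H
    -- `b` centralises the elements of prime order of `C`
    have hprime : ∀ e : H, e ∈ C → ∀ q : ℕ, q.Prime → orderOf e = q → b * e * b⁻¹ = e := by
      intro e he q hq heq
      set Q := Subgroup.zpowers e with hQ
      have hbQ : b ∈ Subgroup.normalizer (Q : Set H) := by
        refine mem_normalizer_of_conj_mem fun z hz => ?_
        have hbe : b * e * b⁻¹ ∈ Q := by
          obtain ⟨i, hi⟩ := mem_zpowers_of_isCyclic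
            (x := (⟨b * e * b⁻¹, (inferInstance : C.Normal).conj_mem e he b⟩ : C)) (y := ⟨e, he⟩)
            (((Subgroup.orderOf_coe _).symm.trans (MulEquiv.orderOf_eq (MulAut.conj b) e)).trans
              (Subgroup.orderOf_coe (⟨e, he⟩ : C)))
          exact ⟨i, congrArg Subtype.val hi⟩
        obtain ⟨i, rfl⟩ := hz
        rw [← conj_zpow]
        exact zpow_mem hbe i
      have hrq : r.Coprime q := hcop.coprime_dvd_right
        (heq ▸ (Subgroup.orderOf_coe (⟨e, he⟩ : C)).symm ▸ orderOf_dvd_natCard _)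
      have hcard : Nat.card (Q ⊔ Subgroup.zpowers b : Subgroup H) = q * r := by
        rw [card_sup_of_disjoint (Subgroup.zpowers_le.2 hbQ) (disjoint_of_coprime (by
          rw [hQ, Nat.card_zpowers, Nat.card_zpowers, heq, hb]; exact hrq.symm)),
          hQ, Nat.card_zpowers, Nat.card_zpowers, heq, hb]
      set A := (Q ⊔ Subgroup.zpowers b).map H.subtype with hA
      haveI : IsCyclic A := isCyclic_of_fpf hK ((Subgroup.map_subtype_le _).trans hHK)
        (fpf_mono (Subgroup.map_subtype_le _) hfpf)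
        (Or.inr ⟨q, r, hq, hr, by rw [hA, Subgroup.card_subtype, hcard]⟩)
      have hbA : (b : G) ∈ A :=
        ⟨b, Subgroup.mem_sup_right (Subgroup.mem_zpowers _), rfl⟩
      have heA : (e : G) ∈ A :=
        ⟨e, Subgroup.mem_sup_left (Subgroup.mem_zpowers _), rfl⟩
      letI := IsCyclic.commGroup (α := A)
      have hbe : (b : G) * e = e * b :=
        congrArg Subtype.val (mul_comm (⟨b, hbA⟩ : A) ⟨e, heA⟩)
      refine Subtype.ext ?_
      show (b : G) * e * (b : G)⁻¹ = e
      rw [hbe, mul_inv_cancel_right]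
    -- hence all of `C`
    have hcent : ∀ c : H, c ∈ C → b * c = c * b := by
      letI := IsCyclic.commGroup (α := C)
      let f : C →* C :=
        { toFun := fun c => ⟨b * c * b⁻¹ * (c : H)⁻¹,
            mul_mem ((inferInstance : C.Normal).conj_mem _ c.2 b) (inv_mem c.2)⟩
          map_one' := Subtype.ext (by simp)
          map_mul' := fun c d => by
            have hcomm := congrArg Subtype.val (mul_comm
              (⟨b * d * b⁻¹ * (d : H)⁻¹, mul_mem ((inferInstance : C.Normal).conj_mem _ d.2 b)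
                (inv_mem d.2)⟩ : C) ⟨(c : H)⁻¹, inv_mem c.2⟩)
            refine Subtype.ext ?_
            simp only [Subgroup.coe_mul] at hcomm ⊢
            calc b * (c * d) * b⁻¹ * ((c : H) * d)⁻¹
                = (b * c * b⁻¹) * ((b * d * b⁻¹ * (d : H)⁻¹) * (c : H)⁻¹) := by group
              _ = _ := by rw [hcomm]; group }
      intro c hc
      have hf : f ⟨c, hc⟩ = 1 := by
        by_contra hne
        haveI : Nontrivial f.range :=
          ⟨⟨⟨f ⟨c, hc⟩, _, rfl⟩, 1, fun h => hne (congrArg Subtype.val h)⟩⟩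
        obtain ⟨q, hq, hqd⟩ := Nat.exists_prime_and_dvd (Finite.one_lt_card (α := f.range)).ne'
        haveI : Fact q.Prime := ⟨hq⟩
        obtain ⟨⟨_, d, rfl⟩, he⟩ := exists_prime_orderOf_dvd_card' (G := f.range) q hqd
        rw [← Subgroup.orderOf_coe] at he
        have hfix := hprime _ (f d).2 q hq ((Subgroup.orderOf_coe (f d)).trans he)
        have hit : ∀ i : ℕ, b ^ i * d * (b ^ i)⁻¹ = (f d : H) ^ i * d := by
          intro i
          induction i with
          | zero => simp
          | succ i ih =>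
            calc b ^ (i + 1) * d * (b ^ (i + 1))⁻¹ = b * (b ^ i * d * (b ^ i)⁻¹) * b⁻¹ := by
                  rw [pow_succ']; group
              _ = (b * (f d : H) * b⁻¹) ^ i * (b * d * b⁻¹) := by rw [ih, conj_pow]; group
              _ = (f d : H) ^ i * ((f d : H) * d) := by
                  rw [hfix]; congr 1; show _ = b * d * b⁻¹ * (d : H)⁻¹ * d; group
              _ = (f d : H) ^ (i + 1) * d := by rw [pow_succ]; group
        have h3 := hit r
        rw [← hb, pow_orderOf_eq_one, one_mul, inv_one, mul_one, hb] at h3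
        have h4 : (f d) ^ r = 1 := Subtype.ext (by
          rw [Subgroup.coe_pow]; exact (mul_eq_right.1 h3.symm))
        have h5 : q ∣ r := he ▸ orderOf_dvd_iff_pow_eq_one.2 h4
        have h6 : q ∣ Nat.card C := he ▸ orderOf_dvd_natCard _
        exact hq.one_lt.ne' (Nat.eq_one_of_dvd_coprimes hcop h5 h6)
      have := congrArg Subtype.val hf
      exact (mul_inv_eq_iff_eq_mul.1 (mul_inv_eq_one.1 this))
    -- so `b` is central
    have : b ∈ Subgroup.center H := by
      rw [Subgroup.mem_center_iff]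
      intro g
      have hg : g * b * g⁻¹ * b⁻¹ ∈ C :=
        Subgroup.commutator_mem_commutator (Subgroup.mem_top g) (Subgroup.mem_top b)
      have h1 : (g * b * g⁻¹ * b⁻¹ * b) ^ r = 1 := by
        rw [inv_mul_cancel_right, conj_pow, ← hb, pow_orderOf_eq_one, mul_one, mul_inv_cancel]
      have hco : Commute (g * b * g⁻¹ * b⁻¹) b := (hcent _ hg).symm
      rw [hco.mul_pow, ← hb, pow_orderOf_eq_one, mul_one, hb] at h1
      have h2 : g * b * g⁻¹ * b⁻¹ = 1 := orderOf_eq_one_iff.1 (Nat.eq_one_of_dvd_coprimes hcop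
        (orderOf_dvd_iff_pow_eq_one.2 h1)
        ((Subgroup.orderOf_coe (⟨_, hg⟩ : C)).symm ▸ orderOf_dvd_natCard _))
      exact mul_inv_eq_iff_eq_mul.1 (mul_inv_eq_one.1 h2)
    rw [hbot, Subgroup.mem_bot] at this
    rw [this, orderOf_one] at hb
    exact hr.one_lt.ne hb

end CfsgLib.Solvable
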