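import Cfsg.Agent.Lib.Solvable.Basic
import Cfsg.Agent.Lib.Solvable.UniqueSubgroup

/-!
Fixed-point-free actions on finite abelian groups (averaging over a partition).
-/

set_option autoImplicit false

open scoped Pointwise

namespace CfsgLib.Solvable

variable {E C : Type*} [Group E] [Finite E] [CommGroup C] (φ : E →* MulAut C)

/-- If `Y` has order `q > 1`, `x` normalises `Y`, `x ∉ Y` and every element of `Y x` has order
dividing the prime `p`, then a fixed-point-free action of the group kills `q`-th powers. -/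
theorem pow_eq_one_of_fpf (hfpf : ∀ e : E, e ≠ 1 → ∀ v : C, φ e v = v → v = 1)
    {p q : ℕ} [hp : Fact p.Prime] (Y : Subgroup E) (hY : Nat.card Y = q) (hq : 1 < q) {x : E}
    (hxn : x ∈ Subgroup.normalizer (Y : Set E)) (hxY : x ∉ Y)
    (hord : ∀ u ∈ Y, (u * x) ^ p = 1) (v : C) : v ^ q = 1 := by
  classical
  have := Fintype.ofFinite Y
  have hkill : ∀ e : E, e ≠ 1 → ∀ w : C, φ e w = w → w = 1 := hfpf
  -- the sum over each cyclic group of order `p` vanishes
  have h1 : ∀ u : Y, ∏ j ∈ Finset.range p, φ (((u : E) * x) ^ j) v = 1 := by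
    intro u
    have hne : (u : E) * x ≠ 1 := fun h => hxY (by
      rw [← inv_eq_of_mul_eq_one_right h]; exact inv_mem u.2)
    refine hkill _ hne _ ?_
    rw [map_prod]
    obtain ⟨k, hk⟩ : ∃ k, p = k + 1 := ⟨p - 1, by have := hp.out.pos; omega⟩
    have e : ∀ j, φ ((u : E) * x) (φ (((u : E) * x) ^ j) v) = φ (((u : E) * x) ^ (j + 1)) v :=
      fun j => by rw [pow_succ', map_mul φ _ (_ ^ j), MulAut.mul_apply]
    simp only [e]
    rw [hk, Finset.prod_range_succ _ k, Finset.prod_range_succ' _ k]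
    congr 1
    rw [← hk, hord _ u.2, pow_zero]
  -- conjugating `Y` by powers of `x`
  have hbij : ∀ j, ∀ u : Y, ((u : E) * x) ^ j * (x ^ j)⁻¹ ∈ Y := by
    intro j u
    induction j with
    | zero => simp
    | succ j ih =>
      have e : ((u : E) * x) ^ (j + 1) * (x ^ (j + 1))⁻¹ =
          (((u : E) * x) ^ j * (x ^ j)⁻¹) * (x ^ j * u * (x ^ j)⁻¹) := by
        rw [pow_succ, pow_succ]; group
      rw [e]
      exact mul_mem ih (normalizer_conj_mem (pow_mem hxn j) u.2)
  -- the sum over a coset `Y x ^ j`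
  have h2 : ∀ j ∈ Finset.range p, j ≠ 0 → ∏ u : Y, φ (((u : E) * x) ^ j) v = 1 := by
    intro j hj hj0
    let g : Y → Y := fun u => ⟨((u : E) * x) ^ j * (x ^ j)⁻¹, hbij j u⟩
    have hg : Function.Injective g := by
      intro u u' h
      have h' : ((u : E) * x) ^ j = ((u' : E) * x) ^ j := mul_right_cancel (congrArg Subtype.val h)
      have hcop : p.Coprime j := hp.out.coprime_iff_not_dvd.2
        (Nat.not_dvd_of_pos_of_lt (Nat.pos_of_ne_zero hj0) (Finset.mem_range.1 hj))
      have key : ∀ w : Y, ((w : E) * x) = (((w : E) * x) ^ j) ^ (Nat.gcdB p j) := by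
        intro w
        have hb : (1 : ℤ) = p * Nat.gcdA p j + j * Nat.gcdB p j := by
          have := Nat.gcd_eq_gcd_ab p j
          rw [hcop.gcd_eq_one] at this
          exact_mod_cast this
        conv_lhs => rw [← zpow_one ((w : E) * x), hb, zpow_add, zpow_mul, zpow_natCast, hord _ w.2,
          one_zpow, one_mul, zpow_mul, zpow_natCast]
      have := key u
      rw [h', ← key u'] at this
      exact Subtype.ext (mul_right_cancel this)
    have hgb : Function.Bijective g := ⟨hg, Finite.surjective_of_injective hg⟩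
    have h3 : ∏ u : Y, φ (((u : E) * x) ^ j) v = ∏ u : Y, φ (u : E) (φ (x ^ j) v) := by
      refine Fintype.prod_bijective g hgb _ _ fun u => ?_
      show φ (((u : E) * x) ^ j) v = φ (((u : E) * x) ^ j * (x ^ j)⁻¹) (φ (x ^ j) v)
      rw [← MulAut.mul_apply, ← map_mul, inv_mul_cancel_right]
    rw [h3]
    have : Nontrivial Y := Finite.one_lt_card_iff_nontrivial.1 (hY ▸ hq)
    obtain ⟨y, hy⟩ := exists_ne (1 : Y)
    refine hkill _ (fun h => hy (Subtype.ext h) : (y : E) ≠ 1) _ ?_
    rw [map_prod]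
    refine Fintype.prod_equiv (Equiv.mulLeft y) _ _ fun u => ?_
    show φ (y : E) (φ (u : E) _) = φ ((y : E) * u) _
    rw [map_mul, MulAut.mul_apply]
  calc v ^ q = ∏ u : Y, φ (((u : E) * x) ^ 0) v := by
        simp [← hY, Nat.card_eq_fintype_card]
    _ = ∏ j ∈ Finset.range p, ∏ u : Y, φ (((u : E) * x) ^ j) v :=
        (Finset.prod_eq_single_of_mem 0 (Finset.mem_range.2 hp.out.pos) fun j hj hj0 => h2 j hj hj0).symm
    _ = ∏ u : Y, ∏ j ∈ Finset.range p, φ (((u : E) * x) ^ j) v := Finset.prod_comm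
    _ = 1 := Finset.prod_eq_one fun u _ => h1 u

/-- Same hypotheses, with `q` prime: there is no such action on a nontrivial finite group. -/
theorem false_of_fpf [Finite C] [Nontrivial C]
    (hfpf : ∀ e : E, e ≠ 1 → ∀ v : C, φ e v = v → v = 1)
    {p q : ℕ} [Fact p.Prime] [hq : Fact q.Prime] (Y : Subgroup E) (hY : Nat.card Y = q) {x : E}
    (hxn : x ∈ Subgroup.normalizer (Y : Set E)) (hxY : x ∉ Y)
    (hord : ∀ u ∈ Y, (u * x) ^ p = 1) : False := by
  have hCq : IsPGroup q C := fun v =>
    ⟨1, by rw [pow_one]; exact pow_eq_one_of_fpf φ hfpf Y hY hq.out.one_lt hxn hxY hord v⟩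
  obtain ⟨n, hn0, hn⟩ := hCq.nontrivial_iff_card.1 ‹_›
  letI : MulAction Y C := MulAction.compHom C (φ.comp Y.subtype)
  have hfix1 : (1 : C) ∈ MulAction.fixedPoints Y C := fun y => map_one (φ (y : E))
  obtain ⟨w, hw, hw1⟩ := (IsPGroup.of_card (n := 1) (by rw [hY, pow_one]) :
    IsPGroup q Y).exists_fixed_point_of_prime_dvd_card_of_fixed_point C
      (hn ▸ dvd_pow_self q (by omega)) hfix1
  have : Nontrivial Y := Finite.one_lt_card_iff_nontrivial.1 (hY ▸ hq.out.one_lt)
  obtain ⟨y, hy⟩ := exists_ne (1 : Y)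
  exact hw1 (hfpf _ (fun h => hy (Subtype.ext h) : (y : E) ≠ 1) w (hw y)).symm

/-- A finite abelian group acting fixed-point-freely on a nontrivial finite abelian group is
cyclic. -/
theorem isCyclic_of_fpf_comm [Finite C] [Nontrivial C]
    (hfpf : ∀ e : E, e ≠ 1 → ∀ v : C, φ e v = v → v = 1) (hE : ∀ a b : E, a * b = b * a) :
    IsCyclic E := by
  letI : CommGroup E := { (inferInstance : Group E) with mul_comm := hE }
  have : IsZGroup E := by
    refine ⟨fun q hq P => ?_⟩
    haveI : Fact q.Prime := ⟨hq⟩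
    refine isCyclic_of_unique_of_comm P.2 (fun a b => Subtype.ext (hE a b)) fun x y hx hy => ?_
    by_contra hxy
    refine false_of_fpf φ hfpf (p := q) (q := q) (Subgroup.zpowers (y : E))
      (by rw [Nat.card_zpowers, Subgroup.orderOf_coe, hy]) (x := (x : E))
      (mem_normalizer_of_conj_mem fun z hz => by rwa [hE (x : E) z, mul_inv_cancel_right])
      (fun hmem => hxy ?_) fun u hu => ?_
    · obtain ⟨i, hi⟩ := hmem
      exact ⟨i, Subtype.ext (by simpa using hi)⟩
    · obtain ⟨i, rfl⟩ := hu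
      have hy' : (y : E) ^ q = 1 :=
        orderOf_dvd_iff_pow_eq_one.1 (dvd_of_eq ((Subgroup.orderOf_coe y).trans hy))
      have hx' : (x : E) ^ q = 1 :=
        orderOf_dvd_iff_pow_eq_one.1 (dvd_of_eq ((Subgroup.orderOf_coe x).trans hx))
      rw [mul_pow, hx', mul_one, ← zpow_natCast ((y : E) ^ i), zpow_comm, zpow_natCast, hy', one_zpow]
  exact inferInstance

/-- A group whose order is a product of two primes acting fixed-point-freely on a nontrivial
finite abelian group is cyclic. -/
theorem isCyclic_of_fpf_pq [Finite C] [Nontrivial C]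
    (hfpf : ∀ e : E, e ≠ 1 → ∀ v : C, φ e v = v → v = 1) {p q : ℕ} (hp : p.Prime) (hq : q.Prime)
    (hE : Nat.card E = p * q) : IsCyclic E := by
  wlog hle : p ≤ q generalizing p q
  · exact this hq hp (hE.trans (mul_comm p q)) (le_of_not_ge hle)
  rcases hle.lt_or_eq with hlt | rfl
  swap
  · haveI : Fact p.Prime := ⟨hp⟩
    exact isCyclic_of_fpf_comm φ hfpf
      (IsPGroup.commutative_of_card_eq_prime_sq (hE.trans (pow_two p).symm))
  haveI : Fact p.Prime := ⟨hp⟩
  haveI : Fact q.Prime := ⟨hq⟩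
  obtain ⟨Y⟩ := (inferInstance : Nonempty (Sylow q E))
  have hYc : Nat.card (Y : Subgroup E) = q := by
    rw [Y.card_eq_multiplicity, hE, Nat.factorization_mul hp.ne_zero hq.ne_zero, Finsupp.add_apply,
      hp.factorization, hq.factorization, Finsupp.single_eq_same,
      Finsupp.single_eq_of_ne hlt.ne', zero_add, pow_one]
  have hidx : (Y : Subgroup E).index = p := by
    have := (Y : Subgroup E).card_mul_index
    rw [hYc, hE, mul_comm p q] at this
    exact Nat.eq_of_mul_eq_mul_left hq.pos this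
  have hYn : (Y : Subgroup E).Normal := by
    have h1 : Nat.card (Sylow q E) ∣ p := hidx ▸ Y.card_dvd_index
    rcases (Nat.dvd_prime hp).1 h1 with h | h
    · haveI : Subsingleton (Sylow q E) := (Nat.card_eq_one_iff_unique.1 h).1
      exact Sylow.normal_of_subsingleton Y
    · have h2 := card_sylow_modEq_one q E
      rw [h, Nat.ModEq, Nat.mod_eq_of_lt hlt, Nat.mod_eq_of_lt hq.one_lt] at h2
      exact absurd h2 hp.one_lt.ne'
  by_contra hcyc
  obtain ⟨x, hx⟩ := exists_prime_orderOf_dvd_card' (G := E) p (hE ▸ dvd_mul_right p q)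
  have hYuniq : ∀ e : E, orderOf e = q → e ∈ (Y : Subgroup E) := by
    intro e he
    obtain ⟨T, hT⟩ := (IsPGroup.of_card (G := Subgroup.zpowers e) (n := 1)
      (by rw [Nat.card_zpowers, he, pow_one])).exists_le_sylow
    haveI := Sylow.unique_of_normal Y hYn
    exact Subsingleton.elim T Y ▸ hT (Subgroup.mem_zpowers e)
  have hxY : x ∉ (Y : Subgroup E) := fun h => by
    have := Subgroup.orderOf_dvd_natCard _ h
    rw [hYc, hx] at this
    exact hlt.ne ((Nat.prime_dvd_prime_iff_eq hp hq).1 this)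
  refine false_of_fpf φ hfpf (p := p) (q := q) (Y : Subgroup E) hYc
    (Subgroup.normalizer_eq_top (Y : Subgroup E) ▸ Subgroup.mem_top x) hxY fun u hu => ?_
  have hdvd : orderOf (u * x) ∣ p * q := hE ▸ orderOf_dvd_natCard _
  obtain ⟨a, b, ha, hb, hab⟩ := exists_dvd_and_dvd_of_dvd_mul hdvd
  rcases (Nat.dvd_prime hp).1 ha with rfl | rfl <;> rcases (Nat.dvd_prime hq).1 hb with rfl | rfl
  · have h1 : u * x = 1 := orderOf_eq_one_iff.1 (hab.trans (mul_one 1))
    rw [h1, one_pow]
  · exfalso
    have := mul_mem (inv_mem hu) (hYuniq (u * x) (by simpa using hab))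
    rw [inv_mul_cancel_left] at this
    exact hxY this
  · exact orderOf_dvd_iff_pow_eq_one.1 (by simp [hab])
  · exact absurd (isCyclic_of_orderOf_eq_card (u * x) (hab.trans hE.symm)) hcyc

end CfsgLib.Solvable
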