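import Cfsg.Prelude.Def_SolvableStructure
import Cfsg.Agent.Lib.Solvable.Hall
import Cfsg.Agent.Lib.Solvable.Product

/-!
Hall complement systems of finite groups.
-/

set_option autoImplicit false

open scoped Pointwise

namespace CfsgLib.Solvable

open Cfsg

/-- The primes dividing `n`, as elements of `Nat.Primes`. -/
def primesOf (n : ℕ) : Finset Nat.Primes := n.primeFactors.subtype Nat.Prime

theorem mem_primesOf {n : ℕ} (hn : n ≠ 0) {p : Nat.Primes} : p ∈ primesOf n ↔ (p : ℕ) ∣ n := by
  refine Finset.mem_subtype.trans ?_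
  rw [Nat.mem_primeFactors]
  exact ⟨fun h => h.2.1, fun h => ⟨p.2, h, hn⟩⟩

theorem prod_primesOf_pow {n : ℕ} (hn : n ≠ 0) :
    ∏ p ∈ primesOf n, (p : ℕ) ^ n.factorization p = n := by
  conv_rhs => rw [← Nat.prod_factorization_pow_eq_self hn]
  rw [Finsupp.prod, Nat.support_factorization]
  exact Finset.prod_subtype_of_mem (fun q => q ^ n.factorization q)
    (fun q hq => Nat.prime_of_mem_primeFactors hq)

theorem primes_coprime_pow {p q : Nat.Primes} (h : p ≠ q) (a b : ℕ) :
    Nat.Coprime ((p : ℕ) ^ a) ((q : ℕ) ^ b) :=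
  Nat.Coprime.pow a b ((Nat.coprime_primes p.2 q.2).2 fun e => h (Subtype.ext e))

universe u

variable {G : Type u} [Group G] [Finite G] {K : Nat.Primes → Subgroup G}

/-- Complement systems exist in solvable groups. -/
theorem exists_isComplementSystem [Group.IsSolvable G] :
    ∃ K : Nat.Primes → Subgroup G, IsComplementSystem K := by
  have : ∀ p : Nat.Primes, ∃ H : Subgroup G,
      H.index = (p : ℕ) ^ (Nat.card G).factorization p := by
    intro p
    obtain ⟨H, hH⟩ := exists_hall (G := G) (m := ordCompl[(p : ℕ)] (Nat.card G))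
      (n := ordProj[(p : ℕ)] (Nat.card G))
      (by rw [mul_comm]; exact (Nat.ordProj_mul_ordCompl_eq_self _ _).symm)
      (Nat.Coprime.symm (Nat.Coprime.pow_left _
        (Nat.coprime_ordCompl p.2 Nat.card_pos.ne')))
    refine ⟨H, ?_⟩
    have h := H.card_mul_index
    rw [hH] at h
    exact Nat.eq_of_mul_eq_mul_left (hH ▸ Nat.card_pos)
      (h.trans (by rw [mul_comm, Nat.ordProj_mul_ordCompl_eq_self]))
  choose H hH using this
  exact ⟨H, hH⟩

theorem complementSystem_eq_top (hK : IsComplementSystem K) {p : Nat.Primes}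
    (hp : ¬ (p : ℕ) ∣ Nat.card G) : K p = ⊤ := by
  rw [← Subgroup.index_eq_one, hK p, Nat.factorization_eq_zero_of_not_dvd hp, pow_zero]

theorem index_finsetInf (hK : IsComplementSystem K) (T : Finset Nat.Primes) :
    (T.inf K).index = ∏ q ∈ T, (q : ℕ) ^ (Nat.card G).factorization q := by
  classical
  induction T using Finset.induction_on with
  | empty => simp
  | @insert a T ha ih =>
    have hcop : (K a).index.Coprime (T.inf K).index := by
      rw [hK a, ih]
      exact Nat.Coprime.prod_right fun q hq => primes_coprime_pow (fun e : a = q => ha (e ▸ hq)) _ _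
    rw [Finset.inf_insert, (index_inf_of_coprime hcop).2, ih, Finset.prod_insert ha, hK a]

theorem coprime_index_finsetInf (hK : IsComplementSystem K) {T : Finset Nat.Primes} {p : Nat.Primes}
    (hp : p ∉ T) : (K p).index.Coprime (T.inf K).index := by
  rw [hK p, index_finsetInf hK]
  exact Nat.Coprime.prod_right fun q hq => primes_coprime_pow (fun e : p = q => hp (e ▸ hq)) _ _

/-- The intersection of the members outside `S` has order the `S`-part of the group order. -/
theorem card_finsetInf_sdiff (hK : IsComplementSystem K) {S : Finset Nat.Primes}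
    (hS : S ⊆ primesOf (Nat.card G)) [DecidableEq Nat.Primes] :
    Nat.card ↥((primesOf (Nat.card G) \ S).inf K) =
      ∏ q ∈ S, (q : ℕ) ^ (Nat.card G).factorization q := by
  have h := ((primesOf (Nat.card G) \ S).inf K).card_mul_index
  rw [index_finsetInf hK] at h
  have h2 := prod_primesOf_pow (Nat.card_pos (α := G)).ne'
  rw [← Finset.prod_sdiff hS, mul_comm] at h2
  exact Nat.eq_of_mul_eq_mul_right (Finset.prod_pos fun q _ => pow_pos q.2.pos _) (h.trans h2.symm)

/-- Two complement systems agree up to conjugation on any finite set of primes; the conjugating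
element may be chosen with a prescribed behaviour one prime at a time. -/
theorem exists_conj_complementSystem_finset [Group.IsSolvable G] {L : Nat.Primes → Subgroup G}
    (hK : IsComplementSystem K) (hL : IsComplementSystem L) (T : Finset Nat.Primes) :
    ∃ g : G, ∀ p ∈ T, MulAut.conj g • K p = L p := by
  classical
  induction T using Finset.induction_on with
  | empty => exact ⟨1, by simp⟩
  | @insert a T ha ih =>
    obtain ⟨g, hg⟩ := ih
    have hcard : ∀ {M : Nat.Primes → Subgroup G}, IsComplementSystem M →
        Nat.card (M a) = Nat.card G / (a : ℕ) ^ (Nat.card G).factorization a := by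
      intro M hM
      have h := (M a).card_mul_index
      rw [hM a] at h
      exact (Nat.div_eq_of_eq_mul_left (pow_pos a.2.pos _) h.symm).symm
    have hcop : (Nat.card (L a)).Coprime (L a).index := by
      rw [hcard hL, hL a]
      exact (Nat.Coprime.pow_left _ (Nat.coprime_ordCompl a.2 Nat.card_pos.ne')).symm
    obtain ⟨x, hx⟩ := exists_conj_eq_hall (G := G) (L a).card_mul_index.symm hcop
      (H := MulAut.conj g • K a) (K := L a) (by rw [card_conj_smul, hcard hK, hcard hL]) rfl
    obtain ⟨l, hl, i, hi, rfl⟩ := mul_of_coprime_index (coprime_index_finsetInf hL ha) x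
    refine ⟨i * g, fun p hp => ?_⟩
    rw [← conj_smul_conj_smul]
    rcases Finset.mem_insert.1 hp with rfl | hp
    · rw [← conj_smul_conj_smul] at hx
      have h := congrArg (fun X : Subgroup G => MulAut.conj l⁻¹ • X) hx
      simp only [conj_smul_conj_smul, inv_mul_cancel_left, mul_assoc] at h ⊢
      rw [h]
      exact conj_smul_self_of_mem_normalizer (Subgroup.le_normalizer (inv_mem hl))
    · rw [hg p hp]
      exact conj_smul_self_of_mem_normalizer
        (Subgroup.le_normalizer ((Finset.inf_le (f := L) hp) hi))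

/-- Complement systems of a solvable group are conjugate. -/
theorem exists_conj_complementSystem [Group.IsSolvable G] {L : Nat.Primes → Subgroup G}
    (hK : IsComplementSystem K) (hL : IsComplementSystem L) :
    ∃ g : G, ∀ p : Nat.Primes, MulAut.conj g • K p = L p := by
  obtain ⟨g, hg⟩ := exists_conj_complementSystem_finset hK hL (primesOf (Nat.card G))
  refine ⟨g, fun p => ?_⟩
  by_cases hp : (p : ℕ) ∣ Nat.card G
  · exact hg p ((mem_primesOf Nat.card_pos.ne').2 hp)
  · rw [complementSystem_eq_top hK hp, complementSystem_eq_top hL hp]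
    exact conj_smul_self_of_mem_normalizer (Subgroup.le_normalizer (Subgroup.mem_top g))

theorem mem_finsetInf {T : Finset Nat.Primes} {x : G} : x ∈ T.inf K ↔ ∀ q ∈ T, x ∈ K q := by
  classical
  induction T using Finset.induction_on with
  | empty => simp
  | @insert a T ha ih => rw [Finset.inf_insert, Subgroup.mem_inf, ih, Finset.forall_mem_insert]

theorem mem_systemNormalizer {g : G} :
    g ∈ systemNormalizer K ↔ ∀ p : Nat.Primes, g ∈ Subgroup.normalizer (K p : Set G) := by
  simp [systemNormalizer, Subgroup.mem_iInf]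

/-- A normal `q`-subgroup lies in `K p` for every `p ≠ q`. -/
theorem normal_pGroup_le_complement (hK : IsComplementSystem K) {q : ℕ} [Fact q.Prime]
    (V : Subgroup G) [V.Normal] (hV : IsPGroup q V) {p : Nat.Primes} (hpq : (p : ℕ) ≠ q) :
    V ≤ K p := by
  have h1 : Subgroup.normalizer ((V : Subgroup G) : Set G) = ⊤ := Subgroup.normalizer_eq_top V
  have hle : (K p : Subgroup G) ≤ Subgroup.normalizer (V : Set G) := h1 ▸ le_top
  have hd : (V ⊔ K p).index ∣ (K p).index := Subgroup.index_dvd_of_le le_sup_right
  have h2 : Nat.card ↥(V ⊔ K p) ∣ Nat.card V * Nat.card (K p) := by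
    have h3 := card_comap_mk' V ((K p).map (QuotientGroup.mk' V))
    rw [Subgroup.comap_map_eq, QuotientGroup.ker_mk', sup_comm] at h3
    rw [h3]
    exact Nat.mul_dvd_mul_left _ (card_map_dvd _ _)
  have h4 : (K p).relIndex (V ⊔ K p) ∣ Nat.card V := by
    have h5 := ((K p).subgroupOf (V ⊔ K p)).card_mul_index
    rw [Nat.card_congr (Subgroup.subgroupOfEquivOfLe le_sup_right).toEquiv] at h5
    rw [← h5, mul_comm (Nat.card V)] at h2
    exact Nat.dvd_of_mul_dvd_mul_left Nat.card_pos h2
  have h6 : (K p).relIndex (V ⊔ K p) = 1 := by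
    obtain ⟨n, hn⟩ := IsPGroup.iff_card.1 hV
    refine Nat.eq_one_of_dvd_coprimes ?_ h4
      (show (K p).relIndex (V ⊔ K p) ∣ (K p).index from
        Subgroup.relIndex_mul_index (le_sup_right (a := V) (b := K p)) ▸ dvd_mul_right _ _)
    rw [hn, hK p]
    exact primes_coprime_pow (p := ⟨q, Fact.out⟩) (q := p) (fun e => hpq (by rw [← e])) _ _
  exact le_sup_left.trans (Subgroup.relIndex_eq_one.1 h6)

end CfsgLib.Solvable
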