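import Cfsg.Agent.Lib.Solvable.MinimalNormal
import Cfsg.Agent.Lib.Solvable.Product

/-!
Wielandt's criterion: a group with three solvable subgroups, two of coprime index and the third
factorising `G` with each of them, is solvable.
-/

set_option autoImplicit false

open scoped Pointwise

namespace CfsgLib.Solvable

universe u

private theorem exists_normal_solvable_aux {G : Type u} [Group G] [Finite G] (H M K : Subgroup G)
    {p : ℕ} [Fact p.Prime] (hMp : IsPGroup p M) (hMH : M ≤ H) (hMn : H ≤ Subgroup.normalizer (M : Set G))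
    (hMne : M ≠ ⊥) (hK : Group.IsSolvable K) (hHK : ∀ g : G, ∃ x ∈ H, ∃ y ∈ K, g = x * y)
    (hp : ¬ p ∣ K.index) : ∃ N : Subgroup G, N.Normal ∧ N ≠ ⊥ ∧ Group.IsSolvable N := by
  obtain ⟨P⟩ := (inferInstance : Nonempty (Sylow p K))
  have hPc : ¬ p ∣ ((P : Subgroup K).map K.subtype).index := by
    rw [← Subgroup.relIndex_mul_index (Subgroup.map_subtype_le (P : Subgroup K)),
      (Fact.out : p.Prime).dvd_mul]
    rintro (h | h)
    · rw [Subgroup.relIndex, Subgroup.subgroupOf,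
        Subgroup.comap_map_eq_self_of_injective K.subtype_injective] at h
      exact P.not_dvd_index h
    · exact hp h
  let S : Sylow p G := (P.2.map K.subtype).toSylow hPc
  have hS : (S : Subgroup G) ≤ K := Subgroup.map_subtype_le (P : Subgroup K)
  obtain ⟨T, hT⟩ := hMp.exists_le_sylow
  obtain ⟨x, rfl⟩ := MulAction.exists_smul_eq G S T
  rw [Sylow.coe_subgroup_smul] at hT
  have hMK : M ≤ K := by
    obtain ⟨a, ha, b, hb, rfl⟩ := hHK x
    intro m hm
    have h1 : a * m * a⁻¹ ∈ M := (Subgroup.mem_normalizer_iff.1 (hMn ha) m).1 hm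
    have h2 := hS (mem_conj_smul_iff.1 (hT h1))
    have := mul_mem (mul_mem hb h2) (inv_mem hb)
    simpa [mul_assoc] using this
  have hle : Subgroup.normalClosure (M : Set G) ≤ K := by
    rw [Subgroup.normalClosure, Subgroup.closure_le]
    intro y hy
    obtain ⟨m, hm, hc⟩ := Group.mem_conjugatesOfSet_iff.1 hy
    obtain ⟨g, rfl⟩ := isConj_iff.1 hc
    obtain ⟨b, hb, a, ha, rfl⟩ := mul_factor_symm hHK g
    have := mul_mem (mul_mem hb (hMK ((Subgroup.mem_normalizer_iff.1 (hMn ha) m).1 hm))) (inv_mem hb)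
    simpa [mul_assoc] using this
  exact ⟨_, Subgroup.normalClosure_normal,
    fun h => hMne (le_bot_iff.1 (h ▸ Subgroup.subset_normalClosure)), isSolvable_of_le hK hle⟩

private theorem wielandt_aux (c : ℕ) : ∀ (G : Type u) [Group G] [Finite G], Nat.card G = c →
    ∀ H₁ H₂ H₃ : Subgroup G, Group.IsSolvable H₁ → Group.IsSolvable H₂ → Group.IsSolvable H₃ →
      (∀ g : G, ∃ x ∈ H₁, ∃ y ∈ H₂, g = x * y) → (∀ g : G, ∃ x ∈ H₁, ∃ y ∈ H₃, g = x * y) →
      H₂.index.Coprime H₃.index → Group.IsSolvable G := by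
  induction c using Nat.strong_induction_on with
  | _ c ih =>
  intro G _ _ hc H₁ H₂ H₃ h₁ h₂ h₃ h12 h13 hcop
  subst hc
  rcases eq_or_ne H₁ ⊥ with rfl | hH₁
  · have htop : H₂ = ⊤ := eq_top_iff.2 fun g _ => by
      obtain ⟨x, hx, y, hy, rfl⟩ := h12 g
      rw [Subgroup.mem_bot.1 hx, one_mul]; exact hy
    subst htop
    haveI := h₂
    exact Group.isSolvable_of_surjective
      (f := (Subgroup.topEquiv : (⊤ : Subgroup G) ≃* G).toMonoidHom) (MulEquiv.surjective _)
  have : Nontrivial H₁ := H₁.nontrivial_iff_ne_bot.2 hH₁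
  obtain ⟨M₀, p, a, hM₀, hp, -, hM₀p, -, hM₀ne, -, -⟩ := exists_normal_prime_pow_card (G := H₁)
  haveI : Fact p.Prime := ⟨hp⟩
  set M := M₀.map H₁.subtype
  have hMH : M ≤ H₁ := Subgroup.map_subtype_le _
  have hMn : H₁ ≤ Subgroup.normalizer (M : Set G) := le_normalizer_of_conj_mem fun x hx y hy => by
    obtain ⟨z, hz, rfl⟩ := hy
    exact ⟨⟨x, hx⟩ * z * ⟨x, hx⟩⁻¹, hM₀.conj_mem z hz _, by simp⟩
  have hMne : M ≠ ⊥ := fun h => hM₀ne (by
    rwa [Subgroup.map_eq_bot_iff_of_injective _ H₁.subtype_injective] at h)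
  obtain ⟨N, hN, hNne, hNs⟩ : ∃ N : Subgroup G, N.Normal ∧ N ≠ ⊥ ∧ Group.IsSolvable N := by
    by_cases hpd : p ∣ H₂.index
    · exact exists_normal_solvable_aux H₁ M H₃ (hM₀p.map _) hMH hMn hMne h₃ h13
        fun h => hp.not_dvd_one (hcop ▸ Nat.dvd_gcd hpd h)
    · exact exists_normal_solvable_aux H₁ M H₂ (hM₀p.map _) hMH hMn hMne h₂ h12 hpd
  set π := QuotientGroup.mk' N
  have hsurj : Function.Surjective π := QuotientGroup.mk'_surjective N
  have hmap : ∀ H : Subgroup G, Group.IsSolvable H → Group.IsSolvable (H.map π) := fun H hH =>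
    Group.isSolvable_of_surjective (π.subgroupMap_surjective H)
  have hprod : ∀ A B : Subgroup G, (∀ g : G, ∃ x ∈ A, ∃ y ∈ B, g = x * y) →
      ∀ g : G ⧸ N, ∃ x ∈ A.map π, ∃ y ∈ B.map π, g = x * y := by
    intro A B h g
    obtain ⟨g, rfl⟩ := hsurj g
    obtain ⟨x, hx, y, hy, rfl⟩ := h g
    exact ⟨π x, Subgroup.mem_map_of_mem π hx, π y, Subgroup.mem_map_of_mem π hy, map_mul π x y⟩
  have hq := ih _ (card_quotient_lt N hNne) (G ⧸ N) rfl _ _ _ (hmap _ h₁) (hmap _ h₂) (hmap _ h₃)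
    (hprod _ _ h12) (hprod _ _ h13)
    ((hcop.coprime_dvd_left (Subgroup.index_map_dvd _ hsurj)).coprime_dvd_right
      (Subgroup.index_map_dvd _ hsurj))
  exact (Group.isSolvable_iff_subgroup_quotient N).2 ⟨hNs, hq⟩

/-- Wielandt: solvability from three solvable subgroups. -/
theorem isSolvable_of_three {G : Type u} [Group G] [Finite G] (H₁ H₂ H₃ : Subgroup G)
    (h₁ : Group.IsSolvable H₁) (h₂ : Group.IsSolvable H₂) (h₃ : Group.IsSolvable H₃)
    (h12 : ∀ g : G, ∃ x ∈ H₁, ∃ y ∈ H₂, g = x * y)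
    (h13 : ∀ g : G, ∃ x ∈ H₁, ∃ y ∈ H₃, g = x * y) (hcop : H₂.index.Coprime H₃.index) :
    Group.IsSolvable G :=
  wielandt_aux _ G rfl H₁ H₂ H₃ h₁ h₂ h₃ h12 h13 hcop

/-- Three solvable subgroups of pairwise coprime index. -/
theorem isSolvable_of_three_coprime {G : Type u} [Group G] [Finite G] (H₁ H₂ H₃ : Subgroup G)
    (h₁ : Group.IsSolvable H₁) (h₂ : Group.IsSolvable H₂) (h₃ : Group.IsSolvable H₃)
    (h12 : H₁.index.Coprime H₂.index) (h13 : H₁.index.Coprime H₃.index)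
    (h23 : H₂.index.Coprime H₃.index) : Group.IsSolvable G :=
  isSolvable_of_three H₁ H₂ H₃ h₁ h₂ h₃ (mul_of_coprime_index h12) (mul_of_coprime_index h13) h23

end CfsgLib.Solvable
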