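import Cfsg.Agent.Lib.Char.Burnside
import Cfsg.Agent.Lib.Solvable.Wielandt
import Cfsg.Agent.Lib.Solvable.ComplementSystem

/-!
Solvability criteria that rest on Burnside's two-prime theorem: Hall's converse and variants.
-/

set_option autoImplicit false

open scoped Pointwise

namespace CfsgLib.Solvable

universe u

theorem card_dvd_of_primeFactors_card_le_two {n : ℕ} (hn : n ≠ 0) (h : n.primeFactors.card ≤ 2) :
    ∃ p q a b : ℕ, p.Prime ∧ q.Prime ∧ n ∣ p ^ a * q ^ b := by
  have e := Nat.prod_factorization_pow_eq_self hn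
  rw [Finsupp.prod, Nat.support_factorization] at e
  rcases Nat.lt_or_eq_of_le h with h1 | h2
  · rcases Nat.lt_or_eq_of_le (Nat.lt_succ_iff.1 h1) with h0 | h1
    · rw [Nat.lt_one_iff, Finset.card_eq_zero] at h0
      rw [h0, Finset.prod_empty] at e
      exact ⟨2, 2, 0, 0, Nat.prime_two, Nat.prime_two, by simp [← e]⟩
    · obtain ⟨p, hp⟩ := Finset.card_eq_one.1 h1
      rw [hp, Finset.prod_singleton] at e
      refine ⟨p, p, n.factorization p, 0, ?_, ?_, ?_⟩
      · exact Nat.prime_of_mem_primeFactors (hp ▸ Finset.mem_singleton_self p)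
      · exact Nat.prime_of_mem_primeFactors (hp ▸ Finset.mem_singleton_self p)
      · rw [pow_zero, mul_one, e]
  · obtain ⟨p, q, hpq, hp⟩ := Finset.card_eq_two.1 h2
    rw [hp, Finset.prod_pair hpq] at e
    refine ⟨p, q, n.factorization p, n.factorization q, ?_, ?_, by rw [e]⟩
    · exact Nat.prime_of_mem_primeFactors (hp ▸ Finset.mem_insert_self p _)
    · exact Nat.prime_of_mem_primeFactors
        (hp ▸ Finset.mem_insert_of_mem (Finset.mem_singleton_self q))

theorem isSolvable_of_primeFactors_card_le_two {G : Type u} [Group G] [Finite G]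
    (h : (Nat.card G).primeFactors.card ≤ 2) : Group.IsSolvable G := by
  obtain ⟨p, q, a, b, hp, hq, hd⟩ := card_dvd_of_primeFactors_card_le_two Nat.card_pos.ne' h
  exact CfsgLib.Char.isSolvable_of_card_eq_pow_mul_pow hp hq hd

/-- Three solvable subgroups with indices powers of three different primes, otherwise two primes. -/
theorem isSolvable_of_prime_power_index {G : Type u} [Group G] [Finite G]
    (h : ∀ p : ℕ, p.Prime → p ∣ Nat.card G →
      ∃ H : Subgroup G, (∃ k, H.index = p ^ k) ∧ (3 ≤ (Nat.card G).primeFactors.card → Group.IsSolvable H)) :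
    Group.IsSolvable G := by
  by_cases h2 : (Nat.card G).primeFactors.card ≤ 2
  · exact isSolvable_of_primeFactors_card_le_two h2
  obtain ⟨p, hp, q, hq, r, hr, hpq, hpr, hqr⟩ := Finset.two_lt_card.1 (not_le.1 h2)
  rw [Nat.mem_primeFactors] at hp hq hr
  obtain ⟨A, ⟨a, ha⟩, hA⟩ := h p hp.1 hp.2.1
  obtain ⟨B, ⟨b, hb⟩, hB⟩ := h q hq.1 hq.2.1
  obtain ⟨C, ⟨c, hc⟩, hC⟩ := h r hr.1 hr.2.1
  have h3 : 3 ≤ (Nat.card G).primeFactors.card := by omega
  refine isSolvable_of_three_coprime A B C (hA h3) (hB h3) (hC h3) ?_ ?_ ?_ <;>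
    simp only [ha, hb, hc] <;> apply Nat.Coprime.pow
  · exact (Nat.coprime_primes hp.1 hq.1).2 hpq
  · exact (Nat.coprime_primes hp.1 hr.1).2 hpr
  · exact (Nat.coprime_primes hq.1 hr.1).2 hqr

private theorem converse_aux (c : ℕ) : ∀ (G : Type u) [Group G] [Finite G], Nat.card G = c →
    (∀ p : ℕ, p.Prime → ∃ H : Subgroup G, H.index = p ^ (Nat.card G).factorization p) →
    Group.IsSolvable G := by
  induction c using Nat.strong_induction_on with
  | _ c ih =>
  intro G _ _ hc h
  subst hc
  refine isSolvable_of_prime_power_index fun p hp hpd => ?_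
  obtain ⟨H, hH⟩ := h p hp
  refine ⟨H, ⟨_, hH⟩, fun _ => ?_⟩
  have hpos : 0 < (Nat.card G).factorization p := hp.factorization_pos_of_dvd Nat.card_pos.ne' hpd
  have hcard := H.card_mul_index
  rw [hH] at hcard
  have hlt : Nat.card H < Nat.card G := by
    rw [← hcard]
    exact lt_mul_of_one_lt_right Nat.card_pos (Nat.one_lt_pow hpos.ne' hp.one_lt)
  refine ih _ hlt H rfl fun s hs => ?_
  have hfac : (Nat.card H).factorization s + (p ^ (Nat.card G).factorization p).factorization s
      = (Nat.card G).factorization s := by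
    conv_rhs => rw [← hcard, Nat.factorization_mul Nat.card_pos.ne' (pow_pos hp.pos _).ne',
      Finsupp.add_apply]
  rw [hp.factorization_pow, Finsupp.single_apply] at hfac
  by_cases hsp : p = s
  · subst hsp
    refine ⟨⊤, ?_⟩
    rw [if_pos rfl] at hfac
    rw [Subgroup.index_top, show (Nat.card H).factorization p = 0 by omega, pow_zero]
  · obtain ⟨L, hL⟩ := h s hs
    refine ⟨L.subgroupOf H, ?_⟩
    rw [if_neg hsp, add_zero] at hfac
    show L.relIndex H = _
    rw [(index_inf_of_coprime (H := H) (K := L) ?_).1, hL, hfac]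
    rw [hH, hL]
    exact Nat.Coprime.pow _ _ ((Nat.coprime_primes hp hs).2 hsp)

/-- Hall's converse. -/
theorem isSolvable_of_complements {G : Type u} [Group G] [Finite G]
    (h : ∀ p : ℕ, p.Prime → ∃ H : Subgroup G, H.index = p ^ (Nat.card G).factorization p) :
    Group.IsSolvable G :=
  converse_aux _ G rfl h

private theorem lagrange_aux (c : ℕ) : ∀ (G : Type u) [Group G] [Finite G], Nat.card G = c →
    (∀ H : Subgroup G, H ≠ ⊥ → ∀ p : ℕ, p.Prime → p ∣ Nat.card H →
      ∃ K : Subgroup H, K ≠ ⊤ ∧ ∃ k : ℕ, K.index = p ^ k) →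
    Group.IsSolvable G := by
  induction c using Nat.strong_induction_on with
  | _ c ih =>
  intro G _ _ hc h
  subst hc
  refine isSolvable_of_prime_power_index fun p hp hpd => ?_
  have htop : (⊤ : Subgroup G) ≠ ⊥ := fun e => by
    have h1 : Nat.card (⊤ : Subgroup G) = 1 := by rw [e]; exact Subgroup.card_bot
    rw [Subgroup.card_top] at h1
    exact hp.not_dvd_one (h1 ▸ hpd)
  obtain ⟨K, hK, k, hk⟩ := h ⊤ htop p hp (by rwa [Subgroup.card_top])
  let e : (⊤ : Subgroup G) ≃* G := Subgroup.topEquiv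
  refine ⟨K.map e.toMonoidHom, ⟨k, by rw [← hk]; exact Subgroup.index_map_equiv K e⟩, fun _ => ?_⟩
  set H := K.map e.toMonoidHom
  have hne : H ≠ ⊤ := fun he => hK (by
    apply Subgroup.map_injective (f := e.toMonoidHom) e.injective
    rw [Subgroup.map_top_of_surjective _ e.surjective]; exact he)
  have hlt : Nat.card H < Nat.card G :=
    lt_of_le_of_ne H.card_le_card_group fun he => hne (Subgroup.eq_top_of_card_eq _ he)
  refine ih _ hlt H rfl fun J hJ s hs hsd => ?_
  set J' := J.map H.subtype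
  let f : J ≃* J' := J.equivMapOfInjective _ H.subtype_injective
  obtain ⟨L, hL, l, hl⟩ := h J' (fun he => hJ (by
      rwa [Subgroup.map_eq_bot_iff_of_injective _ H.subtype_injective] at he)) s hs
    (by rwa [← Nat.card_congr f.toEquiv])
  refine ⟨L.map f.symm.toMonoidHom, fun he => hL ?_, l,
    by rw [← hl]; exact Subgroup.index_map_equiv L f.symm⟩
  apply Subgroup.map_injective (f := f.symm.toMonoidHom) f.symm.injective
  rw [he, Subgroup.map_top_of_surjective _ f.symm.surjective]

theorem isSolvable_of_proper_prime_power_index {G : Type u} [Group G] [Finite G]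
    (h : ∀ H : Subgroup G, H ≠ ⊥ → ∀ p : ℕ, p.Prime → p ∣ Nat.card H →
      ∃ K : Subgroup H, K ≠ ⊤ ∧ ∃ k : ℕ, K.index = p ^ k) : Group.IsSolvable G :=
  lagrange_aux _ G rfl h

end CfsgLib.Solvable
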