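import Cfsg.Agent.Lib.Solvable.Basic

/-!
Sylow subgroups of subgroups, seen in the ambient group.
-/

set_option autoImplicit false

open scoped Pointwise

namespace CfsgLib.Solvable

variable {G : Type*} [Group G] [Finite G] {p : ℕ} [Fact p.Prime]

/-- If `X ≤ K` is a Sylow subgroup of `K` and `H ⊴ K` then `X ⊓ H` is a Sylow subgroup of `H`. -/
theorem card_inf_of_normal {X H K : Subgroup G} (hHK : H ≤ K)
    (hKH : K ≤ Subgroup.normalizer (H : Set G)) (hXK : X ≤ K) (hXp : IsPGroup p X)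
    (hXc : ¬ p ∣ X.relIndex K) : ∀ Q : Sylow p H, Nat.card ↥(X ⊓ H) = Nat.card Q := by
  intro Q
  let S : Sylow p K :=
    (hXp.of_equiv (Subgroup.subgroupOfEquivOfLe hXK).symm).toSylow hXc
  have hQK : (Q : Subgroup H).map H.subtype ≤ K := (Subgroup.map_subtype_le _).trans hHK
  obtain ⟨T, hT⟩ :=
    ((Q.2.map H.subtype).of_equiv (Subgroup.subgroupOfEquivOfLe hQK).symm).exists_le_sylow
  obtain ⟨k, rfl⟩ := MulAction.exists_smul_eq K S T
  refine le_antisymm ?_ ?_
  · obtain ⟨R, hR⟩ := ((hXp.to_le (inf_le_left : X ⊓ H ≤ X)).of_equiv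
      (Subgroup.subgroupOfEquivOfLe (inf_le_right : X ⊓ H ≤ H)).symm).exists_le_sylow
    rw [Q.card_eq_multiplicity, ← R.card_eq_multiplicity,
      ← Nat.card_congr (Subgroup.subgroupOfEquivOfLe (inf_le_right : X ⊓ H ≤ H)).toEquiv]
    exact Subgroup.card_le_of_le hR
  · rw [← Subgroup.card_map_of_injective H.subtype_injective, ← card_conj_smul (k : G) (X ⊓ H)]
    refine Subgroup.card_le_of_le fun x hx => mem_conj_smul_iff.2 ?_
    have hxH : x ∈ H := Subgroup.map_subtype_le _ hx
    have h := hT (show (⟨x, hQK hx⟩ : K) ∈ _ from hx)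
    rw [Sylow.coe_subgroup_smul, mem_conj_smul_iff] at h
    exact Subgroup.mem_inf.2
      ⟨h, (Subgroup.mem_normalizer_iff''.1 (hKH k.2) x).1 hxH⟩

/-- If `H` is subnormal and `S` a Sylow subgroup of `G` then `S ⊓ H` is a Sylow subgroup of `H`. -/
theorem card_inf_of_isSubnormal (S : Sylow p G) {H : Subgroup G} (hH : H.IsSubnormal) :
    ∀ Q : Sylow p H, Nat.card ↥((S : Subgroup G) ⊓ H) = Nat.card Q := by
  induction hH with
  | top =>
    intro Q
    rw [inf_top_eq, S.card_eq_multiplicity, Q.card_eq_multiplicity, Subgroup.card_top]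
  | step H K hHK hK hn ih =>
    intro Q
    obtain ⟨R⟩ := (inferInstance : Nonempty (Sylow p K))
    have hnd : ¬ p ∣ ((S : Subgroup G) ⊓ K).relIndex K := by
      intro hd
      have h1 := ((S : Subgroup G) ⊓ K).subgroupOf K |>.card_mul_index
      rw [Nat.card_congr (Subgroup.subgroupOfEquivOfLe (inf_le_right : (S : Subgroup G) ⊓ K ≤ K)).toEquiv,
        ih R, ← (R : Subgroup K).card_mul_index] at h1
      have h2 := Nat.eq_of_mul_eq_mul_left Nat.card_pos h1
      exact R.not_dvd_index (h2 ▸ hd)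
    have h3 := card_inf_of_normal hHK ((Subgroup.normal_subgroupOf_iff_le_normalizer hHK).1 hn)
      inf_le_right (S.2.to_le inf_le_left) hnd Q
    rwa [inf_assoc, inf_eq_right.2 hHK] at h3

end CfsgLib.Solvable
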