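import Cfsg.Agent.Lib.Solvable.Averaging
import Cfsg.Agent.Lib.Solvable.CoprimeAction
import Cfsg.Agent.Lib.LocalEven.Basic

/-!
Generation by centralisers under coprime action of a noncyclic abelian group.
-/

set_option autoImplicit false

open scoped Pointwise commutatorElement

namespace CfsgLib.Solvable

variable {G : Type*} [Group G] [Finite G]

/-- In an abelian invariant section some nontrivial element of a noncyclic abelian group acting
coprimely fixes an element outside the bottom of the section. -/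
theorem exists_fixed_notMem {A M D : Subgroup G} (hA : ∀ x ∈ A, ∀ y ∈ A, x * y = y * x)
    (hnc : ¬ IsCyclic A) (hlt : D < M) (hMn : M ≤ Subgroup.normalizer (D : Set G))
    (hcomm : ∀ x ∈ M, ∀ y ∈ M, ⁅x, y⁆ ∈ D) (hAM : A ≤ Subgroup.normalizer (M : Set G))
    (hAD : A ≤ Subgroup.normalizer (D : Set G)) (hcop : (Nat.card A).Coprime (Nat.card M)) :
    ∃ a ∈ A, a ≠ 1 ∧ ∃ m ∈ M, m ∉ D ∧ m ∈ Subgroup.centralizer {a} := by
  classical
  set N := D.subgroupOf M with hN
  haveI hNn : N.Normal := by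
    rw [hN, ← Subgroup.normalizer_eq_top_iff, ← Subgroup.subgroupOf_normalizer_eq hlt.le,
      Subgroup.subgroupOf_eq_top]
    exact hMn
  letI : CommGroup (M ⧸ N) := { (inferInstance : Group (M ⧸ N)) with
    mul_comm := fun x y => by
      induction x using QuotientGroup.induction_on with
      | _ x =>
      induction y using QuotientGroup.induction_on with
      | _ y =>
      rw [← QuotientGroup.mk_mul, ← QuotientGroup.mk_mul, QuotientGroup.eq, hN,
        Subgroup.mem_subgroupOf]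
      have := hcomm _ (inv_mem y.2) _ (inv_mem x.2)
      simpa [commutatorElement_def, mul_assoc] using this }
  let ψ : A →* MulAut M := M.normalizerMonoidHom.comp (Subgroup.inclusion hAM)
  have hψ : ∀ (a : A) (m : M), ((ψ a m : M) : G) = a * m * (a : G)⁻¹ := fun _ _ => rfl
  have hmap : ∀ a : A, N.map (ψ a).toMonoidHom = N := by
    intro a
    refine Subgroup.eq_of_le_of_card_ge ?_
      (Subgroup.card_map_of_injective (ψ a).injective).ge
    rintro _ ⟨m, hm, rfl⟩
    rw [hN, Subgroup.mem_subgroupOf]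
    exact normalizer_conj_mem (hAD a.2) hm
  let φ : A →* MulAut (M ⧸ N) :=
    { toFun := fun a => QuotientGroup.congr N N (ψ a) (hmap a)
      map_one' := by
        refine MulEquiv.ext fun w => ?_
        induction w using QuotientGroup.induction_on with
        | _ m => show (((ψ 1) m : M) : M ⧸ N) = _; rw [map_one]; rfl
      map_mul' := fun a b => by
        refine MulEquiv.ext fun w => ?_
        induction w using QuotientGroup.induction_on with
        | _ m =>
          show (((ψ (a * b)) m : M) : M ⧸ N) = _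
          rw [map_mul]; rfl }
  haveI : Nontrivial (M ⧸ N) := by
    rw [QuotientGroup.nontrivial_iff, hN, Ne, Subgroup.subgroupOf_eq_top]
    exact hlt.not_ge
  by_contra hcon
  refine hnc (isCyclic_of_fpf_comm φ (fun a ha w hw => ?_)
    (fun a b => Subtype.ext (hA _ a.2 _ b.2)))
  by_contra hw1
  induction w using QuotientGroup.induction_on with
  | _ m =>
  have hmD : (m : G) ∉ D := fun h => hw1 ((QuotientGroup.eq_one_iff m).2 h)
  set B := Subgroup.zpowers (a : G) with hB
  have hBA : B ≤ A := Subgroup.zpowers_le.2 a.2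
  have hfix : ∀ b ∈ B, ⁅b, (m : G)⁆ ∈ D := by
    rintro _ ⟨i, rfl⟩
    have hst : a ^ i ∈ (MulAction.stabilizer (MulAut (M ⧸ N)) (m : M ⧸ N)).comap φ :=
      zpow_mem (show φ a • (m : M ⧸ N) = m from hw) i
    have h1 : ((ψ (a ^ i) m : M) : M ⧸ N) = (m : M ⧸ N) := hst
    rw [QuotientGroup.eq, hN, Subgroup.mem_subgroupOf, Subgroup.coe_mul, Subgroup.coe_inv,
      hψ, SubgroupClass.coe_zpow] at h1
    have h2 := normalizer_conj_mem (hMn m.2) (inv_mem h1)
    show (a : G) ^ i * m * ((a : G) ^ i)⁻¹ * (m : G)⁻¹ ∈ D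
    simpa [mul_assoc] using h2
  obtain ⟨n, hn, hnm⟩ := exists_mul_mem_centralizer B D (hBA.trans hAD)
    ((hcop.coprime_dvd_left (Subgroup.card_dvd_of_le hBA)).coprime_dvd_right
      (Subgroup.card_dvd_of_le hlt.le))
    (Or.inl (Group.isSolvable_of_comm fun x y => Subtype.ext (hA _ (hBA x.2) _ (hBA y.2))))
    (m : G) hfix
  refine hcon ⟨a, a.2, fun h => ha (Subtype.ext h), n * m, mul_mem (hlt.le hn) m.2,
    fun h => hmD ?_, ?_⟩
  · simpa using mul_mem (inv_mem hn) h
  · rw [Subgroup.mem_centralizer_singleton_iff]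
    exact (Subgroup.mem_centralizer_iff.1 hnm a (Subgroup.mem_zpowers _)).symm

/-- A noncyclic abelian group acting coprimely: the centralisers of its nonidentity elements
generate. -/
theorem iSup_centralizer_eq {A K : Subgroup G} (hA : ∀ x ∈ A, ∀ y ∈ A, x * y = y * x)
    (hnc : ¬ IsCyclic A) (hAK : A ≤ Subgroup.normalizer (K : Set G))
    (hcop : (Nat.card A).Coprime (Nat.card K)) :
    (⨆ a ∈ {a : G | a ∈ A ∧ a ≠ 1}, K ⊓ Subgroup.centralizer {a}) = K := by
  classical
  set T := ⨆ a ∈ {a : G | a ∈ A ∧ a ≠ 1}, K ⊓ Subgroup.centralizer {a} with hT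
  have hTK : T ≤ K := iSup₂_le fun _ _ => inf_le_left
  have hmem : ∀ a ∈ A, a ≠ 1 → ∀ k ∈ K, k ∈ Subgroup.centralizer {a} → k ∈ T := by
    intro a ha ha1 k hk hkc
    exact (le_iSup₂ (f := fun (a : G) (_ : a ∈ {a : G | a ∈ A ∧ a ≠ 1}) =>
      K ⊓ Subgroup.centralizer {a}) a ⟨ha, ha1⟩) ⟨hk, hkc⟩
  have hAT : A ≤ Subgroup.normalizer (T : Set G) := by
    refine le_normalizer_of_conj_mem fun b hb x hx => ?_
    suffices T ≤ T.comap (MulAut.conj b).toMonoidHom from this hx
    refine iSup₂_le fun a ha k hk => hmem a ha.1 ha.2 _ (normalizer_conj_mem (hAK hb) hk.1) ?_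
    have h1 := Subgroup.mem_centralizer_singleton_iff.1 hk.2
    have h2 := hA a ha.1 b hb
    rw [Subgroup.mem_centralizer_singleton_iff]
    show b * k * b⁻¹ * a = a * (b * k * b⁻¹)
    have h3 : b⁻¹ * a = a * b⁻¹ := by
      rw [inv_mul_eq_iff_eq_mul, ← mul_assoc, eq_mul_inv_iff_mul_eq, h2]
    calc b * k * b⁻¹ * a = b * (k * a) * b⁻¹ := by rw [mul_assoc, h3]; group
      _ = a * (b * k * b⁻¹) := by rw [h1, ← mul_assoc b, ← h2]; group
  have hs : Group.IsSolvable A := Group.isSolvable_of_comm fun x y => Subtype.ext (hA _ x.2 _ y.2)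
  suffices key : ∀ p : ℕ, p.Prime → ∀ P : Subgroup G, IsPGroup p P → P ≤ K →
      A ≤ Subgroup.normalizer (P : Set G) → P ≤ T by
    refine Subgroup.eq_of_le_of_card_ge hTK (Nat.le_of_dvd Nat.card_pos ?_)
    rw [← Nat.factorization_le_iff_dvd Nat.card_pos.ne' Nat.card_pos.ne', Finsupp.le_iff]
    intro p hp
    have hpp : p.Prime := Nat.prime_of_mem_primeFactors hp
    haveI : Fact p.Prime := ⟨hpp⟩
    obtain ⟨P, hP⟩ := exists_invariant_sylow A K hAK hcop (Or.inl hs) p
    have h := Subgroup.card_dvd_of_le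
      (key p hpp _ (P.2.map K.subtype) (Subgroup.map_subtype_le _) hP)
    rw [card_sylow_map, P.card_eq_multiplicity] at h
    exact (hpp.pow_dvd_iff_le_factorization Nat.card_pos.ne').1 h
  intro p hp P hP hPK hAP
  haveI : Fact p.Prime := ⟨hp⟩
  by_contra hPT
  set D := P ⊓ T with hD
  have hAD : A ≤ Subgroup.normalizer (D : Set G) := le_normalizer_inf hAP hAT
  set M₀ := P ⊓ Subgroup.normalizer (D : Set G) with hM₀
  have hDM₀ : D ≤ M₀ := le_inf inf_le_left Subgroup.le_normalizer
  haveI hDn : (D.subgroupOf M₀).Normal := by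
    rw [← Subgroup.normalizer_eq_top_iff, ← Subgroup.subgroupOf_normalizer_eq hDM₀,
      Subgroup.subgroupOf_eq_top]
    exact inf_le_right
  have hAM₀ : A ≤ Subgroup.normalizer (M₀ : Set G) :=
    le_normalizer_inf hAP (hAD.trans Subgroup.le_normalizer)
  haveI : Nontrivial (M₀ ⧸ D.subgroupOf M₀) := by
    rw [QuotientGroup.nontrivial_iff, Ne, Subgroup.subgroupOf_eq_top]
    exact fun h => hPT ((CfsgLib.LocalEven.eq_of_inf_normalizer_le hP inf_le_left h).ge.trans
      inf_le_right)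
  haveI := ((hP.to_le (inf_le_left : M₀ ≤ P)).to_quotient (D.subgroupOf M₀)).center_nontrivial
  set M := ((Subgroup.center (M₀ ⧸ D.subgroupOf M₀)).comap (QuotientGroup.mk' _)).map
    M₀.subtype with hM
  have hMM₀ : M ≤ M₀ := Subgroup.map_subtype_le _
  have hiff : ∀ x : M₀, (x : G) ∈ M ↔ ∀ y : M₀, ⁅(x : G), (y : G)⁆ ∈ D := by
    intro x
    show M₀.subtype x ∈ M ↔ _
    rw [hM, Subgroup.mem_map_iff_mem M₀.subtype_injective (x := x), Subgroup.mem_comap,
      Subgroup.mem_center_iff]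
    constructor
    · intro h y
      have h' := h (y : M₀ ⧸ D.subgroupOf M₀)
      have : ((⁅x, y⁆ : M₀) : M₀ ⧸ D.subgroupOf M₀) = 1 := by
        rw [← QuotientGroup.mk'_apply, map_commutatorElement, commutatorElement_eq_one_iff_mul_comm]
        exact h'.symm
      rwa [QuotientGroup.eq_one_iff, Subgroup.mem_subgroupOf] at this
    · intro h w
      induction w using QuotientGroup.induction_on with
      | _ y =>
        symm
        rw [← QuotientGroup.mk'_apply, ← commutatorElement_eq_one_iff_mul_comm,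
          ← map_commutatorElement, QuotientGroup.mk'_apply, QuotientGroup.eq_one_iff]
        exact h y
  have hlt : D < M := by
    refine lt_of_le_not_ge (fun d hd => (hiff ⟨d, hDM₀ hd⟩).2 fun y => ?_) fun hle => ?_
    · have := mul_mem hd (normalizer_conj_mem y.2.2 (inv_mem hd))
      simpa [commutatorElement_def, mul_assoc] using this
    · obtain ⟨z, hz⟩ := exists_ne (1 : Subgroup.center (M₀ ⧸ D.subgroupOf M₀))
      obtain ⟨x, hx⟩ := QuotientGroup.mk'_surjective (D.subgroupOf M₀) (z : M₀ ⧸ D.subgroupOf M₀)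
      have hxM : (x : G) ∈ M := ⟨x, show QuotientGroup.mk' _ x ∈ Subgroup.center _ from
        hx ▸ z.2, rfl⟩
      exact hz (Subtype.ext (hx ▸ (QuotientGroup.eq_one_iff x).2 (hle hxM)))
  have hAM : A ≤ Subgroup.normalizer (M : Set G) := by
    refine le_normalizer_of_conj_mem fun a ha x hx => ?_
    have hx₀ : a * x * a⁻¹ ∈ M₀ := normalizer_conj_mem (hAM₀ ha) (hMM₀ hx)
    refine (hiff ⟨_, hx₀⟩).2 fun y => ?_
    have hy₀ : a⁻¹ * y * a⁻¹⁻¹ ∈ M₀ := normalizer_conj_mem (hAM₀ (inv_mem ha)) y.2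
    have := normalizer_conj_mem (hAD ha) ((hiff ⟨x, hMM₀ hx⟩).1 hx ⟨_, hy₀⟩)
    show ⁅a * x * a⁻¹, (y : G)⁆ ∈ D
    simpa [commutatorElement_def, mul_assoc] using this
  obtain ⟨a, ha, ha1, m, hm, hmD, hmc⟩ := exists_fixed_notMem hA hnc hlt
    (hMM₀.trans inf_le_right) (fun x hx y hy => (hiff ⟨x, hMM₀ hx⟩).1 hx ⟨y, hMM₀ hy⟩) hAM hAD
    (hcop.coprime_dvd_right (Subgroup.card_dvd_of_le ((hMM₀.trans inf_le_left).trans hPK)))
  exact hmD ⟨(hMM₀ hm).1, hmem a ha ha1 m (hPK (hMM₀ hm).1) hmc⟩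

end CfsgLib.Solvable
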