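import Cfsg.Agent.Lib.Solvable.FrobeniusConj

/-!
Subgroups of order dividing that of a Frobenius complement are conjugate into it.
-/

set_option autoImplicit false

open scoped Pointwise

namespace CfsgLib.Solvable

variable {G : Type*} [Group G] [Finite G]

theorem frobenius_mem_conj_of_order {H : Subgroup G} (hH : Cfsg.IsFrobeniusComplement H) {x : G}
    (hx1 : x ≠ 1) (hx : orderOf x ∣ Nat.card H) : ∃ g : G, x ∈ MulAut.conj g • H := by
  obtain ⟨q, hq, hqx⟩ := Nat.exists_prime_and_dvd fun h => hx1 (orderOf_eq_one_iff.1 h)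
  haveI : Fact q.Prime := ⟨hq⟩
  set z := x ^ (orderOf x / q) with hz
  have hzo : orderOf z = q := orderOf_pow_orderOf_div (orderOf_pos x).ne' hqx
  have hP : IsPGroup q (Subgroup.zpowers z) :=
    IsPGroup.of_card (n := 1) (by rw [Nat.card_zpowers, hzo, pow_one])
  have hnd : ¬ q ∣ Nat.card (G ⧸ H) := by
    rw [← Subgroup.index_eq_card]
    intro hd
    obtain ⟨c, hc⟩ := hqx.trans hx
    have h1 := index_mod_card hH
    have h2 : H.index % q = 1 % q := by
      rw [← Nat.mod_mod_of_dvd H.index ⟨c, hc⟩, h1, Nat.mod_mod_of_dvd 1 ⟨c, hc⟩]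
    rw [Nat.mod_eq_zero_of_dvd hd, Nat.mod_eq_of_lt hq.one_lt] at h2
    exact zero_ne_one h2
  obtain ⟨w, hw⟩ := hP.nonempty_fixed_point_of_prime_not_dvd_card (G ⧸ H) hnd
  obtain ⟨g, rfl⟩ := QuotientGroup.mk_surjective w
  have h3 : ((z * g : G) : G ⧸ H) = (g : G ⧸ H) := hw ⟨z, Subgroup.mem_zpowers z⟩
  rw [QuotientGroup.eq] at h3
  have hzg : z ∈ MulAut.conj g • H := mem_conj_smul_iff.2 (by
    simpa [mul_assoc] using inv_mem h3)
  refine ⟨g, frobenius_mem_of_commute (frobenius_conj_smul hH g) hzg (fun h => ?_) ?_⟩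
  · rw [h, orderOf_one] at hzo
    exact hq.one_lt.ne hzo
  · rw [hz, ← pow_succ, ← pow_succ']

theorem isFrobeniusComplement_subgroupOf_inf {H L : Subgroup G}
    (hH : Cfsg.IsFrobeniusComplement H) (hne : L ⊓ H ≠ ⊥) (hnle : ¬ L ≤ H) :
    Cfsg.IsFrobeniusComplement (H.subgroupOf L) := by
  refine ⟨?_, ?_, fun c hc => ?_⟩
  · rw [Ne, Subgroup.subgroupOf_eq_bot, disjoint_iff, inf_comm]; exact hne
  · rw [Ne, Subgroup.subgroupOf_eq_top]; exact hnle
  · refine (Subgroup.eq_bot_iff_forall _).2 fun x hx => Subtype.ext ?_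
    have h1 : (x : G) ∈ H ⊓ MulAut.conj (c : G) • H :=
      ⟨Subgroup.mem_subgroupOf.1 hx.1, mem_conj_smul_iff.2
        (Subgroup.mem_subgroupOf.1 (mem_conj_smul_iff.1 hx.2) : ((c⁻¹ * x * c : L) : G) ∈ H)⟩
    rw [hH.2.2 (c : G) (fun h => hc h), Subgroup.mem_bot] at h1
    simpa using h1

theorem frobenius_subgroup_conj {H L : Subgroup G} (hH : Cfsg.IsFrobeniusComplement H)
    (hL : Nat.card L ∣ Nat.card H) : ∃ x : G, L ≤ MulAut.conj x • H := by
  by_contra hcon
  push Not at hcon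
  have hmem : ∀ y : L, y ≠ 1 → ∃ g : G, (y : G) ∈ MulAut.conj g • H := fun y hy =>
    frobenius_mem_conj_of_order hH (fun h => hy (Subtype.ext h))
      ((Subgroup.orderOf_coe y).symm ▸ (orderOf_dvd_natCard y).trans hL)
  by_cases hL1 : L = ⊥
  · exact hcon 1 (hL1 ▸ bot_le)
  obtain ⟨y₀, hy₀L, hy₀⟩ := (Subgroup.bot_or_exists_ne_one L).resolve_left hL1
  obtain ⟨g, hg⟩ := hmem ⟨y₀, hy₀L⟩ fun h => hy₀ (congrArg Subtype.val h)
  have hfr : ∀ (g : G) (y : L), y ≠ 1 → (y : G) ∈ MulAut.conj g • H →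
      Cfsg.IsFrobeniusComplement ((MulAut.conj g • H).subgroupOf L) := fun g y hy hyg =>
    isFrobeniusComplement_subgroupOf_inf (frobenius_conj_smul hH g) (fun h => hy (Subtype.ext (by
      rw [Subgroup.coe_one, ← Subgroup.mem_bot, ← h]; exact ⟨y.2, hyg⟩))) (hcon g)
  have hD := hfr g ⟨y₀, hy₀L⟩ (fun h => hy₀ (congrArg Subtype.val h)) hg
  set D := (MulAut.conj g • H).subgroupOf L with hDdef
  have hker : Cfsg.frobeniusKernel D = {1} := by
    ext y
    refine ⟨fun hy => ?_, fun hy => Or.inl hy⟩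
    by_contra hy1
    obtain ⟨a, ha⟩ := hmem y hy1
    obtain ⟨c, hc⟩ := frobenius_conjugate hD (hfr a y hy1 ha)
    have h1 : c * y * c⁻¹ ∈ D := by
      rw [← hc]
      exact mem_conj_smul_iff.2 (by simpa [mul_assoc] using Subgroup.mem_subgroupOf.2 ha)
    rcases mem_frobeniusKernel_iff.1 hy with h | h
    · exact hy1 h
    · exact h c⁻¹ (by simpa using h1)
  have h1 := card_frobeniusKernel hD
  rw [hker, Nat.card_coe_set_eq, Set.ncard_singleton] at h1
  exact hD.2.1 (Subgroup.index_eq_one.1 h1.symm)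

end CfsgLib.Solvable
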