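import Cfsg.Agent.Lib.Solvable.MinimalNormal
import Cfsg.Agent.Lib.Solvable.FrobeniusTheorem
import Cfsg.Agent.Lib.Solvable.FrobeniusSubgroup

/-!
Groups with an abelian maximal subgroup.
-/

set_option autoImplicit false

open scoped Pointwise
open scoped commutatorElement

namespace CfsgLib.Solvable

theorem derivedSeries_two_of_frobenius_coatom {G : Type*} [Group G] [Finite G] {A : Subgroup G}
    (hA : IsCoatom A) (hAc : ∀ x ∈ A, ∀ y ∈ A, x * y = y * x)
    (hF : Cfsg.IsFrobeniusComplement A) : derivedSeries G 2 = ⊥ := by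
  obtain ⟨N, -, hNn, hc⟩ := frobenius_theorem hF
  have hcard : Nat.card N * Nat.card A = Nat.card G := hc.card_mul
  have hNbot : N ≠ ⊥ := by
    rintro rfl
    exact hA.1 (by simpa using hc.sup_eq_top)
  obtain ⟨p, hp, hpN⟩ := Nat.exists_prime_and_dvd
    (n := Nat.card N) (fun h => hNbot (Subgroup.eq_bot_of_card_eq _ h))
  have := Fact.mk hp
  obtain ⟨P⟩ : Nonempty (Sylow p N) := Sylow.nonempty
  have hFr := Sylow.normalizer_sup_eq_top P
  set P' : Subgroup G := (P : Subgroup N).map N.subtype
  have hP'N : P' ≤ N := Subgroup.map_subtype_le _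
  set L := Subgroup.normalizer (P' : Set G)
  have hLN : L ⊔ N = ⊤ := hFr
  -- a complement to `N ⊓ L` in `L`
  have hidx : (N.subgroupOf L).index = Nat.card A := by
    have h1 : (N.subgroupOf L).index = N.index := by
      have h2 := Subgroup.relIndex_sup_right (H := L) (K := N)
      rw [hLN, Subgroup.relIndex_top_right] at h2
      exact h2.symm
    rw [h1, hc.symm.index_eq_card]
  have hcopNA : (Nat.card N).Coprime (Nat.card A) := by
    have h1 := index_mod_card hF
    rw [hc.index_eq_card] at h1
    exact Nat.Coprime.symm (by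
      rw [Nat.coprime_iff_gcd_eq_one, Nat.gcd_rec, h1, Nat.gcd_comm]
      rcases Nat.lt_or_ge 1 (Nat.card A) with h | h
      · rw [Nat.mod_eq_of_lt h]; exact Nat.gcd_one_right _
      · exfalso
        have : Nat.card A ≠ 1 := fun h' => hF.1 (Subgroup.eq_bot_of_card_eq _ h')
        have := Nat.card_pos (α := A)
        omega)
  have hcop : (Nat.card (N.subgroupOf L)).Coprime (N.subgroupOf L).index := by
    rw [hidx]
    refine hcopNA.coprime_dvd_left ?_
    rw [← Subgroup.card_map_of_injective (f := L.subtype) Subtype.val_injective,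
      Subgroup.subgroupOf_map_subtype]
    exact Subgroup.card_dvd_of_le inf_le_left
  obtain ⟨C, hC⟩ := Subgroup.exists_left_complement'_of_coprime hcop
  set C' : Subgroup G := C.map L.subtype
  have hC'card : Nat.card C' = Nat.card A := by
    rw [Subgroup.card_map_of_injective (f := L.subtype) Subtype.val_injective, ← hidx,
      hC.index_eq_card]
  obtain ⟨x, hx⟩ := frobenius_subgroup_conj hF (L := C') hC'card.dvd
  have hCeq : C' = MulAut.conj x • A :=
    Subgroup.eq_of_le_of_card_ge hx (by rw [card_conj_smul, hC'card])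
  -- a conjugate of the Sylow subgroup normalised by `A`
  set Q : Subgroup G := MulAut.conj x⁻¹ • P'
  have hQN : Q ≤ N := by
    refine (conj_smul_mono _ hP'N).trans (le_of_eq ?_)
    exact conj_smul_self_of_mem_normalizer (by rw [Subgroup.normalizer_eq_top]; trivial)
  have hAQ : A ≤ Subgroup.normalizer (Q : Set G) := by
    intro a ha
    have h1 : x * a * x⁻¹ ∈ L := by
      have : x * a * x⁻¹ ∈ C' := by
        rw [hCeq, mem_conj_smul_iff]
        simpa [mul_assoc] using ha
      exact Subgroup.map_subtype_le _ this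
    refine mem_normalizer_iff_conj_smul.2 ?_
    show MulAut.conj a • (MulAut.conj x⁻¹ • P') = MulAut.conj x⁻¹ • P'
    have h2 := conj_smul_self_of_mem_normalizer h1
    calc MulAut.conj a • (MulAut.conj x⁻¹ • P')
        = MulAut.conj x⁻¹ • (MulAut.conj (x * a * x⁻¹) • P') := by
          rw [conj_smul_conj_smul, conj_smul_conj_smul]; congr 2; group
      _ = _ := by rw [h2]
  have hPG : IsPGroup p P' := P.2.map _
  have hQp : IsPGroup p Q := hPG.map _
  have hQbot : Q ≠ ⊥ := by
    intro h
    have h1 : Nat.card Q = 1 := by rw [h, Subgroup.card_bot]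
    rw [card_conj_smul, Subgroup.card_map_of_injective (f := N.subtype) Subtype.val_injective] at h1
    exact P.ne_bot_of_dvd_card hpN (Subgroup.eq_bot_of_card_eq _ h1)
  have : Nontrivial Q := (Subgroup.nontrivial_iff_ne_bot _).2 hQbot
  set W : Subgroup G := (Subgroup.center Q).map Q.subtype
  have hWbot : W ≠ ⊥ := by
    intro h
    have : Nontrivial (Subgroup.center Q) := hQp.center_nontrivial
    rw [Subgroup.map_eq_bot_iff_of_injective _ Subtype.val_injective] at h
    exact (Subgroup.nontrivial_iff_ne_bot _).1 this h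
  have hWN : W ≤ N := (Subgroup.map_subtype_le _).trans hQN
  have hAW : A ≤ Subgroup.normalizer (W : Set G) := by
    refine le_normalizer_of_conj_mem fun a ha w hw => ?_
    obtain ⟨w, hw, rfl⟩ := hw
    refine ⟨⟨a * w * a⁻¹, normalizer_conj_mem (hAQ ha) w.2⟩, ?_, rfl⟩
    rw [SetLike.mem_coe, Subgroup.mem_center_iff]
    intro q
    have hq : a⁻¹ * q * a ∈ Q := by
      simpa using normalizer_conj_mem (hAQ (A.inv_mem ha)) q.2
    have := congrArg Subtype.val (Subgroup.mem_center_iff.1 hw ⟨_, hq⟩)
    simp only [Subgroup.coe_mul] at this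
    apply Subtype.ext
    simp only [Subgroup.coe_mul]
    calc (q : G) * (a * w * a⁻¹) = a * ((a⁻¹ * q * a) * w) * a⁻¹ := by group
      _ = a * (w * (a⁻¹ * q * a)) * a⁻¹ := by rw [this]
      _ = a * w * a⁻¹ * q := by group
  have hd : N ⊓ A = ⊥ := disjoint_iff.1 hc.disjoint
  have hdW : W ⊓ A = ⊥ := eq_bot_iff.2 ((inf_le_inf_right _ hWN).trans hd.le)
  have htop : W ⊔ A = ⊤ := by
    refine hA.2 _ (lt_of_le_of_ne le_sup_right fun h => hWbot ?_)
    rw [← hdW, eq_comm, inf_eq_left, h]
    exact le_sup_left
  have hWeq : W = N := by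
    refine Subgroup.eq_of_le_of_card_ge hWN ?_
    have h1 := card_sup_of_disjoint hAW hdW
    rw [htop, Subgroup.card_top, ← hcard] at h1
    exact (Nat.eq_of_mul_eq_mul_right Nat.card_pos h1).le
  have hNab : ∀ y ∈ N, ∀ z ∈ N, y * z = z * y := by
    rw [← hWeq]
    rintro _ ⟨y, hy, rfl⟩ _ ⟨z, hz, rfl⟩
    exact congrArg Subtype.val (Subgroup.mem_center_iff.1 hz y)
  have h1 : derivedSeries G 1 ≤ N := by
    rw [derivedSeries_one, commutator_def, Subgroup.commutator_le]
    intro g _ h _
    have key : ∀ g : G, ∃ a ∈ A, QuotientGroup.mk' N g = QuotientGroup.mk' N a := fun g => by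
      obtain ⟨m, hm, a, ha, rfl⟩ := exists_mul_of_mem_sup
        (show A ≤ Subgroup.normalizer (N : Set G) by rw [Subgroup.normalizer_eq_top]; exact le_top)
        (g := g) (by rw [hc.sup_eq_top]; trivial)
      exact ⟨a, ha, by rw [map_mul, (QuotientGroup.eq_one_iff m).2 hm |> fun h =>
        (show QuotientGroup.mk' N m = 1 from h), one_mul]⟩
    obtain ⟨a, ha, ea⟩ := key g
    obtain ⟨b, hb, eb⟩ := key h
    rw [← QuotientGroup.eq_one_iff, ← QuotientGroup.mk'_apply, map_commutatorElement, ea, eb,
      commutatorElement_eq_one_iff_mul_comm, ← map_mul, ← map_mul, hAc a ha b hb]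
  rw [derivedSeries_succ, eq_bot_iff]
  refine (Subgroup.commutator_mono h1 h1).trans ?_
  rw [le_bot_iff, Subgroup.commutator_eq_bot_iff_le_centralizer]
  exact fun y hy => Subgroup.mem_centralizer_iff.2 fun z hz => hNab z hz y hy

theorem derivedSeries_three_of_abelian_coatom {G : Type*} [Group G] [Finite G] {A : Subgroup G}
    (hA : IsCoatom A) (hAc : ∀ x ∈ A, ∀ y ∈ A, x * y = y * x) : derivedSeries G 3 = ⊥ := by
  by_cases hAn : A.Normal
  · have h1 : derivedSeries G 1 ≤ A := by
      rw [derivedSeries_one, commutator_def, Subgroup.commutator_le]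
      intro g _ h _
      let π := QuotientGroup.mk' A
      by_cases hg : g ∈ A
      · rw [← QuotientGroup.eq_one_iff, ← QuotientGroup.mk'_apply, map_commutatorElement,
          (QuotientGroup.eq_one_iff g).2 hg |> fun h => (show QuotientGroup.mk' A g = 1 from h),
          commutatorElement_one_left]
      · have htop : A ⊔ Subgroup.zpowers g = ⊤ := hA.2 _ (lt_of_le_of_ne le_sup_left fun e =>
          hg (e.symm.le (Subgroup.mem_sup_right (Subgroup.mem_zpowers g))))
        obtain ⟨a, ha, y, hy, rfl⟩ := exists_mul_of_mem_sup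
          (show Subgroup.zpowers g ≤ Subgroup.normalizer (A : Set G) by
            rw [Subgroup.normalizer_eq_top]; exact le_top)
          (g := h) (by rw [htop]; trivial)
        obtain ⟨k, rfl⟩ := Subgroup.mem_zpowers_iff.1 hy
        rw [← QuotientGroup.eq_one_iff, ← QuotientGroup.mk'_apply, map_commutatorElement, map_mul,
          (QuotientGroup.eq_one_iff a).2 ha |> fun h => (show QuotientGroup.mk' A a = 1 from h),
          one_mul, map_zpow, commutatorElement_eq_one_iff_mul_comm]
        exact (Commute.self_zpow _ k).eq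
    rw [eq_bot_iff]
    refine (derivedSeries_antitone G (by omega : 2 ≤ 3)).trans ?_
    rw [derivedSeries_succ]
    refine (Subgroup.commutator_mono h1 h1).trans ?_
    rw [le_bot_iff, Subgroup.commutator_eq_bot_iff_le_centralizer]
    exact fun y hy => Subgroup.mem_centralizer_iff.2 fun z hz => hAc z hz y hy
  · have hNA : Subgroup.normalizer (A : Set G) = A := by
      rcases hA.le_iff.1 (Subgroup.le_normalizer (H := A)) with h | h
      · exact absurd (Subgroup.normalizer_eq_top_iff.1 h) hAn
      · exact h
    set Z := Subgroup.center G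
    have hZA : Z ≤ A := by
      intro z hz
      rw [← hNA]
      exact Subgroup.mem_normalizer_iff.2 fun y => by
        rw [← Subgroup.mem_center_iff.1 hz y, mul_inv_cancel_right]
    let π := QuotientGroup.mk' Z
    have hπ : Function.Surjective π := QuotientGroup.mk'_surjective Z
    have hco : (A.map π).comap π = A := by
      rw [Subgroup.comap_map_eq, QuotientGroup.ker_mk', sup_eq_left.2 hZA]
    have hA' : IsCoatom (A.map π) := by
      constructor
      · intro h
        apply hA.1
        rw [← hco, h, Subgroup.comap_top]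
      · intro K hK
        have h2 := hA.2 (K.comap π) (lt_of_le_of_ne (hco ▸ Subgroup.comap_mono hK.le) fun h => by
          refine hK.ne ?_
          rw [h, Subgroup.map_comap_eq_self_of_surjective hπ])
        rw [← Subgroup.map_comap_eq_self_of_surjective hπ K, h2, Subgroup.map_top_of_surjective π hπ]
    have hAc' : ∀ x ∈ A.map π, ∀ y ∈ A.map π, x * y = y * x := by
      rintro _ ⟨x, hx, rfl⟩ _ ⟨y, hy, rfl⟩
      rw [← map_mul, ← map_mul, hAc x hx y hy]
    have hF : Cfsg.IsFrobeniusComplement (A.map π) := by
      refine ⟨fun h => hAn ?_, hA'.1, fun g hg => ?_⟩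
      · have : A = Z := by
          rw [← hco, h, MonoidHom.comap_bot, QuotientGroup.ker_mk']
        rw [this]
        infer_instance
      · obtain ⟨g, rfl⟩ := hπ g
        have hgA : g ∉ A := fun h => hg ⟨g, h, rfl⟩
        rw [Subgroup.eq_bot_iff_forall]
        rintro w ⟨hw1, hw2⟩
        obtain ⟨a, ha, rfl⟩ := hw1
        replace hw2 := mem_conj_smul_iff.1 hw2
        rw [← map_inv, ← map_mul, ← map_mul] at hw2
        have hga : g⁻¹ * a * g ∈ A := hco.le hw2
        refine (QuotientGroup.eq_one_iff a).2 ?_
        have hge : A < A ⊔ MulAut.conj g • A := by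
          refine lt_of_le_of_ne le_sup_left fun e => hgA ?_
          rw [← hNA]
          refine mem_normalizer_iff_conj_smul.2 ?_
          exact conj_smul_eq_of_le (le_sup_right.trans e.symm.le) le_rfl
        have htop := hA.2 _ hge
        have hle : A ⊔ MulAut.conj g • A ≤ Subgroup.centralizer ({a} : Set G) := by
          refine sup_le (fun y hy => Subgroup.mem_centralizer_singleton_iff.2 (hAc y hy a ha))
            fun y hy => Subgroup.mem_centralizer_singleton_iff.2 ?_
          rw [mem_conj_smul_iff] at hy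
          have h3 := hAc _ hy _ hga
          calc y * a = g * ((g⁻¹ * y * g) * (g⁻¹ * a * g)) * g⁻¹ := by group
            _ = g * ((g⁻¹ * a * g) * (g⁻¹ * y * g)) * g⁻¹ := by rw [h3]
            _ = a * y := by group
        rw [htop] at hle
        exact Subgroup.mem_center_iff.2 fun y =>
          Subgroup.mem_centralizer_singleton_iff.1 (hle (Subgroup.mem_top y))
    have h2 := derivedSeries_two_of_frobenius_coatom hA' hAc' hF
    rw [← map_derivedSeries_eq hπ, Subgroup.map_eq_bot_iff, QuotientGroup.ker_mk'] at h2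
    rw [derivedSeries_succ, eq_bot_iff]
    refine (Subgroup.commutator_mono h2 h2).trans ?_
    rw [le_bot_iff, Subgroup.commutator_eq_bot_iff_le_centralizer]
    exact fun y _ => Subgroup.mem_centralizer_iff.2 fun z hz =>
      (Subgroup.mem_center_iff.1 hz y).symm

end CfsgLib.Solvable
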