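import Cfsg.Agent.Lib.Solvable.SchurZassenhaus
import Mathlib.GroupTheory.Complement

/-!
Gaschütz's theorem on complements of abelian normal subgroups.
-/

set_option autoImplicit false

open scoped Pointwise

namespace CfsgLib.Solvable

variable {G : Type*} [Group G] [Finite G]

theorem gaschutz_exists (K U : Subgroup G) [K.Normal] (hKc : ∀ x ∈ K, ∀ y ∈ K, x * y = y * x)
    (hKU : K ≤ U) (hcop : (Nat.card K).Coprime U.index)
    (A : Subgroup G) (hAU : A ≤ U) (hAK : A ⊓ K = ⊥) (hKA : K ⊔ A = U) :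
    ∃ H : Subgroup G, Subgroup.IsComplement' K H := by
  classical
  letI : CommGroup K := { (inferInstance : Group K) with
    mul_comm := fun x y => Subtype.ext (hKc _ x.2 _ y.2) }
  have hKn : ∀ g : G, ∀ k ∈ K, g * k * g⁻¹ ∈ K := fun g k hk =>
    (inferInstance : K.Normal).conj_mem k hk g
  -- decompose `y = t * a * k`
  have hdec : ∀ y : G, ∃ k : K, ∃ a ∈ A, y = (y : G ⧸ U).out * a * (k : G) := by
    intro y
    have hu : ((y : G ⧸ U).out)⁻¹ * y ∈ K ⊔ A := by
      rw [hKA]; exact QuotientGroup.eq.1 (QuotientGroup.out_eq' _)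
    obtain ⟨k', hk', a, ha, e⟩ := exists_mul_of_mem_sup (Subgroup.normalizer_eq_top K ▸ le_top) hu
    refine ⟨⟨a⁻¹ * k' * a, by simpa using hKn a⁻¹ k' hk'⟩, a, ha, ?_⟩
    show y = (y : G ⧸ U).out * a * (a⁻¹ * k' * a)
    have : (y : G ⧸ U).out * (((y : G ⧸ U).out)⁻¹ * y) = y := by group
    conv_lhs => rw [← this, e]
    group
  choose k a ha hk using hdec
  have huniq : ∀ (y : G) (b : G) (l : K), b ∈ A → y = (y : G ⧸ U).out * b * (l : G) → k y = l := by
    intro y b l hb h
    have h' : a y * (k y : G) = b * (l : G) :=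
      mul_left_cancel (a := (y : G ⧸ U).out) (by rw [← mul_assoc, ← mul_assoc, ← hk y, ← h])
    have h2 : b⁻¹ * a y ∈ A ⊓ K := by
      refine ⟨A.mul_mem (A.inv_mem hb) (ha y), ?_⟩
      have h3 : b⁻¹ * a y = (l : G) * (k y : G)⁻¹ := by
        calc b⁻¹ * a y = b⁻¹ * (a y * (k y : G)) * (k y : G)⁻¹ := by group
          _ = _ := by rw [h']; group
      rw [h3]; exact K.mul_mem l.2 (K.inv_mem (k y).2)
    rw [hAK, Subgroup.mem_bot, inv_mul_eq_one] at h2
    rw [← h2] at h'
    exact Subtype.ext (mul_left_cancel h')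
  let E : G → K := fun y => ⟨y * k y * y⁻¹, hKn y _ (k y).2⟩
  let conjK : G → K →* K := fun g =>
    { toFun := fun x => ⟨g * x * g⁻¹, hKn g _ x.2⟩
      map_one' := Subtype.ext (by simp)
      map_mul' := fun x y => Subtype.ext (by simp [mul_assoc]) }
  have hconj : ∀ (g h : G) (x : K), conjK g (conjK h x) = conjK (g * h) x := fun g h x =>
    Subtype.ext (by simp [conjK, mul_assoc])
  have hEA : ∀ y : G, ∀ b ∈ A, E (y * b) = E y := by
    intro y b hb
    have hq : ((y * b : G) : G ⧸ U) = (y : G ⧸ U) :=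
      (QuotientGroup.eq.2 (by simpa using hAU hb)).symm
    have hkb : k (y * b) = conjK b⁻¹ (k y) := huniq (y * b) (a y * b) _ (mul_mem (ha y) hb) (by
      rw [hq]
      conv_lhs => rw [hk y]
      show _ = _ * (b⁻¹ * (k y : G) * b⁻¹⁻¹)
      group)
    refine Subtype.ext ?_
    show y * b * (k (y * b) : G) * (y * b)⁻¹ = y * k y * y⁻¹
    rw [hkb]
    show y * b * (b⁻¹ * (k y : G) * b⁻¹⁻¹) * (y * b)⁻¹ = _
    group
  have hEK : ∀ (y : G) (x : K), E (y * x) = E y * conjK y x := by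
    intro y x
    have hq : ((y * x : G) : G ⧸ U) = (y : G ⧸ U) :=
      (QuotientGroup.eq.2 (by simpa using hKU x.2)).symm
    have hkx : k (y * x) = k y * x := huniq (y * x) (a y) _ (ha y) (by
      rw [hq, Subgroup.coe_mul, ← mul_assoc, ← hk y])
    refine Subtype.ext ?_
    show y * x * (k (y * x) : G) * (y * x)⁻¹ = y * k y * y⁻¹ * (y * x * y⁻¹)
    rw [hkx, Subgroup.coe_mul]
    calc y * x * ((k y : G) * x) * (y * x)⁻¹ = y * ((x : G) * (k y : G)) * y⁻¹ := by group
      _ = _ := by rw [hKc _ x.2 _ (k y).2]; group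
  -- the cocycle
  let c : G → G → K := fun g y => E (g * y) * (conjK g (E y))⁻¹
  have hcU : ∀ g y : G, ∀ u ∈ U, c g (y * u) = c g y := by
    intro g y u hu
    obtain ⟨x, hx, b, hb, rfl⟩ :=
      exists_mul_of_mem_sup (Subgroup.normalizer_eq_top K ▸ le_top) (hKA.ge hu)
    simp only [c, ← mul_assoc, hEA _ b hb]
    rw [show g * y * x = g * y * ((⟨x, hx⟩ : K) : G) from rfl,
      show y * x = y * ((⟨x, hx⟩ : K) : G) from rfl, hEK, hEK, map_mul, hconj]
    exact mul_div_mul_right_eq_div _ _ _ |> (fun e => by simpa only [div_eq_mul_inv] using e)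
  have := Fintype.ofFinite (G ⧸ U)
  let C : G → K := fun g => ∏ q : G ⧸ U, c g q.out
  have hC : ∀ g h : G, C (g * h) = C g * conjK g (C h) := by
    intro g h
    have h1 : ∀ q : G ⧸ U, c (g * h) q.out = c g (h • q).out * conjK g (c h q.out) := by
      intro q
      have hq : ((h • q).out : G)⁻¹ * (h * q.out) ∈ U := by
        refine QuotientGroup.eq.1 ?_
        rw [QuotientGroup.out_eq']
        conv_lhs => rw [← QuotientGroup.out_eq' q]
        rfl
      have e : c g (h • q).out = c g (h * q.out) := by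
        rw [← hcU g _ _ hq, mul_inv_cancel_left]
      rw [e]
      simp only [c, map_mul, map_inv, hconj, ← mul_assoc]
      rw [inv_mul_cancel_right]
    show ∏ q : G ⧸ U, c (g * h) q.out = _
    rw [Finset.prod_congr rfl fun q _ => h1 q, Finset.prod_mul_distrib, ← map_prod]
    congr 1
    exact Fintype.prod_equiv (MulAction.toPerm h) _ _ fun _ => rfl
  have hCK : ∀ x : K, C x = x ^ U.index := by
    intro x
    have h1 : ∀ y : G, c x y = x := by
      intro y
      have e : (x : G) * y = y * ((conjK y⁻¹ x : K) : G) := by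
        show _ = y * (y⁻¹ * (x : G) * y⁻¹⁻¹); group
      have e2 : conjK (x : G) (E y) = E y := Subtype.ext (by
        show (x : G) * (E y : G) * (x : G)⁻¹ = _
        rw [hKc _ x.2 _ (E y).2, mul_inv_cancel_right])
      simp only [c]
      rw [e, hEK, hconj, e2, mul_inv_cancel_comm]
      exact Subtype.ext (by simp [conjK])
    show ∏ q : G ⧸ U, c x q.out = _
    simp only [h1, Finset.prod_const, Finset.card_univ, Subgroup.index, Nat.card_eq_fintype_card]
  have hC1 : C 1 = 1 := by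
    have := hC 1 1
    rw [one_mul, show conjK 1 (C 1) = C 1 from Subtype.ext (by simp [conjK])] at this
    exact mul_eq_left.1 this.symm
  let H : Subgroup G :=
    { carrier := {g | C g = 1}
      one_mem' := hC1
      mul_mem' := fun {g h} hg hh => by
        show C (g * h) = 1
        rw [hC, show C g = 1 from hg, show C h = 1 from hh, map_one, mul_one]
      inv_mem' := fun {g} hg => by
        show C g⁻¹ = 1
        have := hC g⁻¹ g
        rwa [inv_mul_cancel, hC1, show C g = 1 from hg, map_one, mul_one, eq_comm] at this }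
  have hdisj : Disjoint K H := by
    rw [disjoint_iff, Subgroup.eq_bot_iff_forall]
    rintro x ⟨hxK, hxH⟩
    have h1 : (⟨x, hxK⟩ : K) ^ U.index = 1 := (hCK ⟨x, hxK⟩).symm.trans hxH
    have : (⟨x, hxK⟩ : K) = 1 := orderOf_eq_one_iff.1 (Nat.eq_one_of_dvd_coprimes hcop
      (orderOf_dvd_natCard _) (orderOf_dvd_iff_pow_eq_one.2 h1))
    exact congrArg Subtype.val this
  refine ⟨H, Subgroup.isComplement'_of_disjoint_and_mul_eq_univ hdisj
    (Set.eq_univ_of_forall fun g => ?_)⟩
  obtain ⟨x, hx⟩ := (powCoprime hcop).surjective (C g)⁻¹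
  have hx' : x ^ U.index = (C g)⁻¹ := hx
  refine Set.mem_mul.2 ⟨(x⁻¹ : K), (x⁻¹).2, (x : G) * g, ?_, by simp⟩
  show C ((x : G) * g) = 1
  rw [hC, hCK, hx', show conjK (x : G) (C g) = C g from Subtype.ext (by
    show (x : G) * (C g : G) * (x : G)⁻¹ = _
    rw [hKc _ x.2 _ (C g).2, mul_inv_cancel_right]), inv_mul_cancel]

theorem gaschutz_conjugate (K U : Subgroup G) [K.Normal] (hKc : ∀ x ∈ K, ∀ y ∈ K, x * y = y * x)
    (hKU : K ≤ U) (hcop : (Nat.card K).Coprime U.index)
    (H₀ H₁ : Subgroup G) (h₀ : Subgroup.IsComplement' K H₀) (h₁ : Subgroup.IsComplement' K H₁)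
    (hU : H₀ ⊓ U = H₁ ⊓ U) : ∃ g : G, MulAut.conj g • H₀ = H₁ := by
  have hn : ∀ B : Subgroup G, B ≤ Subgroup.normalizer (K : Set G) := fun B =>
    Subgroup.normalizer_eq_top K ▸ le_top
  have hidx : (H₀ ⊓ U).relIndex H₀ = U.index := by
    have h1 : K ⊔ (H₀ ⊓ U) = U := by
      refine le_antisymm (sup_le hKU inf_le_right) fun u hu => ?_
      obtain ⟨⟨⟨x, hx⟩, ⟨h, hh⟩⟩, e⟩ := h₀.2 u
      obtain rfl : x * h = u := e
      refine mul_mem (Subgroup.mem_sup_left hx) (Subgroup.mem_sup_right ⟨hh, ?_⟩)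
      simpa using mul_mem (inv_mem (hKU hx)) hu
    have hU1 : Nat.card U = Nat.card K * Nat.card (H₀ ⊓ U : Subgroup G) := by
      conv_lhs => rw [← h1]
      exact card_sup_of_disjoint (hn _) (eq_bot_mono (inf_le_inf_left K inf_le_left)
        h₀.disjoint.eq_bot)
    have h2 : Nat.card (H₀ ⊓ U : Subgroup G) * (H₀ ⊓ U).relIndex H₀ = Nat.card H₀ := by
      rw [Subgroup.relIndex, ← Nat.card_congr (Subgroup.subgroupOfEquivOfLe
        (inf_le_left : H₀ ⊓ U ≤ H₀)).toEquiv, Subgroup.card_mul_index]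
    have h3 := U.card_mul_index
    rw [← h₀.card_mul, hU1, ← h2, mul_assoc] at h3
    exact (Nat.eq_of_mul_eq_mul_left Nat.card_pos (Nat.eq_of_mul_eq_mul_left Nat.card_pos h3)).symm
  obtain ⟨t, -, ht⟩ := exists_conj_mem_of_abelian_section K ⊥ bot_le
    (le_normalizer_of_conj_mem fun a _ x hx => by
      rw [Subgroup.mem_bot] at hx ⊢; simp [hx])
    (fun a ha b hb => by
      rw [Subgroup.mem_bot, commutatorElement_eq_one_iff_mul_comm]; exact hKc a ha b hb)
    H₀ H₁ (H₀ ⊓ U) (hn _)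
    (le_normalizer_of_conj_mem fun a _ x hx => by
      rw [Subgroup.mem_bot] at hx ⊢; simp [hx])
    bot_le h₁.disjoint.le_bot
    (fun x _ => by
      obtain ⟨⟨⟨y, hy⟩, ⟨h, hh⟩⟩, e⟩ := h₁.2 x
      obtain rfl : y * h = x := e
      exact ⟨y⁻¹, inv_mem hy, by simpa using hh⟩)
    inf_le_left (hU.le.trans inf_le_left) (hidx.symm ▸ hcop)
  refine ⟨t, conj_smul_eq_of_le (conj_smul_le_iff.2 ht) (le_of_eq ?_)⟩
  exact Nat.eq_of_mul_eq_mul_left (Nat.card_pos (α := K)) (h₁.card_mul.trans h₀.card_mul.symm)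

end CfsgLib.Solvable
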