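import Cfsg.Prelude.Def_SolvableStructure
import Cfsg.Agent.Lib.Solvable.MinimalNormal
import Cfsg.Agent.Lib.Solvable.MinimalNonNilpotent
import Cfsg.Agent.Lib.Solvable.Nilpotent
import Cfsg.Agent.Lib.Solvable.Hall

/-!
Carter subgroups of finite solvable groups: existence and conjugacy.
-/

set_option autoImplicit false

open scoped Pointwise

namespace CfsgLib.Solvable

universe u

variable {G : Type u} [Group G] [Finite G]

/-- A self-normalising subgroup (relative to a nilpotent overgroup) fills it. -/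
theorem eq_of_self_normalizing {H K : Subgroup G} (hH : Group.IsNilpotent H) (hKH : K ≤ H)
    (h : Subgroup.normalizer (K : Set G) ⊓ H ≤ K) : K = H := by
  haveI := hH
  have h1 : Subgroup.normalizer ((K.subgroupOf H : Subgroup H) : Set H) = K.subgroupOf H := by
    refine le_antisymm (fun x hx => ?_) Subgroup.le_normalizer
    rw [← Subgroup.subgroupOf_normalizer_eq hKH] at hx
    exact h ⟨hx, x.2⟩
  exact le_antisymm hKH (Subgroup.subgroupOf_eq_top.1
    (normalizerCondition_iff_only_full_group_self_normalizing.1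
      Group.normalizerCondition_of_isNilpotent _ h1))

theorem eq_of_carter_le {C D : Subgroup G} (hC : Subgroup.normalizer (C : Set G) = C)
    (hD : Group.IsNilpotent D) (h : C ≤ D) : C = D :=
  eq_of_self_normalizing hD h (inf_le_left.trans hC.le)

theorem isCarter_conj {C : Subgroup G} (hC : Cfsg.IsCarterSubgroup C) (g : G) :
    Cfsg.IsCarterSubgroup (MulAut.conj g • C : Subgroup G) := by
  refine ⟨?_, ?_⟩
  · rw [conj_smul_eq_map]
    exact isNilpotent_map' _ hC.1
  · refine le_antisymm (fun x hx => ?_) Subgroup.le_normalizer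
    rw [mem_normalizer_iff_conj_smul, conj_smul_conj_smul] at hx
    have h1 := congrArg (fun X : Subgroup G => MulAut.conj g⁻¹ • X) hx
    simp only [conj_smul_conj_smul, inv_mul_cancel, map_one, one_smul] at h1
    rw [← mem_normalizer_iff_conj_smul, hC.2] at h1
    rw [mem_conj_smul_iff]
    simpa [mul_assoc] using h1

/-- The conjugacy statement for a given group. -/
abbrev CarterConj (G : Type u) [Group G] : Prop :=
  ∀ C D : Subgroup G, Cfsg.IsCarterSubgroup C → Cfsg.IsCarterSubgroup D →
    ∃ g : G, MulAut.conj g • C = D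

theorem isCarter_subgroupOf {C H : Subgroup G} (hC : Cfsg.IsCarterSubgroup C) (hCH : C ≤ H) :
    Cfsg.IsCarterSubgroup (C.subgroupOf H) := by
  refine ⟨?_, ?_⟩
  · haveI := hC.1
    exact Group.nilpotent_of_mulEquiv (Subgroup.subgroupOfEquivOfLe hCH).symm
  · rw [← Subgroup.subgroupOf_normalizer_eq hCH, hC.2]

theorem exists_conj_mem_of_carterConj {H C D : Subgroup G} (ih : CarterConj H) (hCH : C ≤ H)
    (hDH : D ≤ H) (hC : Cfsg.IsCarterSubgroup (C.subgroupOf H))
    (hD : Cfsg.IsCarterSubgroup (D.subgroupOf H)) : ∃ h ∈ H, MulAut.conj h • C = D := by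
  obtain ⟨h, hh⟩ := ih _ _ hC hD
  refine ⟨h, h.2, ?_⟩
  have := congrArg (Subgroup.map H.subtype) hh
  rwa [map_conj_smul, Subgroup.map_subgroupOf_eq_of_le hCH, Subgroup.map_subgroupOf_eq_of_le hDH]
    at this

/-- The product of a Carter subgroup and a normal subgroup is self-normalising. -/
theorem normalizer_sup_carter {C : Subgroup G} (hC : Cfsg.IsCarterSubgroup C) (N : Subgroup G)
    (ih : C ⊔ N ≠ ⊤ → CarterConj (C ⊔ N : Subgroup G)) :
    Subgroup.normalizer ((C ⊔ N : Subgroup G) : Set G) = C ⊔ N := by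
  by_cases ht : C ⊔ N = ⊤
  · rw [ht]
    exact top_le_iff.1 Subgroup.le_normalizer
  refine le_antisymm (fun g hg => ?_) Subgroup.le_normalizer
  have hle : MulAut.conj g • C ≤ C ⊔ N := by
    refine (conj_smul_mono g (le_sup_left : C ≤ C ⊔ N)).trans ?_
    rw [conj_smul_self_of_mem_normalizer hg]
  obtain ⟨h, hh, e⟩ := exists_conj_mem_of_carterConj (ih ht) le_sup_left hle
    (isCarter_subgroupOf hC le_sup_left) (isCarter_subgroupOf (isCarter_conj hC g) hle)
  have h1 : h⁻¹ * g ∈ Subgroup.normalizer (C : Set G) := by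
    rw [mem_normalizer_iff_conj_smul, ← conj_smul_conj_smul, ← e, conj_smul_conj_smul,
      inv_mul_cancel, map_one, one_smul]
  rw [hC.2] at h1
  simpa using mul_mem hh (Subgroup.mem_sup_left (T := N) h1)

theorem isCarter_map_mk {C : Subgroup G} (hC : Cfsg.IsCarterSubgroup C) (N : Subgroup G)
    [N.Normal] (ih : C ⊔ N ≠ ⊤ → CarterConj (C ⊔ N : Subgroup G)) :
    Cfsg.IsCarterSubgroup (C.map (QuotientGroup.mk' N)) := by
  refine ⟨isNilpotent_map' _ hC.1, ?_⟩
  refine Subgroup.comap_injective (QuotientGroup.mk'_surjective N) ?_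
  rw [Subgroup.comap_normalizer_eq_of_surjective _ (QuotientGroup.mk'_surjective N),
    Subgroup.comap_map_eq, QuotientGroup.ker_mk', normalizer_sup_carter hC N ih]

theorem isNilpotent_of_center_le {N : Subgroup G} [N.Normal] (hN : N ≤ Subgroup.center G)
    (h : Group.IsNilpotent (G ⧸ N)) : Group.IsNilpotent G := by
  haveI := h
  exact Subgroup.isNilpotent_of_ker_le_center (QuotientGroup.mk' N)
    (by rw [QuotientGroup.ker_mk']; exact hN)

theorem le_center_of_commute {N C : Subgroup G} (hc : ∀ x ∈ N, ∀ y ∈ N, x * y = y * x)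
    (htop : N ⊔ C = ⊤) (hC : C ≤ Subgroup.centralizer (N : Set G)) : N ≤ Subgroup.center G := by
  intro x hx
  have h : N ⊔ C ≤ Subgroup.centralizer {x} := sup_le
    (fun y hy => Subgroup.mem_centralizer_iff.2 fun z hz => by
      obtain rfl := Set.mem_singleton_iff.1 hz
      exact hc z hx y hy)
    (fun y hy => Subgroup.mem_centralizer_iff.2 fun z hz => by
      obtain rfl := Set.mem_singleton_iff.1 hz
      exact Subgroup.mem_centralizer_iff.1 (hC hy) z hx)
  rw [htop] at h
  exact Subgroup.mem_center_iff.2 fun y =>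
    (Subgroup.mem_centralizer_iff.1 (h (Subgroup.mem_top y)) x rfl).symm

/-- A subgroup normalised by an abelian normal subgroup and a supplement meets it normally. -/
theorem normal_inf_of_supplement {N C X : Subgroup G} [N.Normal]
    (hc : ∀ x ∈ N, ∀ y ∈ N, x * y = y * x) (htop : N ⊔ C = ⊤)
    (hX : C ≤ Subgroup.normalizer (X : Set G)) : (N ⊓ X).Normal :=
  Subgroup.normalizer_eq_top_iff.1 (top_le_iff.1 (htop.ge.trans
    (sup_le (fun x hx => mem_normalizer_of_conj_mem fun y hy => by
        rwa [hc x hx y hy.1, mul_inv_cancel_right])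
      (le_normalizer_inf (Subgroup.normalizer_eq_top N ▸ le_top) hX))))

theorem normal_subgroupOf_conj {C X : Subgroup G} (hXC : X ≤ C) (hn : (X.subgroupOf C).Normal) :
    C ≤ Subgroup.normalizer (X : Set G) :=
  (Subgroup.normal_subgroupOf_iff_le_normalizer hXC).1 hn

theorem carter_conj_core {N C D : Subgroup G} [N.Normal] (hN : N ≠ ⊥)
    (hmin : ∀ K : Subgroup G, K.Normal → K ≤ N → K = ⊥ ∨ K = N)
    (hc : ∀ x ∈ N, ∀ y ∈ N, x * y = y * x) {p : ℕ} [Fact p.Prime] (hp : IsPGroup p N)
    (hC : Cfsg.IsCarterSubgroup C) (hD : Cfsg.IsCarterSubgroup D) (hCtop : N ⊔ C = ⊤)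
    (hDtop : N ⊔ D = ⊤) : ∃ g : G, MulAut.conj g • C = D := by
  rcases hmin _ (normal_inf_of_supplement hc hCtop Subgroup.le_normalizer) inf_le_left with hCN | hCN
  swap
  · obtain rfl : C = ⊤ := by rw [← hCtop, sup_eq_right.2 (inf_eq_left.1 hCN)]
    exact ⟨1, by rw [map_one, one_smul, ← eq_of_carter_le hD.2 hC.1 le_top]⟩
  rcases hmin _ (normal_inf_of_supplement hc hDtop Subgroup.le_normalizer) inf_le_left with hDN | hDN
  swap
  · obtain rfl : D = ⊤ := by rw [← hDtop, sup_eq_right.2 (inf_eq_left.1 hDN)]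
    exact ⟨1, by rw [map_one, one_smul, eq_of_carter_le hC.2 hD.1 le_top]⟩
  have hnle : ∀ B : Subgroup G, B ≤ Subgroup.normalizer (N : Set G) := fun B =>
    Subgroup.normalizer_eq_top N ▸ le_top
  have hcardC : Nat.card G = Nat.card N * Nat.card C := by
    rw [← card_sup_of_disjoint (hnle C) hCN, hCtop, Subgroup.card_top]
  have hcardD : Nat.card G = Nat.card N * Nat.card D := by
    rw [← card_sup_of_disjoint (hnle D) hDN, hDtop, Subgroup.card_top]
  have hCD : Nat.card C = Nat.card D :=
    Nat.eq_of_mul_eq_mul_left Nat.card_pos (hcardC.symm.trans hcardD)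
  have hncent : ¬ N ≤ Subgroup.center G := fun h => by
    have hle : N ≤ C := hC.2 ▸ le_normalizer_of_conj_mem fun a ha x hx => by
      rwa [← Subgroup.mem_center_iff.1 (h ha) x, mul_inv_cancel_right]
    exact hN (eq_bot_mono (le_inf le_rfl hle) hCN)
  -- some prime other than `p` acts nontrivially on `N`
  have hq : ∃ q : ℕ, q.Prime ∧ q ≠ p ∧ ∃ Q : Sylow q C,
      ¬ (Q : Subgroup C).map C.subtype ≤ Subgroup.centralizer (N : Set G) := by
    by_contra hall
    push Not at hall
    set K := Subgroup.centralizer (N : Set G) with hK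
    haveI : K.Normal := Subgroup.normal_centralizer
    obtain ⟨P⟩ := (inferInstance : Nonempty (Sylow p G))
    have htop : K ⊔ (P : Subgroup G) = ⊤ := eq_top_of_sylow_le fun q hq => by
      haveI : Fact q.Prime := ⟨hq⟩
      by_cases hqp : q = p
      · subst hqp; exact ⟨P, le_sup_right⟩
      obtain ⟨Q⟩ := (inferInstance : Nonempty (Sylow q C))
      refine ⟨Sylow.ofCard ((Q : Subgroup C).map C.subtype) ?_,
        le_sup_of_le_left (hall q hq hqp Q)⟩
      rw [Subgroup.card_subtype, Q.card_eq_multiplicity, hcardC,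
        Nat.factorization_mul Nat.card_pos.ne' Nat.card_pos.ne', Finsupp.add_apply]
      obtain ⟨e, he⟩ := (IsPGroup.iff_card (p := p)).1 hp
      rw [he, (Fact.out : p.Prime).factorization_pow, Finsupp.single_eq_of_ne hqp, zero_add]
    have hNP : N ≤ (P : Subgroup G) := le_sup_right.trans
      (P.3 (IsPGroup.to_sup_of_normal_right P.2 hp) le_sup_left).le
    haveI : Nontrivial (P : Subgroup G) := (Subgroup.nontrivial_iff_ne_bot _).2 fun e =>
      hN (le_bot_iff.1 (e ▸ hNP))
    haveI : Group.IsNilpotent (P : Subgroup G) := P.2.isNilpotent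
    have h1 : N.subgroupOf (P : Subgroup G) ⊓ Subgroup.center (P : Subgroup G) ≠ ⊥ :=
      inf_center_ne_bot_of_isNilpotent (N := N.subgroupOf (P : Subgroup G))
        (by rw [Ne, Subgroup.subgroupOf_eq_bot, disjoint_iff, inf_eq_left.2 hNP]; exact hN)
    refine hncent ?_
    have h2 : N ⊓ Subgroup.center G ≠ ⊥ := fun e => h1 ((Subgroup.eq_bot_iff_forall _).2 fun x hx =>
      Subtype.ext (by
        rw [Subgroup.coe_one, ← Subgroup.mem_bot, ← e]
        refine ⟨hx.1, Subgroup.mem_center_iff.2 fun g => ?_⟩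
        have h : K ⊔ (P : Subgroup G) ≤ Subgroup.centralizer {(x : G)} := sup_le
          (fun y hy => Subgroup.mem_centralizer_iff.2 fun z hz => by
            obtain rfl := Set.mem_singleton_iff.1 hz
            exact Subgroup.mem_centralizer_iff.1 hy _ hx.1)
          (fun y hy => Subgroup.mem_centralizer_iff.2 fun z hz => by
            obtain rfl := Set.mem_singleton_iff.1 hz
            exact (congrArg Subtype.val (Subgroup.mem_center_iff.1 hx.2 ⟨y, hy⟩)).symm)
        rw [htop] at h
        exact (Subgroup.mem_centralizer_iff.1 (h (Subgroup.mem_top g)) _ rfl).symm))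
    exact inf_eq_left.1 ((hmin _ inferInstance inf_le_left).resolve_left h2)
  obtain ⟨q, hq, hqp, Q, hQ⟩ := hq
  haveI : Fact q.Prime := ⟨hq⟩
  haveI := hC.1
  haveI := hD.1
  obtain ⟨R⟩ := (inferInstance : Nonempty (Sylow q D))
  have hmult : ∀ E : Subgroup G, Nat.card G = Nat.card N * Nat.card E →
      (Nat.card E).factorization q = (Nat.card G).factorization q := by
    intro E hE
    obtain ⟨e, he⟩ := (IsPGroup.iff_card (p := p)).1 hp
    rw [hE, Nat.factorization_mul Nat.card_pos.ne' Nat.card_pos.ne', Finsupp.add_apply, he,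
      (Fact.out : p.Prime).factorization_pow, Finsupp.single_eq_of_ne hqp, zero_add]
  set Q' := (Q : Subgroup C).map C.subtype with hQ'
  set R' := (R : Subgroup D).map D.subtype with hR'
  have hnQ : C ≤ Subgroup.normalizer (Q' : Set G) := by
    have hn : (Q : Subgroup C).Normal := Sylow.normal_of_normalizerCondition
      Group.normalizerCondition_of_isNilpotent Q
    refine normal_subgroupOf_conj (Subgroup.map_subtype_le _) ?_
    rwa [hQ', Subgroup.subgroupOf, Subgroup.comap_map_eq_self_of_injective C.subtype_injective]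
  have hnR : D ≤ Subgroup.normalizer (R' : Set G) := by
    have hn : (R : Subgroup D).Normal := Sylow.normal_of_normalizerCondition
      Group.normalizerCondition_of_isNilpotent R
    refine normal_subgroupOf_conj (Subgroup.map_subtype_le _) ?_
    rwa [hR', Subgroup.subgroupOf, Subgroup.comap_map_eq_self_of_injective D.subtype_injective]
  let S₁ : Sylow q G := Sylow.ofCard Q'
    (by rw [hQ', Subgroup.card_subtype, Q.card_eq_multiplicity, hmult C hcardC])
  let S₂ : Sylow q G := Sylow.ofCard R'
    (by rw [hR', Subgroup.card_subtype, R.card_eq_multiplicity, hmult D hcardD])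
  obtain ⟨g, hg⟩ := MulAction.exists_smul_eq G S₁ S₂
  have hg' : MulAut.conj g • Q' = R' := by
    rw [show (R' : Subgroup G) = ((g • S₁ : Sylow q G) : Subgroup G) by rw [hg]; rfl,
      Sylow.coe_subgroup_smul]
    rfl
  have hNQ : N ⊓ Subgroup.normalizer (Q' : Set G) = ⊥ := by
    refine (hmin _ (normal_inf_of_supplement hc hCtop
      (hnQ.trans Subgroup.le_normalizer)) inf_le_left).resolve_right fun e => hQ ?_
    intro x hx
    refine Subgroup.mem_centralizer_iff.2 fun y hy => ?_
    have hd : N ⊓ Q' = ⊥ := eq_bot_mono (inf_le_inf_left N (Subgroup.map_subtype_le _)) hCN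
    exact eq_of_div_eq_one (by
      rw [← Subgroup.mem_bot, ← hd, div_eq_mul_inv]
      refine ⟨?_, ?_⟩
      · rw [mul_inv_rev, mul_assoc, ← mul_assoc x]
        exact N.mul_mem hy ((inferInstance : N.Normal).conj_mem _ (N.inv_mem hy) x)
      · rw [mul_inv_rev, ← mul_assoc]
        exact Q'.mul_mem (normalizer_conj_mem (inf_eq_left.1 e hy) hx) (Q'.inv_mem hx))
  have hNC : Subgroup.normalizer (Q' : Set G) = C := by
    refine le_antisymm (fun x hx => ?_) hnQ
    obtain ⟨n, hn, c, hc', rfl⟩ := exists_mul_of_mem_sup (hnle C)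
      (show x ∈ N ⊔ C from hCtop ▸ Subgroup.mem_top x)
    have : n ∈ N ⊓ Subgroup.normalizer (Q' : Set G) :=
      ⟨hn, by simpa using mul_mem hx (inv_mem (hnQ hc'))⟩
    rw [hNQ, Subgroup.mem_bot] at this
    rwa [this, one_mul]
  refine ⟨g, (Subgroup.eq_of_le_of_card_ge (fun x hx => ?_) ?_).symm⟩
  · have h := hnR hx
    rw [← hg', mem_normalizer_iff_conj_smul, conj_smul_conj_smul] at h
    rw [mem_conj_smul_iff, ← hNC, mem_normalizer_iff_conj_smul]
    have h1 := congrArg (fun X : Subgroup G => MulAut.conj g⁻¹ • X) h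
    simp only [conj_smul_conj_smul, inv_mul_cancel, map_one, one_smul] at h1
    simpa [mul_assoc] using h1
  · rw [card_conj_smul, hCD]

private theorem carter_aux : ∀ (n : ℕ) (G : Type u) [Group G] [Finite G] [Group.IsSolvable G],
    Nat.card G = n → (∃ C : Subgroup G, Cfsg.IsCarterSubgroup C) ∧ CarterConj G := by
  intro n
  induction n using Nat.strong_induction_on with
  | _ n ih =>
  intro G _ _ _ hn
  rcases subsingleton_or_nontrivial G with hs | hs
  · exact ⟨⟨⊤, isNilpotent_le (K := ⊤) inferInstance le_rfl,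
      top_le_iff.1 Subgroup.le_normalizer⟩, fun C D _ _ => ⟨1, Subsingleton.elim _ _⟩⟩
  obtain ⟨N, hNn, hN, hmin⟩ := exists_minimal_normal (G := G)
  haveI := hNn
  have hc := commute_of_minimal_normal N hN hmin inferInstance
  obtain ⟨p, hp, hpN⟩ := exists_prime_pow_eq_one_of_minimal_normal N hN hmin inferInstance
  haveI : Fact p.Prime := ⟨hp⟩
  have hNp : IsPGroup p N := fun x => ⟨1, by rw [pow_one]; exact Subtype.ext (hpN x x.2)⟩
  have ihs : ∀ H : Subgroup G, H ≠ ⊤ →
      (∃ C : Subgroup H, Cfsg.IsCarterSubgroup C) ∧ CarterConj H := by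
    intro H hH
    refine ih _ (hn ▸ lt_of_le_of_ne (Subgroup.card_le_card_group H) ?_) H rfl
    exact fun e => hH (Subgroup.eq_top_of_card_eq H e)
  obtain ⟨⟨C₀, hC₀⟩, hconj₀⟩ := ih _ (hn ▸ card_quotient_lt N hN) (G ⧸ N) rfl
  set π := QuotientGroup.mk' N with hπ
  have hsurj : Function.Surjective π := QuotientGroup.mk'_surjective N
  refine ⟨?_, ?_⟩
  · set H := C₀.comap π with hH
    have hHN : N ≤ H := fun x hx => by
      show π x ∈ C₀
      rw [show π x = 1 from (QuotientGroup.eq_one_iff x).2 hx]
      exact one_mem _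
    have hHsn : Subgroup.normalizer (H : Set G) = H := by
      rw [hH, ← Subgroup.comap_normalizer_eq_of_surjective _ hsurj, hC₀.2]
    by_cases hHt : H = ⊤
    · have hq : Group.IsNilpotent (G ⧸ N) := by
        have h1 : C₀ = ⊤ := Subgroup.comap_injective hsurj (hHt.trans (Subgroup.comap_top π).symm)
        haveI : Group.IsNilpotent (⊤ : Subgroup (G ⧸ N)) := h1 ▸ hC₀.1
        exact Group.nilpotent_of_mulEquiv Subgroup.topEquiv
      by_cases hG : Group.IsNilpotent G
      · exact ⟨⊤, isNilpotent_le (K := ⊤) inferInstance le_rfl, top_le_iff.1 Subgroup.le_normalizer⟩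
      have hΦ : ¬ N ≤ frattini G := fun h => hG (by
        haveI := isNilpotent_of_quotient_frattini ⊤ N le_top h (by
          haveI := hq
          exact Group.nilpotent_of_mulEquiv (QuotientGroup.congr (N.subgroupOf ⊤) N
            Subgroup.topEquiv (by ext x; simp [Subgroup.mem_subgroupOf])).symm)
        exact Group.nilpotent_of_mulEquiv Subgroup.topEquiv)
      obtain ⟨M, hM, hNM⟩ : ∃ M : Subgroup G, IsCoatom M ∧ ¬ N ≤ M := by
        by_contra h
        push Not at h
        refine hΦ ?_
        rw [frattini, Order.radical]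
        exact le_iInf₂ h
      have htop : N ⊔ M = ⊤ := hM.2 _ (lt_of_le_of_ne le_sup_right fun e => hNM (e ▸ le_sup_left))
      have hd : N ⊓ M = ⊥ := (hmin _ (normal_inf_of_supplement hc htop Subgroup.le_normalizer)
        inf_le_left).resolve_right fun e => hNM (inf_eq_left.1 e)
      refine ⟨M, ?_, ?_⟩
      · haveI := hq
        have hinj : Function.Injective (π.comp M.subtype) := fun a b h => by
          have h1 : π ((a : G)⁻¹ * b) = 1 := by
            rw [map_mul, map_inv]
            exact inv_mul_eq_one.2 h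
          have h2 : (a : G)⁻¹ * b ∈ N ⊓ M :=
            ⟨(QuotientGroup.eq_one_iff _).1 h1, M.mul_mem (M.inv_mem a.2) b.2⟩
          rw [hd, Subgroup.mem_bot] at h2
          exact Subtype.ext (inv_mul_eq_one.1 h2)
        exact Group.nilpotent_of_mulEquiv (MonoidHom.ofInjective hinj).symm
      · by_contra hne
        have hn2 : Subgroup.normalizer (M : Set G) = ⊤ :=
          hM.2 _ (lt_of_le_of_ne Subgroup.le_normalizer (Ne.symm hne))
        haveI := Subgroup.normalizer_eq_top_iff.1 hn2
        refine hG (isNilpotent_of_center_le (le_center_of_commute hc htop fun m hm =>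
          Subgroup.mem_centralizer_iff.2 fun x hx => ?_) hq)
        exact Subgroup.commute_of_normal_of_disjoint N M inferInstance inferInstance
          (disjoint_iff.2 hd) x m hx hm
    obtain ⟨⟨C', hC'⟩, -⟩ := ihs H hHt
    set C := C'.map H.subtype with hCdef
    have hCH : C ≤ H := Subgroup.map_subtype_le _
    have hC'eq : C.subgroupOf H = C' :=
      Subgroup.comap_map_eq_self_of_injective H.subtype_injective C'
    have hn' : Subgroup.normalizer (C : Set G) ⊓ H ≤ C := by
      intro g hg
      have h1 : (⟨g, hg.2⟩ : H) ∈ (Subgroup.normalizer (C : Set G)).subgroupOf H := hg.1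
      rw [Subgroup.subgroupOf_normalizer_eq hCH, hC'eq, hC'.2, ← hC'eq] at h1
      exact h1
    have hCN : C ⊔ N = H := by
      have hle : C ⊔ N ≤ H := sup_le hCH hHN
      have hne : C ⊔ N ≠ ⊤ := fun e => hHt (top_le_iff.1 (e ▸ hle))
      have hsn : Subgroup.normalizer ((C ⊔ N : Subgroup G) : Set G) ⊓ H ≤ C ⊔ N := by
        intro g hg
        have hle' : MulAut.conj g • C ≤ C ⊔ N := by
          refine (conj_smul_mono g (le_sup_left : C ≤ C ⊔ N)).trans ?_
          rw [conj_smul_self_of_mem_normalizer hg.1]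
        have hcar : ∀ E : Subgroup G, E ≤ C ⊔ N → Group.IsNilpotent E →
            Subgroup.normalizer (E : Set G) ⊓ H ≤ E →
            Cfsg.IsCarterSubgroup (E.subgroupOf (C ⊔ N)) := by
          intro E hE hEn hEs
          refine ⟨?_, le_antisymm ?_ Subgroup.le_normalizer⟩
          · haveI := hEn
            exact Group.nilpotent_of_mulEquiv (Subgroup.subgroupOfEquivOfLe hE).symm
          · rw [← Subgroup.subgroupOf_normalizer_eq hE]
            exact fun x hx => hEs ⟨hx, hle x.2⟩
        have hnilC : Group.IsNilpotent C := isNilpotent_map' _ hC'.1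
        obtain ⟨h, hh, e⟩ := exists_conj_mem_of_carterConj (ihs _ hne).2 le_sup_left hle'
          (hcar C le_sup_left hnilC hn') (hcar _ hle'
            (by rw [conj_smul_eq_map]; exact isNilpotent_map' _ hnilC) (by
            intro x hx
            rw [mem_conj_smul_iff]
            refine hn' ⟨?_, H.mul_mem (H.mul_mem (H.inv_mem hg.2) hx.2) (by simpa using hg.2)⟩
            have h2 : MulAut.conj x • MulAut.conj g • C = MulAut.conj g • C :=
              conj_smul_self_of_mem_normalizer hx.1
            rw [conj_smul_conj_smul] at h2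
            have h1 := congrArg (fun X : Subgroup G => MulAut.conj g⁻¹ • X) h2
            simp only [conj_smul_conj_smul, inv_mul_cancel, map_one, one_smul] at h1
            refine mem_normalizer_iff_conj_smul.2 ?_
            simpa [mul_assoc] using h1))
        have h1 : h⁻¹ * g ∈ C := hn' ⟨mem_normalizer_iff_conj_smul.2 (by
          rw [← conj_smul_conj_smul, ← e, conj_smul_conj_smul,
            inv_mul_cancel, map_one, one_smul]), H.mul_mem (H.inv_mem (hle hh)) hg.2⟩
        simpa using mul_mem hh (Subgroup.mem_sup_left (T := N) h1)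
      have hm : (C ⊔ N).map π = C₀ := by
        refine eq_of_self_normalizing hC₀.1 (Subgroup.map_le_iff_le_comap.2 hle) ?_
        intro y hy
        obtain ⟨g, rfl⟩ := hsurj y
        refine Subgroup.mem_map_of_mem π (hsn ⟨?_, hy.2⟩)
        have h3 : g ∈ (Subgroup.normalizer (((C ⊔ N).map π : Subgroup (G ⧸ N)) : Set (G ⧸ N))).comap π :=
          hy.1
        rwa [Subgroup.comap_normalizer_eq_of_surjective _ hsurj, Subgroup.comap_map_eq,
          hπ, QuotientGroup.ker_mk', sup_assoc, sup_idem] at h3
      rw [hH, ← hm, Subgroup.comap_map_eq, hπ, QuotientGroup.ker_mk', sup_assoc, sup_idem]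
    refine ⟨C, isNilpotent_map' _ hC'.1, le_antisymm (fun g hg => hn' ⟨hg, ?_⟩)
      Subgroup.le_normalizer⟩
    rw [← hHsn]
    refine mem_normalizer_iff_conj_smul.2 ?_
    rw [← hCN, Subgroup.smul_sup,
      conj_smul_self_of_mem_normalizer hg,
      conj_smul_self_of_mem_normalizer (Subgroup.normalizer_eq_top N ▸ Subgroup.mem_top g)]
  · intro C D hC hD
    have hC' := isCarter_map_mk hC N fun h => (ihs _ h).2
    have hD' := isCarter_map_mk hD N fun h => (ihs _ h).2
    obtain ⟨y, hy⟩ := hconj₀ _ _ hC' hD'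
    obtain ⟨g, rfl⟩ := hsurj y
    set C₁ : Subgroup G := MulAut.conj g • C with hC₁
    have hC₁c := isCarter_conj hC g
    have e : C₁ ⊔ N = D ⊔ N := by
      have h1 := congrArg (Subgroup.comap π) hy
      rw [← map_conj_smul] at h1
      simpa only [Subgroup.comap_map_eq, hπ, QuotientGroup.ker_mk'] using h1
    obtain ⟨x, hx⟩ : ∃ x : G, MulAut.conj x • C₁ = D := by
      by_cases ht : D ⊔ N = ⊤
      · exact carter_conj_core hN hmin hc hNp hC₁c hD (by rw [sup_comm, e, ht]) (by rw [sup_comm, ht])
      · have hle : C₁ ≤ D ⊔ N := e ▸ le_sup_left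
        obtain ⟨h, -, hh⟩ := exists_conj_mem_of_carterConj (ihs _ ht).2 hle le_sup_left
          (isCarter_subgroupOf hC₁c hle) (isCarter_subgroupOf hD le_sup_left)
        exact ⟨h, hh⟩
    exact ⟨x * g, by rw [← conj_smul_conj_smul]; exact hx⟩

variable [Group.IsSolvable G]

theorem exists_isCarterSubgroup : ∃ C : Subgroup G, Cfsg.IsCarterSubgroup C :=
  (carter_aux _ G rfl).1

theorem isCarterSubgroup_conjugate {C D : Subgroup G} (hC : Cfsg.IsCarterSubgroup C)
    (hD : Cfsg.IsCarterSubgroup D) : ∃ g : G, MulAut.conj g • C = D :=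
  (carter_aux _ G rfl).2 C D hC hD

end CfsgLib.Solvable
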