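import Cfsg.Agent.Lib.Solvable.CoprimeNilpotentProduct
import Cfsg.Agent.Lib.Solvable.MiscStructure
import Cfsg.Agent.Lib.Solvable.Carter

/-!
The Kegel–Wielandt theorem and its companions.
-/

set_option autoImplicit false

open scoped Pointwise

namespace CfsgLib.Solvable

universe u

theorem map_factor {G H : Type*} [Group G] [Group H] (f : G →* H) (hf : Function.Surjective f)
    {A B : Subgroup G} (h : ∀ g : G, ∃ a ∈ A, ∃ b ∈ B, g = a * b) :
    ∀ y : H, ∃ a ∈ A.map f, ∃ b ∈ B.map f, y = a * b := by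
  intro y
  obtain ⟨g, rfl⟩ := hf y
  obtain ⟨a, ha, b, hb, rfl⟩ := h g
  exact ⟨f a, Subgroup.mem_map_of_mem f ha, f b, Subgroup.mem_map_of_mem f hb, map_mul f a b⟩

theorem sylow_map_eq_nilPart {G : Type*} [Group G] [Finite G] {A : Subgroup G}
    (hA : Group.IsNilpotent A) {p : ℕ} [Fact p.Prime] (P : Sylow p A) :
    (P : Subgroup A).map A.subtype = nilPart p A := by
  rw [nilPart, pCore_eq_sylow_of_nilpotent hA P]

private theorem kegel_wielandt_aux : ∀ (n : ℕ) (G : Type u) [Group G] [Finite G], Nat.card G = n →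
    ∀ A B : Subgroup G, Group.IsNilpotent A → Group.IsNilpotent B →
    (∀ g : G, ∃ a ∈ A, ∃ b ∈ B, g = a * b) → Group.IsSolvable G := by
  intro n
  induction n using Nat.strong_induction_on with
  | _ n ih =>
  intro G _ _ hn A B hA hB hfact
  by_contra hns
  haveI : Nontrivial G := by
    by_contra h
    haveI := not_nontrivial_iff_subsingleton.1 h
    exact hns inferInstance
  have hsolv : ∀ H : Subgroup G, H ≠ ⊤ → CoprimeProduct.HasFactor A B H → Group.IsSolvable H := by
    intro H hH hf
    refine ih _ (hn ▸ lt_of_le_of_ne (Subgroup.card_le_card_group H)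
      fun e => hH (Subgroup.eq_top_of_card_eq H e)) H rfl (A.subgroupOf H) (B.subgroupOf H) ?_ ?_ ?_
    · haveI := isNilpotent_le hA (inf_le_left : A ⊓ H ≤ A)
      rw [← Subgroup.inf_subgroupOf_right A H]
      exact Group.nilpotent_of_mulEquiv (Subgroup.subgroupOfEquivOfLe inf_le_right).symm
    · haveI := isNilpotent_le hB (inf_le_left : B ⊓ H ≤ B)
      rw [← Subgroup.inf_subgroupOf_right B H]
      exact Group.nilpotent_of_mulEquiv (Subgroup.subgroupOfEquivOfLe inf_le_right).symm
    · intro h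
      obtain ⟨a, ha, haH, b, hb, hbH, e⟩ := hf h h.2
      exact ⟨⟨a, haH⟩, ha, ⟨b, hbH⟩, hb, Subtype.ext e⟩
  have hquot : ∀ (N : Subgroup G) [N.Normal], N ≠ ⊥ → Group.IsSolvable (G ⧸ N) := fun N _ hN =>
    ih _ (hn ▸ card_quotient_lt N hN) (G ⧸ N) rfl _ _ (isNilpotent_map' (QuotientGroup.mk' N) hA)
      (isNilpotent_map' (QuotientGroup.mk' N) hB)
      (map_factor _ (QuotientGroup.mk'_surjective N) hfact)
  have hrad : ∀ (N : Subgroup G) [N.Normal], Group.IsSolvable N → N = ⊥ := by
    intro N _ hs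
    by_contra hN
    haveI := hquot N hN
    haveI := hs
    exact hns (Group.isSolvable_of_ker_le_range N.subtype (QuotientGroup.mk' N)
      (by rw [QuotientGroup.ker_mk', Subgroup.range_subtype]))
  by_cases hcop : (Nat.card A).Coprime (Nat.card B)
  · have hsimple : IsSimpleGroup G := by
      refine ⟨fun N hN => ?_⟩
      by_contra hcon
      push Not at hcon
      obtain ⟨hb, ht⟩ := hcon
      haveI := hN
      have key : ∀ C : Subgroup G, (C = A ∨ C = B) → N.index ∣ Nat.card C := by
        intro C hC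
        by_cases hCN : N ⊔ C = ⊤
        · rw [← Subgroup.relIndex_top_right, ← hCN, Subgroup.relIndex_sup_left]
          exact Subgroup.relIndex_dvd_card N C
        · refine absurd (hrad N ?_) hb
          haveI : Group.IsSolvable (N ⊔ C : Subgroup G) := by
            rcases hC with rfl | rfl
            · exact hsolv _ hCN (CoprimeProduct.Setup.hasFactor_of_le hfact le_sup_right)
            · refine hsolv _ hCN fun h hh => ?_
              obtain ⟨a, ha, b, hb', e⟩ := hfact h
              refine ⟨a, ha, ?_, b, hb', Subgroup.mem_sup_right hb', e⟩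
              rw [show a = h * b⁻¹ by rw [e, mul_inv_cancel_right]]
              exact mul_mem hh (Subgroup.mem_sup_right (inv_mem hb'))
          exact isSolvable_of_le inferInstance (le_sup_left : N ≤ N ⊔ C)
      exact ht (Subgroup.index_eq_one.1 (Nat.eq_one_of_dvd_coprimes hcop (key A (Or.inl rfl))
        (key B (Or.inr rfl))))
    exact CoprimeProduct.Setup.false' ⟨hA, hB, hcop, hfact, hsimple, hns, hsolv⟩
  obtain ⟨p, hp, hpA, hpB⟩ := Nat.Prime.not_coprime_iff_dvd.1 hcop
  haveI : Fact p.Prime := ⟨hp⟩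
  obtain ⟨P, Q, R, hR⟩ := exists_sylow_factorization hfact p
  rw [sylow_map_eq_nilPart hA P, sylow_map_eq_nilPart hB Q] at hR
  have hperm : ∀ x : G, Perm (nilPart p A) (MulAut.conj x • nilPart p B) :=
    perm_all_of_pair hfact (Subgroup.le_normalizer.trans (normalizer_le_normalizer_nilPart p A))
      (Subgroup.le_normalizer.trans (normalizer_le_normalizer_nilPart p B)) (u := 1) (v := 1)
      (by rw [map_one, one_smul, one_smul]; exact perm_of_coe_eq hR)
  have hcore : Cfsg.pCore p G = ⊥ := by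
    haveI : (Cfsg.pCore p G).Characteristic := CfsgLib.Cores.pCore_characteristic p
    haveI : Group.IsNilpotent (Cfsg.pCore p G) := (CfsgLib.Cores.isPGroup_pCore p).isNilpotent
    exact hrad _ inferInstance
  have hle := le_centralizer_of_perm_pGroup hcore isPGroup_nilPart isPGroup_nilPart hperm
  set T := Subgroup.normalClosure (nilPart p B : Set G)
  haveI hTn : T.Normal := Subgroup.normalClosure_normal
  set C := Subgroup.centralizer (T : Set G)
  haveI hCn : C.Normal := Subgroup.normal_centralizer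
  have hT : T ≠ ⊥ := fun e => nilPart_ne_bot hB hpB (le_bot_iff.1 (e ▸ Subgroup.le_normalClosure))
  have hC : C ≠ ⊥ := fun e => nilPart_ne_bot hA hpA (le_bot_iff.1 (e ▸ hle))
  have hTC : T ⊓ C = ⊥ := hrad _ (Group.isSolvable_of_comm fun x y => Subtype.ext
    (Subgroup.mem_centralizer_iff.1 y.2.2 x x.2.1))
  haveI := hquot T hT
  haveI := hquot C hC
  refine hns (Group.isSolvable_of_isSolvable_injective
    (f := (QuotientGroup.mk' T).prod (QuotientGroup.mk' C)) ?_)
  refine (MonoidHom.ker_eq_bot_iff _).1 ?_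
  rw [MonoidHom.ker_prod, QuotientGroup.ker_mk', QuotientGroup.ker_mk', hTC]

/-- The Kegel–Wielandt theorem. -/
theorem isSolvable_of_nilpotent_mul {G : Type*} [Group G] [Finite G] {A B : Subgroup G}
    (hA : Group.IsNilpotent A) (hB : Group.IsNilpotent B)
    (h : ∀ g : G, ∃ a ∈ A, ∃ b ∈ B, g = a * b) : Group.IsSolvable G :=
  kegel_wielandt_aux _ G rfl A B hA hB h

theorem normal_of_isCoatom_nilpotent {G : Type*} [Group G] [Group.IsNilpotent G] {M : Subgroup G}
    (hM : IsCoatom M) : M.Normal := by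
  refine Subgroup.normalizer_eq_top_iff.1 (hM.2 _ (lt_of_le_of_ne Subgroup.le_normalizer fun e => ?_))
  exact hM.1 (normalizerCondition_iff_only_full_group_self_normalizing.1
    Group.normalizerCondition_of_isNilpotent _ e.symm)

private theorem exists_normal_factor_aux : ∀ (n : ℕ) (G : Type u) [Group G] [Finite G],
    Nat.card G = n → ∀ A B : Subgroup G, Group.IsNilpotent A → Group.IsNilpotent B →
    (∀ g : G, ∃ a ∈ A, ∃ b ∈ B, g = a * b) → (A ≠ ⊤ ∨ B ≠ ⊤) →
    ∃ N : Subgroup G, N.Normal ∧ N ≠ ⊤ ∧ (A ≤ N ∨ B ≤ N) := by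
  intro n
  induction n using Nat.strong_induction_on with
  | _ n ih =>
  intro G _ _ hn A B hA hB hfact hne
  have hnilp : ∀ C D : Subgroup G, C = ⊤ → Group.IsNilpotent C → D ≠ ⊤ →
      ∃ N : Subgroup G, N.Normal ∧ N ≠ ⊤ ∧ D ≤ N := by
    intro C D hC hCn hD
    subst hC
    haveI := hCn
    haveI : Group.IsNilpotent G := Group.nilpotent_of_mulEquiv Subgroup.topEquiv
    obtain ⟨M, hM, hDM⟩ := (eq_top_or_exists_le_coatom D).resolve_left hD
    exact ⟨M, normal_of_isCoatom_nilpotent hM, hM.1, hDM⟩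
  by_cases hAt : A = ⊤
  · obtain ⟨N, h1, h2, h3⟩ := hnilp A B hAt hA (hne.resolve_left (not_not.2 hAt))
    exact ⟨N, h1, h2, Or.inr h3⟩
  by_cases hBt : B = ⊤
  · obtain ⟨N, h1, h2, h3⟩ := hnilp B A hBt hB hAt
    exact ⟨N, h1, h2, Or.inl h3⟩
  haveI : Nontrivial G := by
    by_contra h
    haveI := not_nontrivial_iff_subsingleton.1 h
    exact hAt (Subsingleton.elim _ _)
  haveI := isSolvable_of_nilpotent_mul hA hB hfact
  obtain ⟨N, hNn, hN, hmin⟩ := exists_minimal_normal (G := G)
  haveI := hNn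
  have hc := commute_of_minimal_normal N hN hmin inferInstance
  set π := QuotientGroup.mk' N
  by_cases himg : A.map π ≠ ⊤ ∨ B.map π ≠ ⊤
  · obtain ⟨M, hMn, hMt, hM⟩ := ih _ (hn ▸ card_quotient_lt N hN) (G ⧸ N) rfl _ _
      (isNilpotent_map' π hA) (isNilpotent_map' π hB)
      (map_factor _ (QuotientGroup.mk'_surjective N) hfact) himg
    refine ⟨M.comap π, hMn.comap π, fun e => hMt ?_,
      hM.imp Subgroup.map_le_iff_le_comap.1 Subgroup.map_le_iff_le_comap.1⟩
    exact Subgroup.comap_injective (QuotientGroup.mk'_surjective N) (e.trans (Subgroup.comap_top π).symm)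
  push Not at himg
  have key : ∀ C : Subgroup G, Group.IsNilpotent C → C ≠ ⊤ → C.map π = ⊤ →
      C.Normal ∨ Cfsg.IsCarterSubgroup C := by
    intro C hCn hCt hCπ
    have htop : N ⊔ C = ⊤ := by
      have := congrArg (Subgroup.comap π) hCπ
      rwa [Subgroup.comap_map_eq, Subgroup.comap_top, QuotientGroup.ker_mk', sup_comm] at this
    rcases hmin _ (normal_inf_of_supplement hc htop
      ((Subgroup.le_normalizer : C ≤ _).trans Subgroup.le_normalizer)) inf_le_left with h | h
    · refine Or.inr ⟨hCn, le_antisymm (fun g hg => ?_) Subgroup.le_normalizer⟩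
      obtain ⟨x, hx, c, hc', rfl⟩ := exists_mul_of_mem_sup (Subgroup.normalizer_eq_top N ▸ le_top)
        (show g ∈ N ⊔ C from htop ▸ Subgroup.mem_top g)
      have hxn : x ∈ N ⊓ Subgroup.normalizer (C : Set G) :=
        ⟨hx, by simpa using mul_mem hg (inv_mem (Subgroup.le_normalizer hc'))⟩
      rw [h, Subgroup.mem_bot] at hxn
      rwa [hxn, one_mul]
    · exact Or.inl (Subgroup.normalizer_eq_top_iff.1
        (top_le_iff.1 (htop.ge.trans (sup_le (inf_eq_left.1 h) Subgroup.le_normalizer))))
  rcases key A hA hAt himg.1 with h | hAC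
  · exact ⟨A, h, hAt, Or.inl le_rfl⟩
  rcases key B hB hBt himg.2 with h | hBC
  · exact ⟨B, h, hBt, Or.inr le_rfl⟩
  obtain ⟨g, hg⟩ := isCarterSubgroup_conjugate hAC hBC
  have h1 := sup_eq_top_of_mul (mul_factor_conj_right hfact g⁻¹)
  rw [← hg, conj_smul_conj_smul, inv_mul_cancel, map_one, one_smul, sup_idem] at h1
  exact absurd h1 hAt

/-- A product of two nilpotent subgroups has a proper normal subgroup containing a factor. -/
theorem exists_normal_factor {G : Type*} [Group G] [Finite G] {A B : Subgroup G}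
    (hA : Group.IsNilpotent A) (hB : Group.IsNilpotent B)
    (h : ∀ g : G, ∃ a ∈ A, ∃ b ∈ B, g = a * b) (hne : A ≠ ⊤ ∨ B ≠ ⊤) :
    ∃ N : Subgroup G, N.Normal ∧ N ≠ ⊤ ∧ (A ≤ N ∨ B ≤ N) :=
  exists_normal_factor_aux _ G rfl A B hA hB h hne

theorem sylow_product_of_nilpotent {G : Type*} [Group G] [Finite G] [Group.IsSolvable G]
    {A B : Subgroup G} (hA : Group.IsNilpotent A) (hB : Group.IsNilpotent B)
    (hcop : (Nat.card A).Coprime (Nat.card B)) (hfact : ∀ g : G, ∃ a ∈ A, ∃ b ∈ B, g = a * b)
    (p q : ℕ) [Fact p.Prime] [Fact q.Prime] (P : Sylow p A) (Q : Sylow q B) :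
    ∃ S : Subgroup G, (S : Set G) = (((P : Subgroup A).map A.subtype : Subgroup G) : Set G) *
      (((Q : Subgroup B).map B.subtype : Subgroup G) : Set G) := by
  have key : ∀ (r : ℕ) [Fact r.Prime] (C D : Subgroup G), Group.IsNilpotent C →
      (Nat.card C).Coprime (Nat.card D) → (∀ g : G, ∃ a ∈ C, ∃ b ∈ D, g = a * b) →
      (Nat.card (nilPart r C)).Coprime (nilPart r C).index := by
    intro r hr C D hC hCD hf
    by_cases hd : r ∣ Nat.card C
    swap
    · rw [card_nilPart hC, Nat.factorization_eq_zero_of_not_dvd hd, pow_zero]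
      exact Nat.coprime_one_left _
    have hindex : C.index ∣ Nat.card D := by
      have h1 := relIndex_eq_index_of_mul (mul_factor_symm hf)
      rw [← h1]
      exact Subgroup.relIndex_dvd_card C D
    have h0 : (Nat.card G).factorization r = (Nat.card C).factorization r := by
      rw [← C.card_mul_index, Nat.factorization_mul Nat.card_pos.ne' Subgroup.index_ne_zero_of_finite,
        Finsupp.add_apply, Nat.factorization_eq_zero_of_not_dvd
          (fun h => hr.out.not_dvd_one (hCD ▸ Nat.dvd_gcd hd (h.trans hindex))), add_zero]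
    let R : Sylow r G := Sylow.ofCard (nilPart r C) (by rw [card_nilPart hC, h0])
    exact R.card_coprime_index
  have hn : ∀ (r : ℕ) [Fact r.Prime] (C : Subgroup G),
      ((nilPart r C).subgroupOf C).Normal := fun r _ C =>
    (Subgroup.normal_subgroupOf_iff_le_normalizer nilPart_le).2
      (Subgroup.le_normalizer.trans (normalizer_le_normalizer_nilPart r C))
  obtain ⟨S, hS⟩ := conj_product_subgroup A B (nilPart p A) (nilPart q B) hfact nilPart_le (hn p A)
    nilPart_le (hn q B) (key p A B hA hcop hfact) (key q B A hB hcop.symm (mul_factor_symm hfact)) 1 1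
  refine ⟨S, ?_⟩
  rw [map_one, one_smul, one_smul] at hS
  rw [hS, sylow_map_eq_nilPart hA P, sylow_map_eq_nilPart hB Q]

end CfsgLib.Solvable
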