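import Cfsg.Agent.Lib.Solvable.MinimalNormal

/-!
An abelian minimal normal subgroup in a faithful primitive action.
-/

set_option autoImplicit false

open scoped Pointwise

namespace CfsgLib.Solvable

variable {G : Type*} [Group G]

/-- A core-free maximal subgroup and an abelian normal subgroup `≠ ⊥`. -/
theorem abelian_normal_of_coreFree {U M : Subgroup G} (hU : IsCoatom U) (hcore : U.normalCore = ⊥)
    [M.Normal] (hM : M ≠ ⊥) (hc : ∀ a ∈ M, ∀ b ∈ M, a * b = b * a) :
    M ⊔ U = ⊤ ∧ M ⊓ U = ⊥ ∧ U ⊓ Subgroup.centralizer (M : Set G) = ⊥ ∧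
      Subgroup.IsComplement' M U := by
  have hMU : M ⊔ U = ⊤ := by
    rw [sup_comm]
    refine hU.2 _ (left_lt_sup.2 fun hle => hM ?_)
    rw [← le_bot_iff, ← hcore]
    exact Subgroup.normal_le_normalCore.2 hle
  have key : ∀ X : Subgroup G, (∀ m ∈ M, ∀ x ∈ X, m * x = x * m) →
      U ≤ Subgroup.normalizer (X : Set G) → X ≤ U → X = ⊥ := by
    intro X hMX hUX hXU
    have hn : X.Normal := by
      rw [← Subgroup.normalizer_eq_top_iff, eq_top_iff, ← hMU]
      refine sup_le (fun m hm => ?_) hUX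
      rw [Subgroup.mem_normalizer_iff]
      intro x
      have comm : ∀ y ∈ X, m * y * m⁻¹ = y := fun y hy => by rw [hMX m hm y hy, mul_inv_cancel_right]
      refine ⟨fun hx => by rwa [comm x hx], fun hx => ?_⟩
      have h1 : m⁻¹ * (m * x * m⁻¹) * m = m * x * m⁻¹ := by
        rw [mul_assoc, ← hMX m hm _ hx, inv_mul_cancel_left]
      have e : x = m * x * m⁻¹ := by
        rw [← h1]; group
      rwa [e]
    rw [← le_bot_iff, ← hcore]
    exact Subgroup.normal_le_normalCore.2 hXU
  have hbot : M ⊓ U = ⊥ := key _ (fun m hm x hx => hc m hm x hx.1)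
    (le_normalizer_inf Subgroup.le_normalizer_of_normal Subgroup.le_normalizer) inf_le_right
  refine ⟨hMU, hbot, key _ (fun m hm x hx => Subgroup.mem_centralizer_iff.1 hx.2 m hm)
    (le_normalizer_inf Subgroup.le_normalizer Subgroup.le_normalizer_of_normal) inf_le_left,
    Subgroup.isComplement'_of_disjoint_and_mul_eq_univ (disjoint_iff.2 hbot) ?_⟩
  rw [← Subgroup.normal_mul, hMU, Subgroup.coe_top]

/-- In a faithful transitive action the stabilisers are core-free. -/
theorem normalCore_stabilizer_eq_bot {Ω : Type*} [MulAction G Ω] [MulAction.IsPretransitive G Ω]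
    [FaithfulSMul G Ω] (ω : Ω) : (MulAction.stabilizer G ω).normalCore = ⊥ := by
  rw [eq_bot_iff]
  intro x hx
  refine Subgroup.mem_bot.2 (FaithfulSMul.eq_of_smul_eq_smul (α := Ω) fun ω' => ?_)
  obtain ⟨g, rfl⟩ := MulAction.exists_smul_eq G ω ω'
  have h := MulAction.mem_stabilizer_iff.1 (hx g⁻¹)
  rw [inv_inv, mul_smul, mul_smul, inv_smul_eq_iff] at h
  rw [one_smul]
  exact h

theorem nontrivial_of_faithful {Ω : Type*} [MulAction G Ω] [FaithfulSMul G Ω] {M : Subgroup G}
    (hM : M ≠ ⊥) : Nontrivial Ω := by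
  by_contra h
  rw [not_nontrivial_iff_subsingleton] at h
  refine hM (eq_bot_iff.2 fun x _ => Subgroup.mem_bot.2 ?_)
  exact FaithfulSMul.eq_of_smul_eq_smul (α := Ω) fun ω => Subsingleton.elim _ _

theorem primitive_abelian_minimal {Ω : Type*} [MulAction G Ω] [FaithfulSMul G Ω]
    (hprim : MulAction.IsPreprimitive G Ω) (M : Subgroup G) [M.Normal] (hM : M ≠ ⊥)
    (hc : ∀ a ∈ M, ∀ b ∈ M, a * b = b * a) (ω : Ω) :
    IsCoatom (MulAction.stabilizer G ω) ∧ (MulAction.stabilizer G ω).normalCore = ⊥ ∧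
      M ⊔ MulAction.stabilizer G ω = ⊤ ∧ M ⊓ MulAction.stabilizer G ω = ⊥ ∧
      MulAction.stabilizer G ω ⊓ Subgroup.centralizer (M : Set G) = ⊥ ∧
      Subgroup.IsComplement' M (MulAction.stabilizer G ω) := by
  have := nontrivial_of_faithful (Ω := Ω) hM
  have hU : IsCoatom (MulAction.stabilizer G ω) := by
    haveI := hprim
    haveI := hprim.toIsPretransitive
    exact MulAction.IsPreprimitive.isCoatom_stabilizer_of_isPreprimitive G ω
  haveI := hprim.toIsPretransitive
  have hcore := normalCore_stabilizer_eq_bot (G := G) ω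
  exact ⟨hU, hcore, abelian_normal_of_coreFree hU hcore hM hc⟩

end CfsgLib.Solvable
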