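import Cfsg.Agent.Lib.Solvable.Huppert
import Cfsg.Agent.Lib.LocalEven.Basic
import Mathlib.GroupTheory.IndexNormal

/-!
Groups all of whose subgroups satisfy the converse of Lagrange's theorem are supersolvable.
-/

set_option autoImplicit false

open scoped Pointwise

namespace CfsgLib.Solvable

universe u

theorem hasSubgroupOfEveryOrder_congr {G K : Type*} [Group G] [Group K] (e : G ≃* K)
    (h : Cfsg.HasSubgroupOfEveryOrder G) : Cfsg.HasSubgroupOfEveryOrder K := by
  intro d hd
  obtain ⟨L, hL⟩ := h d (Nat.card_congr e.toEquiv ▸ hd)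
  exact ⟨L.map e.toMonoidHom, by rw [← hL]; exact Subgroup.card_map_of_injective e.injective⟩

theorem everyOrder_subgroup {G : Type*} [Group G]
    (h : ∀ H : Subgroup G, Cfsg.HasSubgroupOfEveryOrder H) (L : Subgroup G) :
    ∀ H : Subgroup L, Cfsg.HasSubgroupOfEveryOrder H := fun H =>
  hasSubgroupOfEveryOrder_congr (H.equivMapOfInjective L.subtype L.subtype_injective).symm
    (h (H.map L.subtype))

theorem everyOrder_self {G : Type*} [Group G]
    (h : ∀ H : Subgroup G, Cfsg.HasSubgroupOfEveryOrder H) : Cfsg.HasSubgroupOfEveryOrder G :=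
  hasSubgroupOfEveryOrder_congr Subgroup.topEquiv (h ⊤)

variable {G : Type u} [Group G] [Finite G]

theorem sylow_le_of_not_dvd_index {p : ℕ} [hp : Fact p.Prime] {N : Subgroup G} [N.Normal]
    (h : ¬ p ∣ N.index) (P : Sylow p G) : (P : Subgroup G) ≤ N := by
  intro x hx
  rw [← QuotientGroup.eq_one_iff, ← orderOf_eq_one_iff]
  obtain ⟨j, hj⟩ := IsPGroup.iff_orderOf.1 P.2 ⟨x, hx⟩
  rw [← Subgroup.orderOf_coe] at hj
  refine Nat.eq_one_of_dvd_coprimes ((hp.out.coprime_iff_not_dvd.2 h).pow_left j)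
    (hj ▸ orderOf_map_dvd (QuotientGroup.mk' N) x) ?_
  rw [Subgroup.index_eq_card]
  exact orderOf_dvd_natCard _

theorem card_sup_mul_card_inf (N A : Subgroup G) [N.Normal] :
    Nat.card (N ⊔ A : Subgroup G) * Nat.card (N ⊓ A : Subgroup G) = Nat.card N * Nat.card A := by
  have h1 : Nat.card N * N.relIndex (N ⊔ A) = Nat.card (N ⊔ A : Subgroup G) := by
    rw [← Subgroup.relIndex_bot_left N, ← Subgroup.relIndex_bot_left (N ⊔ A)]
    exact Subgroup.relIndex_mul_relIndex ⊥ N (N ⊔ A) bot_le le_sup_left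
  have h2 : Nat.card (N ⊓ A : Subgroup G) * (N ⊓ A).relIndex A = Nat.card A := by
    rw [← Subgroup.relIndex_bot_left (N ⊓ A), ← Subgroup.relIndex_bot_left A]
    exact Subgroup.relIndex_mul_relIndex ⊥ (N ⊓ A) A bot_le inf_le_right
  rw [Subgroup.inf_relIndex_right] at h2
  rw [← h1, Subgroup.relIndex_sup_left, ← h2]
  ring

private theorem tower_aux : ∀ (n : ℕ) (G : Type u) [Group G] [Finite G], Nat.card G = n →
    (∀ H : Subgroup G, Cfsg.HasSubgroupOfEveryOrder H) → ∀ (p : ℕ) [Fact p.Prime],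
    p ∣ Nat.card G → (∀ q : ℕ, q.Prime → q ∣ Nat.card G → q ≤ p) →
    ∀ P : Sylow p G, (P : Subgroup G).Normal := by
  intro n
  induction n using Nat.strong_induction_on with
  | _ n ih =>
  intro G _ _ hn h p hp hdvd hmax P
  haveI := hp
  set q := (Nat.card G).minFac with hq
  have hcard1 : Nat.card G ≠ 1 := fun e => hp.out.one_lt.ne' (Nat.dvd_one.1 (e ▸ hdvd))
  have hqp : q.Prime := Nat.minFac_prime hcard1
  have hqdvd : q ∣ Nat.card G := Nat.minFac_dvd _
  rcases eq_or_ne q p with hqe | hne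
  · have hpg : IsPGroup p G := IsPGroup.of_card (Nat.eq_prime_pow_of_unique_prime_dvd
      Nat.card_pos.ne' fun {r} hr hrd => le_antisymm (hmax r hr hrd)
        (hqe ▸ Nat.minFac_le_of_dvd hr.two_le hrd))
    rw [← P.3 (hpg.to_subgroup ⊤) le_top]
    infer_instance
  obtain ⟨H, hH⟩ := everyOrder_self h (Nat.card G / q) (Nat.div_dvd_of_dvd hqdvd)
  have hidx : H.index = q := by
    have h1 := H.card_mul_index
    rw [hH] at h1
    have h2 : 0 < Nat.card G / q := Nat.div_pos (Nat.le_of_dvd Nat.card_pos hqdvd) hqp.pos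
    exact Nat.eq_of_mul_eq_mul_left h2 (h1.trans (Nat.div_mul_cancel hqdvd).symm)
  haveI hHn : H.Normal := Subgroup.normal_of_index_eq_minFac_card hidx
  have hPH : (P : Subgroup G) ≤ H := sylow_le_of_not_dvd_index
    (by rw [hidx]; exact fun hd => hne ((Nat.prime_dvd_prime_iff_eq hp.out hqp).1 hd).symm) P
  have hlt : Nat.card H < n := by
    rw [hH, ← hn]
    exact Nat.div_lt_self Nat.card_pos hqp.one_lt
  haveI : ((P.subtype hPH : Sylow p H) : Subgroup H).Normal := by
    refine ih _ hlt H rfl (everyOrder_subgroup h H) p ?_ (fun r hr hrd => hmax r hr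
      (hrd.trans (Subgroup.card_subgroup_dvd_card H))) _
    exact ((P.dvd_card_of_dvd_card hdvd)).trans (Subgroup.card_dvd_of_le hPH)
  haveI := Sylow.characteristic_of_normal (P.subtype hPH) ‹_›
  have h3 : (((P.subtype hPH : Sylow p H) : Subgroup H).map H.subtype).Normal := inferInstance
  rwa [Sylow.coe_subtype, Subgroup.map_subgroupOf_eq_of_le hPH] at h3

theorem sylow_normal_of_every_order (h : ∀ H : Subgroup G, Cfsg.HasSubgroupOfEveryOrder H)
    {p : ℕ} [Fact p.Prime] (hdvd : p ∣ Nat.card G)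
    (hmax : ∀ q : ℕ, q.Prime → q ∣ Nat.card G → q ≤ p) (P : Sylow p G) : (P : Subgroup G).Normal :=
  tower_aux _ G rfl h p hdvd hmax P

private theorem ss_aux : ∀ (n : ℕ) (G : Type u) [Group G] [Finite G], Nat.card G = n →
    (∀ H : Subgroup G, Cfsg.HasSubgroupOfEveryOrder H) → Cfsg.IsSupersolvable G := by
  intro n
  induction n using Nat.strong_induction_on with
  | _ n ih =>
  intro G _ _ hn h
  rcases subsingleton_or_nontrivial G with hs | hs
  · exact isSupersolvable_of_subsingleton
  have hne : (Nat.card G).primeFactors.Nonempty := by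
    rw [Nat.nonempty_primeFactors]; exact Finite.one_lt_card
  set p := (Nat.card G).primeFactors.max' hne
  have hp := Nat.mem_primeFactors.1 ((Nat.card G).primeFactors.max'_mem hne)
  haveI : Fact p.Prime := ⟨hp.1⟩
  obtain ⟨P⟩ := (inferInstance : Nonempty (Sylow p G))
  haveI hPn : (P : Subgroup G).Normal := sylow_normal_of_every_order h hp.2.1
    (fun q hq hd => Finset.le_max' _ q (Nat.mem_primeFactors.2 ⟨hq, hd, Nat.card_pos.ne'⟩)) P
  have hprop : ∀ L : Subgroup G, L ≠ ⊤ → Cfsg.IsSupersolvable L := fun L hL => ih _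
    (hn ▸ lt_of_le_of_ne (Subgroup.card_le_card_group L) fun e =>
      hL ((Subgroup.card_eq_iff_eq_top L).1 e)) L rfl (everyOrder_subgroup h L)
  obtain ⟨K, hK⟩ := Subgroup.exists_right_complement'_of_coprime P.card_coprime_index
  have hPb := P.ne_bot_of_dvd_card hp.2.1
  have hKt : K ≠ ⊤ := fun e => hPb (Subgroup.isComplement'_top_right.1 (e ▸ hK))
  set π := QuotientGroup.mk' (P : Subgroup G)
  have hquot : Cfsg.IsSupersolvable (G ⧸ (P : Subgroup G)) := by
    refine isSupersolvable_of_surjective (π.comp K.subtype) (fun x => ?_) (hprop K hKt)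
    obtain ⟨g, rfl⟩ := QuotientGroup.mk'_surjective _ x
    obtain ⟨⟨⟨a, ha⟩, b⟩, hab⟩ := hK.2 g
    refine ⟨b, ?_⟩
    show ((b : G) : G ⧸ (P : Subgroup G)) = ((g : G) : G ⧸ (P : Subgroup G))
    rw [← hab]
    show _ = ((a * (b : G) : G) : G ⧸ (P : Subgroup G))
    rw [QuotientGroup.mk_mul, (QuotientGroup.eq_one_iff a).2 ha, one_mul]
  haveI := P.2.isNilpotent
  haveI : Group.IsSolvable G := (Group.isSolvable_iff_subgroup_quotient (P : Subgroup G)).2
    ⟨inferInstance, isSolvable_of_supersolvable hquot⟩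
  refine isSupersolvable_of_prime_index_maximal fun M hM => ?_
  by_cases hPM : (P : Subgroup G) ≤ M
  · have h1 := index_prime_of_isCoatom hquot (isCoatom_map_mk' hPM hM)
    rwa [Subgroup.index_map_eq _ (QuotientGroup.mk'_surjective _)
      ((QuotientGroup.ker_mk' _).le.trans hPM)] at h1
  set k := (P : Subgroup G).index with hk
  have hcardG : Nat.card G = k * Nat.card (P : Subgroup G) := by rw [mul_comm, Subgroup.card_mul_index]
  -- subgroups supplementing `P`
  have hsupp : ∀ S : Subgroup G, (P : Subgroup G) ⊔ S = ⊤ →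
      Nat.card S = Nat.card ((P : Subgroup G) ⊓ S : Subgroup G) * k ∧
        ∃ C : Subgroup G, C ≤ S ∧ Nat.card C = k := by
    intro S hS
    have h1 := card_sup_mul_card_inf (P : Subgroup G) S
    rw [hS, Subgroup.card_top, hcardG] at h1
    have hc : Nat.card S = Nat.card ((P : Subgroup G) ⊓ S : Subgroup G) * k :=
      Nat.eq_of_mul_eq_mul_left (Nat.card_pos (α := (P : Subgroup G))) (by rw [← h1]; ring)
    refine ⟨hc, ?_⟩
    haveI : ((P : Subgroup G).subgroupOf S).Normal := hPn.subgroupOf S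
    have hcN : Nat.card ((P : Subgroup G).subgroupOf S) =
        Nat.card ((P : Subgroup G) ⊓ S : Subgroup G) := by
      rw [← Subgroup.inf_subgroupOf_right]
      exact Nat.card_congr (Subgroup.subgroupOfEquivOfLe inf_le_right).toEquiv
    have hidx : ((P : Subgroup G).subgroupOf S).index = k := by
      have h2 := ((P : Subgroup G).subgroupOf S).card_mul_index
      rw [hcN, hc] at h2
      exact Nat.eq_of_mul_eq_mul_left Nat.card_pos h2
    obtain ⟨C, hC⟩ := Subgroup.exists_right_complement'_of_coprime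
      (N := (P : Subgroup G).subgroupOf S) (by
        rw [hidx, hcN]
        exact P.card_coprime_index.coprime_dvd_left (Subgroup.card_dvd_of_le inf_le_left))
    refine ⟨C.map S.subtype, Subgroup.map_subtype_le _, ?_⟩
    rw [Subgroup.card_subtype, ← hidx]
    exact hC.symm.index_eq_card.symm
  have hPMtop : (P : Subgroup G) ⊔ M = ⊤ :=
    hM.2 _ (lt_of_le_of_ne le_sup_right fun e => hPM (e ▸ le_sup_left))
  obtain ⟨hcM, K₀, hK₀M, hK₀⟩ := hsupp M hPMtop
  obtain ⟨L₁, hL₁⟩ := everyOrder_self h (Nat.card G / p) (Nat.div_dvd_of_dvd hp.2.1)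
  have hL₁idx : L₁.index = p := by
    have h1 := L₁.card_mul_index
    rw [hL₁] at h1
    exact Nat.eq_of_mul_eq_mul_left (Nat.div_pos (Nat.le_of_dvd Nat.card_pos hp.2.1) hp.1.pos)
      (h1.trans (Nat.div_mul_cancel hp.2.1).symm)
  have hL₁max : ∀ S, L₁ < S → S = ⊤ := by
    intro S hS
    have h1 := Subgroup.relIndex_mul_index hS.le
    rw [hL₁idx] at h1
    rcases (Nat.dvd_prime hp.1).1 (Dvd.intro _ h1) with e | e
    · exact absurd (Subgroup.relIndex_eq_one.1 e) hS.not_ge
    · rw [e] at h1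
      exact Subgroup.index_eq_one.1 (Nat.eq_of_mul_eq_mul_left hp.1.pos (h1.trans (mul_one p).symm))
  have hL₁P : (P : Subgroup G) ⊔ L₁ = ⊤ := hL₁max _ (lt_of_le_of_ne le_sup_right fun e => by
    have h1 := Subgroup.index_dvd_of_le (show (P : Subgroup G) ≤ L₁ from e ▸ le_sup_left)
    rw [hL₁idx] at h1
    exact P.not_dvd_index h1)
  obtain ⟨-, C₁, hC₁, hC₁c⟩ := hsupp L₁ hL₁P
  obtain ⟨g, hg⟩ := exists_conj_eq_hall hcardG P.card_coprime_index.symm hC₁c hK₀
  set L := MulAut.conj g • L₁ with hL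
  have hK₀L : K₀ ≤ L := hg ▸ conj_smul_mono g hC₁
  have hLidx : L.index = p := by
    have e1 := L.card_mul_index
    rw [hL, card_conj_smul, ← L₁.card_mul_index, hL₁idx] at e1
    exact Nat.eq_of_mul_eq_mul_left Nat.card_pos e1
  have hLmax : ∀ S, L ≤ S → S = L ∨ S = ⊤ := by
    intro S hS
    have h1 := Subgroup.relIndex_mul_index hS
    rw [hLidx] at h1
    rcases (Nat.dvd_prime hp.1).1 (Dvd.intro _ h1) with e | e
    · exact Or.inl (le_antisymm (Subgroup.relIndex_eq_one.1 e) hS)
    · rw [e] at h1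
      exact Or.inr (Subgroup.index_eq_one.1
        (Nat.eq_of_mul_eq_mul_left hp.1.pos (h1.trans (mul_one p).symm)))
  have hK₀P : (P : Subgroup G) ⊔ K₀ = ⊤ := by
    refine Subgroup.eq_top_of_card_eq _ ?_
    rw [card_sup_of_disjoint (Subgroup.normalizer_eq_top (P : Subgroup G) ▸ le_top)
      (disjoint_of_coprime (by rw [hK₀]; exact P.card_coprime_index)), hK₀, hcardG, mul_comm]
  have hsup' : ∀ S, K₀ ≤ S → (P : Subgroup G) ⊔ S = ⊤ := fun S hS =>
    top_le_iff.1 (hK₀P.ge.trans (sup_le_sup_left hS _))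
  obtain ⟨hcL, -⟩ := hsupp L (hsup' L hK₀L)
  set A := (P : Subgroup G) ⊓ M with hA
  set B := (P : Subgroup G) ⊓ L with hB
  haveI hAn : A.Normal := by
    rw [← Subgroup.normalizer_eq_top_iff]
    have hMle : M ≤ Subgroup.normalizer (A : Set G) :=
      le_normalizer_inf (Subgroup.normalizer_eq_top (P : Subgroup G) ▸ le_top) Subgroup.le_normalizer
    refine hM.2 _ (lt_of_le_of_ne hMle fun e => ?_)
    have h1 : A = (P : Subgroup G) := CfsgLib.LocalEven.eq_of_inf_normalizer_le P.2 inf_le_left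
      (by rw [← e])
    exact hPM (inf_eq_left.1 h1)
  by_cases hAL : A ≤ L
  · have hML : M ≤ L := by
      have h1 : A ⊔ K₀ = M := by
        refine Subgroup.eq_of_le_of_card_ge (sup_le inf_le_right hK₀M) ?_
        rw [card_sup_of_disjoint (Subgroup.normalizer_eq_top A ▸ le_top)
          (eq_bot_mono (inf_le_inf_right K₀ inf_le_left) (disjoint_of_coprime
            (by rw [hK₀]; exact P.card_coprime_index))), hK₀, hcM]
      exact h1 ▸ sup_le hAL hK₀L
    rcases eq_or_lt_of_le hML with e | e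
    · rw [e, hLidx]; exact hp.1
    · have h2 := hM.2 L e
      rw [h2, Subgroup.index_top] at hLidx
      exact absurd hLidx.symm hp.1.one_lt.ne'
  have hBP : A ⊔ B = (P : Subgroup G) := by
    refine le_antisymm (sup_le inf_le_left inf_le_left) ?_
    have h1 : A ⊔ L = ⊤ := (hLmax _ le_sup_right).resolve_left fun e => hAL (e ▸ le_sup_left)
    intro x hx
    obtain ⟨a, ha, l, hl, e⟩ := exists_mul_of_mem_sup (Subgroup.normalizer_eq_top A ▸ le_top)
      (show x ∈ A ⊔ L by rw [h1]; exact Subgroup.mem_top x)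
    have hlP : l ∈ (P : Subgroup G) := by
      have := (P : Subgroup G).mul_mem ((P : Subgroup G).inv_mem ha.1) hx
      rwa [e, inv_mul_cancel_left] at this
    exact e ▸ mul_mem (Subgroup.mem_sup_left ha) (Subgroup.mem_sup_right ⟨hlP, hl⟩)
  set T := M ⊓ L with hT
  obtain ⟨hcT, -⟩ := hsupp T (hsup' T (le_inf hK₀M hK₀L))
  have hPT : (P : Subgroup G) ⊓ T = A ⊓ B := by rw [hT, hA, hB, inf_inf_distrib_left]
  have hprod : Nat.card (P : Subgroup G) * Nat.card (A ⊓ B : Subgroup G) =
      Nat.card A * Nat.card B := by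
    rw [← card_sup_mul_card_inf A B, hBP]
  have hTL : T.relIndex L = M.index := by
    have h1 := (T.subgroupOf L).card_mul_index
    rw [Nat.card_congr (Subgroup.subgroupOfEquivOfLe (inf_le_right : T ≤ L)).toEquiv, hcT, hPT,
      hcL] at h1
    have h2 := M.card_mul_index
    rw [hcM, hcardG] at h2
    have e1 : Nat.card (A ⊓ B : Subgroup G) * T.relIndex L = Nat.card B :=
      Nat.eq_of_mul_eq_mul_left (Subgroup.index_ne_zero_of_finite (H := (P : Subgroup G))).bot_lt
        (by rw [Subgroup.relIndex, ← hk]; linarith [h1])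
    have e2 : Nat.card A * M.index = Nat.card (P : Subgroup G) :=
      Nat.eq_of_mul_eq_mul_left (Subgroup.index_ne_zero_of_finite (H := (P : Subgroup G))).bot_lt
        (by rw [← hk]; linarith [h2])
    refine Nat.eq_of_mul_eq_mul_left (Nat.mul_pos (Nat.card_pos (α := A))
      (Nat.card_pos (α := (A ⊓ B : Subgroup G)))) ?_
    calc Nat.card A * Nat.card (A ⊓ B : Subgroup G) * T.relIndex L
        = Nat.card A * Nat.card B := by rw [mul_assoc, e1]
      _ = Nat.card (P : Subgroup G) * Nat.card (A ⊓ B : Subgroup G) := hprod.symm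
      _ = _ := by rw [← e2]; ring
  have hLt : L ≠ ⊤ := fun e => by
    rw [e, Subgroup.index_top] at hLidx; exact hp.1.one_lt.ne hLidx
  rw [← hTL]
  refine index_prime_of_isCoatom (hprop L hLt) ⟨fun e => ?_, fun X hX => ?_⟩
  · rw [Subgroup.subgroupOf_eq_top, hT, le_inf_iff] at e
    rcases eq_or_lt_of_le e.1 with e' | e'
    · exact hAL (inf_le_right.trans e'.ge)
    · exact hM.1 (by
        rcases hLmax M e'.le with h3 | h3
        · exact absurd h3 e'.ne'
        · exact h3)
  · set X' := X.map L.subtype with hX'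
    have hTX : T ≤ X' := fun x hx =>
      ⟨⟨x, hx.2⟩, hX.le (Subgroup.mem_subgroupOf.2 hx), rfl⟩
    have hX'L : X' ≤ L := Subgroup.map_subtype_le _
    obtain ⟨hcX, -⟩ := hsupp X' (hsup' X' ((le_inf hK₀M hK₀L).trans hTX))
    set Y := (P : Subgroup G) ⊓ X' with hY
    have hYA : ¬ Y ≤ A := by
      intro hle
      have h4 : Nat.card X' ≤ Nat.card T := by
        rw [hcX, hcT]
        exact Nat.mul_le_mul_right _ (Nat.le_of_dvd Nat.card_pos (Subgroup.card_dvd_of_le
          (le_inf inf_le_left (le_inf (hle.trans inf_le_right) (inf_le_right.trans hX'L)))))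
      have h5 := Subgroup.eq_of_le_of_card_ge hTX h4
      refine hX.ne (Subgroup.map_injective L.subtype_injective ?_)
      rw [Subgroup.map_subgroupOf_eq_of_le inf_le_right, ← hX']
      exact h5
    have hW : A ⊔ Y ⊔ K₀ = ⊤ := hM.2 _ (lt_of_le_not_ge (by
        intro m hm
        obtain ⟨a, ha, c, hc, e⟩ := exists_mul_of_mem_sup
          (Subgroup.normalizer_eq_top (P : Subgroup G) ▸ le_top) (hK₀P ▸ Subgroup.mem_top m :
            m ∈ (P : Subgroup G) ⊔ K₀)
        have haM : a ∈ M := by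
          have := mul_mem hm (inv_mem (hK₀M hc))
          rwa [e, mul_inv_cancel_right] at this
        exact e ▸ mul_mem (Subgroup.mem_sup_left (Subgroup.mem_sup_left ⟨ha, haM⟩))
          (Subgroup.mem_sup_right hc))
      fun hle => hYA fun y hy => ⟨hy.1, hle (Subgroup.mem_sup_left (Subgroup.mem_sup_right hy))⟩)
    have hK₀N : K₀ ≤ Subgroup.normalizer ((A ⊔ Y : Subgroup G) : Set G) := by
      have hYn : K₀ ≤ Subgroup.normalizer (Y : Set G) :=
        le_normalizer_inf (Subgroup.normalizer_eq_top (P : Subgroup G) ▸ le_top)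
          (((le_inf hK₀M hK₀L).trans hTX).trans Subgroup.le_normalizer)
      intro c hc
      refine mem_normalizer_of_conj_mem fun z hz => ?_
      obtain ⟨a, ha, y, hy, e⟩ := exists_mul_of_mem_sup (Subgroup.normalizer_eq_top A ▸ le_top) hz
      rw [e, show c * (a * y) * c⁻¹ = (c * a * c⁻¹) * (c * y * c⁻¹) by group]
      exact mul_mem (Subgroup.mem_sup_left (hAn.conj_mem a ha c))
        (Subgroup.mem_sup_right (normalizer_conj_mem (hYn hc) hy))
    have hAY : Nat.card (A ⊔ Y : Subgroup G) = Nat.card (P : Subgroup G) := by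
      have h6 := card_sup_of_disjoint hK₀N (eq_bot_mono (inf_le_inf_right K₀
        (sup_le inf_le_left inf_le_left)) (disjoint_of_coprime
          (by rw [hK₀]; exact P.card_coprime_index)))
      rw [hW, Subgroup.card_top, hK₀, hcardG, mul_comm k] at h6
      exact (Nat.eq_of_mul_eq_mul_right (Subgroup.index_ne_zero_of_finite
        (H := (P : Subgroup G))).bot_lt h6).symm
    have hYB : Y ≤ B := inf_le_inf_left _ hX'L
    have hAYi : A ⊓ Y = A ⊓ B := le_antisymm (inf_le_inf_left A hYB)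
      (le_inf inf_le_left (le_inf (inf_le_left.trans inf_le_left)
        ((le_inf (inf_le_left.trans inf_le_right) (inf_le_right.trans inf_le_right)).trans hTX)))
    have h7 := card_sup_mul_card_inf A Y
    rw [hAY, hAYi, hprod] at h7
    have h8 : Nat.card B = Nat.card Y := Nat.eq_of_mul_eq_mul_left Nat.card_pos h7
    have h9 : X' = L := Subgroup.eq_of_le_of_card_ge hX'L (by rw [hcL, hcX, h8])
    refine eq_top_iff.2 fun x _ => ?_
    obtain ⟨y, hy, hyx⟩ := h9.ge x.2
    rwa [← L.subtype_injective (hyx : L.subtype y = L.subtype x)]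

theorem isSupersolvable_of_every_order (h : ∀ H : Subgroup G, Cfsg.HasSubgroupOfEveryOrder H) :
    Cfsg.IsSupersolvable G :=
  ss_aux _ G rfl h

end CfsgLib.Solvable
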