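import Cfsg.Prelude.Def_SolvableStructure
import Cfsg.Agent.Lib.Solvable.Basic
import Cfsg.Agent.Lib.Solvable.MinimalNormal
import Mathlib.GroupTheory.Nilpotent
import Mathlib.GroupTheory.SpecificGroups.Cyclic
import Mathlib.GroupTheory.IndexNormal

/-!
Supersolvable groups: closure properties, maximal subgroups, derived subgroup.
-/

set_option autoImplicit false

open scoped Pointwise commutatorElement

namespace CfsgLib.Solvable

universe u

variable {G : Type*} [Group G]

theorem exists_comap_step {K : Type*} [Group K] (f : K →* G) (A : Subgroup G) [A.Normal] (g : G) :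
    ∃ k : K, (A ⊔ Subgroup.zpowers g).comap f = A.comap f ⊔ Subgroup.zpowers k := by
  set φ : K →* G ⧸ A := (QuotientGroup.mk' A).comp f with hφ
  have hker : φ.ker = A.comap f := by
    rw [hφ, ← MonoidHom.comap_ker, QuotientGroup.ker_mk']
  have hAg : (A ⊔ Subgroup.zpowers g).comap f = (Subgroup.zpowers (g : G ⧸ A)).comap φ := by
    rw [hφ, ← Subgroup.comap_comap, ← QuotientGroup.mk'_apply, ← MonoidHom.map_zpowers,
      Subgroup.comap_map_eq, QuotientGroup.ker_mk', sup_comm]
  have hle : ((A ⊔ Subgroup.zpowers g).comap f).map φ ≤ Subgroup.zpowers (g : G ⧸ A) := by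
    rw [hAg]; exact Subgroup.map_comap_le _ _
  haveI := Subgroup.isCyclic_of_le hle
  obtain ⟨x, hx⟩ := IsCyclic.exists_generator (α := ((A ⊔ Subgroup.zpowers g).comap f).map φ)
  obtain ⟨k, hk, hkx⟩ := x.2
  refine ⟨k, le_antisymm (fun y hy => ?_) (sup_le (Subgroup.comap_mono le_sup_left)
    (Subgroup.zpowers_le.2 hk))⟩
  obtain ⟨i, hi⟩ := hx ⟨φ y, Subgroup.mem_map_of_mem φ hy⟩
  have hi' : (x : G ⧸ A) ^ i = φ y := by simpa using congrArg Subtype.val hi
  rw [← hker, sup_comm, show y = k ^ i * ((k ^ i)⁻¹ * y) by group]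
  refine Subgroup.mul_mem_sup (zpow_mem (Subgroup.mem_zpowers k) i) ?_
  rw [MonoidHom.mem_ker, map_mul, map_inv, map_zpow, hkx, hi', inv_mul_cancel]

theorem isSupersolvable_of_injective {K : Type*} [Group K] (f : K →* G) (hf : Function.Injective f)
    (hG : Cfsg.IsSupersolvable G) : Cfsg.IsSupersolvable K := by
  obtain ⟨n, H, h0, hl, hn, hs⟩ := hG
  refine ⟨n, fun i => (H i).comap f, ?_, ?_, fun i => (hn i).comap f, fun i => ?_⟩
  · show (H 0).comap f = ⊥
    rw [h0, MonoidHom.comap_bot, MonoidHom.ker_eq_bot_iff]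
    exact hf
  · show (H (Fin.last n)).comap f = ⊤
    rw [hl, Subgroup.comap_top]
  · obtain ⟨g, hg⟩ := hs i
    haveI := hn i.castSucc
    obtain ⟨k, hk⟩ := exists_comap_step f (H i.castSucc) g
    exact ⟨k, by show (H i.succ).comap f = _; rw [hg, hk]⟩

theorem isSupersolvable_of_surjective {K : Type*} [Group K] (f : G →* K) (hf : Function.Surjective f)
    (hG : Cfsg.IsSupersolvable G) : Cfsg.IsSupersolvable K := by
  obtain ⟨n, H, h0, hl, hn, hs⟩ := hG
  refine ⟨n, fun i => (H i).map f, ?_, ?_, fun i => (hn i).map f hf, fun i => ?_⟩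
  · show (H 0).map f = ⊥
    rw [h0, Subgroup.map_bot]
  · show (H (Fin.last n)).map f = ⊤
    rw [hl, Subgroup.map_top_of_surjective f hf]
  · obtain ⟨g, hg⟩ := hs i
    exact ⟨f g, by show (H i.succ).map f = _; rw [hg, Subgroup.map_sup, MonoidHom.map_zpowers]⟩

theorem isSupersolvable_of_mulEquiv {K : Type*} [Group K] (e : G ≃* K)
    (hG : Cfsg.IsSupersolvable G) : Cfsg.IsSupersolvable K :=
  isSupersolvable_of_surjective e.toMonoidHom e.surjective hG

theorem isSupersolvable_subgroup (hG : Cfsg.IsSupersolvable G) (H : Subgroup G) :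
    Cfsg.IsSupersolvable H :=
  isSupersolvable_of_injective H.subtype H.subtype_injective hG

theorem isSupersolvable_quotient (hG : Cfsg.IsSupersolvable G) (N : Subgroup G) [N.Normal] :
    Cfsg.IsSupersolvable (G ⧸ N) :=
  isSupersolvable_of_surjective _ (QuotientGroup.mk'_surjective N) hG

theorem isSupersolvable_of_subsingleton [Subsingleton G] : Cfsg.IsSupersolvable G :=
  ⟨0, fun _ => ⊥, rfl, Subsingleton.elim _ _, fun _ => inferInstance, fun i => i.elim0⟩

theorem isSupersolvable_extension (N : Subgroup G) [N.Normal] [IsCyclic N]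
    (h : Cfsg.IsSupersolvable (G ⧸ N)) : Cfsg.IsSupersolvable G := by
  obtain ⟨n, H, h0, hl, hn, hs⟩ := h
  set π := QuotientGroup.mk' N with hπ
  refine ⟨n + 1, Fin.cons ⊥ fun i => (H i).comap π, Fin.cons_zero _ _, ?_, ?_, ?_⟩
  · rw [show Fin.last (n + 1) = (Fin.last n).succ from rfl, Fin.cons_succ, hl, Subgroup.comap_top]
  · refine Fin.cases ?_ fun i => ?_
    · rw [Fin.cons_zero]; infer_instance
    · rw [Fin.cons_succ]; exact (hn i).comap π
  · refine Fin.cases ?_ fun i => ?_
    · obtain ⟨g, hg⟩ := (Subgroup.isCyclic_iff_exists_zpowers_eq_top N).1 inferInstance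
      refine ⟨g, ?_⟩
      rw [Fin.cons_succ, Fin.castSucc_zero, Fin.cons_zero, h0, MonoidHom.comap_bot, hπ,
        QuotientGroup.ker_mk', bot_sup_eq, hg]
    · obtain ⟨x, hx⟩ := hs i
      obtain ⟨g, rfl⟩ := QuotientGroup.mk'_surjective N x
      refine ⟨g, ?_⟩
      rw [Fin.cons_succ, Fin.castSucc_succ, Fin.cons_succ, hx]
      rw [← Subgroup.map_comap_eq_self_of_surjective (QuotientGroup.mk'_surjective N) (H i.castSucc),
        ← MonoidHom.map_zpowers, ← Subgroup.map_sup, Subgroup.comap_map_eq,
        Subgroup.map_comap_eq_self_of_surjective (QuotientGroup.mk'_surjective N)]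
      refine le_antisymm (sup_le le_rfl ?_) le_sup_left
      exact le_sup_of_le_left (Subgroup.ker_le_comap _ _)

/-- A nontrivial supersolvable group has a nontrivial cyclic normal subgroup. -/
theorem exists_cyclic_normal [Nontrivial G] (hG : Cfsg.IsSupersolvable G) :
    ∃ N : Subgroup G, N.Normal ∧ N ≠ ⊥ ∧ IsCyclic N := by
  obtain ⟨n, H, h0, hl, hn, hs⟩ := hG
  by_contra hcon
  push Not at hcon
  have : ∀ i, H i = ⊥ := by
    refine Fin.induction h0 fun i ih => ?_
    obtain ⟨g, hg⟩ := hs i
    rw [ih, bot_sup_eq] at hg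
    by_contra hne
    exact hcon _ (hn i.succ) hne (hg ▸ inferInstance)
  exact top_ne_bot (hl.symm.trans (this (Fin.last n)))

theorem normal_of_le_cyclic_normal [Finite G] {N L : Subgroup G} [N.Normal] [IsCyclic N]
    (h : L ≤ N) : L.Normal := by
  obtain ⟨g, hg⟩ := (Subgroup.isCyclic_iff_exists_zpowers_eq_top N).1 inferInstance
  refine ⟨fun x hx c => ?_⟩
  obtain ⟨i, rfl⟩ := hg.ge (h hx)
  obtain ⟨k, hk⟩ := hg.ge ((inferInstance : N.Normal).conj_mem g (hg.le (Subgroup.mem_zpowers g)) c)
  have hk' : g ^ k = c * g * c⁻¹ := hk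
  show c * g ^ i * c⁻¹ ∈ L
  rw [← conj_zpow, ← hk', ← zpow_mul, mul_comm, zpow_mul]
  exact zpow_mem hx k

theorem exists_prime_order_normal [Finite G] [Nontrivial G] (hG : Cfsg.IsSupersolvable G) :
    ∃ N : Subgroup G, N.Normal ∧ (Nat.card N).Prime := by
  obtain ⟨N, hNn, hN, hNc⟩ := exists_cyclic_normal hG
  obtain ⟨p, hp, hpN⟩ := Nat.exists_prime_and_dvd fun h => hN (Subgroup.card_eq_one.1 h)
  haveI : Fact p.Prime := ⟨hp⟩
  obtain ⟨x, hx⟩ := exists_prime_orderOf_dvd_card' (G := N) p hpN
  refine ⟨Subgroup.zpowers (x : G), normal_of_le_cyclic_normal (Subgroup.zpowers_le.2 x.2), ?_⟩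
  rwa [Nat.card_zpowers, Subgroup.orderOf_coe, hx]

theorem ne_bot_of_card_prime {N : Subgroup G} (h : (Nat.card N).Prime) : N ≠ ⊥ := fun e => by
  rw [e, Subgroup.card_bot] at h
  exact Nat.not_prime_one h

theorem isCyclic_of_prime {N : Subgroup G} (h : (Nat.card N).Prime) : IsCyclic N :=
  haveI : Fact (Nat.card N).Prime := ⟨h⟩
  isCyclic_of_prime_card rfl

private theorem prod_aux : ∀ (n : ℕ) (G : Type u) [Group G] [Finite G], Nat.card G = n →
    Cfsg.IsSupersolvable G → ∀ {K : Type*} [Group K], Cfsg.IsSupersolvable K →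
      Cfsg.IsSupersolvable (G × K) := by
  intro n
  induction n using Nat.strong_induction_on with
  | _ n ih =>
  intro G _ _ hn hG K _ hK
  rcases subsingleton_or_nontrivial G with hs | hs
  · exact isSupersolvable_of_injective (MonoidHom.snd G K)
      (fun a b h => Prod.ext (Subsingleton.elim _ _) h) hK
  obtain ⟨N, hNn, hN⟩ := exists_prime_order_normal hG
  haveI := isCyclic_of_prime hN
  set N' := N.map (MonoidHom.inl G K) with hN'
  have hinj : Function.Injective (MonoidHom.inl G K) := fun a b h => congrArg Prod.fst h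
  haveI : IsCyclic N' := isCyclic_of_surjective _
    (N.equivMapOfInjective _ hinj).surjective
  set f : G × K →* (G ⧸ N) × K := (QuotientGroup.mk' N).prodMap (MonoidHom.id K) with hf
  have hker : f.ker = N' := by
    ext ⟨a, b⟩
    simp [f, N', Prod.ext_iff, eq_comm (a := (1 : K))]
  haveI : N'.Normal := hker ▸ inferInstance
  refine isSupersolvable_extension N' ?_
  have hsurj : Function.Surjective f := fun ⟨a, b⟩ => by
    obtain ⟨c, rfl⟩ := QuotientGroup.mk'_surjective N a
    exact ⟨(c, b), rfl⟩
  have e := (QuotientGroup.quotientMulEquivOfEq hker).symm.trans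
    (QuotientGroup.quotientKerEquivOfSurjective f hsurj)
  exact isSupersolvable_of_mulEquiv e.symm (ih _ (hn ▸ card_quotient_lt _ (ne_bot_of_card_prime hN))
    (G ⧸ N) rfl (isSupersolvable_quotient hG N) hK)

theorem isSupersolvable_prod {G : Type u} [Group G] [Finite G] {K : Type*} [Group K]
    (hG : Cfsg.IsSupersolvable G) (hK : Cfsg.IsSupersolvable K) : Cfsg.IsSupersolvable (G × K) :=
  prod_aux _ G rfl hG hK

private theorem derived_aux : ∀ (n : ℕ) (G : Type u) [Group G] [Finite G], Nat.card G = n →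
    Cfsg.IsSupersolvable G → Group.IsNilpotent (commutator G) := by
  intro n
  induction n using Nat.strong_induction_on with
  | _ n ih =>
  intro G _ _ hn hG
  rcases subsingleton_or_nontrivial G with hs | hs
  · exact inferInstance
  obtain ⟨N, hNn, hN⟩ := exists_prime_order_normal hG
  haveI := isCyclic_of_prime hN
  haveI := ih _ (hn ▸ card_quotient_lt _ (ne_bot_of_card_prime hN)) (G ⧸ N) rfl
    (isSupersolvable_quotient hG N)
  have hmap : ∀ x : commutator G, QuotientGroup.mk' N (x : G) ∈ commutator (G ⧸ N) := by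
    intro x
    rw [commutator_def, ← Subgroup.map_top_of_surjective _ (QuotientGroup.mk'_surjective N),
      ← Subgroup.map_commutator, ← commutator_def]
    exact Subgroup.mem_map_of_mem _ x.2
  refine Subgroup.isNilpotent_of_ker_le_center
    (((QuotientGroup.mk' N).comp (commutator G).subtype).codRestrict _ hmap) ?_
  intro x hx
  have hxN : (x : G) ∈ N := (QuotientGroup.eq_one_iff _).1 (congrArg Subtype.val hx)
  have hcent : commutator G ≤ Subgroup.centralizer (N : Set G) := by
    letI := (IsCyclic.mulAutMulEquiv N).toEquiv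
    have hc : ∀ a b : MulAut N, a * b = b * a := fun a b => (IsCyclic.mulAutMulEquiv N).injective
      (by rw [map_mul, map_mul, mul_comm])
    rw [commutator_def, Subgroup.commutator_le]
    intro a _ b _
    rw [Subgroup.mem_centralizer_iff]
    intro y hy
    have h1 : MulAut.conjNormal (H := N) ⁅a, b⁆ = 1 := by
      rw [map_commutatorElement, commutatorElement_eq_one_iff_mul_comm]
      exact hc _ _
    have h2 : ⁅a, b⁆ * y * ⁅a, b⁆⁻¹ = y := by
      have := congrArg (fun e : MulAut N => ((e ⟨y, hy⟩ : N) : G)) h1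
      simpa only [MulAut.conjNormal_apply, MulAut.one_apply] using this
    exact (mul_inv_eq_iff_eq_mul.1 h2).symm
  rw [Subgroup.mem_center_iff]
  intro y
  exact Subtype.ext (Subgroup.mem_centralizer_iff.1 (hcent y.2) _ hxN).symm

theorem isNilpotent_commutator_of_supersolvable {G : Type u} [Group G] [Finite G]
    (hG : Cfsg.IsSupersolvable G) : Group.IsNilpotent (commutator G) :=
  derived_aux _ G rfl hG

private theorem coatom_aux : ∀ (n : ℕ) (G : Type u) [Group G] [Finite G], Nat.card G = n →
    Cfsg.IsSupersolvable G → ∀ M : Subgroup G, IsCoatom M → M.index.Prime := by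
  intro n
  induction n using Nat.strong_induction_on with
  | _ n ih =>
  intro G _ _ hn hG M hM
  rcases subsingleton_or_nontrivial G with hs | hs
  · exact absurd (Subsingleton.elim M ⊤) hM.1
  obtain ⟨N, hNn, hN⟩ := exists_prime_order_normal hG
  set π := QuotientGroup.mk' N with hπ
  have hsurj := QuotientGroup.mk'_surjective N
  by_cases hNM : N ≤ M
  · have hMc : (M.map π).comap π = M :=
      (Subgroup.comap_map_eq_self ((QuotientGroup.ker_mk' N).le.trans hNM))
    have hco : IsCoatom (M.map π) := by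
      refine ⟨fun e => hM.1 (by rw [← hMc, e, Subgroup.comap_top]), fun L hL => ?_⟩
      have h1 : M < L.comap π := by
        refine lt_of_le_of_ne (Subgroup.map_le_iff_le_comap.1 hL.le) fun e => hL.ne ?_
        rw [e, Subgroup.map_comap_eq_self_of_surjective hsurj]
      rw [← Subgroup.map_comap_eq_self_of_surjective hsurj L, hM.2 _ h1,
        Subgroup.map_top_of_surjective _ hsurj]
    have := ih _ (hn ▸ card_quotient_lt _ (ne_bot_of_card_prime hN)) (G ⧸ N) rfl
      (isSupersolvable_quotient hG N) _ hco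
    rwa [← Subgroup.index_comap_of_surjective (M.map π) hsurj, hMc] at this
  · have htop : N ⊔ M = ⊤ := hM.2 _ (lt_of_le_of_ne le_sup_right fun e => hNM (e ▸ le_sup_left))
    have hdisj : N ⊓ M = ⊥ := by
      haveI : Fact (Nat.card N).Prime := ⟨hN⟩
      rcases ((M.subgroupOf N).eq_bot_or_eq_top_of_prime_card) with h | h
      · rw [Subgroup.subgroupOf_eq_bot, disjoint_comm, disjoint_iff] at h
        exact h
      · exact absurd (Subgroup.subgroupOf_eq_top.1 h) hNM
    have h1 := card_sup_of_disjoint (K := N) (A := M) (Subgroup.normalizer_eq_top N ▸ le_top) hdisj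
    rw [htop, Subgroup.card_top, ← M.card_mul_index, mul_comm (Nat.card N)] at h1
    rw [Nat.eq_of_mul_eq_mul_left Nat.card_pos h1]
    exact hN

theorem index_prime_of_isCoatom {G : Type u} [Group G] [Finite G] (hG : Cfsg.IsSupersolvable G)
    {M : Subgroup G} (hM : IsCoatom M) : M.index.Prime :=
  coatom_aux _ G rfl hG M hM

theorem isSolvable_of_supersolvable {G : Type u} [Group G] [Finite G]
    (hG : Cfsg.IsSupersolvable G) : Group.IsSolvable G := by
  haveI := isNilpotent_commutator_of_supersolvable hG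
  haveI : Group.IsSolvable (G ⧸ commutator G) :=
    Group.isSolvable_of_comm (G := Abelianization G) fun a b => mul_comm a b
  exact Group.isSolvable_of_ker_le_range (commutator G).subtype (QuotientGroup.mk' (commutator G)) (by simp)

end CfsgLib.Solvable
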