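import Mathlib

/-!
Isotypic projections of a finite abelian group over an algebraically closed field, and the orbit
argument for an operator of prime-power order without fixed vectors which permutes them.
-/

set_option autoImplicit false

namespace CfsgLib.Solvable

variable {k : Type*} [Field k] {V : Type*} [AddCommGroup V] [Module k V]
variable {U : Type*} [CommGroup U] [Finite U]

/-- The projection on the `χ`-eigenspace of a finite abelian group. -/
noncomputable def charProj (ρ : U →* Module.End k V) (χ : U →* kˣ) : Module.End k V :=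
  letI := Fintype.ofFinite U
  (Nat.card U : k)⁻¹ • ∑ u : U, ((χ u⁻¹ : kˣ) : k) • ρ u

variable (ρ : U →* Module.End k V)

theorem apply_mul_charProj (χ : U →* kˣ) (u : U) :
    ρ u * charProj ρ χ = ((χ u : kˣ) : k) • charProj ρ χ := by
  letI := Fintype.ofFinite U
  rw [charProj, mul_smul_comm, Finset.mul_sum, smul_comm]
  congr 1
  rw [Finset.smul_sum]
  refine Fintype.sum_equiv (Equiv.mulLeft u) _ _ fun v => ?_
  rw [Equiv.coe_mulLeft, mul_smul_comm, ← map_mul ρ, smul_smul]
  congr 1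
  rw [← Units.val_mul, ← map_mul, mul_inv_rev, mul_left_comm, mul_inv_cancel, mul_one]

theorem charProj_mul_apply (χ : U →* kˣ) (u : U) :
    charProj ρ χ * ρ u = ((χ u : kˣ) : k) • charProj ρ χ := by
  rw [← apply_mul_charProj]
  letI := Fintype.ofFinite U
  rw [charProj, mul_smul_comm, smul_mul_assoc, Finset.mul_sum, Finset.sum_mul]
  congr 1
  refine Finset.sum_congr rfl fun v _ => ?_
  rw [mul_smul_comm, smul_mul_assoc, ← map_mul ρ, ← map_mul ρ, mul_comm]

theorem charProj_comm (χ : U →* kˣ) {T : Module.End k V} (hT : ∀ u, T * ρ u = ρ u * T) :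
    T * charProj ρ χ = charProj ρ χ * T := by
  letI := Fintype.ofFinite U
  rw [charProj, mul_smul_comm, smul_mul_assoc, Finset.mul_sum, Finset.sum_mul]
  congr 1
  refine Finset.sum_congr rfl fun v _ => ?_
  rw [mul_smul_comm, smul_mul_assoc, hT]

theorem charProj_semiconj (φ : MulAut U) {S : Module.End k V}
    (hS : ∀ u, S * ρ u = ρ (φ u) * S) (χ : U →* kˣ) :
    S * charProj ρ (χ.comp φ.toMonoidHom) = charProj ρ χ * S := by
  letI := Fintype.ofFinite U
  rw [charProj, charProj, mul_smul_comm, smul_mul_assoc, Finset.mul_sum, Finset.sum_mul]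
  congr 1
  refine Fintype.sum_equiv φ.toEquiv _ _ fun v => ?_
  rw [mul_smul_comm, smul_mul_assoc, hS]
  simp

theorem charProj_mul_of_ne {χ ψ : U →* kˣ} (h : χ ≠ ψ) : charProj ρ χ * charProj ρ ψ = 0 := by
  obtain ⟨u, hu⟩ : ∃ u, χ u ≠ ψ u := by
    by_contra hc
    push Not at hc
    exact h (MonoidHom.ext hc)
  have h1 : charProj ρ χ * (ρ u * charProj ρ ψ) = charProj ρ χ * ρ u * charProj ρ ψ :=
    (mul_assoc _ _ _).symm
  rw [apply_mul_charProj, charProj_mul_apply, mul_smul_comm, smul_mul_assoc] at h1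
  by_contra hne
  exact hu (Units.ext (smul_left_injective k hne h1).symm)

variable [IsAlgClosed k]

theorem sum_charProj (hU : (Nat.card U : k) ≠ 0) :
    letI := Fintype.ofFinite (U →* kˣ)
    ∑ χ : U →* kˣ, charProj ρ χ = 1 := by
  classical
  haveI : NeZero ((Monoid.exponent U : ℕ) : k) := ⟨fun h => hU (by
    obtain ⟨c, hc⟩ := Group.exponent_dvd_nat_card (G := U)
    rw [hc, Nat.cast_mul, h, zero_mul])⟩
  have hcard := CommGroup.card_monoidHom_of_hasEnoughRootsOfUnity U k
  haveI : Finite (U →* kˣ) := Nat.finite_of_card_ne_zero (by rw [hcard]; exact Nat.card_pos.ne')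
  letI := Fintype.ofFinite U
  letI := Fintype.ofFinite (U →* kˣ)
  simp only [charProj]
  rw [← Finset.smul_sum, Finset.sum_comm, Finset.sum_eq_single (1 : U)]
  · simp only [inv_one, map_one, Units.val_one, one_smul, Finset.sum_const, Finset.card_univ]
    rw [← Nat.cast_smul_eq_nsmul k, smul_smul, ← Nat.card_eq_fintype_card, hcard,
      inv_mul_cancel₀ hU, one_smul]
  · intro u _ hu
    obtain ⟨φ, hφ⟩ := CommGroup.exists_apply_ne_one_of_hasEnoughRootsOfUnity U k
      (inv_ne_one.2 hu)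
    let ev : (U →* kˣ) →* k :=
      { toFun := fun χ => ((χ u⁻¹ : kˣ) : k)
        map_one' := rfl
        map_mul' := fun _ _ => rfl }
    have hz : ∑ χ : U →* kˣ, ev χ = 0 := sum_hom_units_eq_zero ev fun h => hφ (Units.ext
      (DFunLike.congr_fun h φ))
    rw [← Finset.sum_smul]
    exact (congrArg (· • ρ u) hz).trans (zero_smul k _)
  · intro h; exact absurd (Finset.mem_univ _) h

theorem ext_charProj (hU : (Nat.card U : k) ≠ 0) {A B : Module.End k V}
    (h : ∀ χ, charProj ρ χ * A = charProj ρ χ * B) : A = B := by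
  haveI : NeZero ((Monoid.exponent U : ℕ) : k) := ⟨fun h => hU (by
    obtain ⟨c, hc⟩ := Group.exponent_dvd_nat_card (G := U)
    rw [hc, Nat.cast_mul, h, zero_mul])⟩
  haveI : Finite (U →* kˣ) := Nat.finite_of_card_ne_zero
    (by rw [CommGroup.card_monoidHom_of_hasEnoughRootsOfUnity U k]; exact Nat.card_pos.ne')
  letI := Fintype.ofFinite (U →* kˣ)
  rw [← one_mul A, ← one_mul B, ← sum_charProj ρ hU, Finset.sum_mul, Finset.sum_mul]
  exact Finset.sum_congr rfl fun χ _ => h χ

theorem charProj_idem (hU : (Nat.card U : k) ≠ 0) (χ : U →* kˣ) :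
    charProj ρ χ * charProj ρ χ = charProj ρ χ := by
  refine ext_charProj ρ hU fun ψ => ?_
  by_cases h : ψ = χ
  · subst h
    letI := Fintype.ofFinite U
    conv_lhs => arg 2; arg 1; rw [charProj]
    rw [smul_mul_assoc, Finset.sum_mul]
    have : ∀ u : U, (((ψ u⁻¹ : kˣ) : k) • ρ u) * charProj ρ ψ = charProj ρ ψ := fun u => by
      rw [smul_mul_assoc, apply_mul_charProj, smul_smul, ← Units.val_mul, ← map_mul,
        inv_mul_cancel, map_one, Units.val_one, one_smul]
    rw [Finset.sum_congr rfl fun u _ => this u, Finset.sum_const, Finset.card_univ,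
      ← Nat.cast_smul_eq_nsmul k, smul_smul, ← Nat.card_eq_fintype_card, inv_mul_cancel₀ hU,
      one_smul]
  · rw [← mul_assoc, charProj_mul_of_ne ρ h, zero_mul]

omit [IsAlgClosed k] [Finite U] in
/-- If the translates `S ^ i w`, `0 < i < N`, are killed by a projection fixing `w` and
`S ^ N w = w`, then `w = 0` as soon as `S` fixes no nonzero vector. -/
theorem eq_zero_of_orbit {S P : Module.End k V} (hfix : ∀ v, S v = v → v = 0) {N : ℕ} (hN : 0 < N)
    {w : V} (hS : (S ^ N) w = w) (hP : P w = w) (hP0 : ∀ i, 0 < i → i < N → P ((S ^ i) w) = 0) :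
    w = 0 := by
  have h1 : S (∑ i ∈ Finset.range N, (S ^ i) w) = ∑ i ∈ Finset.range N, (S ^ i) w := by
    rw [map_sum]
    have e : ∀ i, S ((S ^ i) w) = (S ^ (i + 1)) w := fun i => by rw [pow_succ']; rfl
    simp only [e]
    have h2 := Finset.sum_range_succ' (fun i => (S ^ i) w) N
    rw [Finset.sum_range_succ, hS, pow_zero] at h2
    exact (add_right_cancel h2).symm
  have h2 := congrArg P (hfix _ h1)
  rw [map_zero, map_sum, Finset.sum_eq_single 0] at h2
  · rwa [pow_zero, Module.End.one_apply, hP] at h2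
  · intro i hi hne
    exact hP0 i (Nat.pos_of_ne_zero hne) (Finset.mem_range.1 hi)
  · intro h; exact absurd (Finset.mem_range.2 hN) h

omit [IsAlgClosed k] [Finite U] in
theorem semiconj_pow (φ : MulAut U) {S : Module.End k V} (hS : ∀ u, S * ρ u = ρ (φ u) * S) :
    ∀ (i : ℕ) (u : U), S ^ i * ρ u = ρ ((φ ^ i) u) * S ^ i := by
  intro i
  induction i with
  | zero => intro u; simp
  | succ i ih =>
    intro u
    calc S ^ (i + 1) * ρ u = S * (S ^ i * ρ u) := by rw [pow_succ', mul_assoc]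
      _ = S * ρ ((φ ^ i) u) * S ^ i := by rw [ih, mul_assoc]
      _ = ρ (φ ((φ ^ i) u)) * S * S ^ i := by rw [hS]
      _ = ρ ((φ ^ (i + 1)) u) * S ^ (i + 1) := by rw [mul_assoc, ← pow_succ', pow_succ' φ]; rfl

omit [IsAlgClosed k] [Finite U] in
/-- The period of a character under an automorphism of `p`-power order. -/
theorem exists_period (φ : MulAut U) {p n : ℕ} [hp : Fact p.Prime] (hφ : φ ^ (p ^ n) = 1)
    (χ : U →* kˣ) :
    ∃ a, a ≤ n ∧ χ.comp (φ ^ (p ^ a)).toMonoidHom = χ ∧
      ∀ i, 0 < i → i < p ^ a → χ.comp (φ ^ i).toMonoidHom ≠ χ := by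
  classical
  have hex : ∃ s, 0 < s ∧ χ.comp (φ ^ s).toMonoidHom = χ :=
    ⟨p ^ n, pow_pos hp.out.pos n, by rw [hφ]; ext u; rfl⟩
  obtain ⟨hs0, hs⟩ := Nat.find_spec hex
  set s := Nat.find hex with hsdef
  have hmul : ∀ j, χ.comp (φ ^ (s * j)).toMonoidHom = χ := by
    intro j
    induction j with
    | zero => ext u; simp
    | succ j ih =>
      have e : χ.comp (φ ^ (s * (j + 1))).toMonoidHom =
          (χ.comp (φ ^ (s * j)).toMonoidHom).comp (φ ^ s).toMonoidHom := by
        rw [mul_add, mul_one, pow_add]; rfl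
      rw [e, ih, hs]
  have hdvd : s ∣ p ^ n := by
    by_contra hnd
    have hlt := Nat.mod_lt (p ^ n) hs0
    refine Nat.find_min hex hlt ⟨Nat.pos_of_ne_zero fun h => hnd (Nat.dvd_of_mod_eq_zero h), ?_⟩
    have e : χ.comp (φ ^ (p ^ n)).toMonoidHom =
        (χ.comp (φ ^ (s * (p ^ n / s))).toMonoidHom).comp (φ ^ (p ^ n % s)).toMonoidHom := by
      conv_lhs => rw [← Nat.div_add_mod (p ^ n) s]
      rw [pow_add]; rfl
    rw [hmul] at e
    rw [← e, hφ]
    ext u; rfl
  obtain ⟨a, ha, has⟩ := (Nat.dvd_prime_pow hp.out).1 hdvd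
  exact ⟨a, ha, has ▸ hs, fun i hi hlt h => Nat.find_min hex (hsdef ▸ has ▸ hlt) ⟨hi, h⟩⟩

/-- A vector of the `χ`-eigenspace fixed by the stabiliser of `χ` is zero. -/
theorem eq_zero_of_component (hU : (Nat.card U : k) ≠ 0) (φ : MulAut U) {S : Module.End k V}
    (hS : ∀ u, S * ρ u = ρ (φ u) * S) (hfix : ∀ v, S v = v → v = 0) {χ : U →* kˣ} {N : ℕ}
    (hN : 0 < N) (hne : ∀ i, 0 < i → i < N → χ.comp (φ ^ i).toMonoidHom ≠ χ) {w : V}
    (hw : charProj ρ χ w = w) (hSw : (S ^ N) w = w) : w = 0 := by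
  refine eq_zero_of_orbit hfix hN hSw hw fun i hi hlt => ?_
  have h1 := charProj_semiconj ρ (φ ^ i) (semiconj_pow ρ φ hS i) χ
  have h2 : charProj ρ χ ((S ^ i) w) = (S ^ i) (charProj ρ (χ.comp (φ ^ i).toMonoidHom) w) :=
    (LinearMap.congr_fun h1 w).symm
  rw [h2]
  have h3 : charProj ρ (χ.comp (φ ^ i).toMonoidHom) w = 0 := by
    rw [← hw]
    exact LinearMap.congr_fun (charProj_mul_of_ne ρ (hne i hi hlt)) w
  rw [h3, map_zero]

/-- An automorphism of order dividing `p ^ m` of an abelian group acting on a module with no fixed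
vector: its power of index `p ^ (m - 1)` acts trivially. -/
theorem abelian_step (hU : (Nat.card U : k) ≠ 0) (φ : MulAut U) {S : Module.End k V}
    (hS : ∀ u, S * ρ u = ρ (φ u) * S) (hfix : ∀ v, S v = v → v = 0) {p m : ℕ} [hp : Fact p.Prime]
    (hφ : φ ^ (p ^ m) = 1) (hSm : S ^ (p ^ m) = 1) (u : U) :
    ρ ((φ ^ (p ^ (m - 1))) u) = ρ u := by
  refine ext_charProj ρ hU fun χ => ?_
  rw [charProj_mul_apply, charProj_mul_apply]
  obtain ⟨a, ha, hper, hne⟩ := exists_period φ hφ χ
  rcases ha.lt_or_eq with hlt | rfl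
  · obtain ⟨j, hj⟩ : p ^ a ∣ p ^ (m - 1) := pow_dvd_pow p (by omega)
    have key : ∀ j, χ.comp (φ ^ (p ^ a * j)).toMonoidHom = χ := by
      intro j
      induction j with
      | zero => ext v; simp
      | succ j ih =>
        have e : χ.comp (φ ^ (p ^ a * (j + 1))).toMonoidHom =
            (χ.comp (φ ^ (p ^ a * j)).toMonoidHom).comp (φ ^ (p ^ a)).toMonoidHom := by
          rw [mul_add, mul_one, pow_add]; rfl
        rw [e, ih, hper]
    have h1 : χ ((φ ^ (p ^ (m - 1))) u) = χ u := by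
      rw [hj]
      exact DFunLike.congr_fun (key j) u
    rw [h1]
  · have hz : charProj ρ χ = 0 := by
      refine LinearMap.ext fun v => ?_
      refine eq_zero_of_component ρ hU φ hS hfix (pow_pos hp.out.pos a) hne ?_ ?_
      · exact LinearMap.congr_fun (charProj_idem ρ hU χ) v
      · rw [hSm]; rfl
    rw [hz, smul_zero, smul_zero]

end CfsgLib.Solvable
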