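import Cfsg.Agent.Lib.Solvable.HallHigmanComponent
import Cfsg.Agent.Lib.Solvable.HallHigmanArith

/-!
Full data of an exceptional component in the Hall–Higman analysis (any prime `p`), together with
transfer of the spectrum of the intertwiner to other modules with the same central character.
-/

set_option autoImplicit false

open scoped commutatorElement

namespace CfsgLib.Solvable

variable {k : Type*} [Field k] {W : Type*} [AddCommGroup W] [Module k W]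
variable {Q : Type*} [Group Q]

/-- The representation on an invariant submodule. -/
def restrictRep (ρ : Q →* Module.End k W) (U : Submodule k W)
    (hU : ∀ y, ∀ w ∈ U, ρ y w ∈ U) : Q →* Module.End k U where
  toFun y := (ρ y).restrict (hU y)
  map_one' := LinearMap.ext fun w => Subtype.ext (by simp)
  map_mul' y z := LinearMap.ext fun w => Subtype.ext (by
    rw [LinearMap.restrict_coe_apply, map_mul]; rfl)

theorem restrictRep_coe (ρ : Q →* Module.End k W) (U : Submodule k W)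
    (hU : ∀ y, ∀ w ∈ U, ρ y w ∈ U) (y : Q) (w : U) :
    ((restrictRep ρ U hU y w : U) : W) = ρ y w := rfl

theorem restrictRep_smul (ρ : Q →* Module.End k W) (U : Submodule k W)
    (hU : ∀ y, ∀ w ∈ U, ρ y w ∈ U) {y : Q} {c : k} (h : ρ y = c • 1) :
    restrictRep ρ U hU y = c • 1 :=
  LinearMap.ext fun w => Subtype.ext (by
    show ρ y (w : W) = c • (w : W)
    rw [h]; rfl)

theorem exists_irreducible_invariant [FiniteDimensional k W] [Nontrivial W]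
    (ρ : Q →* Module.End k W) :
    ∃ (U : Submodule k W) (hU : ∀ y, ∀ w ∈ U, ρ y w ∈ U), U ≠ ⊥ ∧
      ∀ U' : Submodule k U, (∀ y, ∀ w ∈ U', restrictRep ρ U hU y w ∈ U') → U' = ⊥ ∨ U' = ⊤ := by
  obtain ⟨U, ⟨hUinv, hUne⟩, hUmin⟩ := (wellFounded_lt (α := Submodule k W)).has_min
    {U | (∀ y, ∀ w ∈ U, ρ y w ∈ U) ∧ U ≠ ⊥} ⟨⊤, fun y w _ => Submodule.mem_top, top_ne_bot⟩
  refine ⟨U, hUinv, hUne, fun U' hU' => ?_⟩
  by_contra hcon
  push Not at hcon
  refine hUmin (U'.map U.subtype) ⟨?_, fun h => hcon.1 ?_⟩ ?_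
  · rintro y _ ⟨w, hw, rfl⟩
    exact ⟨restrictRep ρ U hUinv y w, hU' y w hw, rfl⟩
  · exact Submodule.map_injective_of_injective (Submodule.injective_subtype U)
      (h.trans (Submodule.map_bot _).symm)
  · refine lt_of_le_of_ne (Submodule.map_subtype_le _ _) fun h => hcon.2 ?_
    refine Submodule.map_injective_of_injective (Submodule.injective_subtype U) ?_
    rw [h, Submodule.map_top, Submodule.range_subtype]

variable [Finite Q] {W' : Type*} [AddCommGroup W'] [Module k W']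

/-- An irreducible representation maps into any representation with the same scalars on `R`. -/
theorem exists_intertwining_hom [Nontrivial W] [Nontrivial W'] (ρ : Q →* Module.End k W)
    (ρ' : Q →* Module.End k W') {R : Subgroup Q} [R.Normal]
    (hR : ∀ r ∈ R, ∃ c : k, ρ r = c • 1 ∧ ρ' r = c • 1) (hD : ∀ x y : Q, ⁅x, y⁆ ∈ R)
    (hnd : ∀ x : Q, x ∉ R → ∃ y : Q, ρ ⁅y, x⁆ ≠ 1)
    (hirr : ∀ U : Submodule k W, (∀ x, ∀ w ∈ U, ρ x w ∈ U) → U = ⊥ ∨ U = ⊤) :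
    ∃ f : W →ₗ[k] W', Function.Injective f ∧ ∀ y w, ρ' y (f w) = f (ρ y w) := by
  classical
  letI := Fintype.ofFinite (Q ⧸ R)
  have hnd' : ∀ x : Q, x ∉ R → ∃ y : Q, ρ' ⁅y, x⁆ ≠ 1 := fun x hx => by
    obtain ⟨y, hy⟩ := hnd x hx
    obtain ⟨c, hc, hc'⟩ := hR _ (hD y x)
    refine ⟨y, fun h => hy ?_⟩
    obtain ⟨w, hw⟩ := exists_ne (0 : W')
    rw [hc'] at h
    have hc1 : c = 1 := smul_left_injective k hw
      (show c • w = (1 : k) • w by simpa using LinearMap.congr_fun h w)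
    rw [hc, hc1, one_smul]
  have hind := rep_section_independent ρ' (fun r hr => (hR r hr).imp fun c hc => hc.2) hD hnd'
    (fun t : Q ⧸ R => t.out) (fun t => t.out_eq')
  let avg : (W →ₗ[k] W') → (W →ₗ[k] W') := fun Ψ =>
    ∑ t : Q ⧸ R, (ρ' t.out).comp (Ψ.comp (ρ t.out⁻¹))
  obtain ⟨Ψ₀, hΨ₀⟩ : ∃ Ψ, avg Ψ ≠ 0 := by
    by_contra hc
    push Not at hc
    obtain ⟨v, hv⟩ := exists_ne (0 : W)
    obtain ⟨f, hf⟩ : ∃ f : W →ₗ[k] k, f (ρ (1 : Q ⧸ R).out⁻¹ v) ≠ 0 := by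
      by_contra hcon
      push Not at hcon
      have h0 := (Module.forall_dual_apply_eq_zero_iff k _).1 hcon
      refine hv ?_
      calc v = ρ (1 : Q ⧸ R).out (ρ (1 : Q ⧸ R).out⁻¹ v) := by
            rw [← Module.End.mul_apply, ← map_mul, mul_inv_cancel, map_one, Module.End.one_apply]
        _ = 0 := by rw [h0, map_zero]
    refine hf (Fintype.linearIndependent_iff.1 hind (fun t => f (ρ t.out⁻¹ v)) ?_ 1)
    refine LinearMap.ext fun u => ?_
    have h := LinearMap.congr_fun (hc (f.smulRight u)) v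
    simpa [avg, LinearMap.sum_apply] using h
  set Ψ := avg Ψ₀ with hΨ
  have hint : ∀ y, (ρ' y).comp Ψ = Ψ.comp (ρ y) := by
    intro y
    let F : Q → (W →ₗ[k] W') := fun x => (ρ' x).comp (Ψ₀.comp (ρ x⁻¹))
    have hF : ∀ r ∈ R, ∀ x, F (x * r) = F x := by
      intro r hr x
      obtain ⟨c, hc, hc'⟩ := hR r hr
      have e2 : c • ρ r⁻¹ = 1 := by
        rw [← one_mul (ρ r⁻¹), ← smul_mul_assoc, ← hc, ← map_mul, mul_inv_cancel, map_one]
      refine LinearMap.ext fun w => ?_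
      show ρ' (x * r) (Ψ₀ (ρ (x * r)⁻¹ w)) = ρ' x (Ψ₀ (ρ x⁻¹ w))
      have e4 : c • ρ r⁻¹ (ρ x⁻¹ w) = ρ x⁻¹ w := LinearMap.congr_fun e2 (ρ x⁻¹ w)
      rw [map_mul ρ', mul_inv_rev, map_mul ρ, Module.End.mul_apply, Module.End.mul_apply, hc',
        LinearMap.smul_apply, Module.End.one_apply]
      conv_rhs => rw [← e4, map_smul]
    have hF' : ∀ x, F x = F (QuotientGroup.mk x : Q ⧸ R).out := fun x => by
      obtain ⟨r, hr⟩ := QuotientGroup.mk_out_eq_mul R x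
      rw [hr, hF r r.2]
    have h1 : (ρ' y).comp (Ψ.comp (ρ y⁻¹)) = Ψ := by
      rw [hΨ]
      refine LinearMap.ext fun w => ?_
      simp only [avg, LinearMap.comp_apply, LinearMap.sum_apply, map_sum]
      refine Fintype.sum_equiv (Equiv.mulLeft (QuotientGroup.mk y)) _ _ fun t => ?_
      calc ρ' y (ρ' t.out (Ψ₀ (ρ t.out⁻¹ (ρ y⁻¹ w)))) = F (y * t.out) w := by
            simp only [F, map_mul, mul_inv_rev, LinearMap.comp_apply, Module.End.mul_apply]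
        _ = F (Equiv.mulLeft (QuotientGroup.mk y) t).out w := by
            rw [hF' (y * t.out), QuotientGroup.mk_mul, QuotientGroup.out_eq']; rfl
    refine LinearMap.ext fun w => ?_
    have h := LinearMap.congr_fun h1 (ρ y w)
    simp only [LinearMap.comp_apply] at h
    rw [← Module.End.mul_apply (ρ y⁻¹), ← map_mul, inv_mul_cancel, map_one,
      Module.End.one_apply] at h
    exact h
  refine ⟨Ψ, ?_, fun y w => LinearMap.congr_fun (hint y) w⟩
  rw [← LinearMap.ker_eq_bot]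
  refine (hirr _ fun x w hw => ?_).resolve_right fun h => hΨ₀ (LinearMap.ker_eq_top.1 h)
  rw [LinearMap.mem_ker] at hw ⊢
  have h := LinearMap.congr_fun (hint x) w
  simp only [LinearMap.comp_apply] at h
  rw [← h, hw, map_zero]

variable [IsAlgClosed k] [FiniteDimensional k W] [FiniteDimensional k W']

/-- An intertwining embedding which is an eigenvector for the conjugation by the operators. -/
theorem exists_eigen_intertwiner [Nontrivial W] [Nontrivial W'] (ρ : Q →* Module.End k W)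
    (ρ' : Q →* Module.End k W') {R : Subgroup Q} [R.Normal]
    (hR : ∀ r ∈ R, ∃ c : k, ρ r = c • 1 ∧ ρ' r = c • 1) (hD : ∀ x y : Q, ⁅x, y⁆ ∈ R)
    (hnd : ∀ x : Q, x ∉ R → ∃ y : Q, ρ ⁅y, x⁆ ≠ 1)
    (hirr : ∀ U : Submodule k W, (∀ x, ∀ w ∈ U, ρ x w ∈ U) → U = ⊥ ∨ U = ⊤)
    (η : MulAut Q) {N : ℕ} (hN : 0 < N) {Γ₁ : Module.End k W}
    (hΓ₁ : ∀ x, Γ₁ * ρ x = ρ (η x) * Γ₁) (hΓ₁N : Γ₁ ^ N = 1) {Γ' : Module.End k W'}
    (hΓ' : ∀ x, Γ' * ρ' x = ρ' (η x) * Γ') (hΓ'N : Γ' ^ N = 1) :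
    ∃ (f : W →ₗ[k] W') (ω : k), Function.Injective f ∧ ω ^ N = 1 ∧
      (∀ y w, ρ' y (f w) = f (ρ y w)) ∧ ∀ w, Γ' (f w) = ω • f (Γ₁ w) := by
  obtain ⟨f₀, hf₀inj, hf₀⟩ := exists_intertwining_hom ρ ρ' hR hD hnd hirr
  let H : Submodule k (W →ₗ[k] W') :=
    { carrier := {f | ∀ y (w : W), ρ' y (f w) = f (ρ y w)}
      add_mem' := fun {f g} hf hg y w => by simp [hf y w, hg y w]
      zero_mem' := fun y w => by simp
      smul_mem' := fun c f hf y w => by simp [hf y w] }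
  set Θ := Γ₁ ^ (N - 1) with hΘ
  have hΘ0 : Γ₁ * Θ = 1 := by rw [hΘ, ← pow_succ', Nat.sub_add_cancel hN, hΓ₁N]
  have hΘ1 : Θ * Γ₁ = 1 := by rw [hΘ, ← pow_succ, Nat.sub_add_cancel hN, hΓ₁N]
  have hΘρ : ∀ y, Θ * ρ (η y) = ρ y * Θ := fun y => by
    calc Θ * ρ (η y) = Θ * (ρ (η y) * Γ₁) * Θ := by
          rw [mul_assoc Θ (ρ (η y) * Γ₁) Θ, mul_assoc (ρ (η y)), hΘ0, mul_one]
      _ = Θ * (Γ₁ * ρ y) * Θ := by rw [hΓ₁]
      _ = _ := by rw [← mul_assoc, hΘ1, one_mul]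
  let L₀ : (W →ₗ[k] W') →ₗ[k] (W →ₗ[k] W') :=
    (LinearMap.llcomp k W W' W' Γ').comp (LinearMap.lcomp k W' Θ)
  have hL₀ : ∀ f w, L₀ f w = Γ' (f (Θ w)) := fun f w => rfl
  have hLmem : ∀ f ∈ H, L₀ f ∈ H := by
    intro f hf y w
    obtain ⟨y, rfl⟩ := η.surjective y
    rw [hL₀, hL₀, ← Module.End.mul_apply, ← hΓ', Module.End.mul_apply, hf,
      ← Module.End.mul_apply (ρ y) Θ, ← hΘρ, Module.End.mul_apply]
  have hH : Nontrivial H :=
    ⟨⟨⟨f₀, hf₀⟩, 0, fun h => by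
      obtain ⟨w, hw⟩ := exists_ne (0 : W)
      exact hw (hf₀inj ((LinearMap.congr_fun (congrArg Subtype.val h) w).trans
        (map_zero f₀).symm))⟩⟩
  obtain ⟨ω, hω⟩ := Module.End.exists_eigenvalue (K := k) (V := H) (L₀.restrict hLmem)
  obtain ⟨⟨f, hfH⟩, hf, hfne⟩ := hω.exists_hasEigenvector
  rw [Module.End.mem_eigenspace_iff] at hf
  have hfeq : ∀ w, Γ' (f (Θ w)) = ω • f w := fun w =>
    LinearMap.congr_fun (congrArg Subtype.val hf) w
  have hfinj : Function.Injective f := by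
    rw [← LinearMap.ker_eq_bot]
    refine (hirr _ fun y w hw => ?_).resolve_right fun h => hfne (Subtype.ext ?_)
    · rw [LinearMap.mem_ker] at hw ⊢
      rw [← hfH y w, hw, map_zero]
    · exact LinearMap.ker_eq_top.1 h
  refine ⟨f, ω, hfinj, ?_, hfH, fun w => ?_⟩
  · have key : ∀ (i : ℕ) w, (Γ' ^ i) (f ((Θ ^ i) w)) = ω ^ i • f w := by
      intro i
      induction i with
      | zero => intro w; simp
      | succ i ih' =>
        intro w
        rw [pow_succ', pow_succ, Module.End.mul_apply, Module.End.mul_apply, ih' (Θ w), map_smul,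
          hfeq, smul_smul, ← pow_succ]
    obtain ⟨w, hw⟩ := exists_ne (0 : W)
    have h := key N w
    rw [hΓ'N, hΘ, ← pow_mul, mul_comm, pow_mul, hΓ₁N, one_pow, Module.End.one_apply,
      Module.End.one_apply] at h
    exact (smul_left_injective k (fun h0 => hw (hfinj (h0.trans (map_zero f).symm)))
      ((one_smul k (f w)).trans h)).symm
  · have h := hfeq (Γ₁ w)
    rwa [← Module.End.mul_apply Θ, hΘ1, Module.End.one_apply] at h

/-- An operator without fixed vectors, intertwining the same twist on a module with the same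
scalars, has every root of unity other than `1` as an eigenvalue. -/
theorem spectrum_transfer [Nontrivial W] [Nontrivial W'] (ρ : Q →* Module.End k W)
    (ρ' : Q →* Module.End k W') {R : Subgroup Q} [R.Normal]
    (hR : ∀ r ∈ R, ∃ c : k, ρ r = c • 1 ∧ ρ' r = c • 1) (hD : ∀ x y : Q, ⁅x, y⁆ ∈ R)
    (hnd : ∀ x : Q, x ∉ R → ∃ y : Q, ρ ⁅y, x⁆ ≠ 1)
    (hirr : ∀ U : Submodule k W, (∀ x, ∀ w ∈ U, ρ x w ∈ U) → U = ⊥ ∨ U = ⊤)
    (γ : MulAut Q) {N : ℕ} (hN : 0 < N) {Γ₀ : Module.End k W}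
    (hΓ₀ : ∀ x, Γ₀ * ρ x = ρ (γ x) * Γ₀) (hΓ₀N : Γ₀ ^ N = 1)
    {α₀ : k} (hspec : ∀ α : k, α ^ N = 1 → α ≠ α₀ → ∃ v : W, v ≠ 0 ∧ Γ₀ v = α • v)
    {Γ' : Module.End k W'} (hΓ' : ∀ x, Γ' * ρ' x = ρ' (γ x) * Γ') (hΓ'N : Γ' ^ N = 1)
    (hfix : ∀ v : W', Γ' v = v → v = 0) (β : k) (hβ : β ^ N = 1) (hβ1 : β ≠ 1) :
    ∃ v : W', v ≠ 0 ∧ Γ' v = β • v := by
  obtain ⟨f, ω, hfinj, hωN, -, hf⟩ :=
    exists_eigen_intertwiner ρ ρ' hR hD hnd hirr γ hN hΓ₀ hΓ₀N hΓ' hΓ'N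
  have hω : ω ≠ 0 := fun h => by rw [h, zero_pow hN.ne'] at hωN; exact zero_ne_one hωN
  have heig : ∀ (α : k) (v : W), Γ₀ v = α • v → Γ' (f v) = (ω * α) • f v := fun α v hv => by
    rw [hf, hv, map_smul, smul_smul]
  have hα₀ : α₀ = ω⁻¹ := by
    by_contra hne
    obtain ⟨v, hv, hveq⟩ := hspec ω⁻¹ (by rw [inv_pow, hωN, inv_one]) (Ne.symm hne)
    have h := heig _ v hveq
    rw [mul_inv_cancel₀ hω, one_smul] at h
    exact hv (hfinj ((hfix _ h).trans (map_zero f).symm))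
  obtain ⟨v, hv, hveq⟩ := hspec (ω⁻¹ * β) (by rw [mul_pow, inv_pow, hωN, hβ, inv_one, one_mul])
    (by rw [hα₀]; intro h; exact hβ1 ((mul_eq_left₀ (inv_ne_zero hω)).1 h))
  refine ⟨f v, fun h => hv (hfinj (h.trans (map_zero f).symm)), ?_⟩
  rw [heig _ v hveq, ← mul_assoc, mul_inv_cancel₀ hω, one_mul]

set_option maxHeartbeats 1000000 in
/-- Structure of a component on which the power of order `p` acts nontrivially. -/
theorem component_data [Nontrivial W] {p M : ℕ} [hp : Fact p.Prime] (hM : 0 < M) (hpk : (p : k) ≠ 0)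
    (hQk : (Nat.card Q : k) ≠ 0) {C : Subgroup Q} (hCcent : C ≤ Subgroup.center Q)
    (hDC : ∀ x y : Q, ⁅x, y⁆ ∈ C) (γ : MulAut Q) (hγN : γ ^ (p ^ M) = 1)
    (hτC : ∀ y ∈ C, (γ ^ (p ^ (M - 1))) y = y)
    (hτfpf : ∀ x, x⁻¹ * (γ ^ (p ^ (M - 1))) x ∈ C → x ∈ C)
    (hgen : Subgroup.closure (Set.range fun x : Q => x⁻¹ * (γ ^ (p ^ (M - 1))) x) ⊔ C = ⊤)
    (hγC : ∀ y ∈ C, γ y ∈ C)
    (ρ : Q →* Module.End k W) (hscal : ∀ y ∈ C, ∃ c : k, ρ y = c • 1) {Γ : Module.End k W}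
    (hΓρ : ∀ y, Γ * ρ y = ρ (γ y) * Γ) (hΓN : Γ ^ (p ^ M) = 1)
    (hfix : ∀ w : W, Γ w = w → w = 0) :
    (∀ x, ρ ((γ ^ (p ^ (M - 1))) x) = ρ x) ∨
    ∃ (R : Subgroup Q) (_ : R.Normal), (∀ x, x ∈ R ↔ ∀ y : Q, ρ ⁅x, y⁆ = 1) ∧
      C ≤ R ∧ (∀ r ∈ R, γ r ∈ R) ∧ (∀ r ∈ R, ∃ c : k, ρ r = c • 1) ∧
      (∀ x, x⁻¹ * (γ ^ (p ^ (M - 1))) x ∈ R → x ∈ R) ∧
      (∀ x : Q, x ∉ R → ∃ y : Q, ρ ⁅y, x⁆ ≠ 1) ∧
      Nat.card (Q ⧸ R) = (p ^ M - 1) ^ 2 ∧
      ∃ (U : Submodule k W) (hU : ∀ y, ∀ w ∈ U, ρ y w ∈ U), Nontrivial U ∧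
        (∀ U' : Submodule k U, (∀ y, ∀ w ∈ U', restrictRep ρ U hU y w ∈ U') → U' = ⊥ ∨ U' = ⊤) ∧
        ∃ (Γ₀ : Module.End k U) (α₀ : k), (∀ x, Γ₀ * restrictRep ρ U hU x =
            restrictRep ρ U hU (γ x) * Γ₀) ∧ Γ₀ ^ (p ^ M) = 1 ∧
          ∀ α : k, α ^ (p ^ M) = 1 → α ≠ α₀ → ∃ v : U, v ≠ 0 ∧ Γ₀ v = α • v := by
  classical
  set τ := γ ^ (p ^ (M - 1)) with hτ
  set N := p ^ M with hNdef
  have hN0 : 0 < N := pow_pos hp.out.pos _
  have hNk : (N : k) ≠ 0 := by rw [hNdef, Nat.cast_pow]; exact pow_ne_zero _ hpk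
  have hΓinv : Γ * Γ ^ (N - 1) = 1 := by rw [← pow_succ', Nat.sub_add_cancel hN0, hΓN]
  have hcardk : ∀ (H : Subgroup Q), (Nat.card H : k) ≠ 0 := fun H h => hQk (by
    obtain ⟨d, hd⟩ := H.card_subgroup_dvd_card
    rw [hd, Nat.cast_mul, h, zero_mul])
  have hCnorm : C.Normal := ⟨fun x hx g => by
    rw [Subgroup.mem_center_iff.1 (hCcent hx) g, mul_inv_cancel_right]; exact hx⟩
  have hcomm : ∀ {a b : Q}, a ∈ C → Commute b a := fun ha => Subgroup.mem_center_iff.1 (hCcent ha) _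
  have hγρC : ∀ y ∈ C, ρ (γ y) = ρ y := by
    intro y hy
    obtain ⟨c, hc⟩ := hscal y hy
    calc ρ (γ y) = ρ (γ y) * Γ * Γ ^ (N - 1) := by rw [mul_assoc, hΓinv, mul_one]
      _ = Γ * ρ y * Γ ^ (N - 1) := by rw [hΓρ]
      _ = ρ y := by rw [hc, mul_smul_comm, mul_one, smul_mul_assoc, hΓinv]
  have hmulL : ∀ x x' y : Q, ⁅x * x', y⁆ = ⁅x', y⁆ * ⁅x, y⁆ := fun x x' y => by
    calc ⁅x * x', y⁆ = x * ⁅x', y⁆ * x⁻¹ * ⁅x, y⁆ := by simp only [commutatorElement_def]; group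
      _ = _ := by rw [(hcomm (hDC x' y)).eq, mul_inv_cancel_right]
  have hmulR : ∀ x y y' : Q, ⁅x, y * y'⁆ = ⁅x, y⁆ * ⁅x, y'⁆ := fun x y y' => by
    calc ⁅x, y * y'⁆ = ⁅x, y⁆ * (y * ⁅x, y'⁆ * y⁻¹) := by simp only [commutatorElement_def]; group
      _ = _ := by rw [(hcomm (hDC x y')).eq, mul_inv_cancel_right]
  let R : Subgroup Q :=
    { carrier := {x | ∀ y : Q, ρ ⁅x, y⁆ = 1}
      one_mem' := fun y => by rw [commutatorElement_one_left, map_one]
      mul_mem' := fun {a b} ha hb y => by rw [hmulL, map_mul, ha y, hb y, mul_one]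
      inv_mem' := fun {a} ha y => by
        have h := congrArg ρ (hmulL a⁻¹ a y)
        rw [inv_mul_cancel, commutatorElement_one_left, map_one, map_mul, ha y, one_mul] at h
        exact h.symm }
  have hRmem : ∀ x, x ∈ R ↔ ∀ y : Q, ρ ⁅x, y⁆ = 1 := fun x => Iff.rfl
  have hCR : ∀ y ∈ C, y ∈ R := fun y hy z => by
    rw [commutatorElement_eq_one_iff_commute.2 (hcomm hy).symm, map_one]
  have hDR : ∀ x y : Q, ⁅x, y⁆ ∈ R := fun x y => hCR _ (hDC x y)
  haveI hRn : R.Normal := ⟨fun x hx g => by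
    have e : g * x * g⁻¹ = ⁅g, x⁆ * x := by rw [commutatorElement_def]; group
    rw [e]; exact R.mul_mem (hDR g x) hx⟩
  have hnd : ∀ x : Q, x ∉ R → ∃ y : Q, ρ ⁅y, x⁆ ≠ 1 := fun x hx => by
    by_contra hcon
    push Not at hcon
    refine hx fun y => ?_
    have h := congrArg ρ (mul_inv_cancel ⁅x, y⁆)
    rw [map_mul, commutatorElement_inv, hcon y, mul_one, map_one] at h
    exact h
  have hγR : ∀ x ∈ R, γ x ∈ R := fun x hx y => by
    obtain ⟨y, rfl⟩ := γ.surjective y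
    rw [← map_commutatorElement, hγρC _ (hDC x y)]
    exact hx y
  have hγpowR : ∀ (i : ℕ), ∀ x ∈ R, (γ ^ i) x ∈ R := fun i =>
    CfsgLib.FGS.pow_apply_mem hγR i
  have hτR : ∀ x ∈ R, τ x ∈ R := fun x hx => by rw [hτ]; exact hγpowR _ x hx
  -- `R` acts by scalars
  obtain ⟨ψ, hψ⟩ := CfsgLib.FGS.exists_restrict_mulAut γ hγR
  have hkerR : commutator R ≤ (ρ.comp R.subtype).ker := by
    rw [commutator_def, Subgroup.commutator_le]
    intro r _ r' _
    show ρ ((⁅r, r'⁆ : R) : Q) = 1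
    exact r.2 r'
  let ρA : Abelianization R →* Module.End k W :=
    QuotientGroup.lift (commutator R) (ρ.comp R.subtype) hkerR
  have hρA : ∀ r : R, ρA (Abelianization.of r) = ρ r := fun r => rfl
  have hτρR : ∀ r ∈ R, ρ (τ r) = ρ r := by
    intro r hr
    let φA := ψ.abelianizationCongr
    have hφA : ∀ (i : ℕ) (s : R), (φA ^ i) (Abelianization.of s) = Abelianization.of ((ψ ^ i) s) := by
      intro i
      induction i with
      | zero => intro s; rfl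
      | succ i ih' =>
        intro s
        rw [pow_succ', pow_succ', MulAut.mul_apply, MulAut.mul_apply, ih']
        exact abelianizationCongr_of ψ _
    have hA : (Nat.card (Abelianization R) : k) ≠ 0 := fun h => hcardk R (by
      obtain ⟨d, hd⟩ : Nat.card (Abelianization R) ∣ Nat.card R :=
        Subgroup.card_quotient_dvd_card (commutator R)
      rw [hd, Nat.cast_mul, h, zero_mul])
    have hφAN : φA ^ (p ^ M) = 1 := MulEquiv.ext fun t => by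
      obtain ⟨s, rfl⟩ := QuotientGroup.mk_surjective t
      refine (hφA _ s).trans ?_
      have : (ψ ^ (p ^ M)) s = s := Subtype.ext (by rw [hψ, ← hNdef, hγN]; rfl)
      rw [this]; rfl
    have hSA : ∀ t, Γ * ρA t = ρA (φA t) * Γ := fun t => by
      obtain ⟨s, rfl⟩ := QuotientGroup.mk_surjective t
      have h1 : φA (Abelianization.of s) = Abelianization.of (ψ s) := by
        have := hφA 1 s
        rwa [pow_one, pow_one] at this
      show Γ * ρ s = ρA (φA (Abelianization.of s)) * Γ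
      rw [h1, hρA, hΓρ]
      have h2 := hψ 1 s
      rw [pow_one, pow_one] at h2
      rw [h2]
    have h := abelian_step ρA hA φA hSA hfix hφAN hΓN (Abelianization.of ⟨r, hr⟩)
    rw [hφA, hρA, hρA, hψ, ← hτ] at h
    exact h
  have hRscal : ∀ r ∈ R, ∃ c : k, ρ r = c • 1 := by
    let C' := C.subgroupOf R
    have hmkR : ∀ r : R, ∃ u ∈ R, ∃ c ∈ C, (r : Q) = u⁻¹ * τ u * c := by
      let f : R ⧸ C' → R ⧸ C' := fun t =>
        QuotientGroup.mk (⟨(t.out : Q)⁻¹ * τ t.out,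
          R.mul_mem (R.inv_mem t.out.2) (hτR _ t.out.2)⟩ : R)
      have hf : Function.Injective f := by
        intro t t' h
        obtain ⟨c, hc, he⟩ : ∃ c ∈ C, (t'.out : Q)⁻¹ * τ t'.out = (t.out : Q)⁻¹ * τ t.out * c := by
          refine ⟨_, Subgroup.mem_subgroupOf.1 (QuotientGroup.eq.1 h), ?_⟩
          simp only [Subgroup.coe_mul, Subgroup.coe_inv]
          group
        set u := (t.out : Q) with hu
        set v := (t'.out : Q)
        have hw : (v * u⁻¹)⁻¹ * τ (v * u⁻¹) ∈ C := by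
          have e : (v * u⁻¹)⁻¹ * τ (v * u⁻¹) = u * (v⁻¹ * τ v) * (τ u)⁻¹ := by
            rw [map_mul, map_inv]; group
          rw [e, he]
          have e2 : u * (u⁻¹ * τ u * c) * (τ u)⁻¹ = τ u * c * (τ u)⁻¹ := by group
          rw [e2]
          exact hCnorm.conj_mem c hc _
        have h2 := hτfpf _ hw
        rw [← QuotientGroup.out_eq' t, ← QuotientGroup.out_eq' t', QuotientGroup.eq]
        show (u⁻¹ * v) ∈ C
        have h3 := hCnorm.conj_mem _ h2 u⁻¹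
        rwa [show u⁻¹ * (v * u⁻¹) * u⁻¹⁻¹ = u⁻¹ * v by group] at h3
      intro r
      obtain ⟨t, ht⟩ := (Finite.injective_iff_surjective.1 hf) (QuotientGroup.mk r)
      refine ⟨t.out, t.out.2, _, Subgroup.mem_subgroupOf.1 (QuotientGroup.eq.1 ht), ?_⟩
      simp only [Subgroup.coe_mul, Subgroup.coe_inv]
      group
    intro r hr
    obtain ⟨u, hu, c, hc, he⟩ := hmkR ⟨r, hr⟩
    obtain ⟨z, hz⟩ := hscal c hc
    refine ⟨z, ?_⟩
    rw [show r = u⁻¹ * τ u * c from he, map_mul, map_mul, hτρR u hu, ← map_mul, inv_mul_cancel,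
      map_one, one_mul, hz]
  by_cases hRtop : R = ⊤
  · exact Or.inl fun x => hτρR x (hRtop ▸ Subgroup.mem_top x)
  refine Or.inr ?_
  have hτfpfR : ∀ x : Q, x⁻¹ * τ x ∈ R → x ∈ R := by
    intro x hx
    have key : ∀ y : Q, ρ ⁅x, y⁻¹ * τ y⁆ = 1 := by
      intro y
      have h1 : ρ ⁅τ x, τ y⁆ = ρ ⁅x, y⁆ := by
        rw [← map_commutatorElement, hτC _ (hDC x y)]
      have h2 : ∀ y' : Q, ρ ⁅τ x, y'⁆ = ρ ⁅x, y'⁆ := fun y' => by
        conv_lhs => rw [show τ x = x * (x⁻¹ * τ x) by group]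
        rw [hmulL, map_mul, hx y', one_mul]
      have h3 : ρ ⁅x, τ y⁆ = ρ ⁅x, y⁆ := (h2 _).symm.trans h1
      have h4 := congrArg ρ (hmulR x y (y⁻¹ * τ y))
      rw [mul_inv_cancel_left, map_mul, h3] at h4
      calc ρ ⁅x, y⁻¹ * τ y⁆ = ρ ⁅x, y⁆⁻¹ * (ρ ⁅x, y⁆ * ρ ⁅x, y⁻¹ * τ y⁆) := by
            rw [← mul_assoc, ← map_mul, inv_mul_cancel, map_one, one_mul]
        _ = 1 := by rw [← h4, ← map_mul, inv_mul_cancel, map_one]
    intro y
    let K : Subgroup Q :=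
      { carrier := {y | ρ ⁅x, y⁆ = 1}
        one_mem' := by
          show ρ ⁅x, (1 : Q)⁆ = 1
          rw [commutatorElement_one_right, map_one]
        mul_mem' := fun {a b} (ha : ρ ⁅x, a⁆ = 1) (hb : ρ ⁅x, b⁆ = 1) => by
          show ρ ⁅x, a * b⁆ = 1
          rw [hmulR, map_mul, ha, hb, one_mul]
        inv_mem' := fun {a} (ha : ρ ⁅x, a⁆ = 1) => by
          show ρ ⁅x, a⁻¹⁆ = 1
          have h := congrArg ρ (hmulR x a a⁻¹)
          rw [mul_inv_cancel, commutatorElement_one_right, map_one, map_mul, ha, one_mul] at h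
          exact h.symm }
    have hK : Subgroup.closure (Set.range fun x : Q => x⁻¹ * τ x) ⊔ C ≤ K := by
      refine sup_le ((Subgroup.closure_le K).2 ?_) fun c hc => ?_
      · rintro _ ⟨z, rfl⟩
        exact key z
      · show ρ ⁅x, c⁆ = 1
        rw [commutatorElement_eq_one_iff_commute.2 (hcomm hc), map_one]
    rw [hgen] at hK
    exact hK (Subgroup.mem_top y)
  have hsemi : ∀ x, x ∉ R → ∀ j, 0 < j → j < N → x⁻¹ * (γ ^ j) x ∉ R := by
    intro x hx j hj hjN hjR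
    obtain ⟨i, hi⟩ := exists_mul_mod_prime_pow hj hjN
    have key : ∀ i : ℕ, x⁻¹ * ((γ ^ j) ^ i) x ∈ R := by
      intro i
      induction i with
      | zero => simp
      | succ i ih' =>
        rw [pow_succ', MulAut.mul_apply]
        have e : x⁻¹ * (γ ^ j) (((γ ^ j) ^ i) x) =
            (x⁻¹ * (γ ^ j) x) * (γ ^ j) (x⁻¹ * ((γ ^ j) ^ i) x) := by
          rw [map_mul, map_inv]; group
        rw [e]
        exact R.mul_mem hjR (hγpowR j _ ih')
    refine hx (hτfpfR x ?_)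
    have h := key i
    rw [← pow_mul, pow_eq_pow_mod (j * i) hγN, hi, ← pow_eq_pow_mod _ hγN, ← hτ] at h
    exact h
  obtain ⟨U, hU, hUne, hirr⟩ := exists_irreducible_invariant ρ
  haveI : Nontrivial U := Submodule.nontrivial_iff_ne_bot.2 hUne
  set ρ₀ := restrictRep ρ U hU with hρ₀
  have hR0 : ∀ r ∈ R, ∃ c : k, ρ₀ r = c • 1 := fun r hr => by
    obtain ⟨c, hc⟩ := hRscal r hr
    exact ⟨c, restrictRep_smul ρ U hU hc⟩
  have hnd0 : ∀ x : Q, x ∉ R → ∃ y : Q, ρ₀ ⁅y, x⁆ ≠ 1 := fun x hx => by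
    obtain ⟨y, hy⟩ := hnd x hx
    obtain ⟨c, hc⟩ := hscal _ (hDC y x)
    refine ⟨y, fun h => hy ?_⟩
    rw [hρ₀, restrictRep_smul ρ U hU hc] at h
    obtain ⟨w, hw⟩ := exists_ne (0 : U)
    have hc1 : c = 1 := smul_left_injective k hw
      (show c • w = (1 : k) • w by simpa using LinearMap.congr_fun h w)
    rw [hc, hc1, one_smul]
  have hγρR : ∀ r ∈ R, ρ (γ r) = ρ r := by
    intro r hr
    obtain ⟨c, hc⟩ := hRscal r hr
    calc ρ (γ r) = ρ (γ r) * Γ * Γ ^ (N - 1) := by rw [mul_assoc, hΓinv, mul_one]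
      _ = Γ * ρ r * Γ ^ (N - 1) := by rw [hΓρ]
      _ = ρ r := by rw [hc, mul_smul_comm, mul_one, smul_mul_assoc, hΓinv]
  have hγρ0 : ∀ r ∈ R, ρ₀ (γ r) = ρ₀ r := fun r hr => by
    obtain ⟨c, hc⟩ := hRscal r hr
    rw [hρ₀, restrictRep_smul ρ U hU hc, restrictRep_smul ρ U hU ((hγρR r hr).trans hc)]
  obtain ⟨Γ₀, hΓ₀, hΓ₀N⟩ := exists_intertwiner ρ₀ hR0 hDR hnd0 hirr γ hγR hγρ0 hN0 hγN
  -- `Γ₀` misses an eigenvalue
  obtain ⟨f, ω, hfinj, hωN, -, hf⟩ := exists_eigen_intertwiner ρ₀ ρ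
    (fun r hr => by
      obtain ⟨c, hc⟩ := hRscal r hr
      exact ⟨c, restrictRep_smul ρ U hU hc, hc⟩) hDR hnd0 hirr γ hN0 hΓ₀ hΓ₀N hΓρ hΓN
  have hω0 : ω ≠ 0 := fun h => by rw [h, zero_pow hN0.ne'] at hωN; exact zero_ne_one hωN
  have hmiss : ∀ w : U, Γ₀ w = ω⁻¹ • w → w = 0 := by
    intro w hw
    refine hfinj ((hfix _ ?_).trans (map_zero f).symm)
    rw [hf, hw, map_smul, smul_smul, mul_inv_cancel₀ hω0, one_smul]
  letI := Fintype.ofFinite (Q ⧸ R)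
  have hcardT : Nat.card (Q ⧸ R) = Module.finrank k U * Module.finrank k U := by
    rw [← Module.finrank_linearMap k k U U,
      Module.finrank_eq_card_basis (Module.Basis.mk
        (rep_section_independent ρ₀ hR0 hDR hnd0 (fun t : Q ⧸ R => t.out) fun t => t.out_eq')
        (rep_section_span ρ₀ hR0 hDR hnd0 hQk hirr (fun t : Q ⧸ R => t.out)
          fun t => t.out_eq').ge), Nat.card_eq_fintype_card]
  have hd1 : 1 < Module.finrank k U := by
    have hnt : Nontrivial (Q ⧸ R) := QuotientGroup.nontrivial_iff.2 hRtop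
    have h1 : 1 < Nat.card (Q ⧸ R) := Finite.one_lt_card
    rw [hcardT] at h1
    by_contra hle
    push Not at hle
    interval_cases Module.finrank k U <;> simp at h1
  obtain ⟨hdN, hspec⟩ := missing_eigenvalue_spectrum hNk hΓ₀N (α₀ := ω⁻¹)
    (by rw [inv_pow, hωN, inv_one]) hmiss hd1
    (fun ψ hψ => finrank_twistComm_le ρ₀ hR0 hDR hnd0 hQk hirr γ hγR hN0 hγN hsemi hΓ₀ hΓ₀N hψ)
  refine ⟨R, hRn, hRmem, hCR, hγR, hRscal, hτfpfR, hnd, ?_, U, hU, inferInstance, hirr, Γ₀, ω⁻¹,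
    hΓ₀, hΓ₀N, hspec⟩
  rw [hcardT, sq]
  have : N - 1 = Module.finrank k U := by omega
  rw [this]

end CfsgLib.Solvable
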