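import Cfsg.Agent.Lib.Solvable.ComplementSystem
import Cfsg.Agent.Lib.Solvable.Sylow

/-!
System normalisers: nilpotency, behaviour in quotients, covering and avoidance of chief factors.
-/

set_option autoImplicit false

open scoped Pointwise commutatorElement

namespace CfsgLib.Solvable

open Cfsg

universe u

variable {G : Type u} [Group G] [Finite G] {K : Nat.Primes → Subgroup G}

theorem relIndex_dvd_index_of_le_normalizer {D H : Subgroup G}
    (h : D ≤ Subgroup.normalizer (H : Set G)) : H.relIndex D ∣ H.index := by
  set N := Subgroup.normalizer (H : Set G)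
  have : (H.subgroupOf N).Normal := Subgroup.normal_in_normalizer
  rw [← Subgroup.relIndex_subgroupOf h]
  refine (Subgroup.relIndex_dvd_index_of_normal _ _).trans ?_
  show H.relIndex N ∣ _
  rw [← Subgroup.relIndex_mul_index (Subgroup.le_normalizer : H ≤ N)]
  exact dvd_mul_right _ _

theorem coprime_relIndex_systemNormalizer (hK : IsComplementSystem K) (p : ℕ) [Fact p.Prime]
    (T : Finset Nat.Primes) (hT : ∀ q ∈ T, (q : ℕ) ≠ p) :
    ¬ p ∣ (T.inf K).relIndex (systemNormalizer K) := by
  classical
  induction T using Finset.induction_on with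
  | empty => simpa using (Fact.out : p.Prime).one_lt.ne'
  | @insert a T ha ih =>
    set D := systemNormalizer K
    rw [Finset.inf_insert, ← Subgroup.inf_relIndex_right (K a ⊓ T.inf K), inf_assoc]
    rw [← Subgroup.relIndex_mul_relIndex (K a ⊓ (T.inf K ⊓ D)) (T.inf K ⊓ D) D inf_le_right
      inf_le_right, (Fact.out : p.Prime).dvd_mul, Subgroup.inf_relIndex_right,
      Subgroup.inf_relIndex_right]
    rintro (h | h)
    · have h1 : (K a).relIndex (T.inf K ⊓ D) ∣ (K a).index :=
        relIndex_dvd_index_of_le_normalizer fun x hx => mem_systemNormalizer.1 hx.2 a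
      rw [hK a] at h1
      exact hT a (Finset.mem_insert_self a T)
        ((Nat.prime_dvd_prime_iff_eq (Fact.out : p.Prime) a.2).1
          ((Fact.out : p.Prime).dvd_of_dvd_pow (h.trans h1))).symm
    · exact ih (fun q hq => hT q (Finset.mem_insert_of_mem hq)) h

/-- The system normaliser is nilpotent. -/
theorem isNilpotent_systemNormalizer (hK : IsComplementSystem K) :
    Group.IsNilpotent (systemNormalizer K) := by
  classical
  refine (Group.isNilpotent_of_finite_tfae (G := systemNormalizer K)).out 3 0 |>.1 ?_
  set D := systemNormalizer K with hDdef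
  intro p hp P
  by_cases hd : p ∣ Nat.card D
  swap
  · have : (P : Subgroup D) = ⊥ := by
      apply Subgroup.card_eq_one.1
      rw [P.card_eq_multiplicity, Nat.factorization_eq_zero_of_not_dvd hd, pow_zero]
    rw [this]; infer_instance
  set pp : Nat.Primes := ⟨p, hp.out⟩
  set PS := primesOf (Nat.card G)
  have hpPS : pp ∈ PS :=
    (mem_primesOf Nat.card_pos.ne').2 (hd.trans D.card_subgroup_dvd_card)
  set I := (PS \ {pp}).inf K
  have hIp : IsPGroup p I := IsPGroup.of_card (n := (Nat.card G).factorization p) (by
    rw [card_finsetInf_sdiff hK (Finset.singleton_subset_iff.2 hpPS)]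
    exact Finset.prod_singleton _ _)
  have hnd : ¬ p ∣ (I.subgroupOf D).index :=
    coprime_relIndex_systemNormalizer hK p (PS \ {pp}) fun q hq e =>
      (Finset.mem_sdiff.1 hq).2 (Finset.mem_singleton.2 (Subtype.ext e))
  have hn : (I.subgroupOf D).Normal := by
    refine ⟨fun x hx g => ?_⟩
    show (g : G) * x * (g : G)⁻¹ ∈ I
    exact mem_finsetInf.2 fun q hq =>
      normalizer_conj_mem (mem_systemNormalizer.1 g.2 q) (mem_finsetInf.1 hx q hq)
  let S : Sylow p D := (hIp.comap_of_injective D.subtype D.subtype_injective).toSylow hnd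
  haveI hSn : (S : Subgroup D).Normal := hn
  have := Sylow.unique_of_normal S hSn
  rw [Subsingleton.elim P S]
  exact hn

/-- Images of complement systems. -/
theorem isComplementSystem_map (hK : IsComplementSystem K) (N : Subgroup G) [N.Normal] :
    IsComplementSystem fun p => (K p).map (QuotientGroup.mk' N) := by
  intro p
  set π := QuotientGroup.mk' N
  have hsurj : Function.Surjective π := QuotientGroup.mk'_surjective N
  obtain ⟨i, -, hi⟩ :=
    (Nat.dvd_prime_pow p.2).1 (hK p ▸ Subgroup.index_map_dvd (K p) hsurj)
  show ((K p).map π).index = _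
  rw [hi]
  have h := ((K p).map π).card_mul_index
  rw [hi] at h
  have hcop : ¬ (p : ℕ) ∣ Nat.card ((K p).map π) := by
    intro hd
    have h1 := (hd.trans (card_map_dvd π (K p)))
    have h2 := (K p).card_mul_index
    rw [hK p] at h2
    obtain ⟨c, hc⟩ := h1
    have h3 : (p : ℕ) ^ ((Nat.card G).factorization p + 1) ∣ Nat.card G :=
      ⟨c, h2.symm.trans (by rw [hc]; ring)⟩
    exact Nat.pow_succ_factorization_not_dvd Nat.card_pos.ne' p.2 h3
  conv_rhs => rw [← h, Nat.factorization_mul Nat.card_pos.ne' (pow_pos p.2.pos i).ne']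
  rw [Finsupp.add_apply, Nat.factorization_eq_zero_of_not_dvd hcop, zero_add,
    p.2.factorization_pow, Finsupp.single_eq_same]

/-- Inside a normal subgroup, complements can be moved one prime at a time. -/
theorem exists_mem_normal_conj_finset [Group.IsSolvable G] {L : Nat.Primes → Subgroup G}
    (hK : IsComplementSystem K) (hL : IsComplementSystem L) (N : Subgroup G) [N.Normal]
    (hLK : ∀ p, L p ≤ N ⊔ K p) (T : Finset Nat.Primes) :
    ∃ n ∈ N, ∀ p ∈ T, MulAut.conj n • K p = L p := by
  classical
  induction T using Finset.induction_on with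
  | empty => exact ⟨1, one_mem _, by simp⟩
  | @insert a T ha ih =>
    obtain ⟨m, hm, hg⟩ := ih
    -- `L a` and `m • K a` are Hall subgroups of `N ⊔ K a`
    set R := N ⊔ K a
    have hnR : N ≤ R := le_sup_left
    have hmR : MulAut.conj m • K a ≤ R := conj_smul_le_iff.2 fun x hx =>
      mul_mem (mul_mem (hnR hm) (Subgroup.mem_sup_right hx)) (inv_mem (hnR hm))
    have hcard : Nat.card (L a) = Nat.card (K a) := by
      have h1 := (K a).card_mul_index
      have h2 := (L a).card_mul_index
      rw [hK a] at h1
      rw [hL a] at h2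
      replace h2 := h2.trans h1.symm
      exact Nat.eq_of_mul_eq_mul_right (pow_pos a.2.pos _) h2
    have hKa : (Nat.card (K a)).Coprime (a : ℕ) := by
      rw [Nat.coprime_comm, a.2.coprime_iff_not_dvd]
      intro hd
      obtain ⟨c, hc⟩ := hd
      have h2 := (K a).card_mul_index
      rw [hK a] at h2
      exact Nat.pow_succ_factorization_not_dvd Nat.card_pos.ne' a.2
        ⟨c, h2.symm.trans (by rw [hc]; ring)⟩
    have hA : Nat.card ((L a).subgroupOf R) = Nat.card (K a) :=
      (Nat.card_congr (Subgroup.subgroupOfEquivOfLe (hLK a)).toEquiv).trans hcard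
    have hB : Nat.card ((MulAut.conj m • K a).subgroupOf R) = Nat.card (K a) := by
      rw [Nat.card_congr (Subgroup.subgroupOfEquivOfLe hmR).toEquiv, card_conj_smul]
    have hhall : (Nat.card ((L a).subgroupOf R)).Coprime ((L a).subgroupOf R).index := by
      rw [hA]
      refine Nat.Coprime.coprime_dvd_right ?_ (hKa.pow_right ((Nat.card G).factorization a))
      rw [← hL a, ← Subgroup.relIndex_mul_index (hLK a)]
      exact dvd_mul_right _ _
    obtain ⟨r, hr⟩ := exists_conj_eq_hall (G := R) ((L a).subgroupOf R).card_mul_index.symm hhall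
      (H := (MulAut.conj m • K a).subgroupOf R) (K := (L a).subgroupOf R) (by rw [hA, hB]) rfl
    have hr' : MulAut.conj (r : G) • MulAut.conj m • K a = L a := by
      refine conj_smul_eq_of_le (conj_smul_le_iff.2 fun x hx => ?_)
        (by rw [card_conj_smul, hcard])
      have h3 : r * ⟨x, hmR hx⟩ * r⁻¹ ∈ MulAut.conj r • (MulAut.conj m • K a).subgroupOf R :=
        mem_conj_smul_iff.2 (by simpa [mul_assoc, Subgroup.mem_subgroupOf] using hx)
      rw [hr] at h3
      exact h3
    -- write `r` as an element of `N` times an element of the normaliser of `m • K a`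
    have hRsup : N ⊔ MulAut.conj m • K a = R := by
      refine le_antisymm (sup_le le_sup_left hmR) (sup_le le_sup_left fun x hx => ?_)
      have h4 : m * x * m⁻¹ ∈ MulAut.conj m • K a :=
        mem_conj_smul_iff.2 (by simpa [mul_assoc] using hx)
      have h5 := mul_mem (mul_mem (Subgroup.mem_sup_left (T := MulAut.conj m • K a) (inv_mem hm))
        (Subgroup.mem_sup_right (S := N) h4)) (Subgroup.mem_sup_left hm)
      simpa [mul_assoc] using h5
    obtain ⟨n, hn, k, hk, hnk⟩ := exists_mul_of_mem_sup (K := N) (A := MulAut.conj m • K a)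
      Subgroup.le_normalizer_of_normal (g := (r : G)) (by rw [hRsup]; exact r.2)
    rw [hnk, ← conj_smul_conj_smul,
      conj_smul_self_of_mem_normalizer (Subgroup.le_normalizer hk)] at hr'
    -- correct `n` by an element of `N` inside all the earlier members
    have hcop : ((L a).subgroupOf N).index.Coprime ((T.inf L).subgroupOf N).index := by
      have hd1 : (L a).relIndex N ∣ (L a).index := relIndex_dvd_index_of_normal_left N (L a)
      have hd2 : (T.inf L).relIndex N ∣ (T.inf L).index :=
        relIndex_dvd_index_of_normal_left N (T.inf L)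
      exact ((coprime_index_finsetInf hL ha).coprime_dvd_left hd1).coprime_dvd_right hd2
    obtain ⟨l, hl, i, hi, hli⟩ := mul_of_coprime_index hcop (⟨n, hn⟩ : N)
    have hli' : n = (l : G) * i := congrArg Subtype.val hli
    refine ⟨(i : G) * m, mul_mem i.2 hm, fun p hp => ?_⟩
    rw [← conj_smul_conj_smul]
    rcases Finset.mem_insert.1 hp with rfl | hp
    · rw [hli', ← conj_smul_conj_smul] at hr'
      have h := congrArg (fun X : Subgroup G => MulAut.conj (l : G)⁻¹ • X) hr'
      simp only [conj_smul_conj_smul, inv_mul_cancel_left, mul_assoc] at h ⊢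
      rw [h]
      exact conj_smul_self_of_mem_normalizer (Subgroup.le_normalizer (inv_mem hl))
    · rw [hg p hp]
      exact conj_smul_self_of_mem_normalizer
        (Subgroup.le_normalizer ((Finset.inf_le (f := L) hp) hi))

/-- The system normaliser of the image system is the image of the system normaliser. -/
theorem systemNormalizer_map [Group.IsSolvable G] (hK : IsComplementSystem K) (N : Subgroup G)
    [N.Normal] : systemNormalizer (fun p => (K p).map (QuotientGroup.mk' N)) =
      (systemNormalizer K).map (QuotientGroup.mk' N) := by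
  set π := QuotientGroup.mk' N
  have hsurj : Function.Surjective π := QuotientGroup.mk'_surjective N
  refine le_antisymm (fun y hy => ?_) ?_
  · obtain ⟨g, rfl⟩ := hsurj y
    have hL : IsComplementSystem fun p => MulAut.conj g • K p := fun p => by
      show (MulAut.conj g • K p).index = _
      rw [conj_smul_eq_map]
      exact (Subgroup.index_map_equiv (K p) (MulAut.conj g)).trans (hK p)
    have hLK : ∀ p, MulAut.conj g • K p ≤ N ⊔ K p := fun p => by
      refine le_of_map_mk'_le ?_
      rw [map_conj_smul, conj_smul_self_of_mem_normalizer (mem_systemNormalizer.1 hy p)]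
    obtain ⟨n, hn, hnK⟩ :=
      exists_mem_normal_conj_finset hK hL N hLK (primesOf (Nat.card G))
    refine ⟨n⁻¹ * g, mem_systemNormalizer.2 fun p => ?_, ?_⟩
    · by_cases hp : (p : ℕ) ∣ Nat.card G
      · rw [mem_normalizer_iff_conj_smul, ← conj_smul_conj_smul,
          ← hnK p ((mem_primesOf Nat.card_pos.ne').2 hp), conj_smul_conj_smul, inv_mul_cancel,
          map_one, one_smul]
      · rw [complementSystem_eq_top hK hp]
        exact Subgroup.le_normalizer (Subgroup.mem_top _)
    · rw [map_mul, show π n⁻¹ = 1 from (QuotientGroup.eq_one_iff _).2 (inv_mem hn), one_mul]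
  · rintro _ ⟨g, hg, rfl⟩
    refine mem_systemNormalizer.2 fun p => ?_
    rw [mem_normalizer_iff_conj_smul, ← map_conj_smul,
      conj_smul_self_of_mem_normalizer (mem_systemNormalizer.1 hg p)]

/-- A central subgroup of `G / A` is covered by the system normaliser. -/
theorem covers_central [Group.IsSolvable G] (hK : IsComplementSystem K) (A B : Subgroup G)
    [A.Normal] (h : ⁅B, (⊤ : Subgroup G)⁆ ≤ A) : B ≤ A ⊔ systemNormalizer K := by
  set π := QuotientGroup.mk' A
  refine le_of_map_mk'_le ?_
  rintro _ ⟨b, hb, rfl⟩
  rw [← systemNormalizer_map hK A]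
  refine mem_systemNormalizer.2 fun p => ?_
  refine mem_normalizer_of_conj_mem fun x hx => ?_
  obtain ⟨k, hk, rfl⟩ := hx
  have hc : π ⁅b, k⁆ = 1 :=
    (QuotientGroup.eq_one_iff _).2 (h (Subgroup.commutator_mem_commutator hb (Subgroup.mem_top k)))
  rw [map_commutatorElement, commutatorElement_eq_one_iff_mul_comm] at hc
  rw [hc, mul_inv_cancel_right]
  exact Subgroup.mem_map_of_mem π hk

end CfsgLib.Solvable
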