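import Cfsg.Agent.Lib.Solvable.Carter
import Cfsg.Agent.Lib.Solvable.Product
import Cfsg.Agent.Lib.Solvable.SystemNormalizer
import Cfsg.Agent.Lib.Solvable.LagrangeConverse
import Cfsg.Agent.Lib.Solvable.NilpotentHall

/-!
Carter subgroups and system normalisers.
-/

set_option autoImplicit false

open scoped Pointwise

namespace CfsgLib.Solvable

open Cfsg

universe u

variable {G : Type u} [Group G] [Finite G] {K : Nat.Primes → Subgroup G}

theorem relIndex_eq_of_mul {X A H : Subgroup G} (hA : A ≤ H) (hX : X ≤ H)
    (h : ∀ g ∈ H, ∃ a ∈ A, ∃ x ∈ X, g = a * x) : X.relIndex A = X.relIndex H := by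
  rw [← Subgroup.relIndex_subgroupOf hA]
  exact relIndex_eq_index_of_mul (H := A.subgroupOf H) (K := X.subgroupOf H) fun g => by
    obtain ⟨a, ha, x, hx, e⟩ := h g g.2
    exact ⟨⟨a, hA ha⟩, ha, ⟨x, hX hx⟩, hx, Subtype.ext e⟩

theorem relIndex_eq_pow_of_dvd {X H : Subgroup G} {p : ℕ} (hp : p.Prime) (hXH : X ≤ H)
    (hX : ¬ p ∣ Nat.card X) {a : ℕ} (h : X.relIndex H ∣ p ^ a) :
    X.relIndex H = p ^ (Nat.card H).factorization p := by
  obtain ⟨i, -, hi⟩ := (Nat.dvd_prime_pow hp).1 h
  have h1 : Nat.card X * X.relIndex H = Nat.card H := by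
    rw [← Subgroup.relIndex_bot_left X, ← Subgroup.relIndex_bot_left H,
      Subgroup.relIndex_mul_relIndex ⊥ X H bot_le hXH]
  rw [hi, ← h1, hi, Nat.factorization_mul Nat.card_pos.ne' (pow_pos hp.pos i).ne', Finsupp.add_apply,
    Nat.factorization_eq_zero_of_not_dvd hX, zero_add, hp.factorization_pow, Finsupp.single_eq_same]

theorem not_dvd_card_complement (hK : IsComplementSystem K) (p : Nat.Primes) :
    ¬ (p : ℕ) ∣ Nat.card (K p) := by
  intro hd
  obtain ⟨c, hc⟩ := hd
  have h2 := (K p).card_mul_index
  rw [hK p] at h2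
  exact Nat.pow_succ_factorization_not_dvd Nat.card_pos.ne' p.2
    ⟨c, h2.symm.trans (by rw [hc]; ring)⟩

theorem isNilpotent_hall_normal {C X : Subgroup G} (hC : Group.IsNilpotent C) (hX : X ≤ C)
    (hcop : (Nat.card X).Coprime (X.relIndex C)) : C ≤ Subgroup.normalizer (X : Set G) := by
  haveI := hC
  set Y := X.subgroupOf C with hY
  have hcop' : (Nat.card Y).Coprime Y.index := by
    rw [hY, Nat.card_congr (Subgroup.subgroupOfEquivOfLe hX).toEquiv]; exact hcop
  set M := Subgroup.normalizer ((Y : Subgroup C) : Set C) with hM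
  have hsn : Subgroup.normalizer ((M : Subgroup C) : Set C) = M := by
    refine le_antisymm (fun g hg => ?_) Subgroup.le_normalizer
    have hle : MulAut.conj g • Y ≤ M := by
      refine (conj_smul_mono g (Subgroup.le_normalizer : Y ≤ M)).trans ?_
      rw [conj_smul_self_of_mem_normalizer hg]
    have hYn : (Y.subgroupOf M).Normal := Subgroup.normal_in_normalizer
    have hcop2 : (Nat.card (Y.subgroupOf M)).Coprime (Y.subgroupOf M).index := by
      rw [Nat.card_congr (Subgroup.subgroupOfEquivOfLe Subgroup.le_normalizer).toEquiv]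
      refine hcop'.coprime_dvd_right ?_
      show Y.relIndex M ∣ _
      rw [← Subgroup.relIndex_mul_index (Subgroup.le_normalizer : Y ≤ M)]
      exact dvd_mul_right _ _
    obtain ⟨m, hm⟩ := exists_conj_le_of_coprime_index (G := M) (H := Y.subgroupOf M)
      (K := (MulAut.conj g • Y).subgroupOf M) hcop2 (by
        rw [Nat.card_congr (Subgroup.subgroupOfEquivOfLe hle).toEquiv, card_conj_smul,
          ← Nat.card_congr (Subgroup.subgroupOfEquivOfLe (Subgroup.le_normalizer : Y ≤ M)).toEquiv]
        exact hcop2)
    have h1 : (MulAut.conj g • Y).subgroupOf M ≤ Y.subgroupOf M := by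
      intro x hx
      have h2 : m * x * m⁻¹ ∈ Y.subgroupOf M :=
        hm (mem_conj_smul_iff.2 (by simpa [mul_assoc] using hx))
      simpa [mul_assoc] using hYn.conj_mem _ h2 m⁻¹
    rw [hM, mem_normalizer_iff_conj_smul]
    refine conj_smul_eq_of_le (fun x hx => ?_) le_rfl
    exact h1 (show (⟨x, hle hx⟩ : M) ∈ (MulAut.conj g • Y).subgroupOf M from hx)
  have htop : M = ⊤ := normalizerCondition_iff_only_full_group_self_normalizing.1
    Group.normalizerCondition_of_isNilpotent _ hsn
  exact (Subgroup.normal_subgroupOf_iff_le_normalizer hX).1 (Subgroup.normalizer_eq_top_iff.1 htop)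

theorem coprime_card_inf_complement (hK : IsComplementSystem K) (p : Nat.Primes) (C : Subgroup G)
    {a : ℕ} : (Nat.card (K p ⊓ C : Subgroup G)).Coprime ((p : ℕ) ^ a) :=
  (Nat.Coprime.symm ((p.2.coprime_iff_not_dvd).2 fun h => not_dvd_card_complement hK p
    (h.trans (Subgroup.card_dvd_of_le inf_le_left)))).pow_right _

/-- A complement system reducing into a Carter subgroup has its system normaliser inside it. -/
private theorem systemNormalizer_le_aux : ∀ (n : ℕ) (G : Type u) [Group G] [Finite G]
    [Group.IsSolvable G], Nat.card G = n → ∀ (C : Subgroup G) (K : Nat.Primes → Subgroup G),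
    IsCarterSubgroup C → IsComplementSystem K →
    IsComplementSystem (fun p => (K p).subgroupOf C) → systemNormalizer K ≤ C := by
  intro n
  induction n using Nat.strong_induction_on with
  | _ n ih =>
  intro G _ _ _ hn C K hC hK hR
  rcases subsingleton_or_nontrivial G with hs | hs
  · exact fun x _ => (Subsingleton.elim x 1).symm ▸ one_mem C
  obtain ⟨N, hNn, hN, hmin⟩ := exists_minimal_normal (G := G)
  haveI := hNn
  have hc := commute_of_minimal_normal N hN hmin inferInstance
  obtain ⟨r, hr, hrN⟩ := exists_prime_pow_eq_one_of_minimal_normal N hN hmin inferInstance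
  haveI : Fact r.Prime := ⟨hr⟩
  have hNr : IsPGroup r N := fun x => ⟨1, by rw [pow_one]; exact Subtype.ext (hrN x x.2)⟩
  obtain ⟨e, he⟩ := (IsPGroup.iff_card (p := r)).1 hNr
  have hRc : ∀ p : Nat.Primes, (K p).relIndex C = (p : ℕ) ^ (Nat.card C).factorization p := hR
  set π := QuotientGroup.mk' N with hπ
  have hsurj : Function.Surjective π := QuotientGroup.mk'_surjective N
  -- first step: modulo `N`
  have hDCN : systemNormalizer K ≤ C ⊔ N := by
    have hCarter : IsCarterSubgroup (C.map π) := isCarter_map_mk hC N fun _ => fun A B hA hB =>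
      isCarterSubgroup_conjugate hA hB
    have hR' : IsComplementSystem fun p => ((K p).map π).subgroupOf (C.map π) := by
      intro p
      show ((K p).map π).relIndex (C.map π) = _
      rw [← Subgroup.inf_relIndex_right]
      have hKN := not_dvd_card_complement (isComplementSystem_map hK N) p
      refine relIndex_eq_pow_of_dvd p.2 inf_le_right
        (fun h => hKN (h.trans (Subgroup.card_dvd_of_le inf_le_left))) (a := (Nat.card C).factorization p) ?_
      rw [← hRc p, ← Subgroup.inf_relIndex_right (K p) C]
      refine (Subgroup.relIndex_dvd_of_le_left _ (le_inf (Subgroup.map_mono inf_le_left)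
        (Subgroup.map_mono inf_le_right) : (K p ⊓ C).map π ≤ _)).trans ?_
      rw [Subgroup.relIndex_map_map]
      have h1 : ((K p ⊓ C) ⊔ π.ker).relIndex C = ((K p ⊓ C) ⊔ π.ker).relIndex (C ⊔ π.ker) :=
        relIndex_eq_of_mul le_sup_left (sup_le_sup_right inf_le_right _) fun g hg => by
          obtain ⟨k, hk, a, ha, rfl⟩ := exists_mul_of_mem_sup (K := π.ker) (A := C)
            (Subgroup.normalizer_eq_top π.ker ▸ le_top) (sup_comm C π.ker ▸ hg)
          exact ⟨a, ha, a⁻¹ * k * a, Subgroup.mem_sup_right (by
            simpa using (inferInstance : π.ker.Normal).conj_mem k hk a⁻¹), by group⟩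
      rw [← h1]
      exact Subgroup.relIndex_dvd_of_le_left _ le_sup_left
    have hle := ih _ (hn ▸ card_quotient_lt N hN) (G ⧸ N) rfl _ _ hCarter
      (isComplementSystem_map hK N) hR'
    rw [systemNormalizer_map hK N, Subgroup.map_le_iff_le_comap, Subgroup.comap_map_eq,
      QuotientGroup.ker_mk'] at hle
    exact hle
  set H := C ⊔ N with hH
  by_cases hHt : H = ⊤
  · have htop : N ⊔ C = ⊤ := by rw [sup_comm]; exact hHt
    rcases hmin _ (normal_inf_of_supplement hc htop Subgroup.le_normalizer) inf_le_left with hCN | hCN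
    swap
    · rw [show C = ⊤ by rw [← htop, sup_eq_right.2 (inf_eq_left.1 hCN)]]
      exact le_top
    set rr : Nat.Primes := ⟨r, hr⟩
    have hKC : K rr ≤ C := by
      refine inf_eq_left.1 (Subgroup.eq_of_le_of_card_ge inf_le_left (le_of_eq ?_))
      have h1 := (K rr).card_mul_index
      rw [hK rr, ← Subgroup.card_top (G := G), ← htop,
        card_sup_of_disjoint (Subgroup.normalizer_eq_top N ▸ le_top) hCN, he,
        Nat.factorization_mul (pow_pos hr.pos e).ne' Nat.card_pos.ne', Finsupp.add_apply,
        show ((r ^ e).factorization (rr : ℕ)) = e by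
          rw [hr.factorization_pow]; exact Finsupp.single_eq_same, pow_add] at h1
      have h2 : Nat.card (K rr ⊓ C : Subgroup G) * (K rr).relIndex C = Nat.card C := by
        rw [← Subgroup.inf_relIndex_right, ← Subgroup.relIndex_bot_left (K rr ⊓ C),
          Subgroup.relIndex_mul_relIndex ⊥ _ C bot_le inf_le_right, Subgroup.relIndex_bot_left]
      rw [hRc rr] at h2
      refine Nat.eq_of_mul_eq_mul_right (Nat.mul_pos (pow_pos hr.pos e)
        (pow_pos hr.pos ((Nat.card C).factorization r))) ?_
      calc _ = r ^ e * Nat.card C := h1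
        _ = r ^ e * (Nat.card (K rr ⊓ C : Subgroup G) * r ^ (Nat.card C).factorization r) := by
          rw [h2]
        _ = _ := by ring
    have hCK : C ≤ Subgroup.normalizer (K rr : Set G) := isNilpotent_hall_normal hC.1 hKC (by
      rw [hRc rr]
      have h := coprime_card_inf_complement hK rr C (a := (Nat.card C).factorization (rr : ℕ))
      rwa [inf_eq_left.2 hKC] at h)
    rcases hmin _ (normal_inf_of_supplement hc htop (hCK.trans Subgroup.le_normalizer))
      inf_le_left with hE | hE
    · intro x hx
      obtain ⟨k, hk, a, ha, rfl⟩ := exists_mul_of_mem_sup (Subgroup.normalizer_eq_top N ▸ le_top)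
        (show x ∈ N ⊔ C from htop ▸ Subgroup.mem_top x)
      have : k ∈ N ⊓ Subgroup.normalizer (K rr : Set G) :=
        ⟨hk, by simpa using mul_mem (mem_systemNormalizer.1 hx rr) (inv_mem (hCK ha))⟩
      rw [hE, Subgroup.mem_bot] at this
      rwa [this, one_mul]
    · -- now `G` is nilpotent
      haveI hKn : (K rr).Normal := Subgroup.normalizer_eq_top_iff.1
        (top_le_iff.1 (htop.ge.trans (sup_le (inf_eq_left.1 hE) hCK)))
      have hd : N ⊓ K rr = ⊥ := eq_bot_mono (inf_le_inf_left N hKC) hCN
      have hCG : Group.IsNilpotent G := by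
        refine isNilpotent_of_forall_sylow_normal fun q _ Q => ?_
        by_cases hq : q = r
        · subst hq
          have hnN : N ≤ (Q : Subgroup G) := le_sup_right.trans
            (Q.3 (IsPGroup.to_sup_of_normal_right Q.2 hNr) le_sup_left).le
          have hsurjC : Function.Surjective (π.comp C.subtype) := fun y => by
            obtain ⟨g, rfl⟩ := hsurj y
            obtain ⟨k, hk, a, ha, rfl⟩ := exists_mul_of_mem_sup (Subgroup.normalizer_eq_top N ▸ le_top)
              (show g ∈ N ⊔ C from htop ▸ Subgroup.mem_top g)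
            exact ⟨⟨a, ha⟩, by
              show π a = π (k * a)
              rw [map_mul, show π k = 1 from (QuotientGroup.eq_one_iff k).2 hk, one_mul]⟩
          haveI := hC.1
          haveI : Group.IsNilpotent (G ⧸ N) := Group.nilpotent_of_surjective _ hsurjC
          haveI h1 : ((Q.mapSurjective hsurj : Sylow q (G ⧸ N)) : Subgroup (G ⧸ N)).Normal :=
            Sylow.normal_of_normalizerCondition Group.normalizerCondition_of_isNilpotent _
          rw [Sylow.coe_mapSurjective] at h1
          have h2 := h1.comap π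
          rwa [Subgroup.comap_map_eq, hπ, QuotientGroup.ker_mk', sup_eq_left.2 hnN] at h2
        · have hqK : (Q : Subgroup G) ≤ K rr := sylow_le_of_not_dvd_index (N := K rr) (by
            rw [hK rr]
            exact fun h => hq ((Nat.prime_dvd_prime_iff_eq Fact.out hr).1
              (Fact.out (p := q.Prime) |>.dvd_of_dvd_pow h))) Q
          set QC := (Q : Subgroup G).subgroupOf C
          have hQC : (Q : Subgroup G) ≤ C := hqK.trans hKC
          have hn1 : C ≤ Subgroup.normalizer ((Q : Subgroup G) : Set G) := by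
            refine isNilpotent_hall_normal hC.1 hQC (Nat.Coprime.coprime_dvd_right
              ?_ (Q.card_coprime_index))
            rw [← Subgroup.relIndex_mul_index hQC]
            exact dvd_mul_right _ _
          refine Subgroup.normalizer_eq_top_iff.1 (top_le_iff.1 (htop.ge.trans (sup_le ?_ hn1)))
          intro x hx
          refine mem_normalizer_of_conj_mem fun y hy => ?_
          rwa [Subgroup.commute_of_normal_of_disjoint N (K rr) inferInstance hKn (disjoint_iff.2 hd)
            x y hx (hqK hy), mul_inv_cancel_right]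
      haveI := hCG
      rw [eq_of_carter_le hC.2 (D := ⊤) (isNilpotent_le (K := ⊤) inferInstance le_rfl) le_top]
      exact le_top
  -- `H` is proper
  have hred : IsComplementSystem fun p => (K p).subgroupOf H := by
    intro p
    show (K p).relIndex H = _
    rw [← Subgroup.inf_relIndex_right]
    by_cases hp : (p : ℕ) = r
    · refine relIndex_eq_pow_of_dvd p.2 inf_le_right (fun h => not_dvd_card_complement hK p
        (h.trans (Subgroup.card_dvd_of_le inf_le_left)))
        (a := (Nat.card C).factorization p + e) ?_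
      refine (Subgroup.relIndex_dvd_of_le_left H (inf_le_inf_left (K p) le_sup_left)).trans ?_
      rw [← Subgroup.relIndex_mul_relIndex _ C H inf_le_right le_sup_left, Subgroup.inf_relIndex_right,
        hRc p, pow_add, hH, hp, ← he]
      refine Nat.mul_dvd_mul_left _ ?_
      have h1 := card_sup_mul_card_inf N C
      have h2 : Nat.card C * C.relIndex (C ⊔ N) = Nat.card (C ⊔ N : Subgroup G) := by
        rw [← Subgroup.relIndex_bot_left C, Subgroup.relIndex_mul_relIndex ⊥ C _ bot_le le_sup_left,
          Subgroup.relIndex_bot_left]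
      rw [sup_comm, ← h2, mul_assoc] at h1
      exact Dvd.intro _ (Nat.eq_of_mul_eq_mul_left Nat.card_pos (h1.trans (mul_comm _ _)))
    · refine relIndex_eq_pow_of_dvd p.2 inf_le_right (fun h => not_dvd_card_complement hK p
        (h.trans (Subgroup.card_dvd_of_le inf_le_left)))
        (a := (Nat.card C).factorization p) ?_
      have hNK : N ≤ K p := normal_pGroup_le_complement hK N hNr hp
      rw [← hRc p]
      refine (dvd_of_eq (relIndex_eq_of_mul le_sup_left inf_le_right fun g hg => ?_).symm).trans ?_
      · obtain ⟨k, hk, a, ha, rfl⟩ := exists_mul_of_mem_sup (K := N) (A := C)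
          (Subgroup.normalizer_eq_top N ▸ le_top) (sup_comm C N ▸ hg)
        have hk' : a⁻¹ * k * a ∈ N := by simpa using hNn.conj_mem k hk a⁻¹
        exact ⟨a, ha, a⁻¹ * k * a, ⟨hNK hk', Subgroup.mem_sup_right hk'⟩, by group⟩
      · rw [← Subgroup.inf_relIndex_right (K p) C]
        exact Subgroup.relIndex_dvd_of_le_left C (inf_le_inf_left _ le_sup_left)
  have hsys : IsComplementSystem fun p => ((K p).subgroupOf H).subgroupOf (C.subgroupOf H) := by
    intro p
    show ((K p).subgroupOf H).relIndex (C.subgroupOf H) = _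
    rw [Subgroup.relIndex_subgroupOf le_sup_left,
      Nat.card_congr (Subgroup.subgroupOfEquivOfLe (le_sup_left : C ≤ H)).toEquiv, hRc p]
  intro x hx
  have hlt : Nat.card H < n := hn ▸ lt_of_le_of_ne (Subgroup.card_le_card_group H)
    fun h => hHt (Subgroup.eq_top_of_card_eq H h)
  have h1 : (⟨x, hDCN hx⟩ : H) ∈ systemNormalizer (fun p => (K p).subgroupOf H) :=
    mem_systemNormalizer.2 fun p => mem_normalizer_of_conj_mem fun y hy =>
      show x * (y : G) * x⁻¹ ∈ K p from
        normalizer_conj_mem (K := K p) (k := (y : G)) (mem_systemNormalizer.1 hx p) hy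
  exact ih _ hlt H rfl _ _ (isCarter_subgroupOf hC le_sup_left) hred hsys h1

theorem systemNormalizer_le_carter [Group.IsSolvable G] {C : Subgroup G} (hC : IsCarterSubgroup C)
    (hK : IsComplementSystem K) (hR : IsComplementSystem (fun p => (K p).subgroupOf C)) :
    systemNormalizer K ≤ C :=
  systemNormalizer_le_aux _ G rfl C K hC hK hR

/-- Some complement system reduces into any given subgroup. -/
theorem exists_reducing_system [Group.IsSolvable G] (C : Subgroup G) :
    ∃ K : Nat.Primes → Subgroup G, IsComplementSystem K ∧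
      IsComplementSystem fun p => (K p).subgroupOf C := by
  obtain ⟨K, hK⟩ := exists_isComplementSystem (G := G)
  obtain ⟨L, hL⟩ := exists_isComplementSystem (G := C)
  have h : ∀ p : Nat.Primes, ∃ g : G, MulAut.conj g • (L p).map C.subtype ≤ K p := by
    intro p
    refine exists_conj_le_of_coprime_index ?_ ?_
    · rw [hK p]
      exact (Nat.Coprime.symm ((p.2.coprime_iff_not_dvd).2 (not_dvd_card_complement hK p))).pow_right _
    · rw [hK p, Subgroup.card_subtype]
      exact (Nat.Coprime.symm ((p.2.coprime_iff_not_dvd).2 (not_dvd_card_complement hL p))).pow_right _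
  choose g hg using h
  refine ⟨fun p => MulAut.conj (g p)⁻¹ • K p, fun p => ?_, fun p => ?_⟩
  · show (MulAut.conj (g p)⁻¹ • K p : Subgroup G).index = _
    rw [index_conj_smul, hK p]
  · show (MulAut.conj (g p)⁻¹ • K p).relIndex C = _
    set M := MulAut.conj (g p)⁻¹ • K p with hM
    have hLM : (L p).map C.subtype ≤ M := fun x hx => by
      rw [hM, mem_conj_smul_iff]
      simpa [mul_assoc] using hg p (mem_conj_smul_iff.2 (show (g p)⁻¹ * (g p * x * (g p)⁻¹) * g p ∈
        (L p).map C.subtype by simpa [mul_assoc] using hx))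
    rw [← Subgroup.inf_relIndex_right]
    refine relIndex_eq_pow_of_dvd p.2 inf_le_right (fun h => not_dvd_card_complement hK p ?_)
      (a := (Nat.card C).factorization p) ?_
    · rw [← card_conj_smul (g p)⁻¹ (K p)]
      exact h.trans (Subgroup.card_dvd_of_le inf_le_left)
    · refine (Subgroup.relIndex_dvd_of_le_left C
        (le_inf hLM (Subgroup.map_subtype_le _) : (L p).map C.subtype ≤ M ⊓ C)).trans ?_
      show ((L p).map C.subtype).relIndex C ∣ _
      rw [Subgroup.relIndex, Subgroup.subgroupOf,
        Subgroup.comap_map_eq_self_of_injective C.subtype_injective, hL p]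

theorem systemNormalizer_conj (g : G) :
    systemNormalizer (fun p => MulAut.conj g • K p) = MulAut.conj g • systemNormalizer K := by
  ext x
  rw [mem_conj_smul_iff, mem_systemNormalizer, mem_systemNormalizer]
  refine forall_congr' fun p => ?_
  rw [mem_normalizer_iff_conj_smul, mem_normalizer_iff_conj_smul, conj_smul_conj_smul]
  constructor <;> intro h
  · rw [mul_assoc, ← conj_smul_conj_smul, h, conj_smul_conj_smul, inv_mul_cancel, map_one, one_smul]
  · have := congrArg (fun X : Subgroup G => MulAut.conj g • X) h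
    simpa only [conj_smul_conj_smul, mul_assoc, mul_inv_cancel_left] using this

theorem isComplementSystem_conj (hK : IsComplementSystem K) (g : G) :
    IsComplementSystem fun p => MulAut.conj g • K p := fun p => by
  show (MulAut.conj g • K p : Subgroup G).index = _
  rw [index_conj_smul, hK p]

theorem exists_carter_ge_systemNormalizer [Group.IsSolvable G] (hK : IsComplementSystem K) :
    ∃ C : Subgroup G, IsCarterSubgroup C ∧ systemNormalizer K ≤ C := by
  obtain ⟨C, hC⟩ := exists_isCarterSubgroup (G := G)
  obtain ⟨L, hL, hR⟩ := exists_reducing_system C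
  obtain ⟨g, hg⟩ := exists_conj_complementSystem hL hK
  refine ⟨MulAut.conj g • C, isCarter_conj hC g, ?_⟩
  rw [← show (fun p => MulAut.conj g • L p) = K from funext hg, systemNormalizer_conj]
  exact conj_smul_mono g (systemNormalizer_le_carter hC hL hR)

/-- Nilpotent length at most two: the Carter subgroups are the system normalisers. -/
theorem carter_eq_systemNormalizer [Group.IsSolvable G] {F C : Subgroup G} [F.Normal]
    (hF : Group.IsNilpotent F) (hGF : Group.IsNilpotent (G ⧸ F)) (hC : IsCarterSubgroup C)
    (hK : IsComplementSystem K) (hR : IsComplementSystem fun p => (K p).subgroupOf C) :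
    C = systemNormalizer K := by
  refine eq_of_carter_le hC.2 (isNilpotent_systemNormalizer hK) fun x hx =>
    mem_systemNormalizer.2 fun p => ?_
  have hRc : ∀ p : Nat.Primes, (K p).relIndex C = (p : ℕ) ^ (Nat.card C).factorization p := hR
  have hCF : C ⊔ F = ⊤ := by
    have h1 := isCarter_map_mk hC F fun _ => fun A B hA hB => isCarterSubgroup_conjugate hA hB
    haveI := hGF
    have h2 : C.map (QuotientGroup.mk' F) = ⊤ :=
      normalizerCondition_iff_only_full_group_self_normalizing.1
        Group.normalizerCondition_of_isNilpotent _ h1.2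
    have h3 := congrArg (Subgroup.comap (QuotientGroup.mk' F)) h2
    rwa [Subgroup.comap_map_eq, Subgroup.comap_top, QuotientGroup.ker_mk'] at h3
  have hFmul : ∀ g : G, ∃ a ∈ C, ∃ f ∈ F, g = a * f := fun g => by
    obtain ⟨k, hk, a, ha, rfl⟩ := exists_mul_of_mem_sup (K := F) (A := C)
      (Subgroup.normalizer_eq_top F ▸ le_top) (show g ∈ F ⊔ C by rw [sup_comm, hCF]; trivial)
    exact ⟨a, ha, a⁻¹ * k * a, by simpa using ‹F.Normal›.conj_mem k hk a⁻¹, by group⟩
  set Y := K p ⊓ C with hY
  set Z := K p ⊓ F with hZ
  have hcop : ∀ (a : ℕ) (W : Subgroup G), (Nat.card (K p ⊓ W : Subgroup G)).Coprime ((p : ℕ) ^ a) :=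
    fun a W => coprime_card_inf_complement hK p W
  have hZdvd : Z.relIndex F ∣ (p : ℕ) ^ (Nat.card G).factorization p := by
    rw [hZ, Subgroup.inf_relIndex_right, ← hK p]
    exact relIndex_dvd_index_of_normal_left F (K p)
  have hZn : Z.Normal := by
    have h1 : F ≤ Subgroup.normalizer (Z : Set G) := isNilpotent_hall_normal hF inf_le_right
      ((hcop _ F).coprime_dvd_right hZdvd)
    refine ⟨fun z hz g => ?_⟩
    obtain ⟨a, ha, f, hf, rfl⟩ := hFmul g
    -- conjugates of `Z` are normal Hall subgroups of `F`
    set Z' := MulAut.conj (a * f) • Z with hZ'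
    have hZ'F : Z' ≤ F := conj_smul_le_iff.2 fun w hw => ‹F.Normal›.conj_mem w hw.2 _
    haveI : (Z.subgroupOf F).Normal :=
      (Subgroup.normal_subgroupOf_iff_le_normalizer inf_le_right).2 h1
    have h2 : (Z'.subgroupOf F).map (QuotientGroup.mk' (Z.subgroupOf F)) = ⊥ := by
      refine Subgroup.card_eq_one.1 (Nat.eq_one_of_dvd_coprimes
        ((hcop _ F).coprime_dvd_right hZdvd) ((card_map_dvd _ _).trans (dvd_of_eq ?_))
        (Subgroup.card_subgroup_dvd_card _))
      rw [Nat.card_congr (Subgroup.subgroupOfEquivOfLe hZ'F).toEquiv, hZ', card_conj_smul]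
    rw [Subgroup.map_eq_bot_iff, QuotientGroup.ker_mk'] at h2
    have hm : (a * f) * z * (a * f)⁻¹ ∈ Z' := mem_conj_smul_iff.2 (by simpa [mul_assoc] using hz)
    exact h2 (show (⟨_, hZ'F hm⟩ : F) ∈ Z'.subgroupOf F from hm)
  haveI := hZn
  have hX : Z ⊔ Y = K p := by
    set X := Z ⊔ Y with hXdef
    have hXK : X ≤ K p := sup_le inf_le_left inf_le_left
    have hmulX : ∀ g ∈ X, ∃ z ∈ Z, ∃ y ∈ Y, g = z * y := fun g hg =>
      exists_mul_of_mem_sup (Subgroup.normalizer_eq_top Z ▸ le_top) hg
    refine Subgroup.eq_of_le_of_card_ge hXK ?_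
    have h1 : (F ⊔ Y).relIndex C = (F ⊔ Y).index := relIndex_eq_index_of_mul fun g => by
      obtain ⟨a, ha, f, hf, rfl⟩ := hFmul g
      exact ⟨a, ha, f, Subgroup.mem_sup_left hf, rfl⟩
    have h2 : X.relIndex F = X.relIndex (F ⊔ Y) := relIndex_eq_of_mul le_sup_left
      (sup_le (inf_le_right.trans le_sup_left) le_sup_right) fun g hg => by
        obtain ⟨f, hf, y, hy, rfl⟩ := exists_mul_of_mem_sup (Subgroup.normalizer_eq_top F ▸ le_top) hg
        exact ⟨f, hf, y, Subgroup.mem_sup_right hy, rfl⟩
    have h3 : X.index ∣ (p : ℕ) ^ ((Nat.card G).factorization p + (Nat.card C).factorization p) := by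
      rw [← Subgroup.relIndex_mul_index
        (sup_le (inf_le_right.trans le_sup_left) le_sup_right : X ≤ F ⊔ Y), ← h2, ← h1, pow_add]
      refine Nat.mul_dvd_mul ((Subgroup.relIndex_dvd_of_le_left F le_sup_left).trans hZdvd) ?_
      rw [← hRc p]
      refine (Subgroup.relIndex_dvd_of_le_left C le_sup_right).trans ?_
      rw [hY, Subgroup.inf_relIndex_right]
    have h4 : X.relIndex ⊤ = (p : ℕ) ^ (Nat.card (⊤ : Subgroup G)).factorization p :=
      relIndex_eq_pow_of_dvd p.2 le_top (fun h => not_dvd_card_complement hK p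
        (h.trans (Subgroup.card_dvd_of_le hXK))) (by rwa [Subgroup.relIndex_top_right])
    rw [Subgroup.relIndex_top_right, Subgroup.card_top, ← hK p] at h4
    have h5 := X.card_mul_index
    rw [h4, ← (K p).card_mul_index] at h5
    exact (Nat.eq_of_mul_eq_mul_right (Nat.pos_of_ne_zero Subgroup.index_ne_zero_of_finite) h5).ge
  rw [← hX, mem_normalizer_iff_conj_smul, Subgroup.smul_sup,
    conj_smul_self_of_mem_normalizer (Subgroup.normalizer_eq_top Z ▸ Subgroup.mem_top x),
    conj_smul_self_of_mem_normalizer (isNilpotent_hall_normal hC.1 inf_le_right (by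
      rw [Subgroup.inf_relIndex_right, hRc p]; exact hcop _ C) hx)]

theorem isCarter_iff_systemNormalizer {F : Subgroup G} [F.Normal] (hF : Group.IsNilpotent F)
    (hGF : Group.IsNilpotent (G ⧸ F)) (C : Subgroup G) :
    IsCarterSubgroup C ↔ ∃ K : Nat.Primes → Subgroup G, IsComplementSystem K ∧
      C = systemNormalizer K := by
  haveI : Group.IsSolvable G := by
    haveI := hF
    haveI := hGF
    exact Group.isSolvable_of_ker_le_range F.subtype (QuotientGroup.mk' F)
      (by rw [QuotientGroup.ker_mk', Subgroup.range_subtype])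
  constructor
  · intro hC
    obtain ⟨K, hK, hR⟩ := exists_reducing_system C
    exact ⟨K, hK, carter_eq_systemNormalizer hF hGF hC hK hR⟩
  · rintro ⟨K, hK, rfl⟩
    obtain ⟨D, hD⟩ := exists_isCarterSubgroup (G := G)
    obtain ⟨L, hL, hR⟩ := exists_reducing_system D
    obtain ⟨g, hg⟩ := exists_conj_complementSystem hL hK
    rw [← show (fun p => MulAut.conj g • L p) = K from funext hg, systemNormalizer_conj,
      ← carter_eq_systemNormalizer hF hGF hD hL hR]
    exact isCarter_conj hD g

end CfsgLib.Solvable
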