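import Cfsg.Agent.Lib.Solvable.ClassFixedBasic
import Cfsg.Agent.Lib.PGroup.SymplecticOmega
import Cfsg.Agent.Lib.PGroup.SetStabilizer

/-!
# Automorphisms in a normal odd `p`-subgroup move some point together with all their conjugates

If `P` is a `p`-subgroup, `p` odd, normalised by a group `H` of automorphisms of an abelian `p'`-group `M`,
and `1 ≠ a ∈ P`, then some point of `M` is fixed by no `H`-conjugate of `a`.
-/

set_option autoImplicit false

universe u

namespace CfsgLib.ClassFixed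

open Subgroup Cfsg
open Pointwise
open scoped commutatorElement
open CfsgLib.PGroup.FourDisplacement (fix mem_fix)

variable {p : ℕ} [hp : Fact p.Prime]

/-- The conclusion, for the abelian group `M`. -/
def MovesClass (p : ℕ) (M : Type u) [CommGroup M] : Prop :=
  (Nat.card M).Coprime p → ∀ (H P : Subgroup (MulAut M)), P ≤ H → (∀ h ∈ H, MulAut.conj h • P = P) →
    IsPGroup p P → ∀ a ∈ P, a ≠ 1 → ∃ v : M, ∀ h ∈ H, (h * a * h⁻¹) v ≠ v

variable {M : Type u} [CommGroup M] [Finite M]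

omit hp [Finite M] in
theorem MovesClass.of_hom {M' : Type u} [CommGroup M'] (hM' : MovesClass p M')
    (hcop : (Nat.card M').Coprime p) {N : Subgroup (MulAut M)} (ρ : N →* MulAut M')
    (P : Subgroup (MulAut M)) (hPN : P ≤ N) (hnorm : ∀ h ∈ N, MulAut.conj h • P = P) (hP : IsPGroup p P)
    {a : MulAut M} (ha : a ∈ P) (hρ : ρ ⟨a, hPN ha⟩ ≠ 1) :
    ∃ v : M', ∀ h : N, ρ (h * ⟨a, hPN ha⟩ * h⁻¹) v ≠ v := by
  have hP' : IsPGroup p ↥((P.subgroupOf N).map ρ) :=
    ((hP.of_equiv (subgroupOfEquivOfLe hPN).symm).map ρ)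
  obtain ⟨v, hv⟩ := hM' hcop ρ.range ((P.subgroupOf N).map ρ) (MonoidHom.range_eq_map ρ ▸ map_mono le_top)
    (by
      rintro _ ⟨h, rfl⟩
      ext g
      rw [mem_conj_smul_iff]
      constructor
      · rintro ⟨y, hy, hye⟩
        refine ⟨h * y * h⁻¹, ?_, ?_⟩
        · show ((h * y * h⁻¹ : N) : MulAut M) ∈ P
          rw [← hnorm h h.2]
          exact conj_mem_conj_smul hy
        · rw [map_mul, map_mul, map_inv, hye]
          group
      · rintro ⟨y, hy, rfl⟩
        refine ⟨h⁻¹ * y * h, ?_, by rw [map_mul, map_mul, map_inv]⟩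
        show ((h⁻¹ * y * h : N) : MulAut M) ∈ P
        rw [← hnorm ((h : MulAut M))⁻¹ (inv_mem h.2)]
        have h1 := conj_mem_conj_smul (x := ((h : MulAut M))⁻¹) (mem_subgroupOf.1 hy)
        simpa using h1)
    hP' (ρ ⟨a, hPN ha⟩) ⟨⟨a, hPN ha⟩, ha, rfl⟩ hρ
  refine ⟨v, fun h => ?_⟩
  rw [map_mul, map_mul, map_inv]
  exact hv _ ⟨h, rfl⟩

omit hp [Finite M] in
theorem fix_eq_bot {H Q : Subgroup (MulAut M)}
    (hirr : ∀ W : Subgroup M, (∀ h ∈ H, ∀ w ∈ W, h w ∈ W) → W = ⊥ ∨ W = ⊤) (hQ : Q ≠ ⊥)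
    (hQH : ∀ h ∈ H, MulAut.conj h • Q = Q) : fix Q = ⊥ := by
  refine (hirr _ fun h hh w hw => hQH h hh ▸ apply_mem_fix hw h).resolve_right fun htop => hQ ?_
  rw [eq_bot_iff]
  exact fun y hy => mem_bot.2 (MulEquiv.ext fun m => (htop.ge (mem_top m)) y hy)

omit hp [Finite M] in
theorem conj_map_subtype_of_characteristic {P : Subgroup (MulAut M)} {B : Subgroup P} (hB : B.Characteristic)
    {h : MulAut M} (hh : MulAut.conj h • P = P) :
    MulAut.conj h • (B.map P.subtype) = B.map P.subtype := by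
  let e : P ≃* P :=
    ((Subgroup.equivSMul (MulAut.conj h) P).trans (MulEquiv.subgroupCongr hh))
  have he : ∀ x : P, ((e x : P) : MulAut M) = h * x * h⁻¹ := fun x => rfl
  have hB' := characteristic_iff_map_eq.1 hB e
  ext g
  rw [mem_conj_smul_iff]
  constructor
  · rintro ⟨b, hb, hbe⟩
    refine ⟨e b, hB'.le ⟨b, hb, rfl⟩, ?_⟩
    rw [Subgroup.coe_subtype] at hbe ⊢
    rw [he, hbe]
    group
  · rintro ⟨b, hb, rfl⟩
    obtain ⟨b', hb', rfl⟩ := hB'.ge hb
    refine ⟨b', hb', ?_⟩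
    show (b' : MulAut M) = h⁻¹ * ((e b' : P) : MulAut M) * h
    rw [he]
    group

/-- The case of a large elementary abelian normal subgroup. -/
theorem exists_of_large (hp2 : p ≠ 2) (hcop : (Nat.card M).Coprime p) {H P : Subgroup (MulAut M)}
    (hPH : P ≤ H) (hnorm : ∀ h ∈ H, MulAut.conj h • P = P) (hP : IsPGroup p P)
    (ih : ∀ W : Subgroup M, W ≠ ⊤ → MovesClass p W)
    (hirr : ∀ W : Subgroup M, (∀ h ∈ H, ∀ w ∈ W, h w ∈ W) → W = ⊥ ∨ W = ⊤)
    {a : MulAut M} (ha : a ∈ P) (ha1 : a ≠ 1) {B : Subgroup (MulAut M)} (hBP : B ≤ P)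
    (hBH : ∀ h ∈ H, MulAut.conj h • B = B) (hBc : ∀ x ∈ B, ∀ y ∈ B, x * y = y * x)
    (hBp : ∀ x ∈ B, x ^ p = 1) (hBcard : p < Nat.card B) :
    ∃ v : M, ∀ h ∈ H, (h * a * h⁻¹) v ≠ v := by
  classical
  have hB1 : B ≠ ⊥ := fun e => by
    rw [e, card_bot] at hBcard
    exact absurd hBcard (not_lt.2 hp.out.one_le)
  have hfix := fix_eq_bot hirr hB1 hBH
  have hxB : ∀ k ∈ H, MulAut.conj (k * a * k⁻¹) • B = B := fun k hk =>
    hBH _ (mul_mem (mul_mem hk (hPH ha)) (inv_mem hk))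
  by_cases hI : ∃ Y0, Y0 ⋖ B ∧ MulAut.conj a • Y0 = Y0 ∧ ∃ u ∈ fix Y0, a u ≠ u
  · obtain ⟨Y0, hY0, haY0, u, hu, hau⟩ := hI
    set N : Subgroup (MulAut M) := H ⊓ (MulAction.stabilizer (MulAut (MulAut M)) Y0).comap MulAut.conj with hN
    have hNst : ∀ x ∈ N, MulAut.conj x • Y0 = Y0 := fun x hx => hx.2
    have haN : a ∈ N := ⟨hPH ha, haY0⟩
    have hNU : ∀ x ∈ N, ∀ w ∈ fix Y0, x w ∈ fix Y0 := fun x hx w hw => hNst x hx ▸ apply_mem_fix hw x
    have hUtop : fix Y0 ≠ ⊤ := by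
      intro htop
      have hY0bot : Y0 = ⊥ := eq_bot_iff.2 fun y hy =>
        mem_bot.2 (MulEquiv.ext fun m => (htop.ge (mem_top m)) y hy)
      obtain ⟨b, hb, hb1⟩ := B.bot_or_exists_ne_one.resolve_left hB1
      have hz : zpowers b = B := by
        by_contra hne
        exact hY0.2 (c := zpowers b) (hY0bot ▸ bot_lt_iff_ne_bot.2 (zpowers_ne_bot.2 hb1))
          (lt_of_le_of_ne (zpowers_le.2 hb) hne)
      rw [← hz, Nat.card_zpowers] at hBcard
      exact absurd (orderOf_le_of_pow_eq_one hp.out.pos (hBp b hb)) (not_le.2 hBcard)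
    have hρ : resAut N (fix Y0) hNU ⟨a, haN⟩ ≠ 1 := fun e => hau (by
      have := congrArg Subtype.val (DFunLike.congr_fun e (⟨u, hu⟩ : fix Y0))
      simpa [resAut_apply] using this)
    obtain ⟨w, hw⟩ := (ih _ hUtop).of_hom (hcop.coprime_dvd_left (card_subgroup_dvd_card _))
      (resAut N (fix Y0) hNU) (P ⊓ N) inf_le_right
      (fun h hh => by
        rw [Subgroup.smul_inf, hnorm h hh.1]
        congr 1
        ext g
        rw [mem_conj_smul_iff]
        constructor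
        · intro hg
          have := mul_mem (mul_mem hh hg) (inv_mem hh)
          simpa [mul_assoc] using this
        · exact fun hg => mul_mem (mul_mem (inv_mem hh) hg) hh)
      (hP.to_le inf_le_left) (a := a) ⟨ha, haN⟩ hρ
    let W : Subgroup (MulAut M) → M := fun Y =>
      if h : ∃ g ∈ H, MulAut.conj g • Y0 = Y then h.choose (w : M) else 1
    have hW : ∀ Y, Y ⋖ B → W Y ∈ fix Y := by
      intro Y _
      simp only [W]
      split_ifs with h
      · have := apply_mem_fix w.2 h.choose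
        rwa [h.choose_spec.2] at this
      · exact one_mem _
    refine ⟨∏ Y ∈ hyps B, W Y, fun k hk hfixed => ?_⟩
    have hYB : MulAut.conj k • Y0 ⋖ B := covBy_conj (hBH k hk) hY0
    have hxY : MulAut.conj (k * a * k⁻¹) • MulAut.conj k • Y0 = MulAut.conj k • Y0 := by
      rw [← conj_smul_mul, inv_mul_cancel_right, conj_smul_mul, haY0]
    have hc := component hBc hBp hfix hcop W hW (hxB k hk) hfixed hYB
    rw [hxY] at hc
    have hex : ∃ g ∈ H, MulAut.conj g • Y0 = MulAut.conj k • Y0 := ⟨k, hk, rfl⟩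
    simp only [W, dif_pos hex] at hc
    obtain ⟨hgH, hgY⟩ := hex.choose_spec
    set g := hex.choose
    have hn : g⁻¹ * k ∈ N := by
      refine mem_inf.2 ⟨mul_mem (inv_mem hgH) hk, ?_⟩
      show MulAut.conj (g⁻¹ * k) • Y0 = Y0
      rw [conj_smul_mul, ← hgY, ← conj_smul_mul, inv_mul_cancel, map_one, one_smul]
    refine hw ⟨_, hn⟩ (Subtype.ext ?_)
    rw [resAut_apply]
    show (g⁻¹ * k * a * (g⁻¹ * k)⁻¹) (w : M) = w
    rw [show g⁻¹ * k * a * (g⁻¹ * k)⁻¹ = g⁻¹ * (k * a * k⁻¹) * g by group, MulAut.mul_apply, MulAut.mul_apply,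
      hc]
    exact MulEquiv.symm_apply_apply g _
  · let f : MulAut M →* Equiv.Perm (Subgroup (MulAut M)) :=
      (MulAction.toPermHom (MulAut (MulAut M)) (Subgroup (MulAut M))).comp MulAut.conj
    have hf : ∀ x Y, f x Y = MulAut.conj x • Y := fun _ _ => rfl
    set S := (hyps B).filter fun Y => ∃ u ∈ fix Y, u ≠ 1 with hS
    have hSinv : ∀ x ∈ H, ∀ Y ∈ S, f x Y ∈ S := by
      intro x hx Y hY
      obtain ⟨hYB, u, hu, hu1⟩ := Finset.mem_filter.1 hY
      exact Finset.mem_filter.2 ⟨mem_hyps.2 (covBy_conj (hBH x hx) (mem_hyps.1 hYB)), x u, apply_mem_fix hu x,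
        fun e => hu1 (x.injective (e.trans (map_one x).symm))⟩
    obtain ⟨T, hTS, hT⟩ := exists_subset_trivial_stabilizer hp2 f P hP S fun x hx => hSinv x (hPH hx)
    let W : Subgroup (MulAut M) → M := fun Y =>
      if h : Y ∈ T ∧ ∃ u ∈ fix Y, u ≠ 1 then h.2.choose else 1
    have hW : ∀ Y, Y ⋖ B → W Y ∈ fix Y := by
      intro Y _
      simp only [W]
      split_ifs with h
      · exact h.2.choose_spec.1
      · exact one_mem _
    refine ⟨∏ Y ∈ hyps B, W Y, fun k hk hfixed => ?_⟩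
    obtain ⟨Y1, hY1, u, hu, hau⟩ := exists_fix_moved hBc hBp hfix hcop ha1
    have hne : MulAut.conj a • Y1 ≠ Y1 := fun e => hI ⟨Y1, hY1, e, u, hu, hau⟩
    have hY1S : Y1 ∈ S := Finset.mem_filter.2 ⟨mem_hyps.2 hY1, u, hu, fun e => hau (by rw [e, map_one])⟩
    have hxP : k * a * k⁻¹ ∈ P := by
      rw [← hnorm k hk]
      exact conj_mem_conj_smul ha
    have hall := hT _ hxP (fun t ht => by
      obtain ⟨htB, htu⟩ := Finset.mem_filter.1 (hTS ht)
      have hc := component hBc hBp hfix hcop W hW (hxB k hk) hfixed (mem_hyps.1 htB)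
      simp only [W, dif_pos (show t ∈ T ∧ ∃ u ∈ fix t, u ≠ 1 from ⟨ht, htu⟩)] at hc
      by_contra hnot
      rw [hf] at hnot
      rw [dif_neg (fun h => hnot h.1)] at hc
      exact (Classical.choose_spec htu).2 ((k * a * k⁻¹).injective (hc.trans (map_one _).symm)))
      _ (hSinv k hk Y1 hY1S)
    rw [hf, hf, ← conj_smul_mul, inv_mul_cancel_right, conj_smul_mul, smul_left_cancel_iff] at hall
    exact hne hall

/-- The case without large elementary abelian normal subgroups. -/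
theorem exists_of_small (hp2 : p ≠ 2) (hcop : (Nat.card M).Coprime p) {H P : Subgroup (MulAut M)}
    (hPH : P ≤ H) (hnorm : ∀ h ∈ H, MulAut.conj h • P = P) (hP : IsPGroup p P)
    (hirr : ∀ W : Subgroup M, (∀ h ∈ H, ∀ w ∈ W, h w ∈ W) → W = ⊥ ∨ W = ⊤)
    (hsmall : ∀ B : Subgroup (MulAut M), B ≤ P → (∀ h ∈ H, MulAut.conj h • B = B) →
      (∀ x ∈ B, ∀ y ∈ B, x * y = y * x) → (∀ x ∈ B, x ^ p = 1) → Nat.card B ≤ p)
    {a : MulAut M} (ha : a ∈ P) (ha1 : a ≠ 1) (hap : a ^ p = 1) :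
    ∃ v : M, ∀ h ∈ H, (h * a * h⁻¹) v ≠ v := by
  classical
  have : Nontrivial P := ⟨⟨a, ha⟩, 1, fun e => ha1 (congrArg Subtype.val e)⟩
  obtain ⟨Z₁, R₁, hZchar, hZcard, hZR, hZcen, hRp, hRZ, hRc, hmem⟩ := exists_omega_symplectic hP hp2
    (fun B hB hBe => by
      have hB' := hsmall (B.map P.subtype) (map_subtype_le B)
        (fun h hh => conj_map_subtype_of_characteristic hB (hnorm h hh))
        (by
          rintro _ ⟨x, hx, rfl⟩ _ ⟨y, hy, rfl⟩
          exact congrArg Subtype.val (congrArg Subtype.val (hBe.1.is_comm.comm ⟨x, hx⟩ ⟨y, hy⟩)))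
        (by
          rintro _ ⟨x, hx, rfl⟩
          rw [← map_pow, hBe.2 x hx, map_one])
      rwa [card_map_of_injective P.subtype_injective] at hB')
  set Z := Z₁.map P.subtype with hZdef
  set R := R₁.map P.subtype with hRdef
  have hZcard' : Nat.card Z = p := by rw [hZdef, card_map_of_injective P.subtype_injective, hZcard]
  have hZH : ∀ h ∈ H, MulAut.conj h • Z = Z := fun h hh =>
    conj_map_subtype_of_characteristic hZchar (hnorm h hh)
  have hZne : Z ≠ ⊥ := fun e => by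
    rw [e, card_bot] at hZcard'
    exact hp.out.ne_one hZcard'.symm
  have hfixZ := fix_eq_bot hirr hZne hZH
  have hRP : R ≤ P := map_subtype_le R₁
  have hZR' : Z ≤ R := map_mono hZR
  have hZP : ∀ z ∈ Z, ∀ x ∈ P, Commute z x := by
    rintro _ ⟨z, hz, rfl⟩ x hx
    exact congrArg Subtype.val (mem_center_iff.1 (hZcen hz) ⟨x, hx⟩).symm
  have hRexp : ∀ r ∈ R, r ^ p = 1 := by
    rintro _ ⟨r, hr, rfl⟩
    rw [← map_pow, hRp r hr, map_one]
  have hRcomm : ∀ r ∈ R, ∀ x ∈ P, ⁅x, r⁆ ∈ Z := by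
    rintro _ ⟨r, hr, rfl⟩ x hx
    exact ⟨⁅⟨x, hx⟩, r⁆, hRZ r hr _, by rw [map_commutatorElement]; rfl⟩
  have hRcen : ∀ r ∈ R, (∀ s ∈ R, Commute r s) → r ∈ Z := by
    rintro _ ⟨r, hr, rfl⟩ h
    exact ⟨r, hRc r hr fun s hs => Subtype.ext (h s ⟨s, hs, rfl⟩).eq, rfl⟩
  have hxmem : ∀ k ∈ H, k * a * k⁻¹ ∈ R ∧ k * a * k⁻¹ ≠ 1 ∧ (k * a * k⁻¹ ∈ Z ↔ a ∈ Z) := by
    intro k hk
    have hxP : k * a * k⁻¹ ∈ P := by
      rw [← hnorm k hk]
      exact conj_mem_conj_smul ha
    refine ⟨⟨⟨_, hxP⟩, hmem _ (Subtype.ext ?_), rfl⟩, fun e => ha1 ?_, ?_⟩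
    · rw [Subgroup.coe_pow, conj_pow, hap]
      simp
    · exact conj_eq_one_iff.1 e
    · conv_lhs => rw [← hZH k hk, mem_conj_smul_iff]
      rw [show k⁻¹ * (k * a * k⁻¹) * k = a by group]
  have hgenZ : ∀ z ∈ Z, z ≠ 1 → ∀ w : M, z w = w → w = 1 := by
    intro z hz hz1 w hw
    have hle : Z ≤ MulAction.stabilizer (MulAut M) w :=
      le_of_mem_of_card_eq hZcard' hz hz1 (MulAction.mem_stabilizer_iff.2 hw)
    rw [← mem_bot, ← hfixZ]
    exact fun y hy => hle hy
  by_cases haZ : a ∈ Z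
  · obtain ⟨w, hw⟩ : ∃ w : M, a w ≠ w := by
      by_contra h
      push_neg at h
      exact ha1 (MulEquiv.ext h)
    refine ⟨w, fun k hk hfixed => hw ?_⟩
    obtain ⟨-, hne1, hiff⟩ := hxmem k hk
    rw [hgenZ _ (hiff.2 haZ) hne1 w hfixed, map_one]
  -- a maximal abelian subgroup of `R`
  obtain ⟨A, ⟨hZA, hAR, hAc⟩, hAmax⟩ := Set.Finite.exists_maximal
    (s := {A : Subgroup (MulAut M) | Z ≤ A ∧ A ≤ R ∧ ∀ x ∈ A, ∀ y ∈ A, x * y = y * x}) (Set.toFinite _)
    ⟨Z, le_rfl, hZR', fun x hx y hy => (hZP x hx y (hRP (hZR' hy))).eq⟩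
  have hAself : ∀ r ∈ R, (∀ y ∈ A, Commute r y) → r ∈ A := by
    intro r hr hc
    have h1 : A ⊔ zpowers r ≤ centralizer (A : Set (MulAut M)) :=
      sup_le (fun y hy => mem_centralizer_iff.2 fun z hz => hAc z hz y hy)
        (zpowers_le.2 (mem_centralizer_iff.2 fun z hz => (hc z hz).symm.eq))
    have h2 : A ⊔ zpowers r ≤ centralizer (zpowers r : Set (MulAut M)) :=
      sup_le (le_centralizer_iff.1 (le_sup_right.trans h1)) (fun y hy => mem_centralizer_iff.2 fun z hz => by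
        obtain ⟨i, rfl⟩ := mem_zpowers_iff.1 hy
        obtain ⟨j, rfl⟩ := mem_zpowers_iff.1 hz
        exact zpow_mul_comm r j i)
    have h3 : A ⊔ zpowers r ≤ centralizer (↑(A ⊔ zpowers r) : Set (MulAut M)) :=
      le_centralizer_iff.1 (sup_le (le_centralizer_iff.1 h1) (le_centralizer_iff.1 h2))
    exact hAmax ⟨hZA.trans le_sup_left, sup_le hAR (zpowers_le.2 hr), fun x hx y hy =>
      mem_centralizer_iff.1 (h3 hy) x hx⟩ le_sup_left (mem_sup_right (mem_zpowers r))
  have hAp : ∀ x ∈ A, x ^ p = 1 := fun x hx => hRexp x (hAR hx)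
  have hfixA : fix A = ⊥ := eq_bot_iff.2 fun w hw => hfixZ.le fun y hy => hw y (hZA hy)
  have hRA : ∀ r ∈ R, MulAut.conj r • A = A := by
    have key : ∀ r ∈ R, ∀ g ∈ A, r * g * r⁻¹ ∈ A := fun r hr g hg => by
      have h := mul_mem (hZA (hRcomm g (hAR hg) r (hRP hr))) hg
      rwa [commutatorElement_def, inv_mul_cancel_right] at h
    intro r hr
    ext g
    rw [mem_conj_smul_iff]
    constructor
    · intro hg
      simpa [mul_assoc] using key r hr _ hg
    · intro hg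
      simpa using key r⁻¹ (inv_mem hr) g hg
  obtain ⟨Y0, hY0, u, hu, hau⟩ := exists_fix_moved hAc hAp hfixA hcop ha1
  have hu1 : u ≠ 1 := fun e => hau (by rw [e, map_one])
  have hY0Z : ∀ y ∈ Y0, y ∈ Z → y = 1 := by
    intro y hy hyZ
    by_contra hy1
    exact hu1 (hgenZ y hyZ hy1 u (hu y hy))
  have hnormA : ∀ r ∈ R, MulAut.conj r • Y0 = Y0 → r ∈ A := by
    intro r hr hrY
    refine hAself r hr ?_
    have hcY : ∀ y ∈ Y0, Commute r y := fun y hy => by
      refine commutatorElement_eq_one_iff_mul_comm.1 (hY0Z _ ?_ (hRcomm y (hAR (hY0.le hy)) r (hRP hr)))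
      rw [commutatorElement_def]
      exact mul_mem (hrY ▸ conj_mem_conj_smul hy) (inv_mem hy)
    have hsup : Y0 ⊔ Z = A := (hY0.eq_or_eq le_sup_left (sup_le hY0.le hZA)).resolve_left fun e => by
      obtain ⟨z, hz, hz1⟩ := Z.bot_or_exists_ne_one.resolve_left hZne
      exact hz1 (hY0Z z (e ▸ mem_sup_right hz) hz)
    have hle : Y0 ⊔ Z ≤ centralizer ({r} : Set (MulAut M)) :=
      sup_le (fun y hy => mem_centralizer_iff.2 fun z hz => by
          rw [Set.mem_singleton_iff.1 hz]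
          exact (hcY y hy).eq)
        (fun y hy => mem_centralizer_iff.2 fun z hz => by
          rw [Set.mem_singleton_iff.1 hz]
          exact (hZP y hy r (hRP hr)).symm.eq)
    exact fun y hy => mem_centralizer_iff.1 (hle (hsup.symm ▸ hy)) r (Set.mem_singleton r)
  let W : Subgroup (MulAut M) → M := fun Y =>
    if h : Y ≠ Y0 ∧ ∃ r ∈ R, MulAut.conj r • Y0 = Y then h.2.choose u else 1
  have hW : ∀ Y, Y ⋖ A → W Y ∈ fix Y := by
    intro Y _
    simp only [W]
    split_ifs with h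
    · have := apply_mem_fix hu h.2.choose
      rwa [h.2.choose_spec.2] at this
    · exact one_mem _
  have hWne : ∀ r ∈ R, MulAut.conj r • Y0 ≠ Y0 → W (MulAut.conj r • Y0) ≠ 1 := by
    intro r hr hne
    simp only [W]
    rw [dif_pos (show MulAut.conj r • Y0 ≠ Y0 ∧ ∃ r' ∈ R, MulAut.conj r' • Y0 = MulAut.conj r • Y0 from
      ⟨hne, r, hr, rfl⟩)]
    exact fun e => hu1 (MulEquiv.injective _ (e.trans (map_one _).symm))
  have hWY0 : W Y0 = 1 := by
    simp only [W]
    rw [dif_neg (fun h => h.1 rfl)]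
  refine ⟨∏ Y ∈ hyps A, W Y, fun k hk hfixed => ?_⟩
  obtain ⟨hxR, hx1, hiff⟩ := hxmem k hk
  have hxZ : k * a * k⁻¹ ∉ Z := fun h => haZ (hiff.1 h)
  set x := k * a * k⁻¹ with hx
  have hcomp := fun {Y} (hY : Y ⋖ A) => component hAc hAp hfixA hcop W hW (hRA x hxR) hfixed hY
  by_cases hxA : x ∈ A
  · obtain ⟨r, hr, hcr⟩ : ∃ r ∈ R, ¬ Commute x r := by
      by_contra h
      push_neg at h
      exact hxZ (hRcen x hxR h)
    have hkey : ∀ r ∈ R, r ∉ A → r⁻¹ * x * r ∈ Y0 := by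
      intro r hr hrA
      have hne : MulAut.conj r • Y0 ≠ Y0 := fun e => hrA (hnormA r hr e)
      have hYA : MulAut.conj r • Y0 ⋖ A := covBy_conj (hRA r hr) hY0
      have hc := hcomp hYA
      rw [conj_smul_eq_self_of_comm (Y := MulAut.conj r • Y0) fun g hg => hAc x hxA g (hYA.le hg)] at hc
      by_contra hnot
      rw [← mem_conj_smul_iff] at hnot
      refine hWne r hr hne (eq_one_of_mem_fix_two (Y' := zpowers x) hfixA ?_ (hW _ hYA) ?_)
      · exact (hYA.eq_or_eq le_sup_left (sup_le hYA.le (zpowers_le.2 hxA))).resolve_left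
          fun e => hnot (e ▸ mem_sup_right (mem_zpowers x))
      · intro y hy
        have hle : zpowers x ≤ MulAction.stabilizer (MulAut M) (W (MulAut.conj r • Y0)) :=
          zpowers_le.2 (MulAction.mem_stabilizer_iff.2 hc)
        exact hle hy
    set c := x⁻¹ * (r⁻¹ * x * r) with hcdef
    have hcZ : c ∈ Z := by
      have h := hRcomm r⁻¹ (inv_mem hr) x⁻¹ (inv_mem (hRP hxR))
      rw [commutatorElement_def, inv_inv, inv_inv] at h
      simpa [hcdef, mul_assoc] using h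
    have hc1 : c ≠ 1 := by
      intro e
      apply hcr
      rw [hcdef, inv_mul_eq_one] at e
      calc x * r = r * (r⁻¹ * x * r) := by group
        _ = r * x := by rw [← e]
    have e1 : r⁻¹ * x * r = x * c := by rw [hcdef, mul_inv_cancel_left]
    have e2 : (r * r)⁻¹ * x * (r * r) = x * (c * c) := by
      calc (r * r)⁻¹ * x * (r * r) = r⁻¹ * (r⁻¹ * x * r) * r := by group
        _ = r⁻¹ * x * (c * r) := by rw [e1]; group
        _ = r⁻¹ * x * r * c := by rw [(hZP c hcZ r (hRP hr)).eq]; group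
        _ = x * (c * c) := by rw [e1]; group
    have hrA : r ∉ A := fun h => hcr (hAc x hxA r h)
    have hrrA : r * r ∉ A := fun h => by
      have e3 : x * (c * c) = x := by
        rw [← e2, mul_assoc _ x, hAc x hxA _ h, inv_mul_cancel_left]
      have hcc : c ^ 2 = 1 := by rw [pow_two]; exact mul_eq_left.1 e3
      refine hc1 ?_
      obtain ⟨n, hn⟩ := hp.out.odd_of_ne_two hp2
      have hcp := hRexp c (hZR' hcZ)
      rw [hn, pow_succ, pow_mul, hcc, one_pow, one_mul] at hcp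
      exact hcp
    have h1 : x * c ∈ Y0 := e1 ▸ hkey r hr hrA
    have h2 : x * (c * c) ∈ Y0 := e2 ▸ hkey (r * r) (mul_mem hr hr) hrrA
    refine hc1 (hY0Z c ?_ hcZ)
    have := mul_mem (inv_mem h1) h2
    simpa [mul_assoc] using this
  · have hc := hcomp hY0
    rw [hWY0, map_one] at hc
    exact hWne x hxR (fun e => hxA (hnormA x hxR e)) hc.symm

omit [Finite M] in
theorem exists_of_order_reduction {H P : Subgroup (MulAut M)} (hP : IsPGroup p P) {a : MulAut M} (ha : a ∈ P)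
    (ha1 : a ≠ 1)
    (h : ∀ b ∈ P, b ≠ 1 → b ^ p = 1 → ∃ v : M, ∀ h ∈ H, (h * b * h⁻¹) v ≠ v) :
    ∃ v : M, ∀ h ∈ H, (h * a * h⁻¹) v ≠ v := by
  obtain ⟨k, hk⟩ := IsPGroup.iff_orderOf.1 hP ⟨a, ha⟩
  rw [← Subgroup.orderOf_coe] at hk
  have hk0 : k ≠ 0 := fun e => ha1 (orderOf_eq_one_iff.1 (by simpa [e] using hk))
  obtain ⟨j, rfl⟩ := Nat.exists_eq_succ_of_ne_zero hk0
  obtain ⟨v, hv⟩ := h (a ^ p ^ j) (pow_mem ha _)
    (fun e => by
      have := Nat.le_of_dvd (pow_pos hp.out.pos _) (orderOf_dvd_of_pow_eq_one e)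
      simp only [hk] at this
      exact absurd this (not_le.2 (Nat.pow_lt_pow_right hp.out.one_lt (Nat.lt_succ_self j))))
    (by rw [← pow_mul, ← pow_succ]; exact hk ▸ pow_orderOf_eq_one a)
  refine ⟨v, fun g hg hfixed => hv g hg ?_⟩
  rw [← conj_pow]
  exact MulAction.mem_stabilizer_iff.1 (pow_mem (show g * a * g⁻¹ ∈ MulAction.stabilizer (MulAut M) v from hfixed) _)

/-- A point fixed by no conjugate of a given nontrivial element of a normal `p`-group of automorphisms. -/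
theorem movesClass (hp2 : p ≠ 2) (M : Type u) [CommGroup M] [Finite M] : MovesClass p M := by
  suffices key : ∀ (n : ℕ) (M : Type u) [CommGroup M] [Finite M], Nat.card M = n → MovesClass p M from
    key _ M rfl
  intro n
  induction n using Nat.strong_induction_on with
  | _ n ih =>
  intro M _ _ hn hcop H P hPH hnorm hP a ha ha1
  by_cases hirr : ∀ W : Subgroup M, (∀ h ∈ H, ∀ w ∈ W, h w ∈ W) → W = ⊥ ∨ W = ⊤
  · have hsub : ∀ W : Subgroup M, W ≠ ⊤ → MovesClass p W := fun W hW =>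
      ih (Nat.card W) (hn ▸ lt_of_le_of_ne (card_le_card_group W) fun e => hW (eq_top_of_card_eq W e)) W rfl
    refine exists_of_order_reduction hP ha ha1 fun b hb hb1 hbp => ?_
    by_cases hsmall : ∀ B : Subgroup (MulAut M), B ≤ P → (∀ h ∈ H, MulAut.conj h • B = B) →
        (∀ x ∈ B, ∀ y ∈ B, x * y = y * x) → (∀ x ∈ B, x ^ p = 1) → Nat.card B ≤ p
    · exact exists_of_small hp2 hcop hPH hnorm hP hirr hsmall hb hb1 hbp
    · push_neg at hsmall
      obtain ⟨B, hBP, hBH, hBc, hBp, hBcard⟩ := hsmall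
      exact exists_of_large hp2 hcop hPH hnorm hP hsub hirr hb hb1 hBP hBH hBc hBp hBcard
  · push_neg at hirr
    obtain ⟨W, hWH, hWbot, hWtop⟩ := hirr
    by_cases hmove : ∃ w ∈ W, a w ≠ w
    · obtain ⟨w, hw, haw⟩ := hmove
      have hM' := ih (Nat.card W)
        (hn ▸ lt_of_le_of_ne (card_le_card_group W) fun e => hWtop (eq_top_of_card_eq W e)) W rfl
      obtain ⟨v, hv⟩ := hM'.of_hom (hcop.coprime_dvd_left (card_subgroup_dvd_card W)) (resAut H W hWH) P hPH
        hnorm hP ha (fun e => haw (by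
          have := congrArg Subtype.val (DFunLike.congr_fun e (⟨w, hw⟩ : W))
          simpa [resAut_apply] using this))
      refine ⟨(v : M), fun h hh hfixed => hv ⟨h, hh⟩ (Subtype.ext ?_)⟩
      rw [resAut_apply]
      exact hfixed
    · push_neg at hmove
      have hlt : Nat.card (M ⧸ W) < n := by
        have h1 := W.card_mul_index
        rw [index_eq_card, hn] at h1
        have h2 : 1 < Nat.card W := (W.one_lt_card_iff_ne_bot).2 hWbot
        have h3 : 0 < Nat.card (M ⧸ W) := Nat.card_pos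
        nlinarith
      have hρ : quotAut H W hWH ⟨a, hPH ha⟩ ≠ 1 := by
        intro e
        refine ha1 (MulEquiv.ext fun m => ?_)
        have hm : m⁻¹ * a m ∈ W := QuotientGroup.eq.1 (DFunLike.congr_fun e (QuotientGroup.mk m)).symm
        have hit : ∀ j : ℕ, (a ^ j) m = m * (m⁻¹ * a m) ^ j := by
          intro j
          induction j with
          | zero => simp
          | succ j ihj =>
            rw [pow_succ', MulAut.mul_apply, ihj, map_mul, map_pow, hmove _ hm, pow_succ', ← mul_assoc,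
              mul_inv_cancel_left]
        obtain ⟨k, hk⟩ := hP ⟨a, ha⟩
        have hk' : a ^ p ^ k = 1 := congrArg Subtype.val hk
        have h1 := hit (p ^ k)
        rw [hk', MulAut.one_apply, left_eq_mul] at h1
        have h2 : m⁻¹ * a m = 1 :=
          (powCoprime (hcop.pow_right k)).injective (h1.trans (one_pow _).symm)
        rw [inv_mul_eq_one] at h2
        exact h2.symm
      obtain ⟨v, hv⟩ := (ih _ hlt (M ⧸ W) rfl).of_hom
        (hcop.coprime_dvd_left (card_quotient_dvd_card W)) (quotAut H W hWH) P hPH hnorm hP ha hρ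
      induction v using QuotientGroup.induction_on with
      | _ m =>
        refine ⟨m, fun h hh hfixed => hv ⟨h, hh⟩ ?_⟩
        rw [quotAut_mk]
        exact congrArg QuotientGroup.mk hfixed

end CfsgLib.ClassFixed
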