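import Mathlib
import Cfsg.Agent.Lib.PGroup.FourDisplacement

/-!
# Fixed points of the maximal subgroups of an elementary abelian group of automorphisms

Fixed point subgroups, generation by the fixed points of hyperplanes, and the components of a product of
fixed elements.
-/

set_option autoImplicit false

universe u

namespace CfsgLib.ClassFixed

open Subgroup
open Pointwise
open CfsgLib.PGroup.FourDisplacement (fix mem_fix sigma sigma_apply apply_sigma prod_split fix_sup)

variable {M : Type u} [CommGroup M]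

theorem mem_conj_smul_iff {G : Type*} [Group G] {x g : G} {Y : Subgroup G} :
    g ∈ MulAut.conj x • Y ↔ x⁻¹ * g * x ∈ Y := by
  rw [Subgroup.mem_pointwise_smul_iff_inv_smul_mem, MulAut.smul_def, ← map_inv, MulAut.conj_apply, inv_inv]

theorem conj_mem_conj_smul {G : Type*} [Group G] {x g : G} {Y : Subgroup G} (h : g ∈ Y) :
    x * g * x⁻¹ ∈ MulAut.conj x • Y := by
  rw [mem_conj_smul_iff]
  simpa [mul_assoc] using h

theorem conj_smul_mul {G : Type*} [Group G] (x y : G) (Y : Subgroup G) :
    MulAut.conj (x * y) • Y = MulAut.conj x • (MulAut.conj y • Y) := by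
  rw [map_mul, mul_smul]

theorem conj_smul_eq_self_of_comm {G : Type*} [Group G] {x : G} {Y : Subgroup G}
    (h : ∀ g ∈ Y, Commute x g) : MulAut.conj x • Y = Y := by
  ext g
  rw [mem_conj_smul_iff]
  constructor
  · intro hg
    have h1 := (h _ hg).eq
    rw [← mul_assoc, ← mul_assoc, mul_inv_cancel, one_mul] at h1
    have h2 : g = x⁻¹ * g * x := mul_right_cancel h1
    exact h2 ▸ hg
  · intro hg
    rwa [mul_assoc, ← (h g hg).eq, inv_mul_cancel_left]

theorem apply_mem_fix {Y : Subgroup (MulAut M)} {u : M} (hu : u ∈ fix Y) (x : MulAut M) :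
    x u ∈ fix (MulAut.conj x • Y) := by
  intro y hy
  rw [mem_conj_smul_iff] at hy
  have h := hu _ hy
  rw [MulAut.mul_apply, MulAut.mul_apply] at h
  conv_rhs => rw [← h]
  exact (MulEquiv.apply_symm_apply x _).symm

/-- The restriction of automorphisms stabilising a subgroup. -/
def resAut (N : Subgroup (MulAut M)) (W : Subgroup M) (hN : ∀ x ∈ N, ∀ w ∈ W, x w ∈ W) : N →* MulAut W where
  toFun x :=
    { toFun := fun w => ⟨(x : MulAut M) w, hN x x.2 w w.2⟩
      invFun := fun w => ⟨((x : MulAut M))⁻¹ w, hN _ (inv_mem x.2) w w.2⟩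
      left_inv := fun w => Subtype.ext (MulEquiv.symm_apply_apply (x : MulAut M) (w : M))
      right_inv := fun w => Subtype.ext (MulEquiv.apply_symm_apply (x : MulAut M) (w : M))
      map_mul' := fun a b => Subtype.ext (map_mul (x : MulAut M) (a : M) b) }
  map_one' := MulEquiv.ext fun _ => Subtype.ext rfl
  map_mul' := fun _ _ => MulEquiv.ext fun _ => Subtype.ext rfl

theorem resAut_apply (N : Subgroup (MulAut M)) (W : Subgroup M) (hN : ∀ x ∈ N, ∀ w ∈ W, x w ∈ W)
    (x : N) (w : W) : ((resAut N W hN x w : W) : M) = (x : MulAut M) w := rfl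

/-- The action on the quotient by a stable subgroup. -/
def quotAut (N : Subgroup (MulAut M)) (W : Subgroup M) (hN : ∀ x ∈ N, ∀ w ∈ W, x w ∈ W) :
    N →* MulAut (M ⧸ W) where
  toFun x :=
    MonoidHom.toMulEquiv
      (QuotientGroup.map W W (x : MulAut M).toMonoidHom (fun w hw => hN x x.2 w hw))
      (QuotientGroup.map W W ((x : MulAut M))⁻¹.toMonoidHom (fun w hw => hN _ (inv_mem x.2) w hw))
      (QuotientGroup.monoidHom_ext W (MonoidHom.ext fun m => congrArg (QuotientGroup.mk (s := W))
        (MulEquiv.symm_apply_apply (x : MulAut M) m)))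
      (QuotientGroup.monoidHom_ext W (MonoidHom.ext fun m => congrArg (QuotientGroup.mk (s := W))
        (MulEquiv.apply_symm_apply (x : MulAut M) m)))
  map_one' := MulEquiv.ext fun q => QuotientGroup.induction_on q fun _ => rfl
  map_mul' := fun _ _ => MulEquiv.ext fun q => QuotientGroup.induction_on q fun _ => rfl

theorem quotAut_mk (N : Subgroup (MulAut M)) (W : Subgroup M) (hN : ∀ x ∈ N, ∀ w ∈ W, x w ∈ W)
    (x : N) (m : M) : quotAut N W hN x (QuotientGroup.mk m) = QuotientGroup.mk ((x : MulAut M) m) := rfl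

variable [Finite M] {p : ℕ} [hp : Fact p.Prime]

theorem pow_card_inj (hcop : (Nat.card M).Coprime p) {B : Subgroup (MulAut M)} (hB : IsPGroup p B)
    {u w : M} (h : u ^ Nat.card B = w ^ Nat.card B) : u = w := by
  obtain ⟨n, hn⟩ := IsPGroup.iff_card.1 hB
  rw [hn] at h
  exact (powCoprime (hcop.pow_right n)).injective h

theorem sigma_of_mem_fix (Y : Subgroup (MulAut M)) {u : M} (hu : u ∈ fix Y) :
    sigma Y u = u ^ Nat.card Y := by
  have := Fintype.ofFinite Y
  rw [sigma_apply, Finset.prod_congr rfl (fun (g : Y) _ => hu g g.2), Finset.prod_const, Finset.card_univ,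
    Nat.card_eq_fintype_card]

theorem sigma_mem_fix (Y : Subgroup (MulAut M)) (m : M) : sigma Y m ∈ fix Y := fun _ hy => apply_sigma Y hy m

theorem apply_sigma_conj (x : MulAut M) (Y : Subgroup (MulAut M)) (m : M) :
    x (sigma Y m) = sigma (MulAut.conj x • Y) (x m) := by
  have := Fintype.ofFinite Y
  have := Fintype.ofFinite ↥(MulAut.conj x • Y)
  rw [sigma_apply, sigma_apply, map_prod]
  refine Fintype.prod_equiv (Subgroup.equivSMul (MulAut.conj x) Y).toEquiv _ _ fun g => ?_
  show _ = (x * (g : MulAut M) * x⁻¹) (x m)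
  rw [MulAut.mul_apply, MulAut.mul_apply, show x⁻¹ (x m) = m from MulEquiv.symm_apply_apply x m]

variable {B : Subgroup (MulAut M)} (hBc : ∀ a ∈ B, ∀ b ∈ B, a * b = b * a) (hBp : ∀ a ∈ B, a ^ p = 1)
  (hfix : fix B = ⊥) (hcop : (Nat.card M).Coprime p)

include hBp in
omit [Finite M] hp in
theorem isPGroup_of_exponent : IsPGroup p B := fun a => ⟨1, Subtype.ext (by rw [pow_one]; exact hBp a a.2)⟩

omit [Finite M] in
include hfix in
theorem eq_one_of_mem_fix_two {Y Y' : Subgroup (MulAut M)} (h : Y ⊔ Y' = B) {u : M} (hu : u ∈ fix Y)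
    (hu' : u ∈ fix Y') : u = 1 := by
  rw [← mem_bot, ← hfix]
  intro y hy
  have hle : Y ⊔ Y' ≤ MulAction.stabilizer (MulAut M) u :=
    sup_le (fun a ha => MulAction.mem_stabilizer_iff.2 (hu a ha)) fun a ha =>
      MulAction.mem_stabilizer_iff.2 (hu' a ha)
  exact hle (h.symm ▸ hy)

include hBc hBp hfix hcop in
/-- Coprime generation by the fixed points of the maximal subgroups. -/
theorem iSup_fix_eq_top : ⨆ Y ∈ {Y : Subgroup (MulAut M) | Y ⋖ B}, fix Y = ⊤ := by
  classical
  set T := ⨆ Y ∈ {Y : Subgroup (MulAut M) | Y ⋖ B}, fix Y with hT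
  suffices key : ∀ (d : ℕ) (K : Subgroup (MulAut M)), K ≤ B → Nat.card B - Nat.card K = d → fix K ≤ T from
    eq_top_iff.2 fun m _ => key _ ⊥ bot_le rfl fun y hy => by rw [mem_bot.1 hy]; rfl
  intro d
  induction d using Nat.strong_induction_on with
  | _ d ih =>
    intro K hK hd m hm
    by_cases hKB : K = B
    · subst hKB
      rw [hfix, mem_bot] at hm
      rw [hm]
      exact one_mem _
    by_cases hcov : K ⋖ B
    · exact mem_iSup_of_mem K (mem_iSup_of_mem hcov hm)
    obtain ⟨L, hKL, hLB⟩ := exists_lt_lt_of_not_covBy (lt_of_le_of_ne hK hKB) hcov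
    obtain ⟨a, haL, haK⟩ := SetLike.exists_of_lt hKL
    have ha : a ∈ B := hLB.le haL
    obtain ⟨c, hc, hcK⟩ := SetLike.exists_of_lt
      (lt_of_le_of_lt (sup_le hKL.le (zpowers_le.2 haL)) hLB)
    have : NeZero p := ⟨hp.out.ne_zero⟩
    let f : ZMod p × ZMod p → M := fun q => (a ^ q.1.val * c ^ q.2.val) m
    have hrec : ∀ (z : MulAut M) (u : M), z ∈ B → z ∉ K → u ∈ fix K → z u = u → u ∈ T := by
      intro z u hz hzK hu hzu
      have hle : K ⊔ zpowers z ≤ B := sup_le hK (zpowers_le.2 hz)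
      have hlt : K < K ⊔ zpowers z := lt_of_le_of_ne le_sup_left fun e =>
        hzK (e ▸ mem_sup_right (mem_zpowers z))
      have h1 : Nat.card K < Nat.card ↥(K ⊔ zpowers z) := by
        by_contra hle'
        exact hlt.ne (eq_of_le_of_card_ge le_sup_left (not_lt.1 hle'))
      have h3 := card_le_of_le hle
      exact ih _ (by omega) _ hle rfl (fix_sup hu hzu)
    have hmod : ∀ (z : MulAut M), z ∈ B → ∀ k : ℕ, z ^ (k % p) = z ^ k := fun z hz k => by
      conv_rhs => rw [← Nat.mod_add_div k p, pow_add, pow_mul, hBp z hz, one_pow, mul_one]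
    have hf_mem : ∀ q, f q ∈ fix K := fun q y hy => by
      have hb : a ^ q.1.val * c ^ q.2.val ∈ B := mul_mem (pow_mem ha _) (pow_mem hc _)
      show y ((a ^ q.1.val * c ^ q.2.val) m) = (a ^ q.1.val * c ^ q.2.val) m
      rw [← MulAut.mul_apply, hBc y (hK hy) _ hb, MulAut.mul_apply, hm y hy]
    have hca : ∀ i j : ℕ, c ^ j * a ^ i = a ^ i * c ^ j := fun i j =>
      hBc _ (pow_mem hc j) _ (pow_mem ha i)
    have hline : ∀ j : ZMod p, (∏ i : ZMod p, f (i, i * j)) ∈ T := by
      intro j
      refine hrec (a * c ^ j.val) _ (mul_mem ha (pow_mem hc _)) (fun h => ?_) (prod_mem fun i _ => hf_mem _) ?_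
      · by_cases hj : j = 0
        · exact haK (by simpa [hj] using h)
        · refine hcK ?_
          have h1 : c ^ j.val ∈ K ⊔ zpowers a := by
            simpa using mul_mem (inv_mem (mem_sup_right (mem_zpowers a) : a ∈ K ⊔ zpowers a)) (mem_sup_left h)
          have h3 : (c ^ j.val) ^ (j⁻¹ : ZMod p).val = c := by
            rw [← pow_mul, ← hmod c hc, ← ZMod.val_mul, mul_inv_cancel₀ hj]
            simp [ZMod.val_one]
          exact h3 ▸ pow_mem h1 _
      · rw [map_prod]
        refine Eq.trans (Finset.prod_congr rfl fun i _ => ?_) (Equiv.prod_comp (Equiv.addRight (1 : ZMod p))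
          fun i => f (i, i * j))
        show ((a * c ^ j.val) * (a ^ i.val * c ^ (i * j).val)) m = (a ^ (i + 1).val * c ^ ((i + 1) * j).val) m
        congr 1
        rw [add_mul, one_mul, ZMod.val_add, ZMod.val_add, hmod a ha, hmod c hc, ZMod.val_one, pow_add, pow_add,
          pow_one]
        rw [mul_assoc a (c ^ j.val), ← mul_assoc (c ^ j.val), hca, mul_assoc (a ^ i.val),
          ← mul_assoc a, ← pow_add, ← pow_succ' a, pow_succ a, Nat.add_comm j.val]
        simp only [mul_assoc, pow_add]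
    have hlast : (∏ k : ZMod p, f (0, k)) ∈ T := by
      refine hrec c _ hc (fun h => hcK (mem_sup_left h)) (prod_mem fun i _ => hf_mem _) ?_
      rw [map_prod]
      refine Eq.trans (Finset.prod_congr rfl fun i _ => ?_) (Equiv.prod_comp (Equiv.addRight (1 : ZMod p))
        fun i => f (0, i))
      show (c * (a ^ (0 : ZMod p).val * c ^ i.val)) m = (a ^ (0 : ZMod p).val * c ^ (i + 1).val) m
      congr 1
      rw [ZMod.val_zero, pow_zero, one_mul, one_mul, ZMod.val_add, hmod c hc, ZMod.val_one, pow_succ']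
    have hall : (∏ q : ZMod p × ZMod p, f q) ∈ T := by
      refine hrec a _ ha haK (prod_mem fun i _ => hf_mem _) ?_
      rw [map_prod]
      refine Eq.trans (Finset.prod_congr rfl fun q _ => ?_)
        (Equiv.prod_comp (Equiv.addRight ((1 : ZMod p), (0 : ZMod p))) f)
      show (a * (a ^ q.1.val * c ^ q.2.val)) m = (a ^ (q.1 + 1).val * c ^ (q.2 + 0).val) m
      congr 1
      rw [add_zero, ZMod.val_add, hmod a ha, ZMod.val_one, pow_succ', mul_assoc]
    have h00 : f (0, 0) = m := by simp [f]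
    have hsplit := prod_split hp.out f
    rw [h00] at hsplit
    have hmp : m ^ p ∈ T := by
      rw [eq_mul_inv_of_mul_eq hsplit.symm]
      exact mul_mem (mul_mem (prod_mem fun j _ => hline j) hlast) (inv_mem hall)
    obtain ⟨k, hk⟩ := exists_pow_eq_self_of_coprime (x := m) (n := p)
      ((hcop.coprime_dvd_left (orderOf_dvd_natCard m)).symm)
    rw [← hk]
    exact pow_mem hmp k

include hBc hBp hfix hcop in
/-- A nontrivial automorphism moves a fixed point of some maximal subgroup. -/
theorem exists_fix_moved {x : MulAut M} (hx : x ≠ 1) :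
    ∃ Y, Y ⋖ B ∧ ∃ u ∈ fix Y, x u ≠ u := by
  by_contra hcon
  push_neg at hcon
  refine hx (MulEquiv.ext fun m => ?_)
  let F : Subgroup M :=
    { carrier := {u | x u = u}
      one_mem' := map_one x
      mul_mem' := fun {a b} (ha : x a = a) (hb : x b = b) => show x (a * b) = a * b by rw [map_mul, ha, hb]
      inv_mem' := fun {a} (ha : x a = a) => show x a⁻¹ = a⁻¹ by rw [map_inv, ha] }
  have hle : (⊤ : Subgroup M) ≤ F := by
    rw [← iSup_fix_eq_top hBc hBp hfix hcop]
    exact iSup₂_le fun Y hY u hu => hcon Y hY u hu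
  exact hle (mem_top m)

/-- The maximal subgroups of `B`. -/
noncomputable def hyps (B : Subgroup (MulAut M)) : Finset (Subgroup (MulAut M)) :=
  (Set.toFinite {Y | Y ⋖ B}).toFinset

omit hp in
theorem mem_hyps {B Y : Subgroup (MulAut M)} : Y ∈ hyps B ↔ Y ⋖ B := by simp [hyps]

omit [Finite M] hp in
theorem covBy_conj {B Y : Subgroup (MulAut M)} {x : MulAut M} (hxB : MulAut.conj x • B = B) (hY : Y ⋖ B) :
    MulAut.conj x • Y ⋖ B := by
  have hmono : ∀ (z : MulAut (MulAut M)) {K L : Subgroup (MulAut M)}, K < L → z • K < z • L := fun z K L h =>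
    lt_of_le_of_ne (pointwise_smul_le_pointwise_smul_iff.2 h.le) fun e => h.ne (smul_left_cancel z e)
  refine ⟨hxB ▸ hmono _ hY.lt, fun c h1 h2 => ?_⟩
  refine hY.2 (c := (MulAut.conj x)⁻¹ • c) ?_ ?_
  · simpa using hmono (MulAut.conj x)⁻¹ h1
  · simpa [inv_smul_eq_iff, hxB] using (hmono (MulAut.conj x)⁻¹ h2).trans_le
      (le_of_eq (inv_smul_eq_iff.2 hxB.symm))

include hBc hBp hfix hcop in
/-- An automorphism fixing a product of fixed elements permutes its components. -/
theorem component (W : Subgroup (MulAut M) → M) (hW : ∀ Y, Y ⋖ B → W Y ∈ fix Y) {x : MulAut M}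
    (hxB : MulAut.conj x • B = B) (hx : x (∏ Y ∈ hyps B, W Y) = ∏ Y ∈ hyps B, W Y)
    {Y : Subgroup (MulAut M)} (hY : Y ⋖ B) : x (W Y) = W (MulAut.conj x • Y) := by
  classical
  have hval : ∀ {Y : Subgroup (MulAut M)}, Y ⋖ B → sigma Y (∏ Z ∈ hyps B, W Z) = W Y ^ Nat.card Y := by
    intro Y hY
    rw [map_prod, Finset.prod_eq_single Y, sigma_of_mem_fix Y (hW Y hY)]
    · intro Z hZ hne
      rw [mem_hyps] at hZ
      refine eq_one_of_mem_fix_two hfix (hY.wcovBy.sup_eq hZ.wcovBy hne.symm) (sigma_mem_fix Y _) ?_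
      intro z hz
      have := Fintype.ofFinite Y
      rw [sigma_apply, map_prod]
      refine Finset.prod_congr rfl fun y _ => ?_
      rw [← MulAut.mul_apply, hBc z (hZ.le hz) y (hY.le y.2), MulAut.mul_apply, hW Z hZ z hz]
    · exact fun h => absurd (mem_hyps.2 hY) h
  have h1 := apply_sigma_conj x Y (∏ Z ∈ hyps B, W Z)
  rw [hval hY, hx, hval (covBy_conj hxB hY), map_pow] at h1
  have hc : Nat.card ↥(MulAut.conj x • Y) = Nat.card Y :=
    (Nat.card_congr (Subgroup.equivSMul (MulAut.conj x) Y).toEquiv).symm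
  rw [hc] at h1
  exact pow_card_inj hcop ((isPGroup_of_exponent hBp).to_le hY.le) h1

end CfsgLib.ClassFixed
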