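import Cfsg.Agent.Lib.Solvable.Basic
import Cfsg.Agent.Lib.PGroup.Wielandt
import Cfsg.Agent.S0539

/-!
Conjugation-invariant families: joins of conjugates inside Sylow subgroups.
-/

set_option autoImplicit false

open scoped Pointwise

namespace CfsgLib.Solvable

variable {G : Type*} [Group G] [Finite G]

/-- In a nilpotent subgroup `W`, a conjugation closed family has a member outside a given proper
subfamily normalising the join of the latter. -/
theorem exists_normalizing_member (W : Subgroup G) (hWn : Group.IsNilpotent W)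
    (T T₀ : Set (Subgroup G)) (hle : ∀ B ∈ T, B ≤ W)
    (hconj : ∀ B ∈ T, ∀ w ∈ W, MulAut.conj w • B ∈ T) (hT₀ : T₀ ⊂ T) :
    ∃ X ∈ T, X ∉ T₀ ∧ X ≤ Subgroup.normalizer ((sSup T₀ : Subgroup G) : Set G) := by
  classical
  haveI := hWn
  set φ : Subgroup G → Subgroup W := fun B => B.subgroupOf W with hφ
  have hinj : ∀ B C : Subgroup G, B ≤ W → C ≤ W → φ B = φ C → B = C := fun B C hB hC h => by
    rw [← Subgroup.map_subgroupOf_eq_of_le hB, ← Subgroup.map_subgroupOf_eq_of_le hC]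
    exact congrArg (Subgroup.map W.subtype) h
  have hconj' : ∀ B ∈ φ '' T, ∀ w : W, MulAut.conj w • B ∈ φ '' T := by
    rintro _ ⟨B, hB, rfl⟩ w
    refine ⟨MulAut.conj (w : G) • B, hconj B hB w w.2, ?_⟩
    ext x
    rw [mem_conj_smul_iff]
    exact mem_conj_smul_iff
  have hss : φ '' T₀ ⊂ φ '' T := by
    obtain ⟨B, hB, hB₀⟩ := Set.exists_of_ssubset hT₀
    refine (Set.ssubset_iff_of_subset (Set.image_mono hT₀.subset)).2
      ⟨φ B, Set.mem_image_of_mem φ hB, ?_⟩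
    rintro ⟨C, hC, e⟩
    exact hB₀ (hinj C B (hle C (hT₀.subset hC)) (hle B hB) e ▸ hC)
  obtain ⟨_, ⟨X, hX, rfl⟩, hX₀, hXn⟩ := Cfsg.Agent.S0539.result (φ '' T) (φ '' T₀)
    (fun B _ => CfsgLib.PGroup.isSubnormal_of_isNilpotent B) hconj' hss
  refine ⟨X, hX, fun h => hX₀ (Set.mem_image_of_mem φ h), fun x hx => ?_⟩
  have hJ : sSup T₀ ≤ W := sSup_le fun B hB => hle B (hT₀.subset hB)
  have e : sSup (φ '' T₀) = (sSup T₀).subgroupOf W := by
    refine le_antisymm (sSup_le ?_) ?_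
    · rintro _ ⟨B, hB, rfl⟩
      exact Subgroup.comap_mono (le_sSup hB)
    · have h1 : sSup T₀ ≤ (sSup (φ '' T₀)).map W.subtype := sSup_le fun B hB => by
        rw [← Subgroup.map_subgroupOf_eq_of_le (hle B (hT₀.subset hB))]
        exact Subgroup.map_mono (le_sSup (Set.mem_image_of_mem φ hB))
      refine (Subgroup.comap_mono h1).trans ?_
      rw [Subgroup.comap_map_eq_self_of_injective W.subtype_injective]
  rw [e, ← Subgroup.subgroupOf_normalizer_eq hJ] at hXn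
  exact hXn (show (⟨x, hle X hX hx⟩ : W) ∈ φ X from hx)

theorem exists_sylow_normalized_join (p : ℕ) [Fact p.Prime] (Z Y : Subgroup G)
    (h : ∀ g : G, IsPGroup p ↥(⨆ y ∈ Y, MulAut.conj (y * g) • Z)) :
    ∃ P : Sylow p G, Y ≤ Subgroup.normalizer
      ((⨆ g ∈ {g : G | MulAut.conj g • Z ≤ (P : Subgroup G)}, MulAut.conj g • Z : Subgroup G) :
        Set G) := by
  classical
  let J : Set G → Subgroup G := fun s => ⨆ g ∈ s, MulAut.conj g • Z
  have hY : ∀ s : Set G, (∀ y ∈ Y, ∀ g ∈ s, y * g ∈ s) →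
      Y ≤ Subgroup.normalizer (J s : Set G) := fun s hs => le_normalizer_of_conj_mem fun y hy => by
    intro x hx
    have h1 : MulAut.conj y • J s ≤ J s := by
      rw [conj_smul_eq_map, Subgroup.map_le_iff_le_comap]
      refine iSup₂_le fun g hg => Subgroup.map_le_iff_le_comap.1 ?_
      rw [← conj_smul_eq_map, conj_smul_conj_smul]
      exact le_iSup₂ (f := fun g _ => MulAut.conj g • Z) (y * g) (hs y hy g hg)
    exact conj_smul_le_iff.1 h1 x hx
  let Q : Set (Set G) := {s | (∀ y ∈ Y, ∀ g ∈ s, y * g ∈ s) ∧ IsPGroup p (J s)}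
  have hQ : (∅ : Set G) ∈ Q := ⟨fun _ _ g hg => hg.elim, by
    rw [show J ∅ = (⊥ : Subgroup G) from by simp [J]]
    exact IsPGroup.of_bot⟩
  obtain ⟨s, -, hs⟩ := (Set.toFinite Q).exists_le_maximal hQ
  obtain ⟨P, hP⟩ := hs.1.2.exists_le_sylow
  refine ⟨P, ?_⟩
  suffices e : J {g : G | MulAut.conj g • Z ≤ (P : Subgroup G)} = J s by
    show Y ≤ Subgroup.normalizer (J _ : Set G)
    rw [e]
    exact hY s hs.1.1
  refine le_antisymm ?_ (biSup_mono fun g hg =>
    (le_iSup₂ (f := fun g _ => MulAut.conj g • Z) g hg).trans hP)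
  by_contra hne
  let T : Set (Subgroup G) := {X | (∃ g : G, X = MulAut.conj g • Z) ∧ X ≤ (P : Subgroup G)}
  let T₀ : Set (Subgroup G) := {X ∈ T | X ≤ J s}
  have hT₀ : T₀ ⊂ T := by
    refine (Set.ssubset_iff_of_subset (Set.sep_subset _ _)).2 ?_
    by_contra hall
    push Not at hall
    exact hne (iSup₂_le fun g hg => (hall _ ⟨⟨g, rfl⟩, hg⟩).2)
  have hJ₀ : sSup T₀ = J s := le_antisymm (sSup_le fun X hX => hX.2) (iSup₂_le fun g hg =>
    le_sSup ⟨⟨⟨g, rfl⟩, (le_iSup₂ (f := fun g _ => MulAut.conj g • Z) g hg).trans hP⟩,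
      le_iSup₂ (f := fun g _ => MulAut.conj g • Z) g hg⟩)
  obtain ⟨_, ⟨⟨g₀, rfl⟩, hgP⟩, hX₀, hXn⟩ := exists_normalizing_member (P : Subgroup G)
    P.2.isNilpotent T T₀ (fun B hB => hB.2) (fun B hB w hw => by
      obtain ⟨⟨g, rfl⟩, hBP⟩ := hB
      exact ⟨⟨w * g, conj_smul_conj_smul w g Z⟩, (conj_smul_mono w hBP).trans
        (conj_smul_self_of_mem_normalizer (Subgroup.le_normalizer hw)).le⟩) hT₀
  rw [hJ₀] at hXn
  set K : Subgroup G := ⨆ y ∈ Y, MulAut.conj (y * g₀) • Z with hK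
  have hKn : K ≤ Subgroup.normalizer (J s : Set G) := iSup₂_le fun y hy z hz => by
    have hn := hY s hs.1.1 hy
    rw [mem_conj_smul_iff] at hz
    have h1 : g₀ * ((y * g₀)⁻¹ * z * (y * g₀)) * g₀⁻¹ ∈ Subgroup.normalizer (J s : Set G) :=
      hXn (mem_conj_smul_iff.2 (by simpa [mul_assoc] using hz))
    have := (Subgroup.normalizer (J s : Set G)).mul_mem
      ((Subgroup.normalizer (J s : Set G)).mul_mem hn h1) ((Subgroup.normalizer (J s : Set G)).inv_mem hn)
    simpa [mul_assoc] using this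
  set s' := s ∪ {g | ∃ y ∈ Y, g = y * g₀} with hs'
  have he : J s' = J s ⊔ K := by
    refine le_antisymm (iSup₂_le ?_) (sup_le (biSup_mono fun g hg => Or.inl hg) (iSup₂_le fun y hy =>
      le_iSup₂ (f := fun g _ => MulAut.conj g • Z) (y * g₀) (Or.inr ⟨y, hy, rfl⟩)))
    rintro g (hg | ⟨y, hy, rfl⟩)
    · exact le_sup_of_le_left (le_iSup₂ (f := fun g _ => MulAut.conj g • Z) g hg)
    · exact le_sup_of_le_right (le_iSup₂ (f := fun y _ => MulAut.conj (y * g₀) • Z) y hy)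
  have hmem : s' ∈ Q := ⟨fun y hy g hg => by
    rcases hg with hg | ⟨y', hy', rfl⟩
    · exact Or.inl (hs.1.1 y hy g hg)
    · exact Or.inr ⟨y * y', mul_mem hy hy', (mul_assoc _ _ _).symm⟩,
    he ▸ hs.1.2.to_sup_of_normal_left' (h g₀) hKn⟩
  refine hX₀ ⟨⟨⟨g₀, rfl⟩, hgP⟩, ?_⟩
  exact le_iSup₂ (f := fun g _ => MulAut.conj g • Z) g₀
    (hs.2 hmem Set.subset_union_left (Or.inr ⟨1, one_mem _, (one_mul _).symm⟩))

end CfsgLib.Solvable
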