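import Cfsg.Agent.Lib.Solvable.Hall
import Cfsg.Agent.Lib.Solvable.Product
import Cfsg.Agent.Lib.Solvable.NilpotentHall

/-!
Products of normal Hall subgroups of the factors of a factorisation.
-/

set_option autoImplicit false

open scoped Pointwise

namespace CfsgLib.Solvable

variable {G : Type*} [Group G] [Finite G] [Group.IsSolvable G]

/-- Some conjugates of two Hall subgroups permute. -/
theorem exists_conj_hall_product (A B : Subgroup G) (hA : (Nat.card A).Coprime A.index)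
    (hB : (Nat.card B).Coprime B.index) : ∃ (g g' : G) (X : Subgroup G),
      (X : Set G) = ((MulAut.conj g • A : Subgroup G) : Set G) * ((MulAut.conj g' • B : Subgroup G) : Set G) := by
  set a := Nat.card A with ha
  set b := Nat.card B with hb
  have hapos : 0 < a := Nat.card_pos
  have hbpos : 0 < b := Nat.card_pos
  obtain ⟨r, hr⟩ : Nat.lcm a b ∣ Nat.card G :=
    Nat.lcm_dvd A.card_subgroup_dvd_card B.card_subgroup_dvd_card
  have hcop : (Nat.lcm a b).Coprime r := by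
    refine Nat.coprime_of_dvd fun p hp hpl hpr => ?_
    have key : ∀ C : Subgroup G, (Nat.card C).Coprime C.index → Nat.card C ∣ Nat.lcm a b →
        p ∣ Nat.card C → False := by
      intro C hC ⟨c, hc⟩ hpC
      have h1 : C.index = c * r := Nat.eq_of_mul_eq_mul_left Nat.card_pos
        (by rw [C.card_mul_index, hr, hc, mul_assoc])
      exact Nat.Prime.not_coprime_iff_dvd.2 ⟨p, hp, hpC, h1 ▸ hpr.mul_left c⟩ hC
    rcases (Nat.Prime.dvd_mul hp).1 (hpl.trans (Nat.lcm_dvd_mul a b)) with h | h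
    · exact key A hA (Nat.dvd_lcm_left a b) h
    · exact key B hB (Nat.dvd_lcm_right a b) h
  obtain ⟨X, hX⟩ := exists_hall hr hcop
  have hsub : ∀ C : Subgroup G, Nat.card C ∣ Nat.lcm a b → ∃ g : G, MulAut.conj g • C ≤ X :=
    fun C hC => exists_conj_le_hall hr hcop hX (hcop.coprime_dvd_left hC)
  obtain ⟨g, hg⟩ := hsub A (Nat.dvd_lcm_left a b)
  obtain ⟨g₁, hg₁⟩ := hsub B (Nat.dvd_lcm_right a b)
  set A' := MulAut.conj g • A with hA'
  set B₁ := MulAut.conj g₁ • B with hB₁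
  set d := Nat.gcd a b with hd
  have hdpos : 0 < d := Nat.gcd_pos_of_pos_left b hapos
  obtain ⟨a₁, ha₁⟩ := Nat.gcd_dvd_left a b
  rw [← hd] at ha₁
  have hcopA : d.Coprime a₁ := by
    refine Nat.coprime_of_dvd fun p hp hpd hpa => ?_
    have hpB : p ∣ b := hpd.trans (Nat.gcd_dvd_right a b)
    have hdiv : a₁ ∣ B.index := by
      have h1 : Nat.lcm a b = a₁ * b := by
        refine Nat.eq_of_mul_eq_mul_left hdpos ?_
        rw [hd, Nat.gcd_mul_lcm, ← mul_assoc, ← hd, ← ha₁]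
      have h2 : B.index = a₁ * r := Nat.eq_of_mul_eq_mul_left hbpos
        (by rw [hb, B.card_mul_index, hr, h1]; ring)
      exact h2 ▸ dvd_mul_right _ _
    exact Nat.Prime.not_coprime_iff_dvd.2 ⟨p, hp, hpB, hpa.trans hdiv⟩ hB
  obtain ⟨D₀, hD₀⟩ := exists_hall (G := A') (m := d) (n := a₁)
    (by rw [card_conj_smul, ← ha]; exact ha₁) hcopA
  set D := D₀.map A'.subtype with hD
  have hDc : Nat.card D = d := by rw [hD, Subgroup.card_subtype, hD₀]
  have hDX : D ≤ X := (Subgroup.map_subtype_le _).trans hg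
  have hBX : (Nat.card (B₁.subgroupOf X)).Coprime (B₁.subgroupOf X).index := by
    rw [Nat.card_congr (Subgroup.subgroupOfEquivOfLe hg₁).toEquiv, card_conj_smul]
    refine hB.coprime_dvd_right ?_
    rw [← index_conj_smul g₁ B]
    show B₁.relIndex X ∣ _
    rw [← Subgroup.relIndex_mul_index hg₁]
    exact dvd_mul_right _ _
  obtain ⟨x, hx⟩ := exists_conj_le_of_coprime_index (H := B₁.subgroupOf X) (K := D.subgroupOf X) hBX
    (by
      rw [Nat.card_congr (Subgroup.subgroupOfEquivOfLe hDX).toEquiv, hDc]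
      refine Nat.Coprime.coprime_dvd_left ?_ hBX
      rw [Nat.card_congr (Subgroup.subgroupOfEquivOfLe hg₁).toEquiv, card_conj_smul]
      exact Nat.gcd_dvd_right a b)
  set B' := MulAut.conj ((x : G)⁻¹) • B₁ with hB'
  have hB'X : B' ≤ X := (conj_smul_mono _ hg₁).trans
    (conj_smul_self_of_mem_normalizer (Subgroup.le_normalizer (inv_mem x.2))).le
  have hDB : D ≤ B' := fun y hy => by
    have h1 : x * ⟨y, hDX hy⟩ * x⁻¹ ∈ MulAut.conj x • D.subgroupOf X :=
      mem_conj_smul_iff.2 (by simpa [mul_assoc, Subgroup.mem_subgroupOf] using hy)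
    refine mem_conj_smul_iff.2 ?_
    simpa [Subgroup.mem_subgroupOf] using hx h1
  have hB'c : Nat.card B' = b := by rw [hB', card_conj_smul, hB₁, card_conj_smul]
  have hA'c : Nat.card A' = a := by rw [hA', card_conj_smul]
  have hint : Nat.card (A' ⊓ B' : Subgroup G) = d := by
    refine Nat.dvd_antisymm (Nat.dvd_gcd (hA'c ▸ Subgroup.card_dvd_of_le inf_le_left)
      (hB'c ▸ Subgroup.card_dvd_of_le inf_le_right)) ?_
    rw [← hDc]
    exact Subgroup.card_dvd_of_le (le_inf (Subgroup.map_subtype_le _) hDB)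
  have hmulrel : ∀ Y Z : Subgroup G, Y ≤ Z → Nat.card Y * Y.relIndex Z = Nat.card Z := by
    intro Y Z h
    rw [← Subgroup.relIndex_bot_left Y, ← Subgroup.relIndex_bot_left Z]
    exact Subgroup.relIndex_mul_relIndex ⊥ Y Z bot_le h
  have hidx : (B'.subgroupOf X).relIndex (A'.subgroupOf X) = (B'.subgroupOf X).index := by
    rw [Subgroup.relIndex_subgroupOf hg]
    show B'.relIndex A' = B'.relIndex X
    have h1 := hmulrel (A' ⊓ B') A' inf_le_left
    have h2 := hmulrel B' X hB'X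
    rw [hint, Subgroup.inf_relIndex_left, hA'c, ha₁] at h1
    rw [hB'c, hX] at h2
    refine Nat.eq_of_mul_eq_mul_left (Nat.mul_pos hdpos hbpos) ?_
    calc d * b * B'.relIndex A' = b * (d * B'.relIndex A') := by ring
      _ = a * b := by rw [h1, ← ha₁, mul_comm]
      _ = d * Nat.lcm a b := (Nat.gcd_mul_lcm a b).symm
      _ = d * b * B'.relIndex X := by rw [← h2]; ring
  refine ⟨g, (x : G)⁻¹ * g₁, X, Set.Subset.antisymm (fun y hy => ?_) ?_⟩
  · obtain ⟨u, hu, v, hv, e⟩ := mul_of_relIndex_eq_index hidx ⟨y, hy⟩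
    refine Set.mem_mul.2 ⟨u, hu, v, ?_, (congrArg Subtype.val e).symm⟩
    rw [← conj_smul_conj_smul]
    exact hv
  · rintro _ ⟨u, hu, v, hv, rfl⟩
    rw [← conj_smul_conj_smul] at hv
    exact mul_mem (hg hu) (hB'X hv)

theorem conj_product_subgroup (H K A B : Subgroup G)
    (hHK : ∀ g : G, ∃ h ∈ H, ∃ k ∈ K, g = h * k) (hA : A ≤ H) (hAn : (A.subgroupOf H).Normal)
    (hB : B ≤ K) (hBn : (B.subgroupOf K).Normal) (hAh : (Nat.card A).Coprime A.index)
    (hBh : (Nat.card B).Coprime B.index) (x y : G) : ∃ S : Subgroup G, (S : Set G) =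
      ((MulAut.conj x • A : Subgroup G) : Set G) * ((MulAut.conj y • B : Subgroup G) : Set G) := by
  have hn1 := (Subgroup.normal_subgroupOf_iff_le_normalizer hA).1 hAn
  have hn2 := (Subgroup.normal_subgroupOf_iff_le_normalizer hB).1 hBn
  have hred : ∀ u v : G, ∃ c : G, MulAut.conj u • A = MulAut.conj c • A ∧
      MulAut.conj v • B = MulAut.conj c • B := by
    intro u v
    obtain ⟨h, hh, k, hk, e⟩ := hHK (u⁻¹ * v)
    refine ⟨u * h, by rw [← conj_smul_conj_smul u h, conj_smul_self_of_mem_normalizer (hn1 hh)], ?_⟩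
    rw [show v = u * h * k by rw [mul_assoc, ← e, mul_inv_cancel_left], ← conj_smul_conj_smul,
      conj_smul_self_of_mem_normalizer (hn2 hk)]
  obtain ⟨g, g', X, hX⟩ := exists_conj_hall_product A B hAh hBh
  obtain ⟨d, hd1, hd2⟩ := hred g g'
  obtain ⟨c, hc1, hc2⟩ := hred x y
  rw [hd1, hd2] at hX
  refine ⟨MulAut.conj (c * d⁻¹) • X, ?_⟩
  rw [hc1, hc2]
  ext z
  rw [SetLike.mem_coe, mem_conj_smul_iff]
  have hmem : ∀ w, w ∈ X ↔ w ∈ ((MulAut.conj d • A : Subgroup G) : Set G) *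
      ((MulAut.conj d • B : Subgroup G) : Set G) := fun w => by rw [← hX]; rfl
  rw [hmem, Set.mem_mul, Set.mem_mul]
  constructor
  · rintro ⟨u, hu, v, hv, e⟩
    refine ⟨c * d⁻¹ * u * (c * d⁻¹)⁻¹, ?_, c * d⁻¹ * v * (c * d⁻¹)⁻¹, ?_, ?_⟩
    · exact mem_conj_smul_iff.2 (by simpa [mul_assoc] using mem_conj_smul_iff.1 hu)
    · exact mem_conj_smul_iff.2 (by simpa [mul_assoc] using mem_conj_smul_iff.1 hv)
    · calc _ = c * d⁻¹ * (u * v) * (c * d⁻¹)⁻¹ := by group
        _ = z := by rw [e]; group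
  · rintro ⟨u, hu, v, hv, e⟩
    refine ⟨(c * d⁻¹)⁻¹ * u * (c * d⁻¹), ?_, (c * d⁻¹)⁻¹ * v * (c * d⁻¹), ?_, ?_⟩
    · exact mem_conj_smul_iff.2 (by simpa [mul_assoc] using mem_conj_smul_iff.1 hu)
    · exact mem_conj_smul_iff.2 (by simpa [mul_assoc] using mem_conj_smul_iff.1 hv)
    · calc _ = (c * d⁻¹)⁻¹ * (u * v) * (c * d⁻¹) := by group
        _ = _ := by rw [e]

end CfsgLib.Solvable
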