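import Cfsg.Agent.Lib.Solvable.Permute
import Cfsg.Agent.Lib.Solvable.Product
import Cfsg.Agent.Lib.Cores.Basic

/-!
Kegel's lemma on permutable conjugates.
-/

set_option autoImplicit false

open scoped Pointwise

namespace CfsgLib.Solvable

variable {G : Type*} [Group G] [Finite G]

/-- Two subgroups permute. -/
abbrev Perm (A B : Subgroup G) : Prop := (A : Set G) * B = (B : Set G) * A

omit [Finite G] in
theorem perm_of_coe_eq {A B S : Subgroup G} (h : (S : Set G) = (A : Set G) * B) : Perm A B := by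
  show (A : Set G) * B = (B : Set G) * A
  ext x
  constructor
  · intro hx
    obtain ⟨a, ha, b, hb, e⟩ : x⁻¹ ∈ (A : Set G) * B := by
      rw [← h] at hx ⊢; exact inv_mem hx
    exact ⟨b⁻¹, inv_mem hb, a⁻¹, inv_mem ha, by
      show b⁻¹ * a⁻¹ = x
      rw [← mul_inv_rev, show a * b = x⁻¹ from e, inv_inv]⟩
  · rintro ⟨b, hb, a, ha, rfl⟩
    rw [← h]
    have : (b * a)⁻¹ ∈ (S : Set G) := by
      rw [h, mul_inv_rev]
      exact Set.mul_mem_mul (inv_mem ha) (inv_mem hb)
    exact inv_mem_iff.1 this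

omit [Finite G] in
theorem coe_eq_of_perm {A B : Subgroup G} (h : Perm A B) :
    ∃ S : Subgroup G, (S : Set G) = (A : Set G) * B := ⟨A ⊔ B, coe_sup_of_perm h⟩

omit [Finite G] in
theorem perm_conj {A B : Subgroup G} (h : Perm A B) (g : G) :
    Perm (MulAut.conj g • A) (MulAut.conj g • B) := by
  show ((MulAut.conj g • A : Subgroup G) : Set G) * _ = _
  rw [conj_smul_eq_map, conj_smul_eq_map, Subgroup.coe_map, Subgroup.coe_map, ← Set.image_mul,
    ← Set.image_mul]
  exact congrArg _ h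

omit [Finite G] in
theorem perm_sup_left {A B C : Subgroup G} (hA : Perm A C) (hB : Perm B C) : Perm (A ⊔ B) C := by
  have key : ∀ g ∈ A ⊔ B, ∀ c ∈ C, g * c ∈ (C : Set G) * ((A ⊔ B : Subgroup G) : Set G) ∧
      g⁻¹ * c ∈ (C : Set G) * ((A ⊔ B : Subgroup G) : Set G) := by
    intro g hg
    rw [Subgroup.sup_eq_closure] at hg
    induction hg using Subgroup.closure_induction with
    | mem x hx =>
      have h1 : ∀ y ∈ (A : Set G) ∪ B, ∀ c ∈ C,
          y * c ∈ (C : Set G) * ((A ⊔ B : Subgroup G) : Set G) := by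
        rintro y (hy | hy) c hc
        · obtain ⟨c', hc', y', hy', e⟩ : y * c ∈ (C : Set G) * A := hA ▸ Set.mul_mem_mul hy hc
          exact ⟨c', hc', y', Subgroup.mem_sup_left hy', e⟩
        · obtain ⟨c', hc', y', hy', e⟩ : y * c ∈ (C : Set G) * B := hB ▸ Set.mul_mem_mul hy hc
          exact ⟨c', hc', y', Subgroup.mem_sup_right hy', e⟩
      exact fun c hc => ⟨h1 x hx c hc, h1 x⁻¹ (hx.imp inv_mem inv_mem) c hc⟩
    | one => exact fun c hc => ⟨⟨c, hc, 1, one_mem _, by simp⟩, ⟨c, hc, 1, one_mem _, by simp⟩⟩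
    | mul x y hx hy ihx ihy =>
      intro c hc
      constructor
      · obtain ⟨c', hc', j, hj, e⟩ := (ihy c hc).1
        obtain ⟨c'', hc'', j', hj', e'⟩ := (ihx c' hc').1
        refine ⟨c'', hc'', j' * j, mul_mem hj' hj, ?_⟩
        show c'' * (j' * j) = x * y * c
        rw [← mul_assoc, show c'' * j' = x * c' from e', mul_assoc, mul_assoc,
          show c' * j = y * c from e]
      · obtain ⟨c', hc', j, hj, e⟩ := (ihx c hc).2
        obtain ⟨c'', hc'', j', hj', e'⟩ := (ihy c' hc').2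
        refine ⟨c'', hc'', j' * j, mul_mem hj' hj, ?_⟩
        show c'' * (j' * j) = (x * y)⁻¹ * c
        rw [mul_inv_rev, ← mul_assoc, show c'' * j' = y⁻¹ * c' from e', mul_assoc, mul_assoc,
          show c' * j = x⁻¹ * c from e]
    | inv x hx ih =>
      intro c hc
      exact ⟨(ih c hc).2, by rw [inv_inv]; exact (ih c hc).1⟩
  show ((A ⊔ B : Subgroup G) : Set G) * C = _
  ext x
  constructor
  · rintro ⟨g, hg, c, hc, rfl⟩
    exact (key g hg c hc).1
  · rintro ⟨c, hc, g, hg, rfl⟩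
    obtain ⟨c', hc', g', hg', e⟩ := (key g⁻¹ (inv_mem hg) c⁻¹ (inv_mem hc)).1
    refine ⟨g'⁻¹, inv_mem hg', c'⁻¹, inv_mem hc', ?_⟩
    show g'⁻¹ * c'⁻¹ = c * g
    rw [← mul_inv_rev, show c' * g' = g⁻¹ * c⁻¹ from e, mul_inv_rev, inv_inv, inv_inv]

omit [Finite G] in
/-- Permutability with all conjugates follows from one pair of conjugates. -/
theorem perm_all_of_pair {H K A B : Subgroup G} (hHK : ∀ g : G, ∃ h ∈ H, ∃ k ∈ K, g = h * k)
    (hA : H ≤ Subgroup.normalizer (A : Set G)) (hB : K ≤ Subgroup.normalizer (B : Set G)) {u v : G}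
    (h : Perm (MulAut.conj u • A) (MulAut.conj v • B)) :
    ∀ x : G, Perm A (MulAut.conj x • B) := by
  have h0 : Perm A B := by
    obtain ⟨a, ha, b, hb, e⟩ := hHK (u⁻¹ * v)
    have h1 := perm_conj h ((u * a)⁻¹)
    rw [conj_smul_conj_smul, conj_smul_conj_smul,
      show (u * a)⁻¹ * u = a⁻¹ by group,
      show (u * a)⁻¹ * v = b by rw [mul_inv_rev, mul_assoc, e, inv_mul_cancel_left]] at h1
    rwa [conj_smul_self_of_mem_normalizer (inv_mem (hA ha)),
      conj_smul_self_of_mem_normalizer (hB hb)] at h1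
  intro x
  obtain ⟨a, ha, b, hb, rfl⟩ := hHK x
  have h1 := perm_conj h0 a
  rw [conj_smul_self_of_mem_normalizer (hA ha)] at h1
  rwa [← conj_smul_conj_smul, conj_smul_self_of_mem_normalizer (hB hb)]

theorem card_sup_dvd_of_perm {A B : Subgroup G} (h : Perm A B) :
    Nat.card (A ⊔ B : Subgroup G) ∣ Nat.card A * Nat.card B := by
  set J := A ⊔ B
  have hfac : ∀ g : J, ∃ a ∈ A.subgroupOf J, ∃ b ∈ B.subgroupOf J, g = a * b := by
    intro g
    obtain ⟨a, ha, b, hb, e⟩ : (g : G) ∈ (A : Set G) * B := coe_sup_of_perm h ▸ g.2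
    exact ⟨⟨a, Subgroup.mem_sup_left ha⟩, ha, ⟨b, Subgroup.mem_sup_right hb⟩, hb,
      Subtype.ext e.symm⟩
  have h1 := relIndex_eq_index_of_mul hfac
  rw [← (B.subgroupOf J).card_mul_index, ← h1,
    Nat.card_congr (Subgroup.subgroupOfEquivOfLe (le_sup_right : B ≤ J)).toEquiv, mul_comm (Nat.card A)]
  refine Nat.mul_dvd_mul_left _ ?_
  rw [Subgroup.relIndex_subgroupOf le_sup_left]
  exact Subgroup.relIndex_dvd_card B A

/-- Kegel's enlargement argument. -/
theorem exists_normalized_of_perm {A B : Subgroup G} (P : Subgroup G → Prop) (hP : P A)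
    (hperm : ∀ x : G, Perm A (MulAut.conj x • B))
    (hstep : ∀ X : Subgroup G, P X → (∀ x : G, Perm X (MulAut.conj x • B)) → ∀ x : G,
      ∀ X' : Subgroup G, X' ≤ X ⊔ MulAut.conj x • B → (∀ y : G, Perm X' (MulAut.conj y • B)) → P X') :
    ∃ X : Subgroup G, A ≤ X ∧ P X ∧
      Subgroup.normalClosure (B : Set G) ≤ Subgroup.normalizer (X : Set G) := by
  classical
  let S : Set (Subgroup G) := {X | P X ∧ ∀ x : G, Perm X (MulAut.conj x • B)}
  obtain ⟨X, hAX, hX⟩ := (Set.toFinite S).exists_le_maximal (show A ∈ S from ⟨hP, hperm⟩)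
  refine ⟨X, hAX, hX.1.1, ?_⟩
  rw [Subgroup.normalClosure, Subgroup.closure_le]
  intro β hβ
  obtain ⟨b, hb, hbβ⟩ := Group.mem_conjugatesOfSet_iff.1 hβ
  obtain ⟨c, rfl⟩ := isConj_iff.1 hbβ
  set β := c * b * c⁻¹
  have hβB : β ∈ MulAut.conj c • B := mem_conj_smul_iff.2 (by simpa [β, mul_assoc] using hb)
  set X' := X ⊔ MulAut.conj β • X with hX'
  have hperm' : ∀ y : G, Perm X' (MulAut.conj y • B) := fun y => by
    refine perm_sup_left (hX.1.2 y) ?_
    have h1 := perm_conj (hX.1.2 (β⁻¹ * y)) β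
    rwa [conj_smul_conj_smul β (β⁻¹ * y), mul_inv_cancel_left] at h1
  have hle : X' ≤ X ⊔ MulAut.conj c • B := sup_le le_sup_left (conj_smul_le_iff.2 fun x hx =>
    mul_mem (mul_mem (Subgroup.mem_sup_right hβB) (Subgroup.mem_sup_left hx))
      (inv_mem (Subgroup.mem_sup_right hβB)))
  have hmax : X' ≤ X := hX.2 ⟨hstep X hX.1.1 hX.1.2 c X' hle hperm', hperm'⟩ le_sup_left
  exact mem_normalizer_iff_conj_smul.2 (conj_smul_eq_of_le (le_sup_right.trans hmax) le_rfl)

/-- Kegel's lemma. -/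
theorem exists_normal_of_perm_proper {A B : Subgroup G} (hA : A ≠ ⊥)
    (hperm : ∀ x : G, Perm A (MulAut.conj x • B)) (hproper : ∀ x : G, A ⊔ MulAut.conj x • B ≠ ⊤) :
    ∃ N : Subgroup G, N.Normal ∧ N ≠ ⊤ ∧ (A ≤ N ∨ B ≤ N) := by
  by_cases hT : Subgroup.normalClosure (B : Set G) = ⊤
  swap
  · exact ⟨_, Subgroup.normalClosure_normal, hT, Or.inr Subgroup.le_normalClosure⟩
  obtain ⟨X, hAX, hX, hn⟩ := exists_normalized_of_perm
    (fun X => ∀ x : G, X ⊔ MulAut.conj x • B ≠ ⊤) hproper hperm (by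
      intro X hX hXp x X' hle hp y e
      have hmul : ∀ g : G, ∃ h ∈ X ⊔ MulAut.conj x • B, ∃ k ∈ MulAut.conj y • B, g = h * k := by
        intro g
        obtain ⟨h, hh, k, hk, e'⟩ : g ∈ (X' : Set G) * ((MulAut.conj y • B : Subgroup G) : Set G) := by
          rw [← coe_sup_of_perm (hp y), e]; exact Subgroup.mem_top g
        exact ⟨h, hle hh, k, hk, e'.symm⟩
      refine hX x (top_le_iff.1 ?_)
      have h2 := sup_eq_top_of_mul (mul_factor_conj_right hmul (x * y⁻¹))
      rw [conj_smul_conj_smul, inv_mul_cancel_right, sup_assoc, sup_idem] at h2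
      exact h2.ge)
  refine ⟨X, Subgroup.normalizer_eq_top_iff.1 (top_le_iff.1 (hT.ge.trans hn)), fun e => ?_,
    Or.inl hAX⟩
  exact hX 1 (by rw [e, top_sup_eq])

/-- Permutable `p`-subgroups force a normal `p`-subgroup or commuting normal closures. -/
theorem le_centralizer_of_perm_pGroup {p : ℕ} [Fact p.Prime] {A B : Subgroup G}
    (hcore : Cfsg.pCore p G = ⊥) (hA : IsPGroup p A) (hB : IsPGroup p B)
    (hperm : ∀ x : G, Perm A (MulAut.conj x • B)) :
    A ≤ Subgroup.centralizer (Subgroup.normalClosure (B : Set G) : Set G) := by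
  obtain ⟨X, hAX, hX, hn⟩ := exists_normalized_of_perm (fun X => IsPGroup p X) hA hperm (by
    intro X hX hXp x X' hle hp
    obtain ⟨i, hi⟩ := (IsPGroup.iff_card (p := p)).1 hX
    obtain ⟨j, hj⟩ := (IsPGroup.iff_card (p := p)).1 hB
    have h1 := card_sup_dvd_of_perm (hXp x)
    rw [hi, card_conj_smul, hj, ← pow_add] at h1
    obtain ⟨k, -, hk⟩ := (Nat.dvd_prime_pow Fact.out).1 h1
    exact (IsPGroup.of_card hk).to_le hle)
  set T := Subgroup.normalClosure (B : Set G) with hT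
  haveI : T.Normal := Subgroup.normalClosure_normal
  have hd : T ⊓ X = ⊥ := by
    set Y := T ⊓ X
    haveI : (Y.subgroupOf T).Normal := (Subgroup.normal_subgroupOf_iff_le_normalizer inf_le_left).2
      (le_normalizer_inf Subgroup.le_normalizer hn)
    have h1 : Y.subgroupOf T ≤ Cfsg.pCore p T := CfsgLib.Cores.le_pCore
      ((hX.to_le inf_le_right).of_equiv (Subgroup.subgroupOfEquivOfLe inf_le_left).symm)
    have h2 := (Subgroup.map_mono (f := T.subtype) h1).trans
      (CfsgLib.Cores.map_subtype_pCore_le_of_normal p T)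
    rw [hcore, le_bot_iff, Subgroup.map_subgroupOf_eq_of_le inf_le_left] at h2
    exact h2
  refine Subgroup.le_centralizer_iff.1 fun t ht => Subgroup.mem_centralizer_iff.2 fun a ha => ?_
  have hmem : a * t * a⁻¹ * t⁻¹ ∈ T ⊓ X :=
    ⟨T.mul_mem ((inferInstance : T.Normal).conj_mem t ht a) (T.inv_mem ht), by
      rw [mul_assoc, mul_assoc, ← mul_assoc t]
      exact X.mul_mem (hAX ha) (normalizer_conj_mem (hn ht) (X.inv_mem (hAX ha)))⟩
  rw [hd, Subgroup.mem_bot] at hmem
  calc a * t = (a * t * a⁻¹ * t⁻¹) * (t * a) := by group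
    _ = t * a := by rw [hmem, one_mul]

end CfsgLib.Solvable
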