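import Cfsg.Agent.Lib.Solvable.NilpotentHall
import Cfsg.Agent.Lib.Solvable.CarterSystem
import Cfsg.Agent.Lib.Char.NormalComplement

/-!
A subgroup equal to the normaliser of each of its Sylow subgroups has a normal complement unless it
is a Sylow subgroup.
-/

set_option autoImplicit false

open scoped Pointwise

namespace CfsgLib.Solvable

variable {G : Type*} [Group G] [Finite G]

theorem exists_normal_complement_of_normalizers (H : Subgroup G)
    (hnot : ∀ p : ℕ, p.Prime → ∀ P : Sylow p G, (P : Subgroup G) ≠ H)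
    (hnorm : ∀ p : ℕ, p.Prime → p ∣ Nat.card H → ∀ P : Sylow p H,
      Subgroup.normalizer (((P : Subgroup H).map H.subtype : Subgroup G) : Set G) = H) :
    ∃ N : Subgroup G, N.Normal ∧ Subgroup.IsComplement' N H := by
  classical
  have := Fintype.ofFinite G
  have hnil : Group.IsNilpotent H := by
    refine isNilpotent_of_forall_sylow_normal fun p _ P => ?_
    by_cases hd : p ∣ Nat.card H
    · have h1 : H ≤ Subgroup.normalizer (((P : Subgroup H).map H.subtype : Subgroup G) : Set G) :=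
        (hnorm p Fact.out hd P).ge
      have h2 := (Subgroup.normal_subgroupOf_iff_le_normalizer (Subgroup.map_subtype_le _)).2 h1
      rwa [Subgroup.subgroupOf, Subgroup.comap_map_eq_self_of_injective H.subtype_injective] at h2
    · have : (P : Subgroup H) = ⊥ := Subgroup.card_eq_one.1
        (by rw [P.card_eq_multiplicity, Nat.factorization_eq_zero_of_not_dvd hd, pow_zero])
      rw [this]; infer_instance
  -- the Sylow subgroups of `H` are Sylow subgroups of `G`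
  have hsyl : ∀ p : ℕ, p.Prime → p ∣ Nat.card H → ∃ S : Sylow p G, (S : Subgroup G) ≤ H ∧
      Subgroup.normalizer ((S : Subgroup G) : Set G) = H := by
    intro p hp hd
    haveI : Fact p.Prime := ⟨hp⟩
    obtain ⟨P⟩ := (inferInstance : Nonempty (Sylow p H))
    set P' := (P : Subgroup H).map H.subtype with hP'
    have hN := hnorm p hp hd P
    obtain ⟨S, hS⟩ := (P.2.map H.subtype).exists_le_sylow
    have hle : Subgroup.normalizer (P' : Set G) ⊓ (S : Subgroup G) ≤ P' := by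
      rw [hN]
      have h1 : IsPGroup p ((H ⊓ (S : Subgroup G)).subgroupOf H) :=
        (S.2.to_le inf_le_right : IsPGroup p (H ⊓ (S : Subgroup G) : Subgroup G)).of_equiv
          (Subgroup.subgroupOfEquivOfLe inf_le_left).symm
      have h2 : (H ⊓ (S : Subgroup G)).subgroupOf H = P := P.3 h1 fun x hx =>
        ⟨x.2, hS (Subgroup.mem_map_of_mem _ hx)⟩
      rw [hP', ← h2, Subgroup.map_subgroupOf_eq_of_le inf_le_left]
    have e : P' = (S : Subgroup G) := eq_of_self_normalizing S.2.isNilpotent hS hle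
    exact ⟨S, e ▸ Subgroup.map_subtype_le _, e ▸ hN⟩
  have hHall : (Nat.card H).Coprime H.index := by
    refine Nat.coprime_of_dvd fun p hp hd hi => ?_
    haveI : Fact p.Prime := ⟨hp⟩
    obtain ⟨S, hS, -⟩ := hsyl p hp hd
    obtain ⟨c, hc⟩ := Subgroup.card_dvd_of_le hS
    obtain ⟨d, hd'⟩ := hi
    have h1 : Nat.card (S : Subgroup G) * (S : Subgroup G).index = Nat.card G := Subgroup.card_mul_index _
    rw [← H.card_mul_index, hc, hd', mul_assoc] at h1
    exact S.not_dvd_index ⟨c * d, (Nat.eq_of_mul_eq_mul_left Nat.card_pos h1).trans (by ring)⟩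
  have hHb : H ≠ ⊥ := by
    intro hb
    obtain ⟨p, hp1, hp⟩ := Nat.exists_infinite_primes (Nat.card G + 1)
    haveI : Fact p.Prime := ⟨hp⟩
    obtain ⟨P⟩ := (inferInstance : Nonempty (Sylow p G))
    refine hnot p hp P (hb.symm ▸ Subgroup.card_eq_one.1 ?_)
    rw [P.card_eq_multiplicity, Nat.factorization_eq_zero_of_not_dvd, pow_zero]
    exact fun h => absurd (Nat.le_of_dvd Nat.card_pos h) (by omega)
  -- fusion of elements commuting with a common Sylow subgroup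
  have hfus1 : ∀ q : ℕ, q.Prime → ∀ S : Sylow q G,
      Subgroup.normalizer ((S : Subgroup G) : Set G) = H → ∀ x y g : G,
      (∀ s ∈ (S : Subgroup G), s * x = x * s) → (∀ s ∈ (S : Subgroup G), s * y = y * s) →
      g * x * g⁻¹ = y → ∃ h ∈ H, h * x * h⁻¹ = y := by
    intro q hq S hS x y g hx hy hg
    haveI : Fact q.Prime := ⟨hq⟩
    set C := Subgroup.centralizer ({x} : Set G) with hC
    have hSC : (S : Subgroup G) ≤ C := fun s hs => Subgroup.mem_centralizer_iff.2 fun z hz => by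
      obtain rfl := Set.mem_singleton_iff.1 hz; exact (hx s hs).symm
    have hSC' : ((g⁻¹ • S : Sylow q G) : Subgroup G) ≤ C := by
      intro s hs
      rw [Sylow.coe_subgroup_smul] at hs
      have h1 := hy _ (mem_conj_smul_iff.1 hs)
      refine Subgroup.mem_centralizer_iff.2 fun z hz => ?_
      obtain rfl := Set.mem_singleton_iff.1 hz
      rw [← hg] at h1
      calc z * s = g⁻¹ * ((g * z * g⁻¹) * (g⁻¹⁻¹ * s * g⁻¹)) * g := by group
        _ = g⁻¹ * ((g⁻¹⁻¹ * s * g⁻¹) * (g * z * g⁻¹)) * g := by rw [h1]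
        _ = s * z := by group
    obtain ⟨c, hc⟩ := MulAction.exists_smul_eq C (S.subtype hSC) ((g⁻¹ • S).subtype hSC')
    have hc' : (c : G) • S = g⁻¹ • S := by
      apply Sylow.subtype_injective (hP := by
        intro s hs
        rw [Sylow.coe_subgroup_smul] at hs
        have := mem_conj_smul_iff.1 hs
        have h2 := mul_mem (mul_mem c.2 (hSC this)) (inv_mem c.2)
        simpa [mul_assoc] using h2) (hQ := hSC')
      exact (Sylow.smul_subtype hSC c).symm.trans hc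
    refine ⟨g * c, ?_, ?_⟩
    · rw [← hS, mem_normalizer_iff_conj_smul]
      have h3 : (g * c) • S = S := by rw [mul_smul, hc', smul_inv_smul]
      exact congrArg Sylow.toSubgroup h3
    · have h4 : (c : G) * x = x * c := (Subgroup.mem_centralizer_iff.1 c.2 x rfl).symm
      calc g * c * x * (g * c)⁻¹ = g * (c * x) * (c : G)⁻¹ * g⁻¹ := by group
        _ = y := by rw [h4, ← hg]; group
  have hfus : ∀ x ∈ H, ∀ y ∈ H, IsConj x y → ∃ h ∈ H, h * x * h⁻¹ = y := by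
    intro x hx y hy hxy
    obtain ⟨g, hg⟩ := isConj_iff.1 hxy
    obtain ⟨p, hp, hpH⟩ := Nat.exists_prime_and_dvd fun h => hHb (Subgroup.card_eq_one.1 h)
    haveI : Fact p.Prime := ⟨hp⟩
    obtain ⟨S, hSH, hSN⟩ := hsyl p hp hpH
    obtain ⟨q, hq, hqp, hqH⟩ : ∃ q, q.Prime ∧ q ≠ p ∧ q ∣ Nat.card H := by
      by_contra hcon
      push Not at hcon
      have hHp : IsPGroup p H := IsPGroup.of_card (Nat.eq_prime_pow_of_unique_prime_dvd
        Nat.card_pos.ne' fun {q} hq hd => by_contra fun hne => hcon q hq hne hd)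
      exact hnot p hp S (S.3 hHp hSH).symm
    haveI : Fact q.Prime := ⟨hq⟩
    obtain ⟨T, hTH, hTN⟩ := hsyl q hq hqH
    -- the complement of `S` in `H`
    set S₁ := (S : Subgroup G).subgroupOf H with hS₁
    haveI hS₁n : S₁.Normal := (Subgroup.normal_subgroupOf_iff_le_normalizer hSH).2 hSN.ge
    have hcopS : (Nat.card S₁).Coprime S₁.index := by
      rw [hS₁, Nat.card_congr (Subgroup.subgroupOfEquivOfLe hSH).toEquiv]
      refine S.card_coprime_index.coprime_dvd_right ?_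
      rw [← Subgroup.relIndex_mul_index hSH]
      exact dvd_mul_right _ _
    obtain ⟨K₁, hK₁⟩ := Subgroup.exists_left_complement'_of_coprime hcopS
    have hK₁c : Nat.card K₁ = S₁.index := by
      refine Nat.eq_of_mul_eq_mul_left (Nat.card_pos (α := S₁)) ?_
      rw [S₁.card_mul_index, mul_comm, hK₁.card_mul]
    have hK₁i : K₁.index = Nat.card S₁ := by
      refine Nat.eq_of_mul_eq_mul_left (Nat.card_pos (α := K₁)) ?_
      rw [K₁.card_mul_index, hK₁.card_mul]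
    haveI hK₁n : K₁.Normal := by
      refine Subgroup.normalizer_eq_top_iff.1 (top_le_iff.1
        (isNilpotent_hall_normal (C := (⊤ : Subgroup H)) (X := K₁) ?_ le_top ?_))
      · haveI := hnil
        exact Group.nilpotent_of_mulEquiv Subgroup.topEquiv.symm
      · rw [Subgroup.relIndex_top_right, hK₁c, hK₁i]; exact hcopS.symm
    have hcomm : ∀ s : H, s ∈ S₁ → ∀ k : H, k ∈ K₁ → (s : G) * k = k * s := fun s hs k hk =>
      congrArg Subtype.val (Subgroup.commute_of_normal_of_disjoint S₁ K₁ hS₁n hK₁n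
        hK₁.disjoint.symm s k hs hk).eq
    have hdec : ∀ z ∈ H, ∃ a b : H, a ∈ S₁ ∧ b ∈ K₁ ∧ z = a * b := by
      intro z hz
      obtain ⟨⟨⟨b, hb⟩, ⟨a, ha⟩⟩, e⟩ := hK₁.2 ⟨z, hz⟩
      exact ⟨a, b, ha, hb, by rw [hcomm a ha b hb]; exact (congrArg Subtype.val e).symm⟩
    obtain ⟨m, hm1, hm2⟩ := Nat.chineseRemainder hcopS 1 0
    have hpow : ∀ a b : H, a ∈ S₁ → b ∈ K₁ → ((a : G) * b) ^ m = a := by
      intro a b ha hb
      have h1 : a ^ m = a := by
        rw [show a ^ m = a ^ 1 from pow_eq_pow_iff_modEq.2 (hm1.of_dvd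
          ((Subgroup.orderOf_coe (⟨a, ha⟩ : S₁)).symm ▸ orderOf_dvd_natCard (⟨a, ha⟩ : S₁))), pow_one]
      have h2 : b ^ m = 1 := by
        rw [show b ^ m = b ^ 0 from pow_eq_pow_iff_modEq.2 ((hm2.of_dvd hK₁c.dvd).of_dvd
          ((Subgroup.orderOf_coe (⟨b, hb⟩ : K₁)).symm ▸ orderOf_dvd_natCard (⟨b, hb⟩ : K₁))), pow_zero]
      rw [(show Commute (a : G) b from hcomm a ha b hb).mul_pow, ← Subgroup.coe_pow, ← Subgroup.coe_pow,
        h1, h2, Subgroup.coe_one, mul_one]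
    obtain ⟨x₁, x₂, hx₁, hx₂, rfl⟩ := hdec x hx
    obtain ⟨y₁, y₂, hy₁, hy₂, rfl⟩ := hdec y hy
    have hg1 : g * x₁ * g⁻¹ = y₁ := by
      rw [← hpow x₁ x₂ hx₁ hx₂, ← conj_pow, hg, hpow y₁ y₂ hy₁ hy₂]
    have hg2 : g * x₂ * g⁻¹ = y₂ := by
      have := hg
      rw [show g * ((x₁ : G) * x₂) * g⁻¹ = (g * x₁ * g⁻¹) * (g * x₂ * g⁻¹) by group, hg1] at this
      exact mul_left_cancel this
    have hST : ∀ t ∈ (T : Subgroup G), ∃ (ht : t ∈ H), (⟨t, ht⟩ : H) ∈ K₁ := fun t ht =>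
      ⟨hTH ht, sylow_le_of_not_dvd_index (N := K₁) (p := q) (fun hd => hqp (by
        rw [hK₁i, hS₁, Nat.card_congr (Subgroup.subgroupOfEquivOfLe hSH).toEquiv,
          S.card_eq_multiplicity] at hd
        exact (Nat.prime_dvd_prime_iff_eq hq hp).1 (hq.dvd_of_dvd_pow hd)))
        (T.subtype hTH) (show (⟨t, hTH ht⟩ : H) ∈ (T.subtype hTH : Subgroup H) from ht)⟩
    obtain ⟨h₁, hh₁, e₁⟩ := hfus1 q hq T hTN x₁ y₁ g
      (fun t ht => by obtain ⟨h', hk⟩ := hST t ht; exact (hcomm x₁ hx₁ ⟨t, h'⟩ hk).symm)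
      (fun t ht => by obtain ⟨h', hk⟩ := hST t ht; exact (hcomm y₁ hy₁ ⟨t, h'⟩ hk).symm) hg1
    obtain ⟨h₂, hh₂, e₂⟩ := hfus1 p hp S hSN x₂ y₂ g
      (fun s hs => hcomm ⟨s, hSH hs⟩ hs x₂ hx₂) (fun s hs => hcomm ⟨s, hSH hs⟩ hs y₂ hy₂) hg2
    obtain ⟨a₁, b₁, ha₁, hb₁, rfl⟩ := hdec h₁ hh₁
    obtain ⟨a₂, b₂, ha₂, hb₂, rfl⟩ := hdec h₂ hh₂
    refine ⟨a₁ * b₂, mul_mem a₁.2 b₂.2, ?_⟩
    have hc1 : (b₁ : G) * x₁ = x₁ * b₁ := (hcomm x₁ hx₁ b₁ hb₁).symm
    have hc2 : (a₂ : G) * (b₂ * x₂ * (b₂ : G)⁻¹) = b₂ * x₂ * (b₂ : G)⁻¹ * a₂ := by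
      have := hcomm a₂ ha₂ (b₂ * x₂ * b₂⁻¹) (mul_mem (mul_mem hb₂ hx₂) (inv_mem hb₂))
      simpa using this
    have hc3 : (a₁ : G) * (b₂ * x₂ * (b₂ : G)⁻¹) = b₂ * x₂ * (b₂ : G)⁻¹ * a₁ := by
      have := hcomm a₁ ha₁ (b₂ * x₂ * b₂⁻¹) (mul_mem (mul_mem hb₂ hx₂) (inv_mem hb₂))
      simpa using this
    have hc4 : (b₂ : G) * x₁ = x₁ * b₂ := (hcomm x₁ hx₁ b₂ hb₂).symm
    have f1 : (a₁ : G) * x₁ * (a₁ : G)⁻¹ = y₁ := by
      rw [← e₁, show (a₁ : G) * b₁ * x₁ * ((a₁ : G) * b₁)⁻¹ =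
        a₁ * ((b₁ : G) * x₁) * (b₁ : G)⁻¹ * (a₁ : G)⁻¹ by group, hc1]
      group
    have f2 : (b₂ : G) * x₂ * (b₂ : G)⁻¹ = y₂ := by
      rw [← e₂, show (a₂ : G) * b₂ * x₂ * ((a₂ : G) * b₂)⁻¹ =
        (a₂ : G) * ((b₂ : G) * x₂ * (b₂ : G)⁻¹) * (a₂ : G)⁻¹ by group, hc2]
      group
    calc (a₁ : G) * b₂ * (x₁ * x₂) * ((a₁ : G) * b₂)⁻¹
        = (a₁ * ((b₂ : G) * x₁) * (b₂ : G)⁻¹ * (a₁ : G)⁻¹) *
          (a₁ * ((b₂ : G) * x₂ * (b₂ : G)⁻¹) * (a₁ : G)⁻¹) := by group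
      _ = y₁ * y₂ := by
        rw [hc4, hc3, ← f1, ← f2]
        group
  obtain ⟨N, hN, htop, hbot⟩ := CfsgLib.Char.exists_normal_complement_of_fusion hHall hfus
    (fun E p hp _ hdvd => by
      obtain ⟨z, hz⟩ := nilpotent_hall_dominates hnil hHall (K := E) fun r _ hd => hd.trans hdvd
      refine ⟨z⁻¹, ?_⟩
      rintro _ ⟨w, hw, rfl⟩
      simpa [mul_assoc] using mem_conj_smul_iff.1 (hz hw))
  refine ⟨N, hN, Subgroup.isComplement'_of_card_mul_and_disjoint ?_ (disjoint_iff.2 hbot)⟩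
  rw [← card_sup_of_disjoint (@Subgroup.normalizer_eq_top _ _ N hN ▸ le_top) hbot, htop,
    Subgroup.card_top]

end CfsgLib.Solvable
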