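import Cfsg.Agent.Lib.Solvable.NilpotentParts
import Cfsg.Agent.Lib.Solvable.KegelLemma
import Cfsg.Agent.Lib.Solvable.HallFactor
import Cfsg.Agent.Lib.Solvable.SylowNormalizerHall
import Cfsg.Agent.Lib.Solvable.Fitting
import Cfsg.Agent.Lib.Char.Burnside

/-!
There is no simple group which is the product of two nilpotent subgroups of coprime orders.
-/

set_option autoImplicit false

open scoped Pointwise

namespace CfsgLib.Solvable

namespace CoprimeProduct

variable {G : Type*} [Group G] [Finite G]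

/-- `H` is factorised with respect to `A` and `B`. -/
def HasFactor (A B H : Subgroup G) : Prop :=
  ∀ h ∈ H, ∃ a ∈ A, a ∈ H ∧ ∃ b ∈ B, b ∈ H ∧ h = a * b

/-- The hypothetical configuration. -/
structure Setup (A B : Subgroup G) : Prop where
  nilA : Group.IsNilpotent A
  nilB : Group.IsNilpotent B
  cop : (Nat.card A).Coprime (Nat.card B)
  fact : ∀ g : G, ∃ a ∈ A, ∃ b ∈ B, g = a * b
  simple : IsSimpleGroup G
  ns : ¬ Group.IsSolvable G
  solv : ∀ H : Subgroup G, H ≠ ⊤ → HasFactor A B H → Group.IsSolvable H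

variable {A B : Subgroup G}

namespace Setup

theorem symm (S : Setup A B) : Setup B A := by
  refine ⟨S.nilB, S.nilA, S.cop.symm, fun g => mul_factor_symm S.fact g, S.simple, S.ns,
    fun H hH hf => S.solv H hH fun h hh => ?_⟩
  obtain ⟨b, hb, hbH, a, ha, haH, e⟩ := hf h⁻¹ (inv_mem hh)
  exact ⟨a⁻¹, inv_mem ha, inv_mem haH, b⁻¹, inv_mem hb, inv_mem hbH,
    by rw [← mul_inv_rev, ← e, inv_inv]⟩

theorem inf_eq_bot (S : Setup A B) : A ⊓ B = ⊥ := disjoint_of_coprime S.cop

theorem ne_top (S : Setup A B) : A ≠ ⊤ := fun e => S.ns (by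
  haveI : Group.IsNilpotent (⊤ : Subgroup G) := e ▸ S.nilA
  haveI : Group.IsNilpotent G := Group.nilpotent_of_mulEquiv Subgroup.topEquiv
  infer_instance)

theorem card_eq (S : Setup A B) : Nat.card G = Nat.card A * Nat.card B := by
  rw [← Nat.card_prod]
  refine (Nat.card_eq_of_bijective (fun x : A × B => (x.1 : G) * x.2) ⟨fun x y e => ?_, fun g => ?_⟩).symm
  · replace e : (x.1 : G) * x.2 = y.1 * y.2 := e
    have h1 : (y.1 : G)⁻¹ * x.1 = y.2 * (x.2 : G)⁻¹ := by
      calc (y.1 : G)⁻¹ * x.1 = (y.1 : G)⁻¹ * ((x.1 : G) * x.2) * (x.2 : G)⁻¹ := by group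
        _ = y.2 * (x.2 : G)⁻¹ := by rw [e]; group
    have h2 : (y.1 : G)⁻¹ * x.1 ∈ A ⊓ B := Subgroup.mem_inf.2
      ⟨A.mul_mem (A.inv_mem y.1.2) x.1.2, h1 ▸ B.mul_mem y.2.2 (B.inv_mem x.2.2)⟩
    rw [S.inf_eq_bot, Subgroup.mem_bot] at h2
    have h3 : (y.2 : G) * (x.2 : G)⁻¹ = 1 := h1 ▸ h2
    exact Prod.ext (Subtype.ext (inv_mul_eq_one.1 h2).symm) (Subtype.ext (mul_inv_eq_one.1 h3).symm)
  · obtain ⟨a, ha, b, hb, e⟩ := S.fact g
    exact ⟨(⟨a, ha⟩, ⟨b, hb⟩), e.symm⟩

theorem index_eq (S : Setup A B) : A.index = Nat.card B :=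
  Nat.eq_of_mul_eq_mul_left Nat.card_pos (A.card_mul_index.trans S.card_eq)

theorem hall (S : Setup A B) : (Nat.card A).Coprime A.index := S.index_eq ▸ S.cop

theorem eq_bot_of_normal (S : Setup A B) {N : Subgroup G} (hN : N.Normal) (hne : N ≠ ⊤) : N = ⊥ :=
  (S.simple.eq_bot_or_eq_top_of_normal N hN).resolve_right hne

theorem center_eq_bot (S : Setup A B) : Subgroup.center G = ⊥ :=
  S.eq_bot_of_normal inferInstance fun e => S.ns (by
    exact Group.isSolvable_of_comm fun a b => Subgroup.mem_center_iff.1 (e ▸ Subgroup.mem_top b) a)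

theorem centralizer_ne_top (S : Setup A B) {x : G} (hx : x ≠ 1) :
    Subgroup.centralizer ({x} : Set G) ≠ ⊤ := fun e => hx (by
  rw [← Subgroup.mem_bot, ← S.center_eq_bot, Subgroup.mem_center_iff]
  intro g
  have hg : g ∈ Subgroup.centralizer ({x} : Set G) := by rw [e]; exact Subgroup.mem_top g
  exact (Subgroup.mem_centralizer_iff.1 hg x rfl).symm)

omit [Finite G] in
theorem hasFactor_of_le {H : Subgroup G} (hfact : ∀ g : G, ∃ a ∈ A, ∃ b ∈ B, g = a * b)
    (hA : A ≤ H) : HasFactor A B H := fun h hh => by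
  obtain ⟨a, ha, b, hb, e⟩ := hfact h
  refine ⟨a, ha, hA ha, b, hb, ?_, e⟩
  rw [show b = a⁻¹ * h by rw [e, inv_mul_cancel_left]]
  exact H.mul_mem (H.inv_mem (hA ha)) hh

theorem card_of_hasFactor (S : Setup A B) {H : Subgroup G} (hH : HasFactor A B H) :
    Nat.card H = Nat.card (A ⊓ H : Subgroup G) * Nat.card (B ⊓ H : Subgroup G) := by
  rw [← Nat.card_prod]
  refine (Nat.card_eq_of_bijective (fun x : (A ⊓ H : Subgroup G) × (B ⊓ H : Subgroup G) =>
    (⟨(x.1 : G) * x.2, H.mul_mem x.1.2.2 x.2.2.2⟩ : H)) ⟨fun x y e => ?_, fun h => ?_⟩).symm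
  · have e' : (x.1 : G) * x.2 = y.1 * y.2 := congrArg Subtype.val e
    have h1 : (y.1 : G)⁻¹ * x.1 = y.2 * (x.2 : G)⁻¹ := by
      calc (y.1 : G)⁻¹ * x.1 = (y.1 : G)⁻¹ * ((x.1 : G) * x.2) * (x.2 : G)⁻¹ := by group
        _ = y.2 * (x.2 : G)⁻¹ := by rw [e']; group
    have h2 : (y.1 : G)⁻¹ * x.1 ∈ A ⊓ B := Subgroup.mem_inf.2
      ⟨A.mul_mem (A.inv_mem y.1.2.1) x.1.2.1, h1 ▸ B.mul_mem y.2.2.1 (B.inv_mem x.2.2.1)⟩
    rw [S.inf_eq_bot, Subgroup.mem_bot] at h2
    have h3 : (y.2 : G) * (x.2 : G)⁻¹ = 1 := h1 ▸ h2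
    exact Prod.ext (Subtype.ext (inv_mul_eq_one.1 h2).symm) (Subtype.ext (mul_inv_eq_one.1 h3).symm)
  · obtain ⟨a, ha, haH, b, hb, hbH, e⟩ := hH h h.2
    exact ⟨(⟨a, ha, haH⟩, ⟨b, hb, hbH⟩), Subtype.ext e.symm⟩

theorem exists_ne_prime (S : Setup A B) (p : ℕ) (hp : p.Prime) :
    ∃ r : ℕ, r.Prime ∧ r ≠ p ∧ r ∣ Nat.card A := by
  by_contra hcon
  push Not at hcon
  have hA : ∃ k, Nat.card A = p ^ k := ⟨_, Nat.eq_prime_pow_of_unique_prime_dvd Nat.card_pos.ne'
    fun {r} hr hd => by_contra fun hne => hcon r hr hne hd⟩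
  obtain ⟨k, hk⟩ := hA
  by_cases hB : Nat.card B = 1
  · have hA' : A.index = 1 := by rw [S.index_eq, hB]
    exact S.ne_top (Subgroup.index_eq_one.1 hA')
  obtain ⟨q, hq, hqB⟩ := Nat.exists_prime_and_dvd hB
  haveI : Fact q.Prime := ⟨hq⟩
  obtain ⟨z, hzB, hzo, hzc⟩ := exists_central_of_prime_dvd S.nilB hqB
  have hle : B ≤ Subgroup.centralizer ({z} : Set G) := fun x hx =>
    Subgroup.mem_centralizer_iff.2 fun w hw => by
      obtain rfl := Set.mem_singleton_iff.1 hw; exact (hzc x hx).symm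
  have hd : (Subgroup.centralizer ({z} : Set G)).index ∣ p ^ k := by
    rw [← hk, ← S.symm.index_eq]
    exact Subgroup.index_dvd_of_le hle
  obtain ⟨j, -, hj⟩ := (Nat.dvd_prime_pow hp).1 hd
  haveI := S.simple
  haveI := Fintype.ofFinite G
  have hprime := CfsgLib.Char.prime_card_of_class_primePow p j hp z
    (fun e => hq.one_lt.ne (by rw [← hzo, e, orderOf_one])) hj
  refine S.ns ?_
  haveI : Fact (Nat.card G).Prime := ⟨hprime⟩
  haveI : IsCyclic G := isCyclic_of_prime_card (p := Nat.card G) rfl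
  exact @Group.isSolvable_of_comm G _ fun a b => (IsCyclic.commGroup (α := G)).mul_comm a b

theorem index_nilPart {p : ℕ} [hp : Fact p.Prime] (S : Setup A B) (hd : p ∣ Nat.card A) :
    (Nat.card (nilPart p A)).Coprime (nilPart p A).index := by
  have h0 : (Nat.card G).factorization p = (Nat.card A).factorization p := by
    rw [S.card_eq, Nat.factorization_mul Nat.card_pos.ne' Nat.card_pos.ne', Finsupp.add_apply,
      Nat.factorization_eq_zero_of_not_dvd (fun h => hp.out.not_dvd_one (S.cop ▸ Nat.dvd_gcd hd h)),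
      add_zero]
  let P : Sylow p G := Sylow.ofCard (nilPart p A) (by rw [card_nilPart S.nilA, h0])
  exact P.card_coprime_index

/-- No proper factorised subgroup contains Sylow subgroups from both factors. -/
theorem pair_false (S : Setup A B) {H : Subgroup G} (hHs : Group.IsSolvable H) {r t : ℕ}
    [hr : Fact r.Prime] [ht : Fact t.Prime] (hrA : r ∣ Nat.card A) (htB : t ∣ Nat.card B)
    (hX : nilPart r A ≤ H) (hY : nilPart t B ≤ H) : False := by
  set X := nilPart r A
  set Y := nilPart t B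
  have hcop : ∀ Z : Subgroup G, Z ≤ H → (Nat.card Z).Coprime Z.index →
      (Nat.card (Z.subgroupOf H)).Coprime (Z.subgroupOf H).index := by
    intro Z hZ h
    rw [Nat.card_congr (Subgroup.subgroupOfEquivOfLe hZ).toEquiv]
    refine h.coprime_dvd_right ?_
    show Z.relIndex H ∣ _
    rw [← Subgroup.relIndex_mul_index hZ]
    exact dvd_mul_right _ _
  haveI := hHs
  obtain ⟨g, g', Z, hZ⟩ := exists_conj_hall_product (G := H) (X.subgroupOf H) (Y.subgroupOf H)
    (hcop X hX (S.index_nilPart hrA)) (hcop Y hY (S.symm.index_nilPart htB))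
  have hp1 : Perm (MulAut.conj (g : G) • X) (MulAut.conj (g' : G) • Y) := by
    refine perm_of_coe_eq (S := Z.map H.subtype) ?_
    rw [Subgroup.coe_map, hZ, Set.image_mul, ← Subgroup.coe_map, ← Subgroup.coe_map, map_conj_smul,
      map_conj_smul, Subgroup.map_subgroupOf_eq_of_le hX, Subgroup.map_subgroupOf_eq_of_le hY]
    rfl
  have hperm := perm_all_of_pair S.fact
    ((Subgroup.le_normalizer : A ≤ _).trans (normalizer_le_normalizer_nilPart r A))
    ((Subgroup.le_normalizer : B ≤ _).trans (normalizer_le_normalizer_nilPart t B)) hp1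
  have hprop : ∀ x : G, X ⊔ MulAut.conj x • Y ≠ ⊤ := by
    intro x e
    have h1 := card_sup_dvd_of_perm (hperm x)
    rw [e, Subgroup.card_top, card_conj_smul, card_nilPart S.nilA, card_nilPart S.nilB] at h1
    obtain ⟨r', hr', hne, hd⟩ := S.exists_ne_prime r hr.out
    have hdG : r' ∣ Nat.card G := S.card_eq ▸ hd.mul_right _
    rcases (Nat.Prime.dvd_mul hr').1 (hdG.trans h1) with h | h
    · exact hne ((Nat.prime_dvd_prime_iff_eq hr' hr.out).1 (hr'.dvd_of_dvd_pow h))
    · obtain rfl := (Nat.prime_dvd_prime_iff_eq hr' ht.out).1 (hr'.dvd_of_dvd_pow h)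
      exact hr'.not_dvd_one (S.cop ▸ Nat.dvd_gcd hd htB)
  obtain ⟨N, hN, hNt, hle⟩ := exists_normal_of_perm_proper (nilPart_ne_bot S.nilA hrA) hperm hprop
  rw [S.eq_bot_of_normal hN hNt, le_bot_iff, le_bot_iff] at hle
  exact hle.elim (nilPart_ne_bot S.nilA hrA) (nilPart_ne_bot S.nilB htB)

/-- A proper subgroup containing `A` contains no nontrivial central element of `B`. -/
theorem eq_one_of_central_mem (S : Setup A B) {L : Subgroup G} (hL : L ≠ ⊤) (hAL : A ≤ L) {b : G}
    (hc : ∀ x ∈ B, x * b = b * x) (hbL : b ∈ L) : b = 1 := by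
  have hle : Subgroup.normalClosure ({b} : Set G) ≤ L := by
    rw [Subgroup.normalClosure, Subgroup.closure_le]
    intro y hy
    obtain ⟨w, hw, hwy⟩ := Group.mem_conjugatesOfSet_iff.1 hy
    obtain rfl := Set.mem_singleton_iff.1 hw
    obtain ⟨g, rfl⟩ := isConj_iff.1 hwy
    obtain ⟨a, ha, β, hβ, rfl⟩ := S.fact g
    have : a * β * w * (a * β)⁻¹ = a * w * a⁻¹ := by
      rw [mul_assoc a β w, hc β hβ]; group
    rw [SetLike.mem_coe, this]
    exact L.mul_mem (L.mul_mem (hAL ha) hbL) (L.inv_mem (hAL ha))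
  have h := S.eq_bot_of_normal Subgroup.normalClosure_normal fun e => hL (top_le_iff.1 (e ▸ hle))
  rw [← Subgroup.mem_bot, ← h]
  exact Subgroup.subset_normalClosure rfl

theorem isSolvable_of_ge (S : Setup A B) {L : Subgroup G} (hL : L ≠ ⊤) (hAL : A ≤ L) :
    Group.IsSolvable L :=
  S.solv L hL (hasFactor_of_le S.fact hAL)

theorem le_right_of_normalized (S : Setup A B) {L X : Subgroup G} (hAL : HasFactor A B L)
    (hXL : X ≤ L) (hX : L ≤ Subgroup.normalizer (X : Set G))
    (hcop : (Nat.card X).Coprime (Nat.card A)) : X ≤ B := by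
  refine (le_of_coprime_of_normalizes (A := B ⊓ L) (L := L) (b := Nat.card (A ⊓ L : Subgroup G))
    inf_le_right hXL (by rw [S.card_of_hasFactor hAL, mul_comm])
    (hcop.coprime_dvd_right (Subgroup.card_dvd_of_le inf_le_left))
    ((S.cop.symm.coprime_dvd_left (Subgroup.card_dvd_of_le inf_le_left)).coprime_dvd_right
      (Subgroup.card_dvd_of_le inf_le_left))
    (Or.inr (inf_le_right.trans hX))).trans inf_le_left

theorem centralizer_nilPart_inf (S : Setup A B) {r : ℕ} [hr : Fact r.Prime] (hrA : r ∣ Nat.card A) :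
    B ⊓ Subgroup.centralizer (nilPart r A : Set G) = ⊥ := by
  by_contra hne
  set V := B ⊓ Subgroup.centralizer (nilPart r A : Set G)
  have hV : Group.IsNilpotent V := isNilpotent_le S.nilB inf_le_left
  obtain ⟨q, hq, hqV⟩ := Nat.exists_prime_and_dvd fun h => hne (Subgroup.card_eq_one.1 h)
  haveI : Fact q.Prime := ⟨hq⟩
  set W := nilPart q V
  have hWb : W ≠ ⊥ := nilPart_ne_bot hV hqV
  set H := Subgroup.normalizer (W : Set G)
  have hWB : W ≤ B := nilPart_le.trans inf_le_left
  have hHt : H ≠ ⊤ := fun e => hWb (S.eq_bot_of_normal (Subgroup.normalizer_eq_top_iff.1 e)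
    fun e' => S.symm.ne_top (top_le_iff.1 (e' ▸ hWB)))
  obtain ⟨t, ht, htq, htB⟩ := S.symm.exists_ne_prime q hq
  haveI : Fact t.Prime := ⟨ht⟩
  have hqB : q ∣ Nat.card B := hqV.trans (Subgroup.card_dvd_of_le inf_le_left)
  have hfac : HasFactor A B H := by
    intro g hg
    obtain ⟨a, ha, b, hb, rfl⟩ := S.fact g
    have hg' : MulAut.conj a • MulAut.conj b • W = W := by
      rw [conj_smul_conj_smul]; exact conj_smul_self_of_mem_normalizer hg
    have hbW : b ∈ H := by
      refine mem_normalizer_iff_conj_smul.2 (conj_smul_eq_of_le (le_nilPart hV (le_inf ?_ ?_) ?_) le_rfl)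
      · exact (conj_smul_mono b hWB).trans
          (conj_smul_self_of_mem_normalizer (Subgroup.le_normalizer hb)).le
      · have h1 : MulAut.conj b • W = MulAut.conj a⁻¹ • W := by
          conv_rhs => rw [← hg']
          rw [conj_smul_conj_smul a⁻¹ a, inv_mul_cancel, map_one, one_smul]
        rw [h1]
        refine (conj_smul_mono a⁻¹ (nilPart_le.trans inf_le_right)).trans ?_
        exact (conj_smul_self_of_mem_normalizer (normalizer_le_normalizer_centralizer _
          (normalizer_le_normalizer_nilPart r A (Subgroup.le_normalizer (A.inv_mem ha))))).le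
      · rw [conj_smul_eq_map]; exact (isPGroup_nilPart (p := q) (A := V)).map _
    refine ⟨a, ha, ?_, b, hb, hbW, rfl⟩
    simpa using H.mul_mem hg (H.inv_mem hbW)
  refine S.pair_false (H := H) (S.solv H hHt hfac) hrA htB ?_ ?_
  · exact (Subgroup.le_centralizer_iff.1 (nilPart_le.trans inf_le_right : W ≤ _)).trans
      (Subgroup.centralizer_le_normalizer _)
  · intro x hx
    refine Subgroup.centralizer_le_normalizer _ (Subgroup.mem_centralizer_iff.2 fun w hw => ?_)
    exact commute_nilPart S.nilB htq.symm (le_nilPart S.nilB hWB (isPGroup_nilPart) hw) hx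

theorem pCore_eq_bot_of_ge (S : Setup A B) {L : Subgroup G} (hL : L ≠ ⊤) (hAL : A ≤ L) {q : ℕ}
    [hq : Fact q.Prime] (hqB : q ∣ Nat.card B) : Cfsg.pCore q L = ⊥ := by
  set W := (Cfsg.pCore q L).map L.subtype with hW
  haveI : (Cfsg.pCore q L).Characteristic := CfsgLib.Cores.pCore_characteristic q
  have hLW : L ≤ Subgroup.normalizer (W : Set G) :=
    (Subgroup.normal_subgroupOf_iff_le_normalizer (Subgroup.map_subtype_le _)).1 (by
      rw [Subgroup.subgroupOf, Subgroup.comap_map_eq_self_of_injective L.subtype_injective]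
      infer_instance)
  have hWp : IsPGroup q W := (CfsgLib.Cores.isPGroup_pCore q).map _
  obtain ⟨i, hi⟩ := (IsPGroup.iff_card (p := q)).1 hWp
  have hWB : W ≤ B := S.le_right_of_normalized (hasFactor_of_le S.fact hAL)
    (Subgroup.map_subtype_le _) hLW (by
      rw [hi]; exact (S.cop.symm.coprime_dvd_left hqB).pow_left i)
  by_contra hne
  have hWb : W ≠ ⊥ := (Subgroup.map_eq_bot_iff_of_injective _ L.subtype_injective).not.2 hne
  have hNt : Subgroup.normalizer (W : Set G) ≠ ⊤ := fun e =>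
    hWb (S.eq_bot_of_normal (Subgroup.normalizer_eq_top_iff.1 e)
      fun e' => S.symm.ne_top (top_le_iff.1 (e' ▸ hWB)))
  obtain ⟨b, hb, hbo, hbc⟩ := exists_central_of_prime_dvd S.nilB hqB
  refine hq.out.one_lt.ne' ?_
  rw [← hbo, S.eq_one_of_central_mem hNt (hAL.trans hLW) hbc (Subgroup.centralizer_le_normalizer _
    (Subgroup.mem_centralizer_iff.2 fun w hw => hbc w (hWB hw))), orderOf_one]

theorem mem_pCore_of_fitting {L : Subgroup G} [Group.IsSolvable L] {r : ℕ} [Fact r.Prime] {c : L}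
    (hc : c ∈ Cfsg.fittingSubgroup L) {i : ℕ} (ho : orderOf c = r ^ i) : c ∈ Cfsg.pCore r L := by
  haveI : (Cfsg.fittingSubgroup L).Normal := CfsgLib.Cores.fittingSubgroup_normal
  exact CfsgLib.Cores.map_subtype_pCore_le_of_normal r (Cfsg.fittingSubgroup L)
    (mem_nilPart CfsgLib.Cores.isNilpotent_fittingSubgroup hc ho)

theorem centralizer_pieces_le {H : Type*} [Group H] [Finite H] [Group.IsSolvable H] (x : H)
    (h : ∀ s : ℕ, s.Prime → s ∣ Nat.card H → ∀ y ∈ Cfsg.pCore s H, y * x = x * y) :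
    x ∈ Cfsg.fittingSubgroup H := by
  refine centralizer_fittingSubgroup_le (Subgroup.mem_centralizer_iff.2 fun y hy => ?_)
  have h1 : Cfsg.fittingSubgroup H ≤ Subgroup.centralizer {x} := by
    rw [CfsgLib.Cores.fittingSubgroup_eq_iSup_pCore, iSup_le_iff]
    intro s z hz
    refine Subgroup.mem_centralizer_iff.2 fun w hw => ?_
    obtain rfl := Set.mem_singleton_iff.1 hw
    exact (h s (Nat.prime_of_mem_primeFactors s.2) (Nat.dvd_of_mem_primeFactors s.2) z hz).symm
  exact (Subgroup.mem_centralizer_iff.1 (h1 hy) x rfl).symm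

theorem map_pCore_le_left (S : Setup A B) {L : Subgroup G} (hL : L ≠ ⊤) (hAL : A ≤ L) {s : ℕ}
    [hs : Fact s.Prime] : (Cfsg.pCore s L).map L.subtype ≤ A := by
  by_cases hsB : s ∣ Nat.card B
  · rw [S.pCore_eq_bot_of_ge hL hAL hsB, Subgroup.map_bot]; exact bot_le
  haveI : (Cfsg.pCore s L).Characteristic := CfsgLib.Cores.pCore_characteristic s
  obtain ⟨i, hi⟩ := (IsPGroup.iff_card (p := s)).1
    ((CfsgLib.Cores.isPGroup_pCore (G := L) s).map L.subtype)
  refine le_of_coprime_of_normalizes (L := L) (b := Nat.card B) hAL (Subgroup.map_subtype_le _)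
    (S.card_eq ▸ L.card_subgroup_dvd_card) ?_ S.cop (Or.inr (hAL.trans ?_))
  · rw [hi]; exact (hs.out.coprime_iff_not_dvd.2 hsB).pow_left i
  · refine (Subgroup.normal_subgroupOf_iff_le_normalizer (Subgroup.map_subtype_le _)).1 ?_
    rw [Subgroup.subgroupOf, Subgroup.comap_map_eq_self_of_injective L.subtype_injective]
    infer_instance

/-- Every proper subgroup containing `A` normalises `A`. -/
theorem le_normalizer_of_ge (S : Setup A B) {L : Subgroup G} (hL : L ≠ ⊤) (hAL : A ≤ L) :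
    L ≤ Subgroup.normalizer (A : Set G) := by
  haveI := S.isSolvable_of_ge hL hAL
  set F := Cfsg.fittingSubgroup L
  haveI hFn : F.Normal := CfsgLib.Cores.fittingSubgroup_normal
  have hFA : F.map L.subtype ≤ A := by
    rw [Subgroup.map_le_iff_le_comap]
    refine CfsgLib.Cores.fittingSubgroup_le_iSup_pCore.trans (iSup_le fun s => ?_)
    haveI : Fact (s : ℕ).Prime := ⟨Nat.prime_of_mem_primeFactors s.2⟩
    exact Subgroup.map_le_iff_le_comap.1 (S.map_pCore_le_left hL hAL)
  suffices hAF : A ≤ F.map L.subtype by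
    have e : F.map L.subtype = A := le_antisymm hFA hAF
    rw [← e]
    refine (Subgroup.normal_subgroupOf_iff_le_normalizer (Subgroup.map_subtype_le _)).1 ?_
    rw [Subgroup.subgroupOf, Subgroup.comap_map_eq_self_of_injective L.subtype_injective]
    infer_instance
  refine le_of_nilPart_le S.nilA fun p hp hpA => ?_
  haveI : Fact p.Prime := ⟨hp⟩
  obtain ⟨r, hr, hrp, hrA⟩ := S.exists_ne_prime p hp
  haveI : Fact r.Prime := ⟨hr⟩
  -- the centraliser of the Fitting components other than the `p`-component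
  let K : Subgroup L := ⨅ s : {s : ℕ // s.Prime ∧ s ≠ p},
    Subgroup.centralizer ((Cfsg.pCore (s : ℕ) L : Subgroup L) : Set L)
  haveI hKn : K.Normal := Subgroup.normal_iInf_normal fun s => by
    haveI : (Cfsg.pCore (s : ℕ) L).Characteristic := CfsgLib.Cores.pCore_characteristic _
    exact Subgroup.normal_centralizer
  have hcommA : ∀ (s t : ℕ) [Fact s.Prime] [Fact t.Prime], s ≠ t → ∀ x : L,
      (x : G) ∈ nilPart t A → ∀ y ∈ Cfsg.pCore s L, y * x = x * y := by
    intro s t _ _ hst x hx y hy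
    refine Subtype.ext (commute_nilPart S.nilA hst (le_nilPart S.nilA (S.map_pCore_le_left hL hAL)
      ((CfsgLib.Cores.isPGroup_pCore (G := L) s).map L.subtype) (Subgroup.mem_map_of_mem _ hy)) hx)
  have hKB : B ⊓ K.map L.subtype = ⊥ := by
    rw [Subgroup.eq_bot_iff_forall]
    rintro _ ⟨hvB, v, hv, rfl⟩
    show (v : G) = 1
    have hvK : ∀ s : ℕ, s.Prime → s ≠ p → ∀ y ∈ Cfsg.pCore s L, y * v = v * y := fun s hs hsp y hy =>
      Subgroup.mem_centralizer_iff.1 ((Subgroup.mem_iInf.1 hv) ⟨s, hs, hsp⟩) y hy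
    rw [← Subgroup.mem_bot, ← S.centralizer_nilPart_inf hrA]
    refine ⟨hvB, Subgroup.mem_centralizer_iff.2 fun a ha => ?_⟩
    set a' : L := ⟨a, hAL (nilPart_le ha)⟩
    set c := v * a' * v⁻¹ * a'⁻¹ with hc
    have hcF : c ∈ F := by
      refine centralizer_pieces_le c fun s hs hsd y hy => ?_
      haveI : Fact s.Prime := ⟨hs⟩
      by_cases hsp : s = p
      · subst hsp
        have hn : (Subgroup.centralizer ((Cfsg.pCore s L : Subgroup L) : Set L)).Normal := by
          haveI : (Cfsg.pCore s L).Characteristic := CfsgLib.Cores.pCore_characteristic _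
          exact Subgroup.normal_centralizer
        have h2 : a' ∈ Subgroup.centralizer ((Cfsg.pCore s L : Subgroup L) : Set L) :=
          Subgroup.mem_centralizer_iff.2 fun w hw => hcommA s r hrp.symm a' ha w hw
        exact Subgroup.mem_centralizer_iff.1 ((Subgroup.centralizer _).mul_mem
          (hn.conj_mem a' h2 v) ((Subgroup.centralizer _).inv_mem h2)) y hy
      · have h1 : v ∈ Subgroup.centralizer ((Cfsg.pCore s L : Subgroup L) : Set L) :=
          Subgroup.mem_centralizer_iff.2 fun w hw => hvK s hs hsp w hw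
        have hn : (Subgroup.centralizer ((Cfsg.pCore s L : Subgroup L) : Set L)).Normal := by
          haveI : (Cfsg.pCore s L).Characteristic := CfsgLib.Cores.pCore_characteristic _
          exact Subgroup.normal_centralizer
        have h2 : c = v * (a' * v⁻¹ * a'⁻¹) := by rw [hc]; group
        rw [h2]
        exact Subgroup.mem_centralizer_iff.1 ((Subgroup.centralizer _).mul_mem h1
          (hn.conj_mem _ ((Subgroup.centralizer _).inv_mem h1) a')) y hy
    have hcA : (c : G) ∈ A := hFA (Subgroup.mem_map_of_mem _ hcF)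
    have hva : (v : G) * a * (v : G)⁻¹ ∈ nilPart r A := by
      have e : (v : G) * a * (v : G)⁻¹ = (c : G) * a := by
        simp [hc, a', mul_assoc]
      obtain ⟨i, hi⟩ := orderOf_mem_nilPart ha
      refine mem_nilPart S.nilA (e ▸ A.mul_mem hcA (nilPart_le ha)) (i := i) ?_
      rw [← hi]
      exact (MulAut.conj (v : G)).orderOf_eq a
    obtain ⟨i, hi⟩ : ∃ i, orderOf (c : G) = r ^ i := orderOf_mem_nilPart (A := A) (by
      rw [show (c : G) = (v : G) * a * (v : G)⁻¹ * a⁻¹ by simp [hc, a']]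
      exact (nilPart r A).mul_mem hva ((nilPart r A).inv_mem ha))
    have hcv : c * v = v * c := hvK r hr hrp c (mem_pCore_of_fitting hcF
      (by rw [← Subgroup.orderOf_coe]; exact hi))
    have hpow : ∀ n : ℕ, v ^ n * a' * (v ^ n)⁻¹ = c ^ n * a' := by
      intro n
      induction n with
      | zero => simp
      | succ n ih =>
        have hcn : v * c ^ n = c ^ n * v := ((show Commute c v from hcv).symm.pow_right n).eq
        calc v ^ (n + 1) * a' * (v ^ (n + 1))⁻¹ = v * (v ^ n * a' * (v ^ n)⁻¹) * v⁻¹ := by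
              rw [pow_succ']; group
          _ = (v * c ^ n) * a' * v⁻¹ := by rw [ih]; group
          _ = c ^ n * (c * a') := by
            rw [hcn, mul_assoc (c ^ n), mul_assoc (c ^ n)]
            congr 1
            rw [hc]; group
          _ = c ^ (n + 1) * a' := by rw [pow_succ, mul_assoc (c ^ n) c a']
    have h1 := hpow (orderOf v)
    rw [pow_orderOf_eq_one, one_mul, inv_one, mul_one, right_eq_mul] at h1
    have hc1 : c = 1 := by
      rw [← orderOf_eq_one_iff]
      refine Nat.eq_one_of_dvd_coprimes (?_ : (r ^ i).Coprime (orderOf v)) ?_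
        (orderOf_dvd_of_pow_eq_one h1)
      · refine (S.cop.coprime_dvd_left hrA).pow_left i |>.coprime_dvd_right ?_
        rw [← Subgroup.orderOf_coe]
        exact (Subgroup.orderOf_coe (⟨(v : G), hvB⟩ : B)).symm ▸
          orderOf_dvd_natCard (⟨(v : G), hvB⟩ : B)
      · rw [← hi, Subgroup.orderOf_coe]
    rw [hc, mul_inv_eq_one, mul_inv_eq_iff_eq_mul] at hc1
    exact (congrArg Subtype.val hc1).symm
  -- hence this centraliser lies in `A`, so is nilpotent
  set KG := K.map L.subtype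
  have hKL : L ≤ Subgroup.normalizer (KG : Set G) := by
    refine (Subgroup.normal_subgroupOf_iff_le_normalizer (Subgroup.map_subtype_le _)).1 ?_
    rw [Subgroup.subgroupOf, Subgroup.comap_map_eq_self_of_injective L.subtype_injective]
    infer_instance
  have hKA : KG ≤ A := by
    refine le_of_coprime_of_normalizes (L := L) (b := Nat.card B) hAL (Subgroup.map_subtype_le _)
      (S.card_eq ▸ L.card_subgroup_dvd_card) ?_ S.cop (Or.inr (hAL.trans hKL))
    refine Nat.coprime_of_dvd fun s hs hd hdB => ?_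
    haveI : Fact s.Prime := ⟨hs⟩
    obtain ⟨x, hx⟩ := exists_prime_orderOf_dvd_card' (G := KG) s hd
    have hxG : orderOf (x : G) = s := (Subgroup.orderOf_coe x).trans hx
    obtain ⟨g, hg⟩ := nilpotent_hall_dominates S.nilB S.symm.hall (K := Subgroup.zpowers (x : G))
      fun t ht htd => by
        rw [Nat.card_zpowers, hxG] at htd
        rwa [(Nat.prime_dvd_prime_iff_eq ht hs).1 htd]
    obtain ⟨a, ha, β, hβ, rfl⟩ := S.fact g
    have h1 := mem_conj_smul_iff.1 (hg (Subgroup.mem_zpowers (x : G)))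
    have h2 : a⁻¹ * (x : G) * a ∈ B ⊓ KG := by
      refine ⟨?_, ?_⟩
      · have := B.mul_mem (B.mul_mem hβ h1) (B.inv_mem hβ)
        simpa [mul_assoc] using this
      · simpa using normalizer_conj_mem (hKL (L.inv_mem (hAL ha))) x.2
    rw [hKB, Subgroup.mem_bot] at h2
    have : (x : G) = 1 := by
      calc (x : G) = a * (a⁻¹ * x * a) * a⁻¹ := by group
        _ = 1 := by rw [h2]; group
    rw [this, orderOf_one] at hxG
    exact hs.one_lt.ne hxG
  have hKF : K ≤ F := CfsgLib.Cores.le_fittingSubgroup (by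
    haveI : Group.IsNilpotent KG := isNilpotent_le S.nilA hKA
    exact Group.nilpotent_of_mulEquiv (K.equivMapOfInjective _ L.subtype_injective).symm)
  intro x hx
  refine ⟨⟨x, hAL (nilPart_le hx)⟩, hKF (Subgroup.mem_iInf.2 fun s => ?_), rfl⟩
  haveI : Fact (s : ℕ).Prime := ⟨s.2.1⟩
  exact Subgroup.mem_centralizer_iff.2 fun y hy => hcommA s p s.2.2 _ hx y hy

theorem normalizer_ne_top (S : Setup A B) : Subgroup.normalizer (A : Set G) ≠ ⊤ := fun e => by
  have hA : A = ⊥ := S.eq_bot_of_normal (Subgroup.normalizer_eq_top_iff.1 e) S.ne_top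
  obtain ⟨r, hr, -, hd⟩ := S.exists_ne_prime 2 Nat.prime_two
  rw [hA, Subgroup.card_bot] at hd
  exact hr.not_dvd_one hd

theorem le_left_of_le_normalizer (S : Setup A B) {X : Subgroup G}
    (hX : X ≤ Subgroup.normalizer (A : Set G)) (hcop : (Nat.card X).Coprime (Nat.card B)) : X ≤ A :=
  le_of_coprime_of_normalizes (L := A ⊔ X) le_sup_left le_sup_right
    (S.card_eq ▸ Subgroup.card_subgroup_dvd_card _) hcop S.cop (Or.inl hX)

/-- An element whose centraliser normalises `A` is fused inside the normaliser. -/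
theorem mem_normalizer_of_conj (S : Setup A B) {x g : G} {p : ℕ} [hp : Fact p.Prime]
    (hxo : orderOf x = p) (hx : x ∈ A) (hgx : g * x * g⁻¹ ∈ A)
    (hC : Subgroup.centralizer ({x} : Set G) ≤ Subgroup.normalizer (A : Set G)) :
    g ∈ Subgroup.normalizer (A : Set G) := by
  obtain ⟨r, hr, hrp, hrA⟩ := S.exists_ne_prime p hp.out
  haveI : Fact r.Prime := ⟨hr⟩
  have hg : g * x * g⁻¹ ∈ nilPart p A := mem_nilPart S.nilA hgx (i := 1) (by
    rw [pow_one, ← hxo]; exact (MulAut.conj g).orderOf_eq x)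
  have hle : MulAut.conj g⁻¹ • nilPart r A ≤ A := by
    refine S.le_left_of_le_normalizer (fun y hy => hC ?_) ?_
    · have h2 := commute_nilPart S.nilA hrp (mem_conj_smul_iff.1 hy) hg
      rw [inv_inv] at h2
      refine Subgroup.mem_centralizer_iff.2 fun w hw => ?_
      obtain rfl := Set.mem_singleton_iff.1 hw
      calc w * y = g⁻¹ * ((g * w * g⁻¹) * (g * y * g⁻¹)) * g := by group
        _ = g⁻¹ * ((g * y * g⁻¹) * (g * w * g⁻¹)) * g := by rw [h2]
        _ = y * w := by group
    · rw [card_conj_smul, card_nilPart S.nilA]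
      exact (S.cop.coprime_dvd_left hrA).pow_left _
  have e : MulAut.conj g⁻¹ • nilPart r A = nilPart r A := conj_smul_eq_of_le
    (le_nilPart S.nilA hle (by rw [conj_smul_eq_map]; exact isPGroup_nilPart.map _)) le_rfl
  have hNt : Subgroup.normalizer (nilPart r A : Set G) ≠ ⊤ := fun e' =>
    nilPart_ne_bot S.nilA hrA (S.eq_bot_of_normal (Subgroup.normalizer_eq_top_iff.1 e')
      fun e'' => S.ne_top (top_le_iff.1 (e'' ▸ nilPart_le)))
  have := S.le_normalizer_of_ge hNt
    ((Subgroup.le_normalizer : A ≤ _).trans (normalizer_le_normalizer_nilPart r A))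
    (mem_normalizer_iff_conj_smul.2 e)
  simpa using (Subgroup.normalizer (A : Set G)).inv_mem this

theorem le_centralizer_singleton {z : G} (hc : ∀ x ∈ A, x * z = z * x) :
    A ≤ Subgroup.centralizer ({z} : Set G) := fun x hx =>
  Subgroup.mem_centralizer_iff.2 fun w hw => by
    obtain rfl := Set.mem_singleton_iff.1 hw; exact (hc x hx).symm

/-- Central elements are fused inside the normaliser. -/
theorem mem_normalizer_of_central (S : Setup A B) {z g : G} {p : ℕ} [hp : Fact p.Prime]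
    (hzo : orderOf z = p) (hz : z ∈ A) (hc : ∀ x ∈ A, x * z = z * x) (hgz : g * z * g⁻¹ ∈ A) :
    g ∈ Subgroup.normalizer (A : Set G) :=
  S.mem_normalizer_of_conj hzo hz hgz (S.le_normalizer_of_ge
    (S.centralizer_ne_top fun e => hp.out.one_lt.ne (by rw [← hzo, e, orderOf_one]))
    (le_centralizer_singleton hc))

/-- A central element of `A` normalises no nontrivial subgroup of `B`. -/
theorem eq_bot_of_invariant (S : Setup A B) {z : G} {p : ℕ} [hp : Fact p.Prime] (hzo : orderOf z = p)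
    (hz : z ∈ A) (hc : ∀ x ∈ A, x * z = z * x) {W₀ : Subgroup G} (hW₀B : W₀ ≤ B)
    (hW₀ : z ∈ Subgroup.normalizer (W₀ : Set G)) : W₀ = ⊥ := by
  have hz1 : z ≠ 1 := fun e => hp.out.one_lt.ne (by rw [← hzo, e, orderOf_one])
  set E := sSup {W : Subgroup G | W ≤ B ∧ z ∈ Subgroup.normalizer (W : Set G)} with hE
  have hW₀E : W₀ ≤ E := le_sSup ⟨hW₀B, hW₀⟩
  by_contra hne
  have hEB : E ≤ B := sSup_le fun W hW => hW.1
  have hzE : z ∈ Subgroup.normalizer (E : Set G) := by
    refine mem_normalizer_iff_conj_smul.2 (conj_smul_eq_of_le ?_ le_rfl)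
    rw [conj_smul_eq_map, Subgroup.map_le_iff_le_comap]
    refine sSup_le fun W hW => Subgroup.map_le_iff_le_comap.1 ?_
    rw [← conj_smul_eq_map, conj_smul_self_of_mem_normalizer hW.2]
    exact le_sSup hW
  have hEn : Group.IsNilpotent E := isNilpotent_le S.nilB hEB
  have hEb : E ≠ ⊥ := fun e => hne (eq_bot_mono hW₀E e)
  obtain ⟨q, hq, hqE⟩ := Nat.exists_prime_and_dvd fun h => hEb (Subgroup.card_eq_one.1 h)
  haveI : Fact q.Prime := ⟨hq⟩
  set Eq := nilPart q E
  have hzEq : z ∈ Subgroup.normalizer (Eq : Set G) := normalizer_le_normalizer_nilPart q E hzE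
  have hEqb : Eq ≠ ⊥ := nilPart_ne_bot hEn hqE
  have hqB : q ∣ Nat.card B := hqE.trans (Subgroup.card_dvd_of_le hEB)
  set H := Subgroup.normalizer (Eq : Set G)
  have hHt : H ≠ ⊤ := fun e => hEqb (S.eq_bot_of_normal (Subgroup.normalizer_eq_top_iff.1 e)
    fun e' => S.symm.ne_top (top_le_iff.1 (e' ▸ nilPart_le.trans hEB)))
  have hfac : HasFactor A B H := by
    intro g hg
    obtain ⟨a, ha, b, hb, rfl⟩ := S.fact g
    have hg' : MulAut.conj a • MulAut.conj b • Eq = Eq := by
      rw [conj_smul_conj_smul]; exact conj_smul_self_of_mem_normalizer hg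
    have h1 : MulAut.conj b • Eq = MulAut.conj a⁻¹ • Eq := by
      conv_rhs => rw [← hg']
      rw [conj_smul_conj_smul a⁻¹ a, inv_mul_cancel, map_one, one_smul]
    have hbH : b ∈ H := by
      refine mem_normalizer_iff_conj_smul.2 (conj_smul_eq_of_le (le_nilPart hEn (le_sSup ⟨?_, ?_⟩) ?_)
        le_rfl)
      · exact (conj_smul_mono b (nilPart_le.trans hEB)).trans
          (conj_smul_self_of_mem_normalizer (Subgroup.le_normalizer hb)).le
      · rw [h1, mem_normalizer_iff_conj_smul, conj_smul_conj_smul,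
          show z * a⁻¹ = a⁻¹ * z from (hc _ (A.inv_mem ha)).symm, ← conj_smul_conj_smul,
          conj_smul_self_of_mem_normalizer hzEq]
      · rw [conj_smul_eq_map]; exact isPGroup_nilPart.map _
    refine ⟨a, ha, ?_, b, hb, hbH, rfl⟩
    simpa using H.mul_mem hg (H.inv_mem hbH)
  haveI := S.solv H hHt hfac
  have hother : ∀ t : ℕ, t.Prime → t ≠ q → nilPart t B ≤ H := fun t ht htq x hx =>
    Subgroup.centralizer_le_normalizer _ (Subgroup.mem_centralizer_iff.2 fun w hw => by
      haveI : Fact t.Prime := ⟨ht⟩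
      exact commute_nilPart S.nilB htq.symm
        (le_nilPart S.nilB (nilPart_le.trans hEB) isPGroup_nilPart hw) hx)
  -- central elements of `B` in `E` do not exist
  have hEc : ∀ y : G, y ∈ E → ∀ s : ℕ, s.Prime → orderOf y = s → (∀ x ∈ B, x * y = y * x) → False := by
    intro y hy s hs hyo hyc
    haveI : Fact s.Prime := ⟨hs⟩
    have hzy : z * y * z⁻¹ ∈ B := hEB (normalizer_conj_mem hzE hy)
    refine hz1 (S.symm.eq_one_of_central_mem S.symm.normalizer_ne_top Subgroup.le_normalizer hc ?_)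
    exact S.symm.mem_normalizer_of_central hyo (hEB hy) hyc hzy
  have hchar : ∀ s : ℕ, H ≤ Subgroup.normalizer ((Cfsg.pCore s H).map H.subtype : Set G) := by
    intro s
    haveI : (Cfsg.pCore s H).Characteristic := CfsgLib.Cores.pCore_characteristic s
    refine (Subgroup.normal_subgroupOf_iff_le_normalizer (Subgroup.map_subtype_le _)).1 ?_
    rw [Subgroup.subgroupOf, Subgroup.comap_map_eq_self_of_injective H.subtype_injective]
    infer_instance
  have hzH : z ∈ H := hzEq
  -- the components of the Fitting subgroup of `H`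
  have hcoreB : ∀ s : ℕ, s.Prime → s ∣ Nat.card B → (Cfsg.pCore s H).map H.subtype ≤ E := by
    intro s hs hsB
    haveI : Fact s.Prime := ⟨hs⟩
    obtain ⟨i, hi⟩ := (IsPGroup.iff_card (p := s)).1
      ((CfsgLib.Cores.isPGroup_pCore (G := H) s).map H.subtype)
    exact le_sSup ⟨S.le_right_of_normalized hfac (Subgroup.map_subtype_le _) (hchar s)
      (by rw [hi]; exact (S.cop.symm.coprime_dvd_left hsB).pow_left i), hchar s hzH⟩
  have hcoreA : ∀ s : ℕ, s.Prime → ¬ s ∣ Nat.card B → (Cfsg.pCore s H).map H.subtype ≤ A := by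
    intro s hs hsB
    haveI : Fact s.Prime := ⟨hs⟩
    obtain ⟨i, hi⟩ := (IsPGroup.iff_card (p := s)).1
      ((CfsgLib.Cores.isPGroup_pCore (G := H) s).map H.subtype)
    exact S.symm.le_right_of_normalized (fun h hh => by
      obtain ⟨a, ha, haH, b, hb, hbH, e⟩ := hfac h⁻¹ (inv_mem hh)
      exact ⟨b⁻¹, inv_mem hb, inv_mem hbH, a⁻¹, inv_mem ha, inv_mem haH,
        by rw [← mul_inv_rev, ← e, inv_inv]⟩) (Subgroup.map_subtype_le _) (hchar s)
      (by rw [hi]; exact (hs.coprime_iff_not_dvd.2 hsB).pow_left i)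
  have hbot : ∀ s : ℕ, s.Prime → s ∣ Nat.card B → s ≠ q → Cfsg.pCore s H = ⊥ := by
    intro s hs hsB hsq
    haveI : Fact s.Prime := ⟨hs⟩
    by_contra h
    obtain ⟨y, hy, hyo, hyc⟩ := exists_central_orderOf_eq S.nilB
      (le_nilPart S.nilB ((hcoreB s hs hsB).trans hEB)
        ((CfsgLib.Cores.isPGroup_pCore (G := H) s).map H.subtype))
      ((hother s hs hsq).trans (hchar s))
      ((Subgroup.map_eq_bot_iff_of_injective _ H.subtype_injective).not.2 h)
    exact hEc y (hcoreB s hs hsB hy) s hs hyo hyc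
  obtain ⟨t, ht, htq, htB⟩ := S.symm.exists_ne_prime q hq
  haveI : Fact t.Prime := ⟨ht⟩
  obtain ⟨b, hbB, hbo, hbc⟩ := exists_central_of_prime_dvd S.nilB htB
  have hbH : b ∈ H := Subgroup.centralizer_le_normalizer _ (Subgroup.mem_centralizer_iff.2 fun w hw =>
    hbc w (hEB (nilPart_le hw)))
  set bH : H := ⟨b, hbH⟩
  set zH : H := ⟨z, hzH⟩
  set c := bH * zH * bH⁻¹ * zH⁻¹ with hcdef
  have hpc : ∀ s : ℕ, (Subgroup.centralizer ((Cfsg.pCore s H : Subgroup H) : Set H)).Normal := by
    intro s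
    haveI : (Cfsg.pCore s H).Characteristic := CfsgLib.Cores.pCore_characteristic s
    exact Subgroup.normal_centralizer
  have hcF : c ∈ Cfsg.fittingSubgroup H := by
    refine centralizer_pieces_le c fun s hs _ y hy => ?_
    by_cases hsB : s ∣ Nat.card B
    · by_cases hsq : s = q
      · have h1 : bH ∈ Subgroup.centralizer ((Cfsg.pCore s H : Subgroup H) : Set H) :=
          Subgroup.mem_centralizer_iff.2 fun w hw => Subtype.ext
            (hbc w (hEB (hcoreB s hs hsB (Subgroup.mem_map_of_mem H.subtype hw))))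
        rw [show c = bH * (zH * bH⁻¹ * zH⁻¹) by rw [hcdef]; group]
        exact Subgroup.mem_centralizer_iff.1 ((Subgroup.centralizer _).mul_mem h1
          ((hpc s).conj_mem _ ((Subgroup.centralizer _).inv_mem h1) zH)) y hy
      · rw [hbot s hs hsB hsq, Subgroup.mem_bot] at hy
        rw [hy, one_mul, mul_one]
    · have h1 : zH ∈ Subgroup.centralizer ((Cfsg.pCore s H : Subgroup H) : Set H) :=
        Subgroup.mem_centralizer_iff.2 fun w hw => Subtype.ext
          (hc w (hcoreA s hs hsB (Subgroup.mem_map_of_mem H.subtype hw)))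
      exact Subgroup.mem_centralizer_iff.1 ((Subgroup.centralizer _).mul_mem
        ((hpc s).conj_mem zH h1 bH) ((Subgroup.centralizer _).inv_mem h1)) y hy
  -- split off the component of `c` in `O_q`
  set W := Cfsg.pCore q H
  let U : Subgroup H := ⨆ s : {s : ℕ // s.Prime ∧ ¬ s ∣ Nat.card B}, Cfsg.pCore (s : ℕ) H
  haveI hWn : W.Normal := by
    haveI : W.Characteristic := CfsgLib.Cores.pCore_characteristic q
    infer_instance
  haveI hUn : U.Normal := by
    haveI : ∀ s : {s : ℕ // s.Prime ∧ ¬ s ∣ Nat.card B}, (Cfsg.pCore (s : ℕ) H).Normal := fun s => by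
      haveI : (Cfsg.pCore (s : ℕ) H).Characteristic := CfsgLib.Cores.pCore_characteristic _
      infer_instance
    exact Subgroup.iSup_normal _
  have hUA : U.map H.subtype ≤ A := by
    rw [Subgroup.map_le_iff_le_comap]
    exact iSup_le fun s => Subgroup.map_le_iff_le_comap.1 (hcoreA s s.2.1 s.2.2)
  have hFle : Cfsg.fittingSubgroup H ≤ U ⊔ W := by
    refine CfsgLib.Cores.fittingSubgroup_le_iSup_pCore.trans (iSup_le fun s => ?_)
    have hs := Nat.prime_of_mem_primeFactors s.2
    by_cases hsB : (s : ℕ) ∣ Nat.card B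
    · by_cases hsq : (s : ℕ) = q
      · rw [hsq]; exact le_sup_right
      · rw [hbot s hs hsB hsq]; exact bot_le
    · exact le_sup_of_le_left (le_iSup (fun s : {s : ℕ // s.Prime ∧ ¬ s ∣ Nat.card B} =>
        Cfsg.pCore (s : ℕ) H) ⟨s, hs, hsB⟩)
  obtain ⟨u, hu, w, hw, hcuw⟩ := exists_mul_of_mem_sup (Subgroup.normalizer_eq_top U ▸ le_top)
    (hFle hcF)
  have huA : ∀ x ∈ U, (x : G) ∈ A := fun x hx => hUA (Subgroup.mem_map_of_mem H.subtype hx)
  have hwB : ∀ x ∈ W, (x : G) ∈ B := fun x hx => hEB (hcoreB q hq hqB (Subgroup.mem_map_of_mem H.subtype hx))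
  have hUW : U ⊓ W = ⊥ := (Subgroup.eq_bot_iff_forall _).2 fun x hx => Subtype.ext (by
    rw [Subgroup.coe_one, ← Subgroup.mem_bot, ← S.inf_eq_bot]
    exact ⟨huA x hx.1, hwB x hx.2⟩)
  have huw : ∀ x ∈ U, ∀ n : ℕ, x * w ^ n = w ^ n * x := fun x hx n =>
    Subgroup.commute_of_normal_of_disjoint U W hUn hWn (disjoint_iff.2 hUW) x _ hx (W.pow_mem hw n)
  have hbw : bH * w = w * bH := Subtype.ext (hbc w (hwB w hw)).symm
  have hiter : ∀ n : ℕ, ∃ v ∈ U, bH ^ n * zH * (bH ^ n)⁻¹ = v * w ^ n * zH := by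
    intro n
    induction n with
    | zero => exact ⟨1, one_mem _, by simp⟩
    | succ n ih =>
      obtain ⟨v, hv, e⟩ := ih
      refine ⟨(bH * v * bH⁻¹) * u, U.mul_mem (hUn.conj_mem v hv bH) hu, ?_⟩
      have hbwn : bH * w ^ n * bH⁻¹ = w ^ n := by
        rw [((show Commute bH w from hbw).pow_right n).eq, mul_inv_cancel_right]
      calc bH ^ (n + 1) * zH * (bH ^ (n + 1))⁻¹ = bH * (bH ^ n * zH * (bH ^ n)⁻¹) * bH⁻¹ := by
            rw [pow_succ']; group
        _ = (bH * v * bH⁻¹) * (bH * w ^ n * bH⁻¹) * (c * zH) := by rw [e, hcdef]; group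
        _ = (bH * v * bH⁻¹) * (w ^ n * u) * (w * zH) := by rw [hbwn, hcuw]; group
        _ = (bH * v * bH⁻¹) * u * w ^ (n + 1) * zH := by rw [← huw u hu n, pow_succ]; group
  obtain ⟨v, hv, e⟩ := hiter t
  have hbt : bH ^ t = 1 := Subtype.ext (by rw [Subgroup.coe_pow, ← hbo]; exact pow_orderOf_eq_one b)
  rw [hbt, one_mul, inv_one, mul_one, right_eq_mul] at e
  have hwt : w ^ t = 1 := by
    rw [← Subgroup.mem_bot, ← hUW]
    refine ⟨?_, W.pow_mem hw t⟩
    rw [show w ^ t = v⁻¹ from eq_inv_of_mul_eq_one_right e]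
    exact U.inv_mem hv
  have hw1 : w = 1 := by
    obtain ⟨i, hi⟩ := IsPGroup.iff_orderOf.1 (CfsgLib.Cores.isPGroup_pCore (G := H) q) ⟨w, hw⟩
    rw [← orderOf_eq_one_iff]
    refine Nat.eq_one_of_dvd_coprimes (((Nat.coprime_primes hq ht).2 htq.symm).pow_left i) ?_
      (orderOf_dvd_of_pow_eq_one hwt)
    rw [← hi]; exact (Subgroup.orderOf_coe (⟨w, hw⟩ : Cfsg.pCore q H)).dvd
  rw [hw1, mul_one] at hcuw
  have hbz : b * z * b⁻¹ ∈ A := by
    have h1 : b * z * b⁻¹ = (c : G) * z := by simp [hcdef, bH, zH, mul_assoc]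
    rw [h1, hcuw]
    exact A.mul_mem (huA u hu) hz
  refine ht.one_lt.ne' ?_
  rw [← hbo, S.eq_one_of_central_mem S.normalizer_ne_top Subgroup.le_normalizer hbc
    (S.mem_normalizer_of_central hzo hz hc hbz), orderOf_one]

/-- A central element of `A` normalises no nontrivial subgroup of order prime to that of `A`. -/
theorem eq_bot_of_invariant' (S : Setup A B) {z : G} {p : ℕ} [hp : Fact p.Prime]
    (hzo : orderOf z = p) (hz : z ∈ A) (hc : ∀ x ∈ A, x * z = z * x) {W : Subgroup G}
    (hW : z ∈ Subgroup.normalizer (W : Set G)) (hcop : (Nat.card W).Coprime (Nat.card A)) : W = ⊥ := by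
  obtain ⟨g, hg⟩ := nilpotent_hall_dominates S.nilB S.symm.hall (K := W) fun r hr hd => by
    rcases (Nat.Prime.dvd_mul hr).1 (S.card_eq ▸ hd.trans W.card_subgroup_dvd_card) with h | h
    · exact absurd (hcop ▸ Nat.dvd_gcd hd h) hr.not_dvd_one
    · exact h
  obtain ⟨a, ha, β, hβ, rfl⟩ := S.fact g
  rw [← conj_smul_conj_smul, conj_smul_self_of_mem_normalizer (Subgroup.le_normalizer hβ)] at hg
  have h1 : MulAut.conj a⁻¹ • W = ⊥ := by
    refine S.eq_bot_of_invariant hzo hz hc ?_ ?_
    · refine (conj_smul_mono a⁻¹ hg).trans ?_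
      rw [conj_smul_conj_smul, inv_mul_cancel, map_one, one_smul]
    · rw [mem_normalizer_iff_conj_smul, conj_smul_conj_smul,
        show z * a⁻¹ = a⁻¹ * z from (hc _ (A.inv_mem ha)).symm, ← conj_smul_conj_smul,
        conj_smul_self_of_mem_normalizer hW]
  rw [← Subgroup.card_eq_one, ← card_conj_smul a⁻¹ W, Subgroup.card_eq_one.2 h1]

theorem centralizer_le_of_mem_normalizer (S : Setup A B) {x : G} {s : ℕ} [hs : Fact s.Prime]
    (hxo : orderOf x = s) (hx : x ∈ A) (hxB : x ∈ Subgroup.normalizer (B : Set G)) :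
    Subgroup.centralizer ({x} : Set G) ≤ Subgroup.normalizer (A : Set G) := by
  set H := Subgroup.centralizer ({x} : Set G)
  have hHt : H ≠ ⊤ := S.centralizer_ne_top fun e => hs.out.one_lt.ne (by rw [← hxo, e, orderOf_one])
  have hfac : HasFactor A B H := by
    intro g hg
    obtain ⟨a, ha, b, hb, rfl⟩ := S.fact g
    have hgx : x * (a * b) = a * b * x := Subgroup.mem_centralizer_iff.1 hg x rfl
    have hmem : b * x * b⁻¹ * x⁻¹ ∈ A ⊓ B := by
      refine ⟨?_, ?_⟩
      · have e : b * x * b⁻¹ = a⁻¹ * x * a := by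
          calc b * x * b⁻¹ = a⁻¹ * (a * b * x) * b⁻¹ := by group
            _ = a⁻¹ * x * a := by rw [← hgx]; group
        rw [e]
        exact A.mul_mem (A.mul_mem (A.mul_mem (A.inv_mem ha) hx) ha) (A.inv_mem hx)
      · rw [mul_assoc, mul_assoc, ← mul_assoc x]
        exact B.mul_mem hb (normalizer_conj_mem hxB (B.inv_mem hb))
    rw [S.inf_eq_bot, Subgroup.mem_bot, mul_inv_eq_one, mul_inv_eq_iff_eq_mul] at hmem
    have hbH : b ∈ H := Subgroup.mem_centralizer_iff.2 fun w hw => by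
      obtain rfl := Set.mem_singleton_iff.1 hw; exact hmem.symm
    refine ⟨a, ha, ?_, b, hb, hbH, rfl⟩
    simpa using H.mul_mem hg (H.inv_mem hbH)
  haveI := S.solv H hHt hfac
  obtain ⟨r, hr, -, hrA⟩ := S.exists_ne_prime s hs.out
  haveI : Fact r.Prime := ⟨hr⟩
  obtain ⟨z, hz, hzo, hzc⟩ := exists_central_of_prime_dvd S.nilA hrA
  have hzH : z ∈ H := Subgroup.mem_centralizer_iff.2 fun w hw => by
    obtain rfl := Set.mem_singleton_iff.1 hw; exact hzc _ hx
  have hchar : ∀ t : ℕ, H ≤ Subgroup.normalizer ((Cfsg.pCore t H).map H.subtype : Set G) := by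
    intro t
    haveI : (Cfsg.pCore t H).Characteristic := CfsgLib.Cores.pCore_characteristic t
    refine (Subgroup.normal_subgroupOf_iff_le_normalizer (Subgroup.map_subtype_le _)).1 ?_
    rw [Subgroup.subgroupOf, Subgroup.comap_map_eq_self_of_injective H.subtype_injective]
    infer_instance
  have hfac' : HasFactor B A H := fun h hh => by
    obtain ⟨a, ha, haH, b, hb, hbH, e⟩ := hfac h⁻¹ (inv_mem hh)
    exact ⟨b⁻¹, inv_mem hb, inv_mem hbH, a⁻¹, inv_mem ha, inv_mem haH,
      by rw [← mul_inv_rev, ← e, inv_inv]⟩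
  have hFA : (Cfsg.fittingSubgroup H).map H.subtype ≤ A := by
    rw [Subgroup.map_le_iff_le_comap]
    refine CfsgLib.Cores.fittingSubgroup_le_iSup_pCore.trans (iSup_le fun t => ?_)
    rw [← Subgroup.map_le_iff_le_comap]
    have ht := Nat.prime_of_mem_primeFactors t.2
    haveI : Fact (t : ℕ).Prime := ⟨ht⟩
    obtain ⟨i, hi⟩ := (IsPGroup.iff_card (p := (t : ℕ))).1
      ((CfsgLib.Cores.isPGroup_pCore (G := H) (t : ℕ)).map H.subtype)
    by_cases htB : (t : ℕ) ∣ Nat.card B
    · rw [S.eq_bot_of_invariant' hzo hz hzc (hchar t hzH)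
        (by rw [hi]; exact (S.cop.symm.coprime_dvd_left htB).pow_left i)]
      exact bot_le
    · exact S.symm.le_right_of_normalized hfac' (Subgroup.map_subtype_le _) (hchar t)
        (by rw [hi]; exact (ht.coprime_iff_not_dvd.2 htB).pow_left i)
  set zH : H := ⟨z, hzH⟩
  have hzF : zH ∈ Cfsg.fittingSubgroup H := centralizer_fittingSubgroup_le
    (Subgroup.mem_centralizer_iff.2 fun y hy =>
      Subtype.ext (hzc y (hFA (Subgroup.mem_map_of_mem H.subtype hy))))
  intro g hg
  obtain ⟨a, ha, -, b, hb, hbH, rfl⟩ := hfac g hg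
  refine (Subgroup.normalizer (A : Set G)).mul_mem (Subgroup.le_normalizer ha)
    (S.mem_normalizer_of_central hzo hz hzc ?_)
  haveI : (Cfsg.fittingSubgroup H).Normal := CfsgLib.Cores.fittingSubgroup_normal
  exact hFA (Subgroup.mem_map_of_mem H.subtype
    ((inferInstance : (Cfsg.fittingSubgroup H).Normal).conj_mem zH hzF ⟨b, hbH⟩))

theorem centralizer_le (S : Setup A B) {x : G} {p : ℕ} [hp : Fact p.Prime]
    (hxo : orderOf x = p) (hx : x ∈ A) :
    Subgroup.centralizer ({x} : Set G) ≤ Subgroup.normalizer (A : Set G) := by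
  set L := Subgroup.centralizer ({x} : Set G)
  set M := Subgroup.normalizer (A : Set G)
  by_cases hcop : (Nat.card (L ⊓ M : Subgroup G)).Coprime (Nat.card B)
  swap
  · obtain ⟨q, hq, hqLM, hqB⟩ := Nat.Prime.not_coprime_iff_dvd.1 hcop
    haveI : Fact q.Prime := ⟨hq⟩
    obtain ⟨w, hw⟩ := exists_prime_orderOf_dvd_card' (G := (L ⊓ M : Subgroup G)) q hqLM
    have hwo : orderOf (w : G) = q := (Subgroup.orderOf_coe w).trans hw
    obtain ⟨g, hg⟩ := nilpotent_hall_dominates S.nilB S.symm.hall (K := Subgroup.zpowers (w : G))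
      fun r hr hrd => by
        rw [Nat.card_zpowers, hwo] at hrd
        rwa [(Nat.prime_dvd_prime_iff_eq hr hq).1 hrd]
    obtain ⟨a, ha, β, hβ, rfl⟩ := S.fact g
    have h1 := mem_conj_smul_iff.1 (hg (Subgroup.mem_zpowers (w : G)))
    set v := a⁻¹ * (w : G) * a with hv
    have hvB : v ∈ B := by
      have := B.mul_mem (B.mul_mem hβ h1) (B.inv_mem hβ)
      simpa [v, mul_assoc] using this
    have hvM : v ∈ M := M.mul_mem (M.mul_mem (M.inv_mem (Subgroup.le_normalizer ha)) w.2.2)
      (Subgroup.le_normalizer ha)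
    have hvo : orderOf v = q := by
      rw [← hwo, hv]
      simpa using (MulAut.conj a⁻¹).orderOf_eq (w : G)
    have hx' : a⁻¹ * x * a ∈ A := A.mul_mem (A.mul_mem (A.inv_mem ha) hx) ha
    have hwx : x * (w : G) = (w : G) * x := Subgroup.mem_centralizer_iff.1 w.2.1 x rfl
    have hx'C : a⁻¹ * x * a ∈ Subgroup.centralizer ({v} : Set G) :=
      Subgroup.mem_centralizer_iff.2 fun y hy => by
        obtain rfl := Set.mem_singleton_iff.1 hy
        calc a⁻¹ * (w : G) * a * (a⁻¹ * x * a) = a⁻¹ * ((w : G) * x) * a := by group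
          _ = a⁻¹ * (x * (w : G)) * a := by rw [hwx]
          _ = _ := by rw [hv]; group
    have h2 := S.symm.centralizer_le_of_mem_normalizer hvo hvB hvM hx'C
    have h3 := S.centralizer_le_of_mem_normalizer (x := a⁻¹ * x * a) (s := p)
      (by rw [← hxo]; simpa using (MulAut.conj a⁻¹).orderOf_eq x) hx' h2
    intro y hy
    have hy' : a⁻¹ * y * a ∈ Subgroup.centralizer ({a⁻¹ * x * a} : Set G) :=
      Subgroup.mem_centralizer_iff.2 fun u hu => by
        obtain rfl := Set.mem_singleton_iff.1 hu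
        have hxy : x * y = y * x := Subgroup.mem_centralizer_iff.1 hy x rfl
        calc a⁻¹ * x * a * (a⁻¹ * y * a) = a⁻¹ * (x * y) * a := by group
          _ = a⁻¹ * (y * x) * a := by rw [hxy]
          _ = _ := by group
    have := M.mul_mem (M.mul_mem (Subgroup.le_normalizer ha) (h3 hy'))
      (M.inv_mem (Subgroup.le_normalizer ha))
    simpa [mul_assoc] using this
  -- otherwise `L` meets the normaliser in a subgroup of `A`
  set J := L ⊓ A with hJ
  have hJeq : L ⊓ M = J :=
    le_antisymm (le_inf inf_le_left (S.le_left_of_le_normalizer inf_le_right hcop))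
      (inf_le_inf_left _ Subgroup.le_normalizer)
  have hzJ : ∀ r : ℕ, r.Prime → r ∣ Nat.card A → ∃ z ∈ J, z ∈ A ∧ orderOf z = r ∧
      ∀ y ∈ A, y * z = z * y := by
    intro r hr hrA
    haveI : Fact r.Prime := ⟨hr⟩
    obtain ⟨z, hz, hzo, hzc⟩ := exists_central_of_prime_dvd S.nilA hrA
    refine ⟨z, ⟨Subgroup.mem_centralizer_iff.2 fun w hw => ?_, hz⟩, hz, hzo, hzc⟩
    obtain rfl := Set.mem_singleton_iff.1 hw
    exact hzc _ hx
  have hdvdJ : ∀ r : ℕ, r.Prime → r ∣ Nat.card A → r ∣ Nat.card (J.subgroupOf L) := by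
    intro r hr hrA
    obtain ⟨z, hzJ', -, hzo, -⟩ := hzJ r hr hrA
    rw [Nat.card_congr (Subgroup.subgroupOfEquivOfLe (inf_le_left : J ≤ L)).toEquiv, ← hzo,
      ← show orderOf (⟨z, hzJ'⟩ : J) = orderOf z from (Subgroup.orderOf_coe _).symm]
    exact orderOf_dvd_natCard _
  have hJn : Group.IsNilpotent (J.subgroupOf L) := by
    haveI : Group.IsNilpotent J := isNilpotent_le S.nilA inf_le_right
    exact Group.nilpotent_of_mulEquiv (Subgroup.subgroupOfEquivOfLe inf_le_left).symm
  have hnorm : ∀ s : ℕ, s.Prime → s ∣ Nat.card (J.subgroupOf L) → ∀ P : Sylow s (J.subgroupOf L),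
      Subgroup.normalizer (((P : Subgroup (J.subgroupOf L)).map (J.subgroupOf L).subtype :
        Subgroup L) : Set L) = J.subgroupOf L := by
    intro s hs hsJ P
    haveI : Fact s.Prime := ⟨hs⟩
    have e : (P : Subgroup (J.subgroupOf L)).map (J.subgroupOf L).subtype =
        nilPart s (J.subgroupOf L) := by rw [nilPart, pCore_eq_sylow_of_nilpotent hJn P]
    rw [e]
    refine le_antisymm (fun y hy => ?_)
      (Subgroup.le_normalizer.trans (normalizer_le_normalizer_nilPart s _))
    have hsA : s ∣ Nat.card A := by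
      rw [Nat.card_congr (Subgroup.subgroupOfEquivOfLe (inf_le_left : J ≤ L)).toEquiv] at hsJ
      exact hsJ.trans (Subgroup.card_dvd_of_le inf_le_right)
    obtain ⟨z, hzJ', hzA, hzo, hzc⟩ := hzJ s hs hsA
    have hzL : (⟨z, hzJ'.1⟩ : L) ∈ nilPart s (J.subgroupOf L) := mem_nilPart hJn hzJ' (i := 1)
      (by rw [pow_one, ← hzo, ← Subgroup.orderOf_coe])
    have h4 : (y : G) * z * (y : G)⁻¹ ∈ A :=
      (nilPart_le (normalizer_conj_mem hy hzL) : (y * ⟨z, hzJ'.1⟩ * y⁻¹ : L) ∈ J.subgroupOf L).2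
    show (y : G) ∈ J
    rw [← hJeq]
    exact ⟨y.2, S.mem_normalizer_of_central hzo hzA hzc h4⟩
  have hnot : ∀ s : ℕ, s.Prime → ∀ P : Sylow s L, (P : Subgroup L) ≠ J.subgroupOf L := by
    intro s hs P e
    haveI : Fact s.Prime := ⟨hs⟩
    obtain ⟨r, hr, hrs, hrA⟩ := S.exists_ne_prime s hs
    have h5 := hdvdJ r hr hrA
    rw [← e, P.card_eq_multiplicity] at h5
    exact hrs ((Nat.prime_dvd_prime_iff_eq hr hs).1 (hr.dvd_of_dvd_pow h5))
  obtain ⟨N, hNn, hNc⟩ := exists_normal_complement_of_normalizers (G := L) (J.subgroupOf L) hnot hnorm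
  have hNA : (Nat.card N).Coprime (Nat.card A) := by
    refine Nat.coprime_of_dvd fun s hs hsN hsA => ?_
    haveI : Fact s.Prime := ⟨hs⟩
    obtain ⟨P⟩ := (inferInstance : Nonempty (Sylow s (J.subgroupOf L)))
    set P' := (P : Subgroup (J.subgroupOf L)).map (J.subgroupOf L).subtype
    obtain ⟨R, hR⟩ := (P.2.map (J.subgroupOf L).subtype).exists_le_sylow
    have hsJ := hdvdJ s hs hsA
    have e : P' = (R : Subgroup L) := by
      refine eq_of_self_normalizing R.2.isNilpotent hR ?_
      rw [hnorm s hs hsJ P]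
      have h1 : IsPGroup s ((J.subgroupOf L ⊓ (R : Subgroup L)).subgroupOf (J.subgroupOf L)) :=
        (R.2.to_le inf_le_right : IsPGroup s (J.subgroupOf L ⊓ (R : Subgroup L) : Subgroup L)).of_equiv
          (Subgroup.subgroupOfEquivOfLe inf_le_left).symm
      have h2 := P.3 h1 fun y hy => ⟨y.2, hR (Subgroup.mem_map_of_mem _ hy)⟩
      show _ ≤ P'
      rw [show P' = (P : Subgroup (J.subgroupOf L)).map (J.subgroupOf L).subtype from rfl, ← h2,
        Subgroup.map_subgroupOf_eq_of_le inf_le_left]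
    have hc := hNc.card_mul
    obtain ⟨k, hk⟩ := hsN
    have h6 : Nat.card (R : Subgroup L) ∣ Nat.card (J.subgroupOf L) :=
      Subgroup.card_dvd_of_le (e ▸ Subgroup.map_subtype_le _)
    rw [R.card_eq_multiplicity] at h6
    obtain ⟨m, hm⟩ := h6
    exact Nat.pow_succ_factorization_not_dvd (Nat.card_pos (α := L)).ne' hs
      ⟨k * m, hc.symm.trans (by rw [hk, hm]; ring)⟩
  obtain ⟨z, hzJ', hz, hzo, hzc⟩ := hzJ p hp.out (hxo ▸ (Subgroup.orderOf_coe (⟨x, hx⟩ : A)).symm ▸
    orderOf_dvd_natCard (⟨x, hx⟩ : A))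
  have hNG : N.map L.subtype = ⊥ := by
    refine S.eq_bot_of_invariant' hzo hz hzc ?_ (by rw [Subgroup.card_subtype]; exact hNA)
    refine (Subgroup.normal_subgroupOf_iff_le_normalizer (Subgroup.map_subtype_le _)).1 ?_ hzJ'.1
    rw [Subgroup.subgroupOf, Subgroup.comap_map_eq_self_of_injective L.subtype_injective]
    exact hNn
  rw [Subgroup.map_eq_bot_iff_of_injective _ L.subtype_injective] at hNG
  subst hNG
  have hJtop := hNc.sup_eq_top
  rw [bot_sup_eq, Subgroup.subgroupOf_eq_top] at hJtop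
  exact hJtop.trans (inf_le_right.trans Subgroup.le_normalizer)

theorem card_lt (S : Setup A B) : Nat.card A < Nat.card B := by
  classical
  set M := Subgroup.normalizer (A : Set G)
  have := Fintype.ofFinite (G ⧸ M)
  let T : SubMulAction A (G ⧸ M) :=
    { carrier := {q | q ≠ ((1 : G) : G ⧸ M)}
      smul_mem' := fun a q hq h => hq (by
        rw [← inv_smul_smul a q, h]
        show (((a : G)⁻¹ * 1 : G) : G ⧸ M) = _
        rw [QuotientGroup.eq]
        simpa using (Subgroup.le_normalizer a.2 : (a : G) ∈ M)) }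
  have hfree : ∀ q : T, MulAction.stabilizer A q = ⊥ := by
    rintro ⟨q, hq⟩
    by_contra hne
    obtain ⟨g, rfl⟩ := QuotientGroup.mk_surjective q
    obtain ⟨p, hp, hpd⟩ := Nat.exists_prime_and_dvd fun h => hne (Subgroup.card_eq_one.1 h)
    haveI : Fact p.Prime := ⟨hp⟩
    obtain ⟨y, hy⟩ := exists_prime_orderOf_dvd_card'
      (G := MulAction.stabilizer A (⟨(g : G ⧸ M), hq⟩ : T)) p hpd
    set x : G := ((y : A) : G) with hxdef
    have hxo : orderOf x = p := by rw [hxdef, Subgroup.orderOf_coe, Subgroup.orderOf_coe, hy]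
    have h2 : ((x * g : G) : G ⧸ M) = (g : G ⧸ M) := congrArg Subtype.val y.2
    rw [QuotientGroup.eq] at h2
    have h3 : g⁻¹ * x * g ∈ M := by simpa [mul_assoc] using M.inv_mem h2
    have h4 : g⁻¹ * x * g ∈ A := by
      refine S.le_left_of_le_normalizer (X := Subgroup.zpowers (g⁻¹ * x * g)) (Subgroup.zpowers_le.2 h3)
        ?_ (Subgroup.mem_zpowers _)
      rw [Nat.card_zpowers, show orderOf (g⁻¹ * x * g) = p from by
        rw [← hxo]; simpa using (MulAut.conj g⁻¹).orderOf_eq x]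
      refine S.cop.coprime_dvd_left ?_
      rw [← hxo, hxdef, Subgroup.orderOf_coe]
      exact orderOf_dvd_natCard _
    refine hq (QuotientGroup.eq.2 ?_)
    have := S.mem_normalizer_of_conj (g := g⁻¹) hxo (y : A).2 (by simpa using h4)
      (S.centralizer_le hxo (y : A).2)
    simpa using this
  have h1 : Nat.card A ∣ Nat.card T := by
    rw [Nat.card_congr (MulAction.selfEquivOrbitsQuotientProd hfree), Nat.card_prod]
    exact dvd_mul_left _ _
  have h2 : Nat.card T + 1 = M.index := by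
    show Nat.card {q : G ⧸ M // q ≠ ((1 : G) : G ⧸ M)} + 1 = _
    rw [Nat.card_eq_fintype_card, Fintype.card_subtype_compl, Fintype.card_subtype_eq,
      Subgroup.index, Nat.card_eq_fintype_card]
    have : 0 < Fintype.card (G ⧸ M) := Fintype.card_pos
    omega
  have h3 : M.index ∣ Nat.card B := S.index_eq ▸ Subgroup.index_dvd_of_le Subgroup.le_normalizer
  have h4 : M.index ≠ 1 := fun e => S.normalizer_ne_top (Subgroup.index_eq_one.1 e)
  have h5 := Nat.le_of_dvd Nat.card_pos h3
  have h6 : 0 < M.index := Nat.pos_of_ne_zero Subgroup.index_ne_zero_of_finite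
  have h7 := Nat.le_of_dvd (n := Nat.card T) (by omega) h1
  omega

theorem false' (S : Setup A B) : False := lt_asymm S.card_lt S.symm.card_lt

end Setup

end CoprimeProduct

end CfsgLib.Solvable
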