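import Cfsg.Prelude.Def_Solvable
import Cfsg.Agent.Lib.Solvable.MinimalNormal
import Cfsg.Agent.Lib.Solvable.SchurZassenhaus
import Cfsg.Agent.Lib.Cores.Basic
import Cfsg.Agent.Lib.PGroup.Basic
import Cfsg.Agent.Lib.PGroup.ElemAbelian

/-!
Core-free maximal subgroups and abelian minimal normal subgroups.
-/

set_option autoImplicit false

open scoped Pointwise

namespace CfsgLib.Solvable

variable {G : Type*} [Group G] [Finite G]

/-- An abelian minimal normal subgroup is complemented by a core-free maximal subgroup and is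
self-centralising. -/
theorem complement_of_coreFree {M N : Subgroup G} [hNn : N.Normal] (hM : IsCoatom M)
    (hcore : M.normalCore = ⊥) (hN : N ≠ ⊥)
    (hc : ∀ x ∈ N, ∀ y ∈ N, x * y = y * x) :
    N ⊔ M = ⊤ ∧ N ⊓ M = ⊥ ∧ Subgroup.centralizer (N : Set G) = N ∧
      ∀ K : Subgroup G, K.Normal → K ≤ N → K = ⊥ ∨ K = N := by
  have hnot : ∀ K : Subgroup G, K.Normal → K ≠ ⊥ → K ⊔ M = ⊤ := by
    intro K hKn hK
    refine hM.2 _ (lt_of_le_of_ne le_sup_right fun e => hK (eq_bot_mono ?_ hcore))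
    exact (@Subgroup.normal_le_normalCore _ _ M K hKn).2 (e ▸ le_sup_left)
  have htop := hnot N hNn hN
  have hNM : (N ⊓ M).Normal := Subgroup.normalizer_eq_top_iff.1 (top_le_iff.1 (htop.ge.trans
    (sup_le (fun x hx => mem_normalizer_of_conj_mem fun y hy => by
        rwa [hc x hx y hy.1, mul_inv_cancel_right])
      (le_normalizer_inf (Subgroup.normalizer_eq_top N ▸ le_top) Subgroup.le_normalizer))))
  have hd : N ⊓ M = ⊥ := eq_bot_mono ((@Subgroup.normal_le_normalCore _ _ M _ hNM).2 inf_le_right) hcore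
  refine ⟨htop, hd, le_antisymm (fun g hg => ?_) (fun x hx => Subgroup.mem_centralizer_iff.2
    fun y hy => hc y hy x hx), fun K hKn hKN => ?_⟩
  · have hC : (Subgroup.centralizer (N : Set G) ⊓ M).Normal := Subgroup.normalizer_eq_top_iff.1
      (top_le_iff.1 (htop.ge.trans (sup_le (fun x hx => mem_normalizer_of_conj_mem fun y hy => by
          rwa [Subgroup.mem_centralizer_iff.1 hy.1 x hx, mul_inv_cancel_right])
        (le_normalizer_inf ((Subgroup.normalizer_eq_top N ▸ le_top : M ≤ _).trans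
          (normalizer_le_normalizer_centralizer N)) Subgroup.le_normalizer))))
    have hCb : Subgroup.centralizer (N : Set G) ⊓ M = ⊥ :=
      eq_bot_mono ((@Subgroup.normal_le_normalCore _ _ M _ hC).2 inf_le_right) hcore
    obtain ⟨x, hx, m, hm, rfl⟩ := exists_mul_of_mem_sup (Subgroup.normalizer_eq_top N ▸ le_top)
      (show g ∈ N ⊔ M from htop ▸ Subgroup.mem_top g)
    have hxc : x ∈ Subgroup.centralizer (N : Set G) :=
      Subgroup.mem_centralizer_iff.2 fun y hy => hc y hy x hx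
    have : m ∈ Subgroup.centralizer (N : Set G) ⊓ M := by
      refine ⟨?_, hm⟩
      simpa using mul_mem (inv_mem hxc) hg
    rw [hCb, Subgroup.mem_bot] at this
    rw [this, mul_one]
    exact hx
  · by_cases hK : K = ⊥
    · exact Or.inl hK
    refine Or.inr (le_antisymm hKN fun x hx => ?_)
    obtain ⟨k, hk, m, hm, rfl⟩ := exists_mul_of_mem_sup (A := M) (K := K)
      (@Subgroup.normalizer_eq_top _ _ K hKn ▸ le_top)
      (show x ∈ K ⊔ M from (hnot K hKn hK).symm ▸ Subgroup.mem_top x)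
    have : m ∈ N ⊓ M := ⟨by simpa using mul_mem (inv_mem (hKN hk)) hx, hm⟩
    rw [hd, Subgroup.mem_bot] at this
    rwa [this, mul_one]

theorem pCore_eq_of_coreFree {M N : Subgroup G} [N.Normal] {p : ℕ} [Fact p.Prime] (hM : IsCoatom M)
    (hcore : M.normalCore = ⊥) (hN : N ≠ ⊥) (hc : ∀ x ∈ N, ∀ y ∈ N, x * y = y * x)
    (hNp : IsPGroup p N) : Cfsg.pCore p G = N := by
  obtain ⟨-, -, hCN, hmin⟩ := complement_of_coreFree hM hcore hN hc
  have hNL : N ≤ Cfsg.pCore p G := CfsgLib.Cores.le_pCore hNp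
  haveI : (Cfsg.pCore p G).Normal := by
    haveI : (Cfsg.pCore p G).Characteristic := CfsgLib.Cores.pCore_characteristic p
    infer_instance
  set L := Cfsg.pCore p G with hL
  haveI : (N.subgroupOf L).Normal := Subgroup.Normal.subgroupOf ‹_› _
  have h1 : (N.subgroupOf L) ⊓ Subgroup.center L ≠ ⊥ :=
    CfsgLib.PGroup.inf_center_ne_bot (CfsgLib.Cores.isPGroup_pCore p) _ (by
      rw [Ne, Subgroup.subgroupOf_eq_bot, disjoint_iff, inf_eq_left.2 hNL]; exact hN)
  have h2 : N ⊓ Subgroup.centralizer (L : Set G) = N := by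
    refine (hmin _ inferInstance inf_le_left).resolve_left fun e => h1 ?_
    refine (Subgroup.eq_bot_iff_forall _).2 fun x hx => Subtype.ext ?_
    rw [Subgroup.coe_one, ← Subgroup.mem_bot, ← e]
    exact ⟨hx.1, Subgroup.mem_centralizer_iff.2 fun y hy =>
      congrArg Subtype.val (Subgroup.mem_center_iff.1 hx.2 ⟨y, hy⟩)⟩
  refine le_antisymm ?_ hNL
  refine le_trans ?_ hCN.le
  exact Subgroup.le_centralizer_iff.1 (inf_eq_left.1 h2)

/-- Structure of a group with a core-free maximal subgroup and nontrivial `p`-core. -/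
theorem pCore_coreFree_structure {M : Subgroup G} {p : ℕ} [hp : Fact p.Prime]
    (hL : Cfsg.pCore p G ≠ ⊥) (hM : IsCoatom M) (hcore : M.normalCore = ⊥) :
    Cfsg.IsElementaryAbelian p (Cfsg.pCore p G) ∧ Subgroup.IsComplement' (Cfsg.pCore p G) M ∧
      (∀ K : Subgroup G, K.Normal → K ≤ Cfsg.pCore p G → K = ⊥ ∨ K = Cfsg.pCore p G) ∧
      Subgroup.centralizer ((Cfsg.pCore p G : Subgroup G) : Set G) = Cfsg.pCore p G ∧
      ∀ (q : ℕ) [Fact q.Prime], Cfsg.pCore q ↥M ≠ ⊥ →
        Nat.card (Cfsg.pCore p G) % q = 1 % q ∧ q ≠ p := by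
  haveI : (Cfsg.pCore p G).Normal := by
    haveI : (Cfsg.pCore p G).Characteristic := CfsgLib.Cores.pCore_characteristic p
    infer_instance
  obtain ⟨N, hNn, hN, hNL, hmin⟩ := exists_minimal_normal_le (Cfsg.pCore p G) hL
  haveI := hNn
  have hNp : IsPGroup p N := (CfsgLib.Cores.isPGroup_pCore p).to_le hNL
  haveI := hNp.isNilpotent
  have hc := commute_of_minimal_normal N hN hmin inferInstance
  obtain ⟨r, hr, hrN⟩ := exists_prime_pow_eq_one_of_minimal_normal N hN hmin inferInstance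
  obtain rfl : r = p := by
    haveI : Fact r.Prime := ⟨hr⟩
    by_contra hne
    exact hN (inf_idem N ▸ (IsPGroup.disjoint_of_ne r p hne _ _
      (fun x => ⟨1, by rw [pow_one]; exact Subtype.ext (hrN x x.2)⟩ : IsPGroup r N) hNp).eq_bot)
  obtain ⟨htop, hd, hCN, -⟩ := complement_of_coreFree hM hcore hN hc
  rw [pCore_eq_of_coreFree hM hcore hN hc hNp]
  refine ⟨CfsgLib.PGroup.isElementaryAbelian_mk hc hrN,
    Subgroup.isComplement'_of_card_mul_and_disjoint ?_ (disjoint_iff.2 hd), hmin, hCN, ?_⟩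
  · rw [← card_sup_of_disjoint (Subgroup.normalizer_eq_top N ▸ le_top) hd, htop, Subgroup.card_top]
  intro q _ hqM
  set Q := (Cfsg.pCore q ↥M).map M.subtype with hQ
  have hQp : IsPGroup q Q := (CfsgLib.Cores.isPGroup_pCore q).map _
  have hQM : Q ≤ M := Subgroup.map_subtype_le _
  have hQb : Q ≠ ⊥ := (Subgroup.map_eq_bot_iff_of_injective _ M.subtype_injective).not.2 hqM
  have hMQ : M ≤ Subgroup.normalizer (Q : Set G) := le_normalizer_of_conj_mem fun a ha x hx => by
    obtain ⟨y, hy, rfl⟩ := hx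
    haveI : (Cfsg.pCore q ↥M).Characteristic := CfsgLib.Cores.pCore_characteristic q
    exact ⟨_, (inferInstance : (Cfsg.pCore q ↥M).Normal).conj_mem y hy ⟨a, ha⟩, rfl⟩
  letI : MulAction Q N := MulAction.compHom N ((MulAut.conjNormal (H := N)).comp Q.subtype)
  have hfix : ∀ x : N, x ∈ MulAction.fixedPoints Q N ↔ (x : G) ∈ Subgroup.centralizer (Q : Set G) := by
    intro x
    refine ⟨fun h => Subgroup.mem_centralizer_iff.2 fun y hy => mul_inv_eq_iff_eq_mul.1
      (show y * (x : G) * y⁻¹ = x from congrArg Subtype.val (h ⟨y, hy⟩)), fun h y => Subtype.ext ?_⟩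
    show (y : G) * x * (y : G)⁻¹ = x
    rw [Subgroup.mem_centralizer_iff.1 h y y.2, mul_inv_cancel_right]
  have hC : N ⊓ Subgroup.centralizer (Q : Set G) = ⊥ := by
    have hn : (N ⊓ Subgroup.centralizer (Q : Set G)).Normal :=
      Subgroup.normalizer_eq_top_iff.1 (top_le_iff.1 (htop.ge.trans
        (sup_le (fun x hx => mem_normalizer_of_conj_mem fun y hy => by
            rwa [hc x hx y hy.1, mul_inv_cancel_right])
          (le_normalizer_inf (Subgroup.normalizer_eq_top N ▸ le_top)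
            (hMQ.trans (normalizer_le_normalizer_centralizer Q))))))
    refine (hmin _ hn inf_le_left).resolve_right fun e => hQb ?_
    have : Q ≤ N := hCN ▸ Subgroup.le_centralizer_iff.1 (inf_eq_left.1 e)
    exact eq_bot_mono (le_inf this hQM) hd
  have hcard : Nat.card N % q = 1 % q := by
    have h1 := hQp.card_modEq_card_fixedPoints N
    haveI : Subsingleton (MulAction.fixedPoints Q N) := ⟨fun a b => Subtype.ext (by
      have h2 : ∀ c : MulAction.fixedPoints Q N, (c : N) = 1 := fun c => Subtype.ext (by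
        rw [Subgroup.coe_one, ← Subgroup.mem_bot, ← hC]
        exact ⟨(c : N).2, (hfix c).1 c.2⟩)
      rw [h2 a, h2 b])⟩
    haveI : Nonempty (MulAction.fixedPoints Q N) :=
      ⟨⟨1, fun y => map_one (MulAut.conjNormal (H := N) (y : G))⟩⟩
    rwa [Nat.card_unique (α := MulAction.fixedPoints Q N)] at h1
  refine ⟨hcard, ?_⟩
  rintro rfl
  haveI : Nontrivial N := (Subgroup.nontrivial_iff_ne_bot N).2 hN
  obtain ⟨e, he0, he⟩ := hNp.nontrivial_iff_card.1 inferInstance
  rw [he, Nat.mod_eq_of_lt hp.out.one_lt, Nat.mod_eq_zero_of_dvd (dvd_pow_self _ (by omega))] at hcard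
  exact zero_ne_one hcard

theorem coreFree_maximal_conjugate [Group.IsSolvable G] {U V : Subgroup G} (hU : IsCoatom U)
    (hV : IsCoatom V) (hUc : U.normalCore = ⊥) (hVc : V.normalCore = ⊥) :
    ∃ g : G, MulAut.conj g • U = V := by
  haveI : Nontrivial G := by
    by_contra h
    haveI := not_nontrivial_iff_subsingleton.1 h
    exact hU.1 (Subsingleton.elim _ _)
  obtain ⟨N, hNn, hN, hmin⟩ := exists_minimal_normal (G := G)
  haveI := hNn
  have hc := commute_of_minimal_normal N hN hmin inferInstance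
  obtain ⟨p, hp, hpN⟩ := exists_prime_pow_eq_one_of_minimal_normal N hN hmin inferInstance
  haveI : Fact p.Prime := ⟨hp⟩
  have hNp : IsPGroup p N := fun x => ⟨1, by rw [pow_one]; exact Subtype.ext (hpN x x.2)⟩
  obtain ⟨hUtop, hUd, -, -⟩ := complement_of_coreFree hU hUc hN hc
  obtain ⟨hVtop, hVd, -, -⟩ := complement_of_coreFree hV hVc hN hc
  have hL := pCore_eq_of_coreFree hU hUc hN hc hNp
  by_cases hUb : U = ⊥
  · refine ⟨1, ?_⟩
    rw [hUb, sup_bot_eq] at hUtop
    rw [hUtop, top_inf_eq] at hVd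
    rw [map_one, one_smul, hUb, hVd]
  haveI : Nontrivial U := (Subgroup.nontrivial_iff_ne_bot U).2 hUb
  obtain ⟨Q₀, hQ₀n, hQ₀, hQmin⟩ := exists_minimal_normal (G := U)
  obtain ⟨q, hq, hqQ⟩ := exists_prime_pow_eq_one_of_minimal_normal Q₀ hQ₀ hQmin inferInstance
  haveI : Fact q.Prime := ⟨hq⟩
  set Q := Q₀.map U.subtype with hQ
  have hQ₀p : IsPGroup q Q₀ := fun x => ⟨1, by rw [pow_one]; exact Subtype.ext (hqQ x x.2)⟩
  have hQp : IsPGroup q Q := hQ₀p.map _
  have hQU : Q ≤ U := Subgroup.map_subtype_le _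
  have hQb : Q ≠ ⊥ := (Subgroup.map_eq_bot_iff_of_injective _ U.subtype_injective).not.2 hQ₀
  have hQn : U ≤ Subgroup.normalizer (Q : Set G) := le_normalizer_of_conj_mem fun a ha x hx => by
    obtain ⟨y, hy, rfl⟩ := hx
    exact ⟨_, hQ₀n.conj_mem y hy ⟨a, ha⟩, rfl⟩
  set R := N ⊔ Q with hR
  haveI hRn : R.Normal := by
    rw [← Subgroup.normalizer_eq_top_iff, ← top_le_iff, ← hUtop]
    refine sup_le (le_sup_left.trans Subgroup.le_normalizer) ?_
    refine le_normalizer_of_conj_mem fun a ha x hx => ?_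
    obtain ⟨n, hn, y, hy, rfl⟩ := exists_mul_of_mem_sup (Subgroup.normalizer_eq_top N ▸ le_top) hx
    rw [show a * (n * y) * a⁻¹ = (a * n * a⁻¹) * (a * y * a⁻¹) by group]
    exact mul_mem (Subgroup.mem_sup_left (hNn.conj_mem n hn a))
      (Subgroup.mem_sup_right (normalizer_conj_mem (hQn ha) hy))
  have hNQ : N ⊓ Q = ⊥ := eq_bot_mono (inf_le_inf_left N hQU) hUd
  have hqp : q ≠ p := by
    rintro rfl
    have hRp : IsPGroup q R := IsPGroup.to_sup_of_normal_left hNp hQp
    have h1 : R ≤ N := hL ▸ CfsgLib.Cores.le_pCore hRp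
    exact hQb (eq_bot_mono (le_inf ((le_sup_right : Q ≤ R).trans h1) le_rfl) hNQ)
  set B := R ⊓ V with hB
  have hBR : N ⊔ B = R := by
    refine le_antisymm (sup_le le_sup_left inf_le_left) fun x hx => ?_
    obtain ⟨n, hn, v, hv, rfl⟩ := exists_mul_of_mem_sup (Subgroup.normalizer_eq_top N ▸ le_top)
      (show x ∈ N ⊔ V from hVtop ▸ Subgroup.mem_top x)
    have hvR : v ∈ R := by
      simpa using mul_mem (inv_mem (Subgroup.mem_sup_left (T := Q) hn)) hx
    exact mul_mem (Subgroup.mem_sup_left hn) (Subgroup.mem_sup_right ⟨hvR, hv⟩)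
  have hNB : N ⊓ B = ⊥ := eq_bot_mono (inf_le_inf_left N inf_le_right) hVd
  have hcard : Nat.card B = Nat.card Q := by
    have h1 := card_sup_of_disjoint (K := N) (A := B) (Subgroup.normalizer_eq_top N ▸ le_top) hNB
    have h2 := card_sup_of_disjoint (K := N) (A := Q) (Subgroup.normalizer_eq_top N ▸ le_top) hNQ
    rw [hBR] at h1
    rw [h1] at h2
    exact Nat.eq_of_mul_eq_mul_left Nat.card_pos h2
  obtain ⟨x, -, hx⟩ := exists_conj_le N B Q (Subgroup.normalizer_eq_top N ▸ le_top) hNB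
    (hBR ▸ le_sup_right) (IsPGroup.coprime_card_of_ne p q hqp.symm _ _ hNp hQp)
    (Or.inr inferInstance)
  have hxQ : MulAut.conj x • Q = B := conj_smul_eq_of_le hx hcard.le
  have hNB' : Subgroup.normalizer (Q : Set G) = U := by
    rcases eq_or_lt_of_le hQn with e | e
    · exact e.symm
    · exfalso
      haveI : Q.Normal := Subgroup.normalizer_eq_top_iff.1 (hU.2 _ e)
      exact hQb (eq_bot_mono (Subgroup.normal_le_normalCore.2 hQU) hUc)
  have hVle : V ≤ MulAut.conj x • U := by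
    intro v hv
    rw [mem_conj_smul_iff, ← hNB', mem_normalizer_iff_conj_smul]
    have h3 : MulAut.conj v • B = B := conj_smul_self_of_mem_normalizer
      ((le_normalizer_inf (Subgroup.normalizer_eq_top R ▸ le_top) Subgroup.le_normalizer : V ≤ _) hv)
    rw [← hxQ, conj_smul_conj_smul] at h3
    rw [mul_assoc, ← conj_smul_conj_smul, h3, conj_smul_conj_smul, inv_mul_cancel, map_one, one_smul]
  refine ⟨x, ?_⟩
  rcases eq_or_lt_of_le hVle with e | e
  · exact e.symm
  · exfalso
    refine hU.1 (eq_top_iff.2 fun g _ => ?_)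
    have h4 : x * g * x⁻¹ ∈ (MulAut.conj x • U : Subgroup G) := (hV.2 _ e).ge (Subgroup.mem_top _)
    simpa [mem_conj_smul_iff, mul_assoc] using h4

end CfsgLib.Solvable
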