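import Cfsg.Agent.Lib.Solvable.Basic
import Mathlib

/-!
Divisor splitting and subgroups of every order in abelian groups.
-/

set_option autoImplicit false

namespace CfsgLib.Solvable

theorem exists_split_divisor {n a d : ℕ} (hn : n ≠ 0) (ha : a ≠ 0)
    (hA : ∀ p : ℕ, p.Prime → p ∣ a → p ∣ n)
    (hexp : ∀ p : ℕ, p.Prime → p ∣ n → a.factorization p + 1 = n.factorization p)
    (hd : d ∣ n * a) : ∃ h k, h * k = d ∧ h ∣ n ∧ h.Coprime (n / h) ∧ k ∣ a := by
  classical
  have hd0 : d ≠ 0 := by
    rintro rfl
    exact mul_ne_zero hn ha (zero_dvd_iff.1 hd)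
  set f := n.factorization.filter (fun p => n.factorization p ≤ d.factorization p) with hf
  have hsupp : ∀ p ∈ f.support, Nat.Prime p := by
    intro p hp
    rw [hf, Finsupp.support_filter, Finset.mem_filter, Nat.support_factorization] at hp
    exact Nat.prime_of_mem_primeFactors hp.1
  set h := f.prod (· ^ ·) with hh
  have hfac : h.factorization = f := Nat.prod_pow_factorization_eq_self hsupp
  have hh0 : h ≠ 0 := by
    rw [hh, Finsupp.prod]
    exact Finset.prod_ne_zero_iff.2 fun p hp => pow_ne_zero _ (hsupp p hp).ne_zero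
  have hfp : ∀ p, f p = if n.factorization p ≤ d.factorization p then n.factorization p else 0 :=
    fun p => Finsupp.filter_apply (fun p => n.factorization p ≤ d.factorization p) n.factorization p
  have hhn : h ∣ n := by
    rw [← Nat.factorization_le_iff_dvd hh0 hn, hfac]
    intro p
    rw [hfp]
    split_ifs <;> omega
  have hhd : h ∣ d := by
    rw [← Nat.factorization_le_iff_dvd hh0 hd0, hfac]
    intro p
    rw [hfp]
    split_ifs with h1 <;> omega
  have hdn : ∀ p, d.factorization p ≤ n.factorization p + a.factorization p := by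
    intro p
    have := (Nat.factorization_le_iff_dvd hd0 (mul_ne_zero hn ha)).2 hd p
    rw [Nat.factorization_mul hn ha] at this
    exact this
  refine ⟨h, d / h, Nat.mul_div_cancel' hhd, hhn, ?_, ?_⟩
  · by_contra hc
    obtain ⟨p, hp, hpd⟩ := Nat.exists_prime_and_dvd hc
    have h1 := hp.factorization_pos_of_dvd hh0 (hpd.trans (Nat.gcd_dvd_left _ _))
    have hnh : n / h ≠ 0 := (Nat.div_pos (Nat.le_of_dvd (Nat.pos_of_ne_zero hn) hhn)
      (Nat.pos_of_ne_zero hh0)).ne'
    have h2 := hp.factorization_pos_of_dvd hnh (hpd.trans (Nat.gcd_dvd_right _ _))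
    rw [Nat.factorization_div hhn, Finsupp.tsub_apply, hfac] at h2
    rw [hfac] at h1
    rw [hfp] at h1 h2
    split_ifs at h1 h2 <;> omega
  · have hdh : d / h ≠ 0 := (Nat.div_pos (Nat.le_of_dvd (Nat.pos_of_ne_zero hd0) hhd)
      (Nat.pos_of_ne_zero hh0)).ne'
    rw [← Nat.factorization_le_iff_dvd hdh ha, Nat.factorization_div hhd, hfac]
    intro p
    rw [Finsupp.tsub_apply, hfp]
    have h1 := hdn p
    by_cases hp : p.Prime
    · by_cases hpn : p ∣ n
      · have := hexp p hp hpn
        split_ifs <;> omega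
      · have h2 : n.factorization p = 0 := Nat.factorization_eq_zero_of_not_dvd hpn
        have h3 : a.factorization p = 0 :=
          Nat.factorization_eq_zero_of_not_dvd fun h => hpn (hA p hp h)
        split_ifs <;> omega
    · have h2 : d.factorization p = 0 := Nat.factorization_eq_zero_of_not_prime d hp
      split_ifs <;> omega

theorem exists_subgroup_card_comm {A : Type*} [CommGroup A] [Finite A] :
    ∀ k : ℕ, k ∣ Nat.card A → ∃ H : Subgroup A, Nat.card H = k := by
  intro k
  induction k using Nat.recOnPrimeCoprime with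
  | zero =>
    intro h
    exact absurd (zero_dvd_iff.1 h) Nat.card_pos.ne'
  | prime_pow p n hp =>
    intro h
    have := Fact.mk hp
    exact Sylow.exists_subgroup_card_pow_prime p h
  | coprime a b _ _ hab iha ihb =>
    intro h
    obtain ⟨H, hH⟩ := iha ((dvd_mul_right a b).trans h)
    obtain ⟨K, hK⟩ := ihb ((dvd_mul_left b a).trans h)
    refine ⟨H ⊔ K, ?_⟩
    rw [card_sup_of_disjoint (fun x _ => ?_) (disjoint_of_coprime (hH.symm ▸ hK.symm ▸ hab)), hH, hK]
    rw [Subgroup.normalizer_eq_top]
    trivial

end CfsgLib.Solvable
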