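import Cfsg.Agent.Lib.Solvable.FrobeniusTheorem
import Cfsg.Agent.Lib.Solvable.FrobeniusComplement

/-!
Conjugacy of Frobenius complements.
-/

set_option autoImplicit false

open scoped Pointwise

namespace CfsgLib.Solvable

universe u

theorem eq_one_of_conj_eq_one {G : Type*} [Group G] {a x : G} (h : a⁻¹ * x * a = 1) : x = 1 := by
  calc x = a * (a⁻¹ * x * a) * a⁻¹ := by group
    _ = 1 := by rw [h]; group

theorem frobenius_conj_smul {G : Type*} [Group G] {H : Subgroup G}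
    (hH : Cfsg.IsFrobeniusComplement H) (g : G) :
    Cfsg.IsFrobeniusComplement (MulAut.conj g • H : Subgroup G) := by
  refine ⟨?_, ?_, fun c hc => ?_⟩
  · intro h
    rw [conj_smul_eq_map] at h
    exact hH.1 ((Subgroup.map_eq_bot_iff_of_injective _ (MulAut.conj g).injective).1 h)
  · intro h
    refine hH.2.1 (eq_top_iff.2 fun x _ => ?_)
    have hx : g * x * g⁻¹ ∈ (MulAut.conj g • H : Subgroup G) := h ▸ Subgroup.mem_top _
    simpa [mem_conj_smul_iff, mul_assoc] using hx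
  · refine (Subgroup.eq_bot_iff_forall _).2 fun x hx => ?_
    by_contra hx1
    have h1 := mem_conj_smul_iff.1 hx.1
    have h2 := mem_conj_smul_iff.1 (mem_conj_smul_iff.1 hx.2)
    refine hc ?_
    have h3 : g⁻¹ * c * g ∈ H := frobenius_mem_of_conj_mem hH h2
      (fun h => hx1 (eq_one_of_conj_eq_one (eq_one_of_conj_eq_one h)))
      (by simpa [mul_assoc] using h1)
    exact mem_conj_smul_iff.2 h3

theorem mem_conjugates_iff {G : Type*} [Group G] [Finite G] {H : Subgroup G}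
    (hH : Cfsg.IsFrobeniusComplement H) :
    {x : G | x ≠ 1 ∧ ∃ g, g⁻¹ * x * g ∈ H}.ncard + H.index = Nat.card G := by
  rw [← Nat.card_coe_set_eq]
  show Nat.card {x : G // x ≠ 1 ∧ ∃ g, g⁻¹ * x * g ∈ H} + _ = _
  rw [card_conjugates_of_frobenius hH]
  conv_rhs => rw [← H.index_mul_card]
  have : H.index ≤ H.index * Nat.card H := Nat.le_mul_of_pos_right _ Nat.card_pos
  rw [Nat.mul_sub_one]
  omega

theorem two_mul_index_le {G : Type*} [Group G] [Finite G] {D H : Subgroup G} (h : D < H) :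
    2 * H.index ≤ D.index := by
  rw [← Subgroup.relIndex_mul_index h.le]
  refine Nat.mul_le_mul_right _ ?_
  have h0 : D.relIndex H ≠ 0 := Subgroup.index_ne_zero_of_finite
  have h1 : D.relIndex H ≠ 1 := fun h' => h.not_ge (Subgroup.relIndex_eq_one.1 h')
  omega

/-- Of two Frobenius complements the smaller is conjugate into the larger. -/
theorem frobenius_exists_conj_le : ∀ (n : ℕ) {G : Type u} [Group G] [Finite G], Nat.card G = n →
    ∀ (H H₀ : Subgroup G), Cfsg.IsFrobeniusComplement H → Cfsg.IsFrobeniusComplement H₀ →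
      Nat.card H₀ ≤ Nat.card H → ∃ g : G, MulAut.conj g • H₀ ≤ H := by
  intro n
  induction n using Nat.strong_induction_on with
  | _ n ih =>
  intro G _ _ hn H H₀ hH hH₀ hle
  by_contra hcon
  push Not at hcon
  have hcon' : ∀ g : G, ¬ H₀ ≤ MulAut.conj g • H := fun g h => hcon g⁻¹
    ((conj_smul_mono g⁻¹ h).trans (by rw [conj_smul_conj_smul, inv_mul_cancel, map_one, one_smul]))
  -- facts about nontrivial intersections
  have hR : ∀ k : G, H₀ ⊓ MulAut.conj k • H ≠ ⊥ →
      Cfsg.IsFrobeniusComplement (H₀ ⊓ MulAut.conj k • H) := by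
    intro k hk
    refine ⟨hk, fun h => hH₀.2.1 (eq_top_iff.2 (h.ge.trans inf_le_left)), fun c hc => ?_⟩
    refine (Subgroup.eq_bot_iff_forall _).2 fun x hx => ?_
    by_contra hx1
    have hx' := mem_conj_smul_iff.1 hx.2
    have hne : c⁻¹ * x * c ≠ 1 := fun h => hx1 (eq_one_of_conj_eq_one h)
    have e : c * (c⁻¹ * x * c) * c⁻¹ = x := by group
    refine hc ⟨frobenius_mem_of_conj_mem hH₀ hx'.1 hne (by rw [e]; exact hx.1.1), ?_⟩
    exact frobenius_mem_of_conj_mem (frobenius_conj_smul hH k) hx'.2 hne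
      (by rw [e]; exact hx.1.2)
  have huniq : ∀ j k : G, H₀ ⊓ MulAut.conj j • H ≠ ⊥ → H₀ ⊓ MulAut.conj k • H ≠ ⊥ →
      Nat.card (H₀ ⊓ MulAut.conj j • H : Subgroup G) ≤
        Nat.card (H₀ ⊓ MulAut.conj k • H : Subgroup G) →
      ∃ h ∈ H₀, MulAut.conj h • (H₀ ⊓ MulAut.conj j • H) = H₀ ⊓ MulAut.conj k • H := by
    intro j k hj hk hjk
    have hsub : ∀ l : G, H₀ ⊓ MulAut.conj l • H ≠ ⊥ →
        Cfsg.IsFrobeniusComplement ((H₀ ⊓ MulAut.conj l • H).subgroupOf H₀) := by
      intro l hl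
      refine ⟨?_, ?_, fun c hc => ?_⟩
      · rw [Ne, Subgroup.subgroupOf_eq_bot, disjoint_iff, inf_right_comm, inf_idem]; exact hl
      · rw [Ne, Subgroup.subgroupOf_eq_top]
        exact fun h => hcon' l (h.trans inf_le_right)
      · refine (Subgroup.eq_bot_iff_forall _).2 fun x hx => ?_
        by_contra hx1
        refine hc (frobenius_mem_of_conj_mem (hR l hl) (g := (c : G))
          (mem_conj_smul_iff.1 hx.2 : (c⁻¹ * x * c : H₀) ∈ _) ?_ ?_)
        · intro h
          exact hx1 (eq_one_of_conj_eq_one (a := c) (Subtype.ext h))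
        · simp only [Subgroup.coe_subtype, Subgroup.coe_mul, Subgroup.coe_inv, mul_assoc,
            mul_inv_cancel_left, mul_inv_cancel, mul_one]
          exact Subgroup.mem_subgroupOf.1 hx.1
    have hlt : Nat.card H₀ < n := by
      refine hn ▸ lt_of_le_of_ne (Subgroup.card_le_card_group _) fun h => hH₀.2.1 ?_
      exact Subgroup.card_eq_iff_eq_top H₀ |>.1 h
    obtain ⟨h, hh⟩ := ih _ hlt rfl _ _ (hsub k hk) (hsub j hj) (by
      rwa [Nat.card_congr (Subgroup.subgroupOfEquivOfLe inf_le_left).toEquiv,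
        Nat.card_congr (Subgroup.subgroupOfEquivOfLe inf_le_left).toEquiv])
    have hle' : MulAut.conj (h : G) • (H₀ ⊓ MulAut.conj j • H) ≤ H₀ ⊓ MulAut.conj k • H := by
      rw [conj_smul_le_iff]
      intro x hx
      exact Subgroup.mem_subgroupOf.1 (conj_smul_le_iff.1 hh ⟨x, hx.1⟩ (Subgroup.mem_subgroupOf.2 hx))
    refine ⟨h, h.2, le_antisymm hle' fun y hy => ?_⟩
    obtain ⟨x, hx, hx1⟩ := (Subgroup.nontrivial_iff_exists_ne_one _).1
      ((Subgroup.nontrivial_iff_ne_bot _).2 hj)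
    have hx2 := mem_conj_smul_iff.1 (hle' (mem_conj_smul_iff.2
      (by simpa [mul_assoc] using hx) : (h : G) * x * (h : G)⁻¹ ∈
        MulAut.conj (h : G) • (H₀ ⊓ MulAut.conj j • H))).2
    have hm : k⁻¹ * ((h : G) * j) ∈ H := by
      refine frobenius_mem_of_conj_mem hH (mem_conj_smul_iff.1 hx.2)
        (fun he => hx1 (eq_one_of_conj_eq_one he)) ?_
      simpa [mul_assoc] using hx2
    refine mem_conj_smul_iff.2 ⟨H₀.mul_mem (H₀.mul_mem (H₀.inv_mem h.2) hy.1) h.2, mem_conj_smul_iff.2 ?_⟩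
    have := mul_mem (mul_mem (inv_mem hm) (mem_conj_smul_iff.1 hy.2)) hm
    simpa [mul_assoc] using this
  set U : Subgroup G → Set G := fun D => {x : G | x ≠ 1 ∧ ∃ g, g⁻¹ * x * g ∈ D} with hU
  have hsum : (U H).ncard + (U H₀).ncard + 1 ≤ Nat.card G + (U H ∩ U H₀).ncard := by
    have h1 := Set.ncard_union_add_ncard_inter (U H) (U H₀)
    have h2 : (U H ∪ U H₀).ncard + 1 ≤ Nat.card G := by
      have : U H ∪ U H₀ ⊂ Set.univ := (Set.ssubset_iff_of_subset (Set.subset_univ _)).2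
        ⟨1, Set.mem_univ _, fun h => h.elim (fun h => h.1 rfl) (fun h => h.1 rfl)⟩
      have := Set.ncard_lt_ncard this
      rw [Set.ncard_univ] at this
      omega
    omega
  have eH := mem_conjugates_iff hH
  have eH₀ := mem_conjugates_iff hH₀
  change (U H).ncard + H.index = Nat.card G at eH
  change (U H₀).ncard + H₀.index = Nat.card G at eH₀
  by_cases hex : ∃ k : G, H₀ ⊓ MulAut.conj k • H ≠ ⊥
  · obtain ⟨k, hk⟩ := hex
    set D := H₀ ⊓ MulAut.conj k • H with hD
    have hinter : U H ∩ U H₀ ⊆ U D := by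
      rintro x ⟨⟨hx1, a, ha⟩, -, b, hb⟩
      have hy : b⁻¹ * x * b ∈ H₀ ⊓ MulAut.conj (b⁻¹ * a) • H :=
        ⟨hb, mem_conj_smul_iff.2 (by simpa [mul_assoc] using ha)⟩
      have hne : H₀ ⊓ MulAut.conj (b⁻¹ * a) • H ≠ ⊥ := fun h => hx1 (by
        rw [h, Subgroup.mem_bot] at hy
        exact eq_one_of_conj_eq_one hy)
      rcases le_total (Nat.card (H₀ ⊓ MulAut.conj (b⁻¹ * a) • H : Subgroup G)) (Nat.card D) with hc | hc
      · obtain ⟨h, -, he⟩ := huniq _ _ hne hk hc
        refine ⟨hx1, b * h⁻¹, ?_⟩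
        rw [hD, ← he]
        exact mem_conj_smul_iff.2 (by simpa [mul_assoc] using hy)
      · obtain ⟨h, -, he⟩ := huniq _ _ hk hne hc
        refine ⟨hx1, b * h, ?_⟩
        rw [← he, ← hD] at hy
        simpa [mul_assoc] using mem_conj_smul_iff.1 hy
    have hle2 := Set.ncard_le_ncard hinter
    have eD := mem_conjugates_iff (hR k hk)
    change (U D).ncard + D.index = Nat.card G at eD
    have h₀ := two_mul_index_le (D := D) (H := H₀)
      (lt_of_le_of_ne inf_le_left fun h => hcon' k (inf_eq_left.1 h))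
    have h₁ := two_mul_index_le (D := D) (H := MulAut.conj k • H) (lt_of_le_of_ne inf_le_right
      fun h => hcon' k (Subgroup.eq_of_le_of_card_ge (h.ge.trans inf_le_left)
        (by rw [card_conj_smul]; exact hle)).ge)
    have hidx : (MulAut.conj k • H : Subgroup G).index = H.index := by
      have e1 := (MulAut.conj k • H : Subgroup G).card_mul_index
      rw [card_conj_smul, ← H.card_mul_index] at e1
      exact Nat.eq_of_mul_eq_mul_left Nat.card_pos e1
    rw [hidx] at h₁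
    omega
  · push Not at hex
    have hinter : U H ∩ U H₀ = ∅ := by
      refine Set.eq_empty_iff_forall_notMem.2 ?_
      rintro x ⟨⟨hx1, a, ha⟩, -, b, hb⟩
      have hy : b⁻¹ * x * b ∈ H₀ ⊓ MulAut.conj (b⁻¹ * a) • H :=
        ⟨hb, mem_conj_smul_iff.2 (by simpa [mul_assoc] using ha)⟩
      rw [hex, Subgroup.mem_bot] at hy
      exact hx1 (by exact eq_one_of_conj_eq_one hy)
    rw [hinter, Set.ncard_empty] at hsum
    have h₀ := two_mul_index_le (D := ⊥) (H := H₀) (bot_lt_iff_ne_bot.2 hH₀.1)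
    have h₁ := two_mul_index_le (D := ⊥) (H := H) (bot_lt_iff_ne_bot.2 hH.1)
    rw [Subgroup.index_bot] at h₀ h₁
    omega

variable {G : Type*} [Group G] [Finite G]

/-- A fixed-point-free group contains no Frobenius group. -/
theorem false_of_frobenius_subgroup {H K D N : Subgroup G} (hK : K ≠ ⊥)
    (hHK : H ≤ Subgroup.normalizer (K : Set G))
    (hfpf : ∀ a ∈ H, a ≠ 1 → K ⊓ Subgroup.centralizer {a} = ⊥) (hDH : D ≤ H) (hNH : N ≤ H)
    (hD : D ≠ ⊥) (hN : N ≠ ⊥) (hDN : D ≤ Subgroup.normalizer (N : Set G))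
    (hfpf' : ∀ a ∈ D, a ≠ 1 → N ⊓ Subgroup.centralizer {a} = ⊥) : False := by
  obtain ⟨q, hq, hqD⟩ := Nat.exists_prime_and_dvd fun h => hD (Subgroup.card_eq_one.1 h)
  haveI : Fact q.Prime := ⟨hq⟩
  obtain ⟨x, hx⟩ := exists_prime_orderOf_dvd_card' (G := D) q hqD
  rw [← Subgroup.orderOf_coe] at hx
  set B := Subgroup.zpowers (x : G) with hB
  have hBD : B ≤ D := Subgroup.zpowers_le.2 x.2
  have hcop := (coprime_card_of_fpf hDN hfpf').coprime_dvd_left (Subgroup.card_dvd_of_le hBD)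
  obtain ⟨p, hp, hpN⟩ := Nat.exists_prime_and_dvd fun h => hN (Subgroup.card_eq_one.1 h)
  haveI : Fact p.Prime := ⟨hp⟩
  obtain ⟨P, hP⟩ := exists_invariant_sylow B N (hBD.trans hDN) hcop
    (Or.inl (Group.isSolvable_of_comm fun a b => mul_comm' a b)) p
  set Q := (P : Subgroup N).map N.subtype with hQ
  have hQp : IsPGroup p Q := P.2.map _
  haveI : Nontrivial Q := by
    rw [Subgroup.nontrivial_iff_ne_bot, hQ, Ne,
      Subgroup.map_eq_bot_iff_of_injective _ N.subtype_injective]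
    exact P.ne_bot_of_dvd_card hpN
  haveI := hQp.center_nontrivial
  obtain ⟨n, hn0, hn⟩ := (hQp.to_subgroup (Subgroup.center Q)).nontrivial_iff_card.1 inferInstance
  obtain ⟨z, hz⟩ := exists_prime_orderOf_dvd_card' (G := Subgroup.center Q) p
    (hn ▸ dvd_pow_self p (by omega))
  set C := Q ⊓ Subgroup.centralizer (Q : Set G) with hC
  have hBC : B ≤ Subgroup.normalizer (C : Set G) :=
    le_normalizer_inf hP (hP.trans (normalizer_le_normalizer_centralizer Q))
  have hCH : C ≤ H := (inf_le_left.trans (Subgroup.map_subtype_le _)).trans hNH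
  haveI : IsCyclic C := isCyclic_of_fpf hK (hCH.trans hHK) (fpf_mono hCH hfpf)
    (Or.inl fun a ha b hb => hb.2 a ha.1)
  have hzC : ((z : Q) : G) ∈ C :=
    ⟨(z : Q).2, fun y hy => congrArg Subtype.val (Subgroup.mem_center_iff.1 z.2 ⟨y, hy⟩)⟩
  have hz' : orderOf ((z : Q) : G) = p :=
    (Subgroup.orderOf_coe (z : Q)).trans ((Subgroup.orderOf_coe z).trans hz)
  set Z := Subgroup.zpowers ((z : Q) : G) with hZ
  have hxZ : (x : G) ∈ Subgroup.normalizer (Z : Set G) := by
    refine mem_normalizer_of_conj_mem fun y hy => ?_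
    obtain ⟨i, rfl⟩ := hy
    rw [← conj_zpow]
    refine zpow_mem ?_ i
    obtain ⟨j, hj⟩ := mem_zpowers_of_isCyclic
      (x := (⟨(x : G) * (z : Q) * (x : G)⁻¹,
        normalizer_conj_mem (hBC (Subgroup.mem_zpowers _)) hzC⟩ : C))
      (y := ⟨((z : Q) : G), hzC⟩)
      (((Subgroup.orderOf_coe _).symm.trans (MulEquiv.orderOf_eq (MulAut.conj (x : G))
        ((z : Q) : G))).trans (Subgroup.orderOf_coe (⟨((z : Q) : G), hzC⟩ : C)))
    exact ⟨j, congrArg Subtype.val hj⟩
  have hzN : ((z : Q) : G) ∈ N := Subgroup.map_subtype_le _ (z : Q).2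
  have hcard : Nat.card (Z ⊔ B : Subgroup G) = p * q := by
    rw [card_sup_of_disjoint (Subgroup.zpowers_le.2 hxZ) (disjoint_of_coprime
      (hcop.symm.coprime_dvd_left (Subgroup.card_dvd_of_le (Subgroup.zpowers_le.2 hzN)))),
      hZ, Nat.card_zpowers, Nat.card_zpowers, hz', hx]
  have hEH : Z ⊔ B ≤ H := sup_le (Subgroup.zpowers_le.2 (hCH hzC)) (hBD.trans hDH)
  haveI : IsCyclic (Z ⊔ B : Subgroup G) := isCyclic_of_fpf hK (hEH.trans hHK) (fpf_mono hEH hfpf)
    (Or.inr ⟨p, q, hp, hq, hcard⟩)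
  letI := IsCyclic.commGroup (α := (Z ⊔ B : Subgroup G))
  have hzx : ((z : Q) : G) * x = x * (z : Q) := congrArg Subtype.val (mul_comm
    (⟨_, Subgroup.mem_sup_left (Subgroup.mem_zpowers _)⟩ : (Z ⊔ B : Subgroup G))
    ⟨_, Subgroup.mem_sup_right (Subgroup.mem_zpowers _)⟩)
  have : ((z : Q) : G) = 1 := eq_one_of_fpf hfpf' x.2
    (fun h => hq.one_lt.ne' (hx ▸ h ▸ orderOf_one)) hzN (by rw [← hzx, mul_inv_cancel_right])
  exact hp.one_lt.ne' (hz' ▸ this ▸ orderOf_one)

/-- All Frobenius complements are conjugate. -/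
theorem frobenius_conjugate {H H₀ : Subgroup G} (hH : Cfsg.IsFrobeniusComplement H)
    (hH₀ : Cfsg.IsFrobeniusComplement H₀) : ∃ g : G, MulAut.conj g • H₀ = H := by
  have key : ∀ A B : Subgroup G, Cfsg.IsFrobeniusComplement A → Cfsg.IsFrobeniusComplement B →
      B ≤ A → B = A := by
    intro A B hA hB hBA
    by_contra hne
    have hsub : Cfsg.IsFrobeniusComplement (B.subgroupOf A) := by
      refine ⟨?_, ?_, fun c hc => ?_⟩
      · rw [Ne, Subgroup.subgroupOf_eq_bot, disjoint_iff, inf_eq_left.2 hBA]; exact hB.1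
      · rw [Ne, Subgroup.subgroupOf_eq_top]; exact fun h => hne (le_antisymm hBA h)
      · refine (Subgroup.eq_bot_iff_forall _).2 fun x hx => ?_
        by_contra hx1
        refine hc (frobenius_mem_of_conj_mem hB (g := (c : G))
          (mem_conj_smul_iff.1 hx.2 : (c⁻¹ * x * c : A) ∈ _) ?_ ?_)
        · intro h
          exact hx1 (eq_one_of_conj_eq_one (a := c) (Subtype.ext h))
        · simp only [Subgroup.coe_subtype, Subgroup.coe_mul, Subgroup.coe_inv, mul_assoc,
            mul_inv_cancel_left, mul_inv_cancel, mul_one]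
          exact Subgroup.mem_subgroupOf.1 hx.1
    obtain ⟨N, -, hNn, hNc⟩ := frobenius_theorem hsub
    obtain ⟨K, -, hKn, hKc⟩ := frobenius_theorem hA
    have hKb : K ≠ ⊥ := fun h => hA.2.1 (Subgroup.isComplement'_bot_left.1 (h ▸ hKc))
    have hNb : N ≠ ⊥ := fun h => hsub.2.1 (Subgroup.isComplement'_bot_left.1 (h ▸ hNc))
    refine false_of_frobenius_subgroup hKb (Subgroup.normalizer_eq_top K ▸ le_top)
      ((isFrobeniusComplement_iff_fpf hKc hKb hA.1).1 hA) hBA (Subgroup.map_subtype_le N)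
      hB.1 ((Subgroup.map_eq_bot_iff_of_injective N A.subtype_injective).not.2 hNb)
      (le_normalizer_of_conj_mem fun b hb x hx => ?_) fun b hb hb1 => ?_
    · obtain ⟨y, hy, rfl⟩ := hx
      exact ⟨_, hNn.conj_mem y hy ⟨b, hBA hb⟩, rfl⟩
    · refine (Subgroup.eq_bot_iff_forall _).2 ?_
      rintro _ ⟨⟨y, hy, rfl⟩, hyc⟩
      have h1 := (isFrobeniusComplement_iff_fpf hNc hNb hsub.1).1 hsub ⟨b, hBA hb⟩
        (Subgroup.mem_subgroupOf.2 hb) (fun h => hb1 (congrArg Subtype.val h))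
      have h2 : y ∈ N ⊓ Subgroup.centralizer {(⟨b, hBA hb⟩ : A)} :=
        ⟨hy, Subgroup.mem_centralizer_singleton_iff.2
          (Subtype.ext (Subgroup.mem_centralizer_singleton_iff.1 hyc))⟩
      rw [h1, Subgroup.mem_bot] at h2
      simp [h2]
  rcases le_total (Nat.card H₀) (Nat.card H) with h | h
  · obtain ⟨g, hg⟩ := frobenius_exists_conj_le _ rfl H H₀ hH hH₀ h
    exact ⟨g, key H _ hH (frobenius_conj_smul hH₀ g) hg⟩
  · obtain ⟨g, hg⟩ := frobenius_exists_conj_le _ rfl H₀ H hH₀ hH h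
    refine ⟨g⁻¹, ?_⟩
    rw [← key H₀ _ hH₀ (frobenius_conj_smul hH g) hg, conj_smul_conj_smul, inv_mul_cancel,
      map_one, one_smul]

end CfsgLib.Solvable
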