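import Cfsg.Agent.Lib.Solvable.GrossLower
import Cfsg.Agent.Lib.Solvable.ShultGross
import Cfsg.Agent.Lib.PGroup.FpfFour

/-!
Gross's theorem: a finite solvable group with a fixed-point-free automorphism of order dividing
`2 ^ n`, `n ≥ 2`, has Fitting height at most `2 * n - 2`.
-/

set_option autoImplicit false

open scoped commutatorElement

namespace CfsgLib.Solvable

universe u

theorem mem_pCore_of_mem_fitting {H : Type*} [Group H] [Finite H] {q : ℕ} [Fact q.Prime] {w : H}
    (hw : w ∈ Cfsg.fittingSubgroup H) {j : ℕ} (hj : w ^ (q ^ j) = 1) :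
    w ∈ Cfsg.pCore q H := by
  set F := Cfsg.fittingSubgroup H
  haveI hFn : F.Normal := CfsgLib.Cores.fittingSubgroup_normal
  haveI hFnil : Group.IsNilpotent F := CfsgLib.Cores.isNilpotent_fittingSubgroup
  have hz : IsPGroup q (Subgroup.zpowers (⟨w, hw⟩ : F)) := by
    obtain ⟨i, -, hi⟩ := (Nat.dvd_prime_pow Fact.out).1
      (orderOf_dvd_of_pow_eq_one (Subtype.ext hj : (⟨w, hw⟩ : F) ^ (q ^ j) = 1))
    exact IsPGroup.of_card (by rw [Nat.card_zpowers, hi])
  obtain ⟨P, hP⟩ := hz.exists_le_sylow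
  have hPn : (P : Subgroup F).Normal :=
    ((Group.isNilpotent_of_finite_tfae (G := F)).out 0 3 rfl rfl).1 hFnil q inferInstance P
  haveI := P.characteristic_of_normal hPn
  have hn : ((P : Subgroup F).map F.subtype).Normal := inferInstance
  have hle : (P : Subgroup F).map F.subtype ≤ Cfsg.pCore q H := CfsgLib.Cores.le_pCore (P.2.map _)
  exact hle ⟨⟨w, hw⟩, hP (Subgroup.mem_zpowers _), rfl⟩

theorem mem_fitting_of_forall {H : Type*} [Group H] [Finite H] [Group.IsSolvable H] (x : H)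
    (hx : ∀ q : ℕ, q.Prime → QuotientGroup.mk' (Subgroup.centralizer (Cfsg.pCore q H : Set H)) x ∈
      Cfsg.pCore q (H ⧸ Subgroup.centralizer (Cfsg.pCore q H : Set H))) :
    x ∈ Cfsg.fittingSubgroup H := by
  classical
  let C : ℕ → Subgroup H := fun q => Subgroup.centralizer (Cfsg.pCore q H : Set H)
  have hCn : ∀ q, (C q).Normal := fun q => inferInstance
  let D : ℕ → Subgroup H := fun q => (Cfsg.pCore q (H ⧸ C q)).comap (QuotientGroup.mk' (C q))
  suffices htop : (Cfsg.fittingSubgroup H).subgroupOf (Subgroup.zpowers x) = ⊤ by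
    exact (Subgroup.subgroupOf_eq_top.1 htop) (Subgroup.mem_zpowers x)
  refine eq_top_of_sylow_le fun l hl => ?_
  haveI := Fact.mk hl
  obtain ⟨P⟩ : Nonempty (Sylow l (Subgroup.zpowers x)) := inferInstance
  refine ⟨P, fun v hv => ?_⟩
  obtain ⟨j, hj⟩ := P.2 ⟨v, hv⟩
  have hj' : (v : H) ^ (l ^ j) = 1 := congrArg (fun z : P => (((z : Subgroup.zpowers x)) : H)) hj
  have hvD : ∀ q, q.Prime → (v : H) ∈ D q := fun q hq => by
    have hxD : x ∈ D q := hx q hq
    exact Subgroup.zpowers_le.2 hxD v.2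
  let K : Subgroup H := D l ⊓ ⨅ q : {q : ℕ // q.Prime ∧ q ≠ l}, C q
  haveI : (D l).Normal := inferInstanceAs ((Cfsg.pCore l (H ⧸ C l)).comap _).Normal
  haveI hKi : (⨅ q : {q : ℕ // q.Prime ∧ q ≠ l}, C q).Normal :=
    Subgroup.normal_iInf_normal fun q => hCn q
  haveI hKn : K.Normal := inferInstance
  have hvK : (v : H) ∈ K := by
    refine ⟨hvD l hl, ?_⟩
    refine Subgroup.mem_iInf.2 fun ⟨q, hq, hql⟩ => ?_
    haveI := Fact.mk hq
    obtain ⟨i, hi⟩ := (CfsgLib.Cores.isPGroup_pCore (G := H ⧸ C q) q)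
      ⟨_, hvD q hq⟩
    have h1 : orderOf (QuotientGroup.mk' (C q) (v : H)) ∣ q ^ i :=
      orderOf_dvd_of_pow_eq_one (congrArg Subtype.val hi)
    have h2 : orderOf (QuotientGroup.mk' (C q) (v : H)) ∣ l ^ j :=
      orderOf_dvd_of_pow_eq_one (by rw [← map_pow, hj', map_one])
    have h3 := Nat.eq_one_of_dvd_coprimes (Nat.coprime_pow_primes i j hq hl hql) h1 h2
    exact (QuotientGroup.eq_one_iff _).1 (orderOf_eq_one_iff.1 h3)
  suffices hnil : Group.IsNilpotent K from CfsgLib.Cores.le_fittingSubgroup hnil hvK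
  have hKC : ∀ q, q.Prime → q ≠ l → ∀ z ∈ K, z ∈ C q := fun q hq hql z hz =>
    Subgroup.mem_iInf.1 hz.2 ⟨q, hq, hql⟩
  have hpg : IsPGroup l (K ⧸ Subgroup.center K) := by
    intro t
    obtain ⟨⟨z, hz⟩, rfl⟩ := QuotientGroup.mk'_surjective (Subgroup.center K) t
    obtain ⟨i, hi⟩ := (CfsgLib.Cores.isPGroup_pCore (G := H ⧸ C l) l) ⟨_, hz.1⟩
    set y := z ^ (l ^ i) with hy
    have hyC : ∀ q, q.Prime → y ∈ C q := fun q hq => by
      rcases eq_or_ne q l with rfl | hql
      · refine (QuotientGroup.eq_one_iff _).1 ?_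
        have h1 := congrArg Subtype.val hi
        rw [SubgroupClass.coe_pow] at h1
        exact (map_pow (QuotientGroup.mk' (C q)) z _).trans h1
      · exact (C q).pow_mem (hKC q hq hql z hz) _
    have hyF : y ∈ Cfsg.fittingSubgroup H := by
      refine centralizer_fittingSubgroup_le (Subgroup.mem_centralizer_iff.2 fun f hf => ?_)
      have hle : Cfsg.fittingSubgroup H ≤ Subgroup.centralizer {y} := by
        refine CfsgLib.Cores.fittingSubgroup_le_iSup_pCore.trans (iSup_le fun q a ha => ?_)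
        refine Subgroup.mem_centralizer_singleton_iff.2 ?_
        exact Subgroup.mem_centralizer_iff.1 (hyC q (Nat.prime_of_mem_primeFactors q.2)) a ha
      exact Subgroup.mem_centralizer_singleton_iff.1 (hle hf)
    obtain ⟨s, r, hr, hord⟩ := Nat.exists_eq_pow_mul_and_not_dvd (orderOf_pos y).ne' l hl.ne_one
    set w := y ^ (l ^ s) with hw
    have hwr : w ^ r = 1 := by rw [hw, ← pow_mul, ← hord, pow_orderOf_eq_one]
    have hwF : w ∈ Cfsg.fittingSubgroup H := Subgroup.pow_mem _ hyF _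
    have hcen : Subgroup.zpowers w ≤ Subgroup.centralizer (K : Set H) := by
      rw [← Subgroup.subgroupOf_eq_top]
      refine eq_top_of_sylow_le fun q hq => ?_
      haveI := Fact.mk hq
      obtain ⟨P'⟩ : Nonempty (Sylow q (Subgroup.zpowers w)) := inferInstance
      refine ⟨P', fun a ha => ?_⟩
      obtain ⟨e, he⟩ := P'.2 ⟨a, ha⟩
      have he' : (a : H) ^ (q ^ e) = 1 :=
        congrArg (fun z : P' => (((z : Subgroup.zpowers w)) : H)) he
      rcases eq_or_ne q l with rfl | hql
      · have h1 : orderOf (a : H) ∣ r := by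
          refine (orderOf_dvd_of_mem_zpowers a.2).trans (orderOf_dvd_of_pow_eq_one hwr)
        have h2 := Nat.eq_one_of_dvd_coprimes
          ((hl.coprime_iff_not_dvd.2 hr).pow_left e) (orderOf_dvd_of_pow_eq_one he') h1
        have h3 : (a : H) = 1 := orderOf_eq_one_iff.1 h2
        show (a : H) ∈ Subgroup.centralizer (K : Set H)
        rw [h3]; exact one_mem _
      · have haO : (a : H) ∈ Cfsg.pCore q H :=
          mem_pCore_of_mem_fitting (Subgroup.zpowers_le.2 hwF a.2) he'
        refine Subgroup.mem_centralizer_iff.2 fun b hb => ?_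
        exact (Subgroup.mem_centralizer_iff.1 (hKC q hq hql b hb) a haO).symm
    refine ⟨i + s, ?_⟩
    rw [← map_pow, QuotientGroup.mk'_apply, QuotientGroup.eq_one_iff, Subgroup.mem_center_iff]
    intro b
    refine Subtype.ext ?_
    show (b : H) * z ^ (l ^ (i + s)) = z ^ (l ^ (i + s)) * b
    rw [pow_add, pow_mul, ← hy, ← hw]
    exact Subgroup.mem_centralizer_iff.1 (hcen (Subgroup.mem_zpowers w)) b b.2
  haveI := hpg.isNilpotent
  exact Subgroup.isNilpotent_of_ker_le_center (QuotientGroup.mk' (Subgroup.center K))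
    (QuotientGroup.ker_mk' _).le

set_option maxHeartbeats 1000000 in
/-- The power of order `2` is trivial modulo the Fitting subgroup of a linear group. -/
theorem inv_mul_mem_fitting_of_rep {H : Type u} [Group H] [Finite H] [Group.IsSolvable H]
    {k : Type*} [Field k] [IsAlgClosed k] {V : Type*} [AddCommGroup V] [Module k V]
    [FiniteDimensional k V] {n : ℕ} (hn : 0 < n) (h2k : (2 : k) ≠ 0)
    (hk : ∀ q : ℕ, q.Prime → Cfsg.pCore q H ≠ ⊥ → (q : k) ≠ 0)
    (g : MulAut H) (hg : g ^ (2 ^ n) = 1) (hfpf : ∀ x, g x = x → x = 1)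
    (ρ : H →* Module.End k V) (hinj : Function.Injective ρ) (S : Module.End k V)
    (hS : ∀ x, S * ρ x = ρ (g x) * S) (hSn : S ^ (2 ^ n) = 1) (hfix : ∀ v, S v = v → v = 0)
    (x : H) : x⁻¹ * (g ^ (2 ^ (n - 1))) x ∈ Cfsg.fittingSubgroup H := by
  classical
  haveI : Fact (Nat.Prime 2) := ⟨Nat.prime_two⟩
  have hodd := not_dvd_card_of_fpf_pow g hg hfpf
  refine mem_fitting_of_forall _ fun q hq => ?_
  haveI := Fact.mk hq
  set O := Cfsg.pCore q H with hO
  set C := Subgroup.centralizer (O : Set H) with hC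
  haveI hOc : O.Characteristic := CfsgLib.Cores.pCore_characteristic q
  haveI hCn : C.Normal := inferInstance
  by_cases hObot : O = ⊥
  · have hall : ∀ y : H, QuotientGroup.mk' C y = 1 := fun y => by
      refine (QuotientGroup.eq_one_iff _).2 (Subgroup.mem_centralizer_iff.2 fun a ha => ?_)
      rw [SetLike.mem_coe, hObot, Subgroup.mem_bot] at ha
      rw [ha, one_mul, mul_one]
    rw [hall]; exact one_mem _
  have hqk := hk q hq hObot
  have hOp : IsPGroup q O := CfsgLib.Cores.isPGroup_pCore q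
  have hqdvd : q ∣ Nat.card H := by
    rcases hOp.card_eq_or_dvd with h | h
    · exact absurd (Subgroup.eq_bot_of_card_eq _ h) hObot
    · exact h.trans O.card_subgroup_dvd_card
  have hq2 : q ≠ 2 := fun e => hodd (e ▸ hqdvd)
  obtain ⟨σO, hσO⟩ := CfsgLib.FGS.exists_restrict_mulAut g (H := O)
    fun y hy => apply_mem_of_characteristic g O hy
  have hσO1 : ∀ y : O, ((σO y : O) : H) = g y := fun y => by
    have h := hσO 1 y
    rwa [pow_one, pow_one] at h
  have hCg : ∀ y ∈ C, g y ∈ C := fun y hy => by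
    refine Subgroup.mem_centralizer_iff.2 fun a ha => ?_
    obtain ⟨b, hb⟩ := σO.surjective ⟨a, ha⟩
    have hba : g b = a := by rw [← hσO1, hb]
    rw [← hba, ← map_mul, ← map_mul, Subgroup.mem_centralizer_iff.1 hy b b.2]
  obtain ⟨gA, hgA⟩ := CfsgLib.FGS.exists_quotient_mulAut g hCg
  have hgA1 : ∀ y, gA (QuotientGroup.mk' C y) = QuotientGroup.mk' C (g y) := fun y => by
    have h := hgA 1 y
    rwa [pow_one, pow_one] at h
  have hgAfpf := fpf_quotient g hfpf hCg hgA1
  set A := H ⧸ C with hA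
  haveI : Group.IsSolvable A := inferInstance
  have hgAn : gA ^ (2 ^ n) = 1 := MulEquiv.ext fun t => by
    obtain ⟨y, rfl⟩ := QuotientGroup.mk'_surjective C t
    rw [hgA, hg]; rfl
  -- the faithful action on `O`
  have hker : C ≤ (MulAut.conjNormal : H →* MulAut O).ker := fun y hy => by
    rw [MonoidHom.mem_ker]
    refine MulEquiv.ext fun v => Subtype.ext ?_
    rw [MulAut.conjNormal_apply, ← Subgroup.mem_centralizer_iff.1 hy v v.2, mul_inv_cancel_right]
    rfl
  let α : A →* MulAut O := QuotientGroup.lift C MulAut.conjNormal hker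
  have hα : ∀ (y : H) (v : O), (α (QuotientGroup.mk' C y) v : H) = y * v * y⁻¹ :=
    fun y v => MulAut.conjNormal_apply y v
  have hαinj : Function.Injective α := by
    refine (injective_iff_map_eq_one α).2 fun t ht => ?_
    obtain ⟨y, rfl⟩ := QuotientGroup.mk'_surjective C t
    refine (QuotientGroup.eq_one_iff y).2 (Subgroup.mem_centralizer_iff.2 fun a ha => ?_)
    have h' := hα y ⟨a, ha⟩
    rw [ht] at h'
    calc a * y = y * a * y⁻¹ * y := by rw [← h']; rfl
      _ = y * a := by group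
  have hαg : ∀ t : A, σO * α t * σO⁻¹ = α (gA t) := by
    intro t
    obtain ⟨y, rfl⟩ := QuotientGroup.mk'_surjective C t
    rw [mul_inv_eq_iff_eq_mul, hgA1]
    refine MulEquiv.ext fun v => Subtype.ext ?_
    rw [MulAut.mul_apply, MulAut.mul_apply, hσO1, hα, hα, hσO1, map_mul, map_mul, map_inv]
  -- the quotient by the `q`-core
  set OA := Cfsg.pCore q A with hOA
  haveI hOAc : OA.Characteristic := CfsgLib.Cores.pCore_characteristic q
  haveI hOAn : OA.Normal := inferInstance
  have hOAg : ∀ t ∈ OA, gA t ∈ OA := fun t ht => apply_mem_of_characteristic gA OA ht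
  obtain ⟨gB, hgB⟩ := CfsgLib.FGS.exists_quotient_mulAut gA hOAg
  have hgB1 : ∀ t, gB (QuotientGroup.mk' OA t) = QuotientGroup.mk' OA (gA t) := fun t => by
    have h := hgB 1 t
    rwa [pow_one, pow_one] at h
  have hgBfpf := fpf_quotient gA hgAfpf hOAg hgB1
  set B := A ⧸ OA with hB
  haveI : Group.IsSolvable B := inferInstance
  have hgBn : gB ^ (2 ^ n) = 1 := MulEquiv.ext fun t => by
    obtain ⟨y, rfl⟩ := QuotientGroup.mk'_surjective OA t
    rw [hgB, hgAn]; rfl
  suffices hkey : gB ^ (2 ^ (n - 1)) = 1 by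
    have h1 := hgB (2 ^ (n - 1)) (QuotientGroup.mk' C x)
    rw [hkey, hgA] at h1
    rw [map_mul, map_inv]
    exact QuotientGroup.eq.1 h1
  by_contra hne
  set t := gB ^ (2 ^ (n - 1)) with ht
  have htp : t ^ (2 ^ n) = 1 := by rw [ht, ← pow_mul, mul_comm, pow_mul, hgBn, one_pow]
  have hBodd := not_dvd_card_of_fpf_pow gB hgBn hgBfpf
  set F := Cfsg.fittingSubgroup B with hF
  haveI hFn : F.Normal := CfsgLib.Cores.fittingSubgroup_normal
  obtain ⟨z, hzF, hz⟩ : ∃ z ∈ F, t z ≠ z := by
    by_contra hcon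
    push Not at hcon
    refine hne (aut_eq_refl_of_fix_fitting t hcon ?_)
    obtain ⟨j, -, hj⟩ := (Nat.dvd_prime_pow Nat.prime_two).1 (orderOf_dvd_of_pow_eq_one htp)
    rw [show orderOf (t : B ≃* B) = 2 ^ j from hj]
    exact (Nat.prime_two.coprime_iff_not_dvd.2 hBodd).pow_left j
  obtain ⟨q', hq', z', hz'O, hz'⟩ : ∃ q' : ℕ, q'.Prime ∧ ∃ z' ∈ Cfsg.pCore q' B, t z' ≠ z' := by
    by_contra hcon
    push Not at hcon
    let Fx : Subgroup B :=
      { carrier := {y | t y = y}
        one_mem' := map_one t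
        mul_mem' := fun {a b} (ha : t a = a) (hb : t b = b) => by
          show t (a * b) = a * b
          rw [map_mul, ha, hb]
        inv_mem' := fun {a} (ha : t a = a) => by
          show t a⁻¹ = a⁻¹
          rw [map_inv, ha] }
    have hle : F ≤ Fx := CfsgLib.Cores.fittingSubgroup_le_iSup_pCore.trans
      (iSup_le fun l a ha => hcon l (Nat.prime_of_mem_primeFactors l.2) a ha)
    exact hz (hle hzF)
  haveI := Fact.mk hq'
  set Yb := Cfsg.pCore q' B with hYb
  haveI : Yb.Characteristic := CfsgLib.Cores.pCore_characteristic q'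
  have hYbp : IsPGroup q' Yb := CfsgLib.Cores.isPGroup_pCore q'
  have hqq : q' ≠ q := by
    rintro rfl
    have h1 : z' ∈ Cfsg.pCore q' (A ⧸ Cfsg.pCore q' A) := hz'O
    rw [CfsgLib.Cores.pCore_quotient_self, Subgroup.mem_bot] at h1
    exact hz' (by rw [h1]; exact map_one t)
  have hq'2 : q' ≠ 2 := by
    rintro rfl
    have hbot : Yb = ⊥ := by
      rcases hYbp.card_eq_or_dvd with h | h
      · exact Subgroup.eq_bot_of_card_eq _ h
      · exact absurd (h.trans Yb.card_subgroup_dvd_card) hBodd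
    rw [hbot, Subgroup.mem_bot] at hz'O
    exact hz' (by rw [hz'O, map_one])
  set L := Yb.comap (QuotientGroup.mk' OA) with hL
  have hLg : ∀ a ∈ L, gA a ∈ L := fun a ha => by
    rw [hL, Subgroup.mem_comap, ← hgB1]
    exact apply_mem_of_characteristic gB Yb ha
  obtain ⟨ψ, hψ⟩ := CfsgLib.FGS.exists_restrict_mulAut gA hLg
  have hψ1 : ∀ y : L, ((ψ y : L) : A) = gA y := fun y => by
    have h := hψ 1 y
    rwa [pow_one, pow_one] at h
  obtain ⟨P, hP⟩ := CfsgLib.FGS.exists_invariant_sylow_fpf ψ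
    (fun y hy => Subtype.ext (hgAfpf y (by rw [← hψ1, hy]))) q'
  let π : L →* Yb := ((QuotientGroup.mk' OA).comp L.subtype).codRestrict Yb fun y => y.2
  have hπ : Function.Surjective π := fun b => by
    obtain ⟨a, ha⟩ := QuotientGroup.mk'_surjective OA (b : B)
    exact ⟨⟨a, by rw [hL, Subgroup.mem_comap, ha]; exact b.2⟩, Subtype.ext ha⟩
  have hPtop : (P : Subgroup L).map π = ⊤ := by
    obtain ⟨i, hi⟩ := hYbp.exists_card_eq
    have h1 : Nat.card ((P.mapSurjective hπ : Sylow q' Yb) : Subgroup Yb) = Nat.card Yb := by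
      rw [Sylow.card_eq_multiplicity, hi, Nat.factorization_pow_self hq']
    exact Subgroup.eq_top_of_card_eq _ h1
  obtain ⟨y, hyP, hy⟩ : (⟨z', hz'O⟩ : Yb) ∈ (P : Subgroup L).map π := hPtop ▸ Subgroup.mem_top _
  let f : L →* MulAut O := α.comp L.subtype
  have hinjO : Function.Injective (ρ.comp O.subtype) := hinj.comp Subtype.val_injective
  have hcom := commute_of_moved_action (n := n) hqk h2k hq2 hqq hq'2 hn hOp σO
    (MulEquiv.ext fun v => Subtype.ext (by rw [hσO, hg]; rfl))
    (fun v hv => Subtype.ext (hfpf v (by rw [← hσO1, hv])))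
    (ρ.comp O.subtype) hinjO S
    (fun v => by
      show S * ρ v = ρ ((σO v : O) : H) * S
      rw [hσO1]; exact hS v) hSn hfix
    ((P : Subgroup L).map f) (P.2.map f)
    (by
      rintro _ ⟨a, ha, rfl⟩
      refine ⟨ψ a, hP a ha, ?_⟩
      show α ((ψ a : L) : A) = σO * α (a : A) * σO⁻¹
      rw [hψ1, hαg])
    (by
      rintro _ ⟨a, -, rfl⟩ h1
      have h2 : gA (a : A) = a := hαinj (by rw [← hαg]; exact h1)
      show α (a : A) = 1
      rw [hgAfpf _ h2, map_one])
    (y := f y) ⟨y, hyP, rfl⟩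
  have hpow : ∀ i : ℕ, σO ^ i * α (y : A) = α ((gA ^ i) y) * σO ^ i := by
    intro i
    induction i with
    | zero => simp
    | succ i ih' =>
      calc σO ^ (i + 1) * α (y : A) = σO * (σO ^ i * α (y : A)) := by rw [pow_succ', mul_assoc]
        _ = (σO * α ((gA ^ i) y) * σO⁻¹) * (σO * σO ^ i) := by rw [ih']; group
        _ = α ((gA ^ (i + 1)) y) * σO ^ (i + 1) := by
          rw [hαg, ← pow_succ', pow_succ' gA]; rfl
  have hfix' : (gA ^ (2 ^ (n - 1))) (y : A) = y :=
    hαinj (mul_right_cancel ((hpow _).symm.trans hcom))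
  apply hz'
  have hy' : QuotientGroup.mk' OA (y : A) = z' := congrArg Subtype.val hy
  rw [← hy', ht, hgB, hfix']

set_option maxHeartbeats 1000000 in
/-- For a fixed-point-free `σ` of order dividing `2 ^ n`, the power of index `2 ^ (n - 1)` is
trivial modulo the second Fitting subgroup. -/
theorem inv_mul_mem_fitting_two {n : ℕ} (hn : 0 < n) :
    ∀ (c : ℕ) {G : Type u} [Group G] [Finite G] [Group.IsSolvable G]
      [(Cfsg.fittingSubgroup G).Normal] (σ : MulAut G),
      Nat.card G = c → σ ^ (2 ^ n) = 1 → (∀ x, σ x = x → x = 1) →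
      ∀ x : G, QuotientGroup.mk' (Cfsg.fittingSubgroup G) (x⁻¹ * (σ ^ (2 ^ (n - 1))) x) ∈
        Cfsg.fittingSubgroup (G ⧸ Cfsg.fittingSubgroup G) := by
  intro c
  induction c using Nat.strong_induction_on with
  | _ c ih =>
  intro G _ _ _ _ σ hc hσ hfpf x
  classical
  haveI : Fact (Nat.Prime 2) := ⟨Nat.prime_two⟩
  rcases subsingleton_or_nontrivial G with hs | hs
  · rw [Subsingleton.elim (x⁻¹ * _) 1, map_one]
    exact one_mem _
  set τ := σ ^ (2 ^ (n - 1)) with hτ
  obtain ⟨N, ⟨hNn, hNσ, hN⟩, hNmin⟩ := (wellFounded_lt (α := Subgroup G)).has_min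
    {K : Subgroup G | K.Normal ∧ (∀ y ∈ K, σ y ∈ K) ∧ K ≠ ⊥}
    ⟨⊤, inferInstance, fun y _ => Subgroup.mem_top _, top_ne_bot⟩
  haveI := hNn
  have hmin : ∀ K : Subgroup G, K.Normal → (∀ y ∈ K, σ y ∈ K) → K ≤ N → K = ⊥ ∨ K = N :=
    fun K hK hKσ hle => by
      by_contra hcon
      push Not at hcon
      exact hNmin K ⟨hK, hKσ, hcon.1⟩ (lt_of_le_of_ne hle hcon.2)
  have hodd := not_dvd_card_of_fpf_pow σ hσ hfpf
  obtain ⟨ψ, hψ⟩ := CfsgLib.FGS.exists_restrict_mulAut σ hNσ
  have hψ1 : ∀ z : N, ((ψ z : N) : G) = σ z := fun z => by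
    have h := hψ 1 z
    rwa [pow_one, pow_one] at h
  have hNab : ∀ a ∈ N, ∀ b ∈ N, a * b = b * a := by
    have hlt : ⁅N, N⁆ < N :=
      commutator_self_lt (isSolvable_of_le (K := (⊤ : Subgroup G))
        (Group.isSolvable_of_isSolvable_injective (f := (⊤ : Subgroup G).subtype)
          Subtype.val_injective) le_top) hN
    have hσ' : ∀ z ∈ ⁅N, N⁆, σ z ∈ ⁅N, N⁆ := fun z hz => by
      have : (⁅N, N⁆ : Subgroup G).map σ.toMonoidHom ≤ ⁅N, N⁆ := by
        rw [Subgroup.map_commutator]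
        exact Subgroup.commutator_mono (Subgroup.map_le_iff_le_comap.2 hNσ)
          (Subgroup.map_le_iff_le_comap.2 hNσ)
      exact this ⟨z, hz, rfl⟩
    rcases hmin _ inferInstance hσ' hlt.le with h | h
    · intro a ha b hb
      rw [← commutatorElement_eq_one_iff_mul_comm, ← Subgroup.mem_bot, ← h]
      exact Subgroup.commutator_mem_commutator ha hb
    · exact absurd h hlt.ne
  obtain ⟨r, hr, hrdvd⟩ := Nat.exists_prime_and_dvd
    (fun h : Nat.card N = 1 => hN (Subgroup.eq_bot_of_card_eq _ h))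
  haveI := Fact.mk hr
  have hr2 : r ≠ 2 := fun e => hodd (e ▸ hrdvd.trans N.card_subgroup_dvd_card)
  have hexp : ∀ z ∈ N, z ^ r = 1 := by
    let E : Subgroup G :=
      { carrier := {z | z ∈ N ∧ z ^ r = 1}
        one_mem' := ⟨N.one_mem, one_pow r⟩
        mul_mem' := fun {a b} ha hb => ⟨N.mul_mem ha.1 hb.1, by
          rw [(show Commute a b from hNab a ha.1 b hb.1).mul_pow, ha.2, hb.2, one_mul]⟩
        inv_mem' := fun {a} ha => ⟨N.inv_mem ha.1, by rw [inv_pow, ha.2, inv_one]⟩ }
    have hEn : E.Normal := ⟨fun z hz g => ⟨hNn.conj_mem z hz.1 g, by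
      rw [conj_pow, hz.2]; simp⟩⟩
    have hEσ : ∀ z ∈ E, σ z ∈ E := fun z hz => ⟨hNσ z hz.1, by rw [← map_pow, hz.2, map_one]⟩
    obtain ⟨a, ha⟩ := exists_prime_orderOf_dvd_card' r hrdvd
    rcases hmin E hEn hEσ (fun z hz => hz.1) with h | h
    · exfalso
      have h1 : (a : G) ∈ E := ⟨a.2, by
        rw [← Subgroup.coe_pow, ← ha, pow_orderOf_eq_one]; rfl⟩
      rw [h, Subgroup.mem_bot] at h1
      rw [← Subgroup.orderOf_coe, h1, orderOf_one] at ha
      exact hr.ne_one ha.symm
    · intro z hz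
      exact ((h.symm ▸ hz : z ∈ E)).2
  -- the quotient by the centraliser
  set C := Subgroup.centralizer (N : Set G) with hC
  have hCσ : ∀ z ∈ C, σ z ∈ C := by
    intro z hz
    rw [hC, Subgroup.mem_centralizer_iff]
    intro a ha
    obtain ⟨b, hb⟩ := ψ.surjective ⟨a, ha⟩
    have hba : σ b = a := by rw [← hψ1, hb]
    rw [← hba, ← map_mul, ← map_mul, Subgroup.mem_centralizer_iff.1 hz b b.2]
  haveI hCn : C.Normal := inferInstance
  obtain ⟨g, hg⟩ := CfsgLib.FGS.exists_quotient_mulAut σ hCσ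
  have hg1 : ∀ y, g (QuotientGroup.mk' C y) = QuotientGroup.mk' C (σ y) := fun y => by
    have h := hg 1 y
    rwa [pow_one, pow_one] at h
  set H := G ⧸ C
  haveI : Group.IsSolvable H := inferInstance
  have hgn : g ^ (2 ^ n) = 1 := MulEquiv.ext fun t => by
    obtain ⟨y, rfl⟩ := QuotientGroup.mk'_surjective C t
    rw [hg, hσ]; rfl
  letI : CommGroup N :=
    { N.toGroup with mul_comm := fun a b => Subtype.ext (hNab a a.2 b b.2) }
  have hker : C ≤ (MulAut.conjNormal : G →* MulAut N).ker := fun y hy => by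
    rw [MonoidHom.mem_ker]
    refine MulEquiv.ext fun v => Subtype.ext ?_
    rw [MulAut.conjNormal_apply, ← Subgroup.mem_centralizer_iff.1 hy v v.2, mul_inv_cancel_right]
    rfl
  let cH : H →* MulAut N := QuotientGroup.lift C MulAut.conjNormal hker
  have hcH : ∀ (y : G) (v : N), (cH (QuotientGroup.mk' C y) v : G) = y * v * y⁻¹ :=
    fun y v => MulAut.conjNormal_apply y v
  have hcHinj : Function.Injective cH := by
    refine (injective_iff_map_eq_one cH).2 fun t ht => ?_
    obtain ⟨y, rfl⟩ := QuotientGroup.mk'_surjective C t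
    refine (QuotientGroup.eq_one_iff y).2 (Subgroup.mem_centralizer_iff.2 fun a ha => ?_)
    have h' := hcH y ⟨a, ha⟩
    rw [ht] at h'
    calc a * y = y * a * y⁻¹ * y := by rw [← h']; rfl
      _ = y * a := by group
  have hSc : ∀ y : H, ψ * cH y = cH (g y) * ψ := by
    intro y
    obtain ⟨y, rfl⟩ := QuotientGroup.mk'_surjective C y
    rw [hg1]
    refine MulEquiv.ext fun v => Subtype.ext ?_
    rw [MulAut.mul_apply, MulAut.mul_apply, hψ1, hcH, hcH, hψ1, map_mul, map_mul, map_inv]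
  -- no `r`-core
  have hcore : Cfsg.pCore r H = ⊥ := by
    set Qq := Cfsg.pCore r H with hQq
    have hQqp : IsPGroup r Qq := CfsgLib.Cores.isPGroup_pCore r
    haveI : Qq.Characteristic := CfsgLib.Cores.pCore_characteristic r
    have hQqσ : ∀ y ∈ Qq, g y ∈ Qq := fun y hy => apply_mem_of_characteristic g Qq hy
    by_contra hQne
    letI : MulAction Qq N :=
      { smul := fun y v => cH (y : H) v
        one_smul := fun v => by
          show cH ((1 : Qq) : H) v = v
          rw [OneMemClass.coe_one, map_one]; rfl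
        mul_smul := fun a b v => by
          show cH ((a * b : Qq) : H) v = cH (a : H) (cH (b : H) v)
          rw [Subgroup.coe_mul, map_mul]; rfl }
    obtain ⟨v, hv, hv0⟩ := hQqp.exists_fixed_point_of_prime_dvd_card_of_fixed_point N
      hrdvd (a := (1 : N)) (fun y => map_one (cH (y : H)))
    set L := Qq.comap (QuotientGroup.mk' C) with hL
    have hLn : L.Normal := inferInstance
    have hLσ : ∀ y ∈ L, σ y ∈ L := fun y hy => by
      rw [hL, Subgroup.mem_comap, ← hg1]; exact hQqσ _ hy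
    let M : Subgroup G := N ⊓ Subgroup.centralizer (L : Set G)
    have hMn : M.Normal := inferInstance
    have hMσ : ∀ y ∈ M, σ y ∈ M := fun y hy => ⟨hNσ y hy.1, by
      refine Subgroup.mem_centralizer_iff.2 fun l hl => ?_
      obtain ⟨η, hη⟩ := CfsgLib.FGS.exists_restrict_mulAut σ hLσ
      obtain ⟨l₀, hl₀⟩ := η.surjective ⟨_, hl⟩
      have h := hη 1 l₀
      rw [pow_one, pow_one, hl₀] at h
      rw [show l = σ l₀ from h, ← map_mul, ← map_mul,
        Subgroup.mem_centralizer_iff.1 hy.2 l₀ l₀.2]⟩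
    have hvM : (v : G) ∈ M := ⟨v.2, by
      refine Subgroup.mem_centralizer_iff.2 fun l hl => ?_
      have h : cH (QuotientGroup.mk' C l) v = v := hv ⟨_, hl⟩
      have h2 := hcH l v
      rw [h] at h2
      calc l * (v : G) = l * v * l⁻¹ * l := by group
        _ = _ := by rw [← h2]⟩
    rcases hmin M hMn hMσ inf_le_left with h | h
    · rw [h, Subgroup.mem_bot] at hvM
      exact hv0 (Subtype.ext hvM).symm
    · refine hQne ((Subgroup.eq_bot_iff_forall _).2 fun y hy => ?_)
      obtain ⟨y, rfl⟩ := QuotientGroup.mk'_surjective C y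
      refine (QuotientGroup.eq_one_iff y).2 (Subgroup.mem_centralizer_iff.2 fun a ha => ?_)
      have ha' : a ∈ M := h ▸ ha
      exact (Subgroup.mem_centralizer_iff.1 ha'.2 y hy).symm
  obtain ⟨d, f, hfinj, hffix⟩ := exists_scalar_rep N r (fun a => Subtype.ext (hexp a a.2))
  have hcast : ∀ l : ℕ, l.Prime → l ≠ r → (l : AlgebraicClosure (ZMod r)) ≠ 0 :=
    fun l hl hlr h => hlr
      ((Nat.prime_dvd_prime_iff_eq hr hl).1
        ((CharP.cast_eq_zero_iff (AlgebraicClosure (ZMod r)) r l).1 h)).symm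
  have hψn : ψ ^ (2 ^ n) = 1 := MulEquiv.ext fun v => Subtype.ext (by rw [hψ, hσ]; rfl)
  have hFH := inv_mul_mem_fitting_of_rep (n := n) hn
    (by exact_mod_cast hcast 2 Nat.prime_two hr2.symm)
    (fun q hq hne => hcast q hq fun e => hne (e ▸ hcore)) g hgn (fpf_quotient σ hfpf hCσ hg1)
    (f.comp cH) (hfinj.comp hcHinj) (f ψ)
    (fun y => by
      show f ψ * f (cH y) = f (cH (g y)) * f ψ
      rw [← map_mul, ← map_mul, hSc])
    (by rw [← map_pow, hψn, map_one])
    (hffix ψ fun v hv => Subtype.ext (hfpf v (by rw [← hψ1, hv]))) (QuotientGroup.mk' C x)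
  rw [hg, ← map_inv, ← map_mul, ← hτ] at hFH
  -- induction
  obtain ⟨gN, hgN⟩ := CfsgLib.FGS.exists_quotient_mulAut σ hNσ
  have hgN1 : ∀ y, gN (QuotientGroup.mk' N y) = QuotientGroup.mk' N (σ y) := fun y => by
    have h := hgN 1 y
    rwa [pow_one, pow_one] at h
  haveI hFNn : (Cfsg.fittingSubgroup (G ⧸ N)).Normal := CfsgLib.Cores.fittingSubgroup_normal
  have h2 := ih _ (hc ▸ card_quotient_lt N hN) gN rfl
    (MulEquiv.ext fun t => by
      obtain ⟨y, rfl⟩ := QuotientGroup.mk'_surjective N t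
      rw [hgN, hσ]; rfl)
    (fpf_quotient σ hfpf hNσ hgN1) (QuotientGroup.mk' N x)
  rw [hgN, ← map_inv, ← map_mul, ← hτ] at h2
  let a : G →* (G ⧸ N) ⧸ Cfsg.fittingSubgroup (G ⧸ N) :=
    (QuotientGroup.mk' (Cfsg.fittingSubgroup (G ⧸ N))).comp (QuotientGroup.mk' N)
  set F2N := Cfsg.fittingSubgroup ((G ⧸ N) ⧸ Cfsg.fittingSubgroup (G ⧸ N)) with hF2N
  haveI : F2N.Normal := CfsgLib.Cores.fittingSubgroup_normal
  haveI : (Cfsg.fittingSubgroup H).Normal := CfsgLib.Cores.fittingSubgroup_normal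
  set Z : Subgroup G := F2N.comap a ⊓ (Cfsg.fittingSubgroup H).comap (QuotientGroup.mk' C) with hZ
  haveI : Z.Normal := inferInstance
  set FG := Cfsg.fittingSubgroup G with hFG
  haveI : (Z.map (QuotientGroup.mk' FG)).Normal :=
    (inferInstance : Z.Normal).map _ (QuotientGroup.mk'_surjective FG)
  suffices hnil : Group.IsNilpotent (Z.map (QuotientGroup.mk' FG)) from
    CfsgLib.Cores.le_fittingSubgroup hnil ⟨_, ⟨h2, hFH⟩, rfl⟩
  haveI := CfsgLib.Cores.isNilpotent_fittingSubgroup (G := H)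
  haveI : Group.IsNilpotent F2N := CfsgLib.Cores.isNilpotent_fittingSubgroup
  let fZ : Z →* F2N × Cfsg.fittingSubgroup H :=
    ((a.comp Z.subtype).codRestrict F2N fun z => z.2.1).prod
      (((QuotientGroup.mk' C).comp Z.subtype).codRestrict _ fun z => z.2.2)
  -- the kernel lies in the Fitting subgroup
  set W : Subgroup G := (Cfsg.fittingSubgroup (G ⧸ N)).comap (QuotientGroup.mk' N) ⊓ C with hW
  haveI : W.Normal := inferInstance
  have hWnil : Group.IsNilpotent W := by
    let fW : W →* Cfsg.fittingSubgroup (G ⧸ N) :=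
      ((QuotientGroup.mk' N).comp W.subtype).codRestrict _ fun z => z.2.1
    haveI := CfsgLib.Cores.isNilpotent_fittingSubgroup (G := G ⧸ N)
    refine Subgroup.isNilpotent_of_ker_le_center fW ?_
    intro z hz
    have hzN : (z : G) ∈ N := (QuotientGroup.eq_one_iff _).1 (congrArg Subtype.val hz :)
    exact Subgroup.mem_center_iff.2 fun w => Subtype.ext
      (Subgroup.mem_centralizer_iff.1 w.2.2 (z : G) hzN).symm
  have hkerle : fZ.ker ≤ ((QuotientGroup.mk' FG).subgroupMap Z).ker := by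
    intro z hz
    have h1 : a (z : G) = 1 := congrArg Subtype.val (congrArg Prod.fst hz :)
    have h3 : QuotientGroup.mk' C (z : G) = 1 := congrArg Subtype.val (congrArg Prod.snd hz :)
    have hzW : (z : G) ∈ W := ⟨(QuotientGroup.eq_one_iff (QuotientGroup.mk' N (z : G))).1 h1,
      (QuotientGroup.eq_one_iff _).1 h3⟩
    exact Subtype.ext ((QuotientGroup.eq_one_iff _).2 (CfsgLib.Cores.le_fittingSubgroup hWnil hzW))
  haveI : Group.IsNilpotent (Z ⧸ fZ.ker) :=
    Group.nilpotent_of_mulEquiv (QuotientGroup.quotientKerEquivRange fZ).symm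
  exact Group.nilpotent_of_surjective
    (QuotientGroup.lift fZ.ker ((QuotientGroup.mk' FG).subgroupMap Z) hkerle)
    (fun b => by
      obtain ⟨z, hz⟩ := (QuotientGroup.mk' FG).subgroupMap_surjective Z b
      exact ⟨QuotientGroup.mk z, hz⟩)

theorem chain_step {G : Type u} [Group G] (N : Subgroup G) [N.Normal] (hN : Group.IsNilpotent N)
    {m : ℕ}
    (h : ∃ F : Fin (m + 1) → Subgroup (G ⧸ N), F 0 = ⊥ ∧ F (Fin.last m) = ⊤ ∧ Monotone F ∧
      (∀ i, (F i).Normal) ∧
      ∀ i : Fin m, ∃ k : ℕ, (F i.succ).lowerCentralSeries k ≤ F i.castSucc) :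
    ∃ F : Fin (m + 1 + 1) → Subgroup G, F 0 = ⊥ ∧ F (Fin.last (m + 1)) = ⊤ ∧ Monotone F ∧
      (∀ i, (F i).Normal) ∧
      ∀ i : Fin (m + 1), ∃ k : ℕ, (F i.succ).lowerCentralSeries k ≤ F i.castSucc := by
  obtain ⟨F, hF0, hFl, hFm, hFN, hFs⟩ := h
  let F' : Fin (m + 1 + 1) → Subgroup G :=
    Fin.cons ⊥ fun i => (F i).comap (QuotientGroup.mk' N)
  refine ⟨F', rfl, ?_, ?_, ?_, ?_⟩
  · rw [← Fin.succ_last]
    simp only [F', Fin.cons_succ, hFl, Subgroup.comap_top]
  · refine Fin.monotone_iff_le_succ.2 fun i => ?_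
    induction i using Fin.cases with
    | zero => exact bot_le
    | succ j =>
      simp only [F', Fin.castSucc_succ, Fin.cons_succ]
      exact Subgroup.comap_mono (hFm (Fin.castSucc_le_succ j))
  · intro i
    induction i using Fin.cases with
    | zero => simp only [F', Fin.cons_zero]; infer_instance
    | succ j => simp only [F', Fin.cons_succ]; exact (hFN j).comap _
  · intro i
    induction i using Fin.cases with
    | zero =>
      obtain ⟨k, hk⟩ := (Subgroup.isNilpotent_iff_lowerCentralSeries N).1 hN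
      refine ⟨k, ?_⟩
      simp only [F', Fin.castSucc_zero, Fin.cons_zero, Fin.cons_succ, hF0, MonoidHom.comap_bot,
        QuotientGroup.ker_mk']
      exact hk.le
    | succ j =>
      obtain ⟨k, hk⟩ := hFs j
      refine ⟨k, ?_⟩
      simp only [F', Fin.castSucc_succ, Fin.cons_succ]
      rw [← Subgroup.map_le_iff_le_comap, Subgroup.map_lowerCentralSeries,
        Subgroup.map_comap_eq_self_of_surjective (QuotientGroup.mk'_surjective N)]
      exact hk

theorem gross_chain : ∀ (j : ℕ) {G : Type u} [Group G] [Finite G] [Group.IsSolvable G]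
    (σ : MulAut G), σ ^ (2 ^ (j + 2)) = 1 → (∀ x, σ x = x → x = 1) →
      ∃ F : Fin (2 * j + 2 + 1) → Subgroup G, F 0 = ⊥ ∧ F (Fin.last (2 * j + 2)) = ⊤ ∧
        Monotone F ∧ (∀ i, (F i).Normal) ∧
        ∀ i : Fin (2 * j + 2), ∃ k : ℕ, (F i.succ).lowerCentralSeries k ≤ F i.castSucc := by
  intro j
  induction j with
  | zero =>
    intro G _ _ _ σ hσ hfpf
    haveI hnil : Group.IsNilpotent (commutator G) :=
      CfsgLib.PGroup.FpfFour.isNilpotent_commutator _ σ rfl hσ hfpf
    refine chain_step (commutator G) hnil (m := 1) ⟨Fin.cons ⊥ fun _ => ⊤, rfl, rfl, ?_, ?_,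
      fun i => ⟨1, ?_⟩⟩
    · refine Fin.monotone_iff_le_succ.2 fun i => ?_
      fin_cases i
      exact bot_le
    · intro i
      induction i using Fin.cases with
      | zero => simp only [Fin.cons_zero]; infer_instance
      | succ j => simp only [Fin.cons_succ]; infer_instance
    · fin_cases i
      show (⊤ : Subgroup (G ⧸ commutator G)).lowerCentralSeries 1 ≤ ⊥
      rw [Subgroup.lowerCentralSeries_one]
      refine Subgroup.commutator_le.2 ?_
      intro a _ b _
      rw [Subgroup.mem_bot, commutatorElement_eq_one_iff_mul_comm]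
      induction a using QuotientGroup.induction_on with
      | H a =>
        induction b using QuotientGroup.induction_on with
        | H b =>
          show (QuotientGroup.mk (a * b) : G ⧸ commutator G) = QuotientGroup.mk (b * a)
          refine QuotientGroup.eq.2 ?_
          have e : (a * b)⁻¹ * (b * a) = ⁅b⁻¹, a⁻¹⁆ := by rw [commutatorElement_def]; group
          rw [e]
          exact Subgroup.commutator_mem_commutator (Subgroup.mem_top _) (Subgroup.mem_top _)
  | succ j ih =>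
    intro G _ _ _ σ hσ hfpf
    set FG := Cfsg.fittingSubgroup G
    haveI hFn : FG.Normal := CfsgLib.Cores.fittingSubgroup_normal
    haveI hFc : FG.Characteristic := CfsgLib.Cores.fittingSubgroup_characteristic
    have hFσ : ∀ y ∈ FG, σ y ∈ FG := fun y hy => apply_mem_of_characteristic σ FG hy
    obtain ⟨g, hg⟩ := CfsgLib.FGS.exists_quotient_mulAut σ hFσ
    have hg1 : ∀ y, g (QuotientGroup.mk' FG y) = QuotientGroup.mk' FG (σ y) := fun y => by
      have h := hg 1 y
      rwa [pow_one, pow_one] at h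
    have hgfpf := fpf_quotient σ hfpf hFσ hg1
    set F1 := Cfsg.fittingSubgroup (G ⧸ FG)
    haveI hF1n : F1.Normal := CfsgLib.Cores.fittingSubgroup_normal
    haveI hF1c : F1.Characteristic := CfsgLib.Cores.fittingSubgroup_characteristic
    have hF1g : ∀ y ∈ F1, g y ∈ F1 := fun y hy => apply_mem_of_characteristic g F1 hy
    obtain ⟨g2, hg2⟩ := CfsgLib.FGS.exists_quotient_mulAut g hF1g
    have hg21 : ∀ y, g2 (QuotientGroup.mk' F1 y) = QuotientGroup.mk' F1 (g y) := fun y => by
      have h := hg2 1 y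
      rwa [pow_one, pow_one] at h
    have hg2n : g2 ^ (2 ^ (j + 2)) = 1 := MulEquiv.ext fun t => by
      obtain ⟨y, rfl⟩ := QuotientGroup.mk'_surjective F1 t
      obtain ⟨y, rfl⟩ := QuotientGroup.mk'_surjective FG y
      rw [hg2, hg]
      refine (QuotientGroup.eq.2 ?_).symm
      have h := inv_mul_mem_fitting_two (n := j + 3) (Nat.succ_pos _) _ σ rfl hσ hfpf y
      rw [map_mul, map_inv] at h
      exact h
    exact chain_step FG CfsgLib.Cores.isNilpotent_fittingSubgroup
      (chain_step F1 CfsgLib.Cores.isNilpotent_fittingSubgroup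
        (ih g2 hg2n (fpf_quotient g hgfpf hF1g hg21)))

end CfsgLib.Solvable
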