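import Cfsg.Agent.Lib.Solvable.HallHigmanData
import Cfsg.Agent.Lib.Solvable.CharProjection

/-!
Upper level of Gross's two-level argument for automorphisms of `2`-power order: two exceptional
components cannot lie on top of each other.
-/

set_option autoImplicit false

open scoped commutatorElement

namespace CfsgLib.Solvable

theorem exists_roots_pow_eq {K : Type*} [Field K] [IsAlgClosed K] {h : ℕ} (hh : (h : K) ≠ 0)
    (s : K) (hs : s ≠ 0) : ∃ T : Finset K, T.card = h ∧ ∀ α ∈ T, α ^ h = s := by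
  classical
  haveI : NeZero (h : K) := ⟨hh⟩
  haveI : NeZero h := ⟨fun e => hh (by rw [e, Nat.cast_zero])⟩
  letI : Fintype (rootsOfUnity h K) := Fintype.ofFinite _
  obtain ⟨α₁, hα₁⟩ := IsAlgClosed.exists_pow_nat_eq s (Nat.pos_of_ne_zero (NeZero.ne h))
  have hα₁0 : α₁ ≠ 0 := fun e => hs (by rw [← hα₁, e, zero_pow (NeZero.ne h)])
  refine ⟨Finset.univ.image fun u : rootsOfUnity h K => ((u : Kˣ) : K) * α₁, ?_, ?_⟩
  · rw [Finset.card_image_of_injective _ (fun u v huv => Subtype.ext (Units.ext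
      (mul_right_cancel₀ hα₁0 huv))), Finset.card_univ, ← Nat.card_eq_fintype_card]
    exact HasEnoughRootsOfUnity.natCard_rootsOfUnity K h
  · intro α hα
    obtain ⟨u, -, rfl⟩ := Finset.mem_image.1 hα
    rw [mul_pow, hα₁, ← Units.val_pow_eq_pow_val,
      show ((u : Kˣ) ^ h) = 1 from u.2, Units.val_one, one_mul]

section

variable {K : Type*} [Field K] {V W : Type*} [AddCommGroup V] [Module K V] [AddCommGroup W]
  [Module K W] {U : Type*} [CommGroup U] [Finite U]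

theorem comp_charProj (π : V →ₗ[K] W) (ρ : U →* Module.End K V) (ρ' : U →* Module.End K W)
    (h : ∀ u v, π (ρ u v) = ρ' u (π v)) (χ : U →* Kˣ) (v : V) :
    π (charProj ρ χ v) = charProj ρ' χ (π v) := by
  letI := Fintype.ofFinite U
  simp [charProj, LinearMap.sum_apply, map_sum, h]

theorem end_pow_apply_eigen (T : Module.End K V) {v : V} {c : K} (h : T v = c • v) :
    ∀ i : ℕ, (T ^ i) v = c ^ i • v := by
  intro i
  induction i with
  | zero => simp
  | succ i ih => rw [pow_succ', Module.End.mul_apply, ih, map_smul, h, smul_smul, ← pow_succ]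

theorem card_le_finrank_of_eigen [FiniteDimensional K V] (T : Module.End K V) (S : Submodule K V)
    (s : Finset K) (h : ∀ α ∈ s, ∃ v ∈ S, v ≠ 0 ∧ T v = α • v) :
    s.card ≤ Module.finrank K S := by
  classical
  choose v hvS hv0 hv using fun α : s => h α α.2
  have hli : LinearIndependent K v :=
    Module.End.eigenvectors_linearIndependent' T (fun α : s => (α : K)) Subtype.val_injective v
      fun α => ⟨Module.End.mem_eigenspace_iff.2 (hv α), hv0 α⟩
  let v' : s → S := fun α => ⟨v α, hvS α⟩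
  have hli' : LinearIndependent K v' := LinearIndependent.of_comp S.subtype hli
  have h2 := hli'.fintype_card_le_finrank
  simpa using h2

end

set_option maxHeartbeats 2000000 in
/-- Gross's exclusion of a second exceptional level. -/
theorem false_of_two_level {K : Type*} [Field K] [IsAlgClosed K] {VE VT : Type*}
    [AddCommGroup VE] [Module K VE] [FiniteDimensional K VE] [AddCommGroup VT] [Module K VT]
    [FiniteDimensional K VT] {Y : Type*} [Group Y] [Finite Y] {q' : ℕ} [hq' : Fact q'.Prime]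
    {n a M : ℕ} (hn : a + M = n) (hM : 2 ≤ M) (h2K : (2 : K) ≠ 0) (hq'K : (q' : K) ≠ 0)
    (hY : IsPGroup q' Y) (hdiff : ∀ l, q' ^ l + 1 ≠ 2 ^ M)
    (σ : MulAut Y) (hσ : σ ^ (2 ^ n) = 1)
    (U : Subgroup Y) (hUc : U ≤ Subgroup.center Y) (hUσ : ∀ y ∈ U, σ y ∈ U)
    (hUD : ∀ x y : Y, ⁅x, y⁆ ∈ U) (hUτ : ∀ y ∈ U, (σ ^ (2 ^ (n - 1))) y = y)
    (hUfpf : ∀ x, x⁻¹ * (σ ^ (2 ^ (n - 1))) x ∈ U → x ∈ U)
    (hgen : Subgroup.closure (Set.range fun x : Y => x⁻¹ * (σ ^ (2 ^ (n - 1))) x) = ⊤)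
    (ρE : Y →* Module.End K VE) (SE : Module.End K VE)
    (hSE : ∀ y, SE * ρE y = ρE (σ y) * SE) (hSEn : SE ^ (2 ^ n) = 1)
    (hfix : ∀ v, SE v = v → v = 0)
    (ρT : Y →* Module.End K VT) (ST : Module.End K VT)
    (hST : ∀ y, ST * ρT y = ρT ((σ ^ (2 ^ a)) y) * ST) (hSTn : ST ^ (2 ^ M) = 1)
    (π : VE →ₗ[K] VT) (hπ : Function.Surjective π)
    (hπρ : ∀ y v, π (ρE y v) = ρT y (π v)) (hπS : ∀ v, π ((SE ^ (2 ^ a)) v) = ST (π v))
    (hmoved : ∃ y, ρT ((σ ^ (2 ^ (n - 1))) y) ≠ ρT y)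
    (hdim : Module.finrank K ((ST ^ (2 ^ (M - 1))).eigenspace (-1)) ≤ 2) : False := by
  classical
  haveI : Fact (Nat.Prime 2) := ⟨Nat.prime_two⟩
  set τ := σ ^ (2 ^ (n - 1)) with hτ
  have hcardU : (Nat.card U : K) ≠ 0 := by
    obtain ⟨i, hi⟩ := (hY.to_subgroup U).exists_card_eq
    rw [hi, Nat.cast_pow]; exact pow_ne_zero _ hq'K
  have hYk : (Nat.card Y : K) ≠ 0 := by
    obtain ⟨i, hi⟩ := hY.exists_card_eq
    rw [hi, Nat.cast_pow]; exact pow_ne_zero _ hq'K
  have hcomm : ∀ {x y : Y}, x ∈ U → Commute y x := fun hx => Subgroup.mem_center_iff.1 (hUc hx) _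
  letI : CommGroup U :=
    { U.toGroup with mul_comm := fun x y => Subtype.ext (hcomm y.2).eq }
  obtain ⟨φ, hφ⟩ := CfsgLib.FGS.exists_restrict_mulAut σ hUσ
  have hφ1 : ∀ x : U, ((φ x : U) : Y) = σ x := fun x => by
    have h1 := hφ 1 x
    rwa [pow_one, pow_one] at h1
  have hφn : φ ^ (2 ^ n) = 1 := MulEquiv.ext fun u => Subtype.ext (by rw [hφ, hσ]; rfl)
  let ρUE : U →* Module.End K VE := ρE.comp U.subtype
  let ρUT : U →* Module.End K VT := ρT.comp U.subtype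
  obtain ⟨y₀, hy₀⟩ := hmoved
  obtain ⟨μ, hμ⟩ : ∃ μ, charProj ρUT μ * ρT (τ y₀) ≠ charProj ρUT μ * ρT y₀ := by
    by_contra hcon
    push Not at hcon
    exact hy₀ (ext_charProj ρUT hcardU hcon)
  set eE := charProj ρUE μ with heE
  set eT := charProj ρUT μ with heT
  have hπe : ∀ v, π (eE v) = eT (π v) := comp_charProj π ρUE ρUT (fun u v => hπρ u v) μ
  have hSUE : ∀ u : U, SE * ρUE u = ρUE (φ u) * SE := fun u => by
    show SE * ρE u = ρE ((φ u : U) : Y) * SE
    rw [hφ1]; exact hSE u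
  obtain ⟨a', ha', hper, hne⟩ := exists_period φ hφn μ
  set WE : Submodule K VE := LinearMap.range eE with hWE
  set WT : Submodule K VT := LinearMap.range eT with hWT
  have heEE : eE * eE = eE := charProj_idem ρUE hcardU μ
  have heTT : eT * eT = eT := charProj_idem ρUT hcardU μ
  have hWEe : ∀ w ∈ WE, eE w = w := by
    rintro _ ⟨w, rfl⟩; rw [← Module.End.mul_apply, heEE]
  have hWTe : ∀ w ∈ WT, eT w = w := by
    rintro _ ⟨w, rfl⟩; rw [← Module.End.mul_apply, heTT]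
  have hcE : ∀ y, ρE y * eE = eE * ρE y := fun y => charProj_comm ρUE μ fun u => by
    show ρE y * ρE (u : Y) = ρE (u : Y) * ρE y
    rw [← map_mul, ← map_mul, (hcomm u.2).eq]
  have hcT : ∀ y, ρT y * eT = eT * ρT y := fun y => charProj_comm ρUT μ fun u => by
    show ρT y * ρT (u : Y) = ρT (u : Y) * ρT y
    rw [← map_mul, ← map_mul, (hcomm u.2).eq]
  have hπW : ∀ w ∈ WE, π w ∈ WT := fun w hw => ⟨π w, by rw [← hπe, hWEe w hw]⟩
  have hπsurjW : ∀ v ∈ WT, ∃ w ∈ WE, π w = v := fun v hv => by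
    obtain ⟨w, hw⟩ := hπ v
    exact ⟨eE w, ⟨w, rfl⟩, by rw [hπe, hw, hWTe v hv]⟩
  have hWTne : eT ≠ 0 := fun h => hμ (by rw [h, zero_mul, zero_mul])
  have hlt : a' < n := by
    rcases ha'.lt_or_eq with h | rfl
    · exact h
    exfalso
    refine hWTne (LinearMap.ext fun v => ?_)
    obtain ⟨w, hw, hwv⟩ := hπsurjW _ ⟨v, rfl⟩
    have : w = 0 := eq_zero_of_component ρUE hcardU φ hSUE hfix (pow_pos two_pos a') hne
      (hWEe w hw) (by rw [hSEn]; rfl)
    rw [← hwv, this, map_zero]; rfl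
  obtain ⟨m, hm⟩ : ∃ m, n = a' + (m + 1) := ⟨n - a' - 1, by omega⟩
  set M' := m + 1 with hM'def
  set γ' := σ ^ (2 ^ a') with hγ'
  have hτa : τ = γ' ^ (2 ^ (M' - 1)) := by
    rw [hτ, hγ', ← pow_mul, ← pow_add]; congr 2; omega
  have hγ'N : γ' ^ (2 ^ M') = 1 := by rw [hγ', ← pow_mul, ← pow_add, ← hm]; exact hσ
  have hSEpow : ∀ (i : ℕ) (y : Y), SE ^ i * ρE y = ρE ((σ ^ i) y) * SE ^ i := by
    intro i
    induction i with
    | zero => intro y; simp
    | succ i ih' =>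
      intro y
      calc SE ^ (i + 1) * ρE y = SE * (SE ^ i * ρE y) := by rw [pow_succ', mul_assoc]
        _ = SE * ρE ((σ ^ i) y) * SE ^ i := by rw [ih', mul_assoc]
        _ = ρE (σ ((σ ^ i) y)) * SE * SE ^ i := by rw [hSE]
        _ = ρE ((σ ^ (i + 1)) y) * SE ^ (i + 1) := by rw [mul_assoc, ← pow_succ', pow_succ' σ]; rfl
  have hSe : SE ^ (2 ^ a') * eE = eE * SE ^ (2 ^ a') := by
    have h := charProj_semiconj ρUE (φ ^ 2 ^ a') (semiconj_pow ρUE φ hSUE (2 ^ a')) μ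
    rwa [hper] at h
  have hWEinv : ∀ y, ∀ w ∈ WE, ρE y w ∈ WE := by
    rintro y _ ⟨w, rfl⟩
    exact ⟨ρE y w, by rw [← Module.End.mul_apply, ← hcE, Module.End.mul_apply]⟩
  have hWTinv : ∀ y, ∀ w ∈ WT, ρT y w ∈ WT := by
    rintro y _ ⟨w, rfl⟩
    exact ⟨ρT y w, by rw [← Module.End.mul_apply, ← hcT, Module.End.mul_apply]⟩
  have hSW : ∀ w ∈ WE, (SE ^ (2 ^ a')) w ∈ WE := by
    rintro _ ⟨w, rfl⟩
    exact ⟨(SE ^ (2 ^ a')) w, by rw [← Module.End.mul_apply, ← hSe, Module.End.mul_apply]⟩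
  set Γ : Module.End K WE := (SE ^ (2 ^ a')).restrict hSW with hΓdef
  set ρW := restrictRep ρE WE hWEinv with hρW
  set ρWT := restrictRep ρT WT hWTinv with hρWT
  have hΓρ : ∀ y, Γ * ρW y = ρW (γ' y) * Γ := fun y => LinearMap.ext fun w => Subtype.ext
    (LinearMap.congr_fun (hSEpow (2 ^ a') y) (w : VE))
  have hΓpow : ∀ (i : ℕ) (w : WE), (((Γ ^ i) w : WE) : VE) = ((SE ^ (2 ^ a')) ^ i) (w : VE) := by
    intro i
    induction i with
    | zero => intro w; rfl
    | succ i ih' =>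
      intro w
      rw [pow_succ', pow_succ', Module.End.mul_apply, Module.End.mul_apply, ← ih']
      rfl
  have hΓN : Γ ^ (2 ^ M') = 1 := LinearMap.ext fun w => Subtype.ext (by
    rw [hΓpow, ← pow_mul, ← pow_add, ← hm, hSEn]; rfl)
  have hfixW : ∀ w : WE, Γ w = w → w = 0 := fun w hw => Subtype.ext
    (eq_zero_of_component ρUE hcardU φ hSUE hfix (pow_pos two_pos a') hne (hWEe _ w.2)
      (congrArg Subtype.val hw))
  haveI hWTnt : Nontrivial WT := Submodule.nontrivial_iff_ne_bot.2 fun h => hWTne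
    (LinearMap.range_eq_bot.1 h)
  haveI : Nontrivial WE := by
    obtain ⟨v, hv⟩ := exists_ne (0 : WT)
    obtain ⟨w, hw, hwv⟩ := hπsurjW v v.2
    exact ⟨⟨⟨w, hw⟩, 0, fun h => hv (Subtype.ext (by
      rw [← hwv, show w = 0 from congrArg Subtype.val h, map_zero]; rfl))⟩⟩
  have hscalE : ∀ y ∈ U, ∃ c : K, ρW y = c • 1 := fun y hy =>
    ⟨((μ ⟨y, hy⟩ : Kˣ) : K), LinearMap.ext fun w => Subtype.ext (by
      show ρE y (w : VE) = ((μ ⟨y, hy⟩ : Kˣ) : K) • (w : VE)
      conv_lhs => rw [← hWEe _ w.2, ← Module.End.mul_apply]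
      rw [show ρE y * eE = ((μ ⟨y, hy⟩ : Kˣ) : K) • eE from apply_mul_charProj ρUE μ ⟨y, hy⟩,
        LinearMap.smul_apply, hWEe _ w.2])⟩
  -- `τ` is nontrivial on the component
  have hτmoved : ¬ ∀ x, ρW (τ x) = ρW x := by
    intro h
    refine hμ (LinearMap.ext fun v => ?_)
    obtain ⟨w, hw, hwv⟩ := hπsurjW (eT v) ⟨v, rfl⟩
    have h1 : ρE (τ y₀) w = ρE y₀ w := congrArg Subtype.val (LinearMap.congr_fun (h y₀) ⟨w, hw⟩)
    rw [← hcT (τ y₀), ← hcT y₀, Module.End.mul_apply, Module.End.mul_apply, ← hwv, ← hπρ, ← hπρ,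
      h1]
  have hU'fpf : ∀ x, x⁻¹ * (γ' ^ (2 ^ (M' - 1))) x ∈ U → x ∈ U := by rw [← hτa]; exact hUfpf
  have hU'τ : ∀ y ∈ U, (γ' ^ (2 ^ (M' - 1))) y = y := by rw [← hτa]; exact hUτ
  have hgen' : Subgroup.closure (Set.range fun x : Y => x⁻¹ * (γ' ^ (2 ^ (M' - 1))) x) ⊔ U = ⊤ := by
    rw [← hτa, hgen, top_sup_eq]
  rcases component_data (p := 2) (M := M') (Nat.succ_pos m) (by exact_mod_cast h2K) hYk hUc hUD γ'
    hγ'N hU'τ hU'fpf hgen' (fun y hy => CfsgLib.FGS.pow_apply_mem hUσ _ y hy) ρW hscalE hΓρ hΓN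
    hfixW with h | ⟨R, hRn, -, hUR, -, hRscal, hτfpfR, hnd, hcard, X, hXinv, hXnt, hirr, Γ₀, α₀,
      hΓ₀, hΓ₀N, hspec⟩
  · exact hτmoved (by rw [hτa]; exact h)
  haveI := hRn
  haveI := hXnt
  set ρ₀ := restrictRep ρW X hXinv with hρ₀
  -- `M' ≥ 2` and `M' ≠ M`
  obtain ⟨e, he⟩ := (hY.to_quotient R).exists_card_eq
  have hM'2 : 2 ≤ M' := by
    by_contra hle
    have hM1 : M' = 1 := by omega
    rw [hM1] at hcard
    norm_num at hcard
    have hall : ∀ x : Y, x ∈ R := by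
      have hsub := (Nat.card_eq_one_iff_unique.1 hcard).1
      intro x
      exact (QuotientGroup.eq_one_iff x).1 (Subsingleton.elim _ _)
    apply hτmoved
    intro x
    rw [hτa]
    have hsc : ∀ y : Y, ρW ((γ' ^ (2 ^ (M' - 1))) y) = ρW y := by
      intro y
      rw [hM1, Nat.sub_self, pow_zero, pow_one]
      obtain ⟨c, hc⟩ := hRscal y (hall y)
      have hinv : Γ * Γ ^ (2 ^ M' - 1) = 1 := by
        rw [← pow_succ', Nat.sub_add_cancel (Nat.two_pow_pos M' : 1 ≤ 2 ^ M'), hΓN]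
      calc ρW (γ' y) = ρW (γ' y) * Γ * Γ ^ (2 ^ M' - 1) := by rw [mul_assoc, hinv, mul_one]
        _ = Γ * ρW y * Γ ^ (2 ^ M' - 1) := by rw [hΓρ]
        _ = ρW y := by rw [hc, mul_smul_comm, mul_one, smul_mul_assoc, hinv]
    exact hsc x
  rw [he] at hcard
  obtain ⟨l, -, hl⟩ := (Nat.dvd_prime_pow hq'.out).1
    (⟨2 ^ M' - 1, by rw [hcard, sq]⟩ : 2 ^ M' - 1 ∣ q' ^ e)
  have hM'M : M' ≠ M := fun h => hdiff l (by
    rw [← h, ← hl]
    exact Nat.sub_add_cancel Nat.one_le_two_pow)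
  -- scalars on the target
  let πW : WE →ₗ[K] WT := π.restrict hπW
  have hπWs : ∀ v : WT, ∃ w : WE, πW w = v := fun v => by
    obtain ⟨w, hw, hwv⟩ := hπsurjW v v.2
    exact ⟨⟨w, hw⟩, Subtype.ext hwv⟩
  have hπWρ : ∀ y w, πW (ρW y w) = ρWT y (πW w) := fun y w => Subtype.ext (hπρ y w)
  have hR0 : ∀ r ∈ R, ∃ c : K, ρ₀ r = c • 1 ∧ ρWT r = c • 1 := fun r hr => by
    obtain ⟨c, hc⟩ := hRscal r hr
    refine ⟨c, restrictRep_smul ρW X hXinv hc, LinearMap.ext fun v => ?_⟩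
    obtain ⟨w, rfl⟩ := hπWs v
    rw [← hπWρ, hc]
    simp
  have hDR : ∀ x y : Y, ⁅x, y⁆ ∈ R := fun x y => hUR (hUD x y)
  have hnd0 : ∀ x : Y, x ∉ R → ∃ y : Y, ρ₀ ⁅y, x⁆ ≠ 1 := fun x hx => by
    obtain ⟨y, hy⟩ := hnd x hx
    obtain ⟨c, hc⟩ := hRscal _ (hDR y x)
    refine ⟨y, fun h => hy ?_⟩
    rw [hρ₀, restrictRep_smul ρW X hXinv hc] at h
    obtain ⟨w, hw⟩ := exists_ne (0 : X)
    have hc1 : c = 1 := smul_left_injective K hw
      (show c • w = (1 : K) • w by simpa using LinearMap.congr_fun h w)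
    rw [hc, hc1, one_smul]
  set h' := 2 ^ (M' - 1) with hh'
  have hh'K : ((h' : ℕ) : K) ≠ 0 := by
    rw [hh', Nat.cast_pow]; exact pow_ne_zero _ (by exact_mod_cast h2K)
  have hh'2 : 2 ≤ h' := Nat.le_self_pow (by omega) 2
  have h2M' : h' * 2 = 2 ^ M' := by rw [hh', ← pow_succ]; congr 1
  rcases lt_or_gt_of_ne hM'M with hlt' | hgt
  · -- the stabiliser of the component is smaller
    obtain ⟨d, hd, hd0⟩ : ∃ d, a' = a + d ∧ 0 < d := ⟨a' - a, by omega, by omega⟩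
    have hexp : 2 ^ a' = 2 ^ a * 2 ^ d := by rw [hd, pow_add]
    have hπpow : ∀ (i : ℕ) v, π ((SE ^ (2 ^ a * i)) v) = (ST ^ i) (π v) := by
      intro i
      induction i with
      | zero => intro v; simp
      | succ i ih' =>
        intro v
        rw [Nat.mul_succ, Nat.add_comm, pow_add, Module.End.mul_apply, hπS, ih', pow_succ',
          Module.End.mul_apply]
    have hSTW : ∀ v ∈ WT, (ST ^ (2 ^ d)) v ∈ WT := fun v hv => by
      obtain ⟨w, hw, rfl⟩ := hπsurjW v hv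
      rw [← hπpow, ← hexp]
      exact hπW _ (hSW w hw)
    set ΓT : Module.End K WT := (ST ^ (2 ^ d)).restrict hSTW with hΓT
    have hπΓ : ∀ w : WE, πW (Γ w) = ΓT (πW w) := fun w => Subtype.ext (by
      show π ((SE ^ (2 ^ a')) (w : VE)) = (ST ^ (2 ^ d)) (π (w : VE))
      rw [hexp, hπpow])
    have hπΓi : ∀ (i : ℕ) (w : WE), πW ((Γ ^ i) w) = (ΓT ^ i) (πW w) := by
      intro i
      induction i with
      | zero => intro w; rfl
      | succ i ih' =>
        intro w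
        rw [pow_succ', pow_succ', Module.End.mul_apply, Module.End.mul_apply, hπΓ, ih']
    have hΓTρ : ∀ y, ΓT * ρWT y = ρWT (γ' y) * ΓT := fun y => LinearMap.ext fun v => by
      obtain ⟨w, rfl⟩ := hπWs v
      rw [Module.End.mul_apply, Module.End.mul_apply, ← hπWρ, ← hπΓ, ← hπΓ, ← hπWρ]
      exact congrArg πW (LinearMap.congr_fun (hΓρ y) w)
    have hΓTN : ΓT ^ (2 ^ M') = 1 := LinearMap.ext fun v => by
      obtain ⟨w, rfl⟩ := hπWs v
      rw [← hπΓi, hΓN]; rfl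
    have hΓTfix : ∀ v : WT, ΓT v = v → v = 0 := by
      intro v hv
      obtain ⟨w, rfl⟩ := hπWs v
      have hz : Γ (∑ i ∈ Finset.range (2 ^ M'), (Γ ^ i) w) =
          ∑ i ∈ Finset.range (2 ^ M'), (Γ ^ i) w := by
        rw [map_sum]
        have e : ∀ i, Γ ((Γ ^ i) w) = (Γ ^ (i + 1)) w := fun i => by rw [pow_succ']; rfl
        simp only [e]
        have h2 := Finset.sum_range_succ' (fun i => (Γ ^ i) w) (2 ^ M')
        rw [Finset.sum_range_succ, hΓN, pow_zero] at h2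
        exact (add_right_cancel h2).symm
      have h3 := congrArg πW (hfixW _ hz)
      rw [map_sum, map_zero] at h3
      have h4 : ∀ i ∈ Finset.range (2 ^ M'), πW ((Γ ^ i) w) = πW w := fun i _ => by
        rw [hπΓi, end_pow_apply_eigen ΓT (show ΓT (πW w) = (1 : K) • πW w by rw [one_smul]; exact hv),
          one_pow, one_smul]
      rw [Finset.sum_congr rfl h4, Finset.sum_const, Finset.card_range, ← Nat.cast_smul_eq_nsmul K,
        smul_eq_zero] at h3
      exact h3.resolve_left (by rw [Nat.cast_pow]; exact pow_ne_zero _ (by exact_mod_cast h2K))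
    obtain ⟨Tset, hTcard, hT⟩ := exists_roots_pow_eq hh'K (-1 : K) (neg_ne_zero.2 one_ne_zero)
    have heig : ∀ β ∈ Tset, ∃ v : WT, v ≠ 0 ∧ ΓT v = β • v := fun β hβ =>
      spectrum_transfer ρ₀ ρWT hR0 hDR hnd0 hirr γ' (pow_pos two_pos M') hΓ₀ hΓ₀N hspec hΓTρ hΓTN
        hΓTfix β (by rw [← h2M', pow_mul, hT β hβ, neg_one_sq]) (fun e => h2K (by
          have h5 := hT β hβ
          rw [e, one_pow] at h5
          linear_combination h5))
    choose! vv hvv0 hvv using heig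
    set T2 := (ST ^ (2 ^ (M - 1))).eigenspace (-1) with hT2
    let A : Submodule K VT := WT ⊓ T2
    have hMexp : 2 ^ d * h' = 2 ^ (M - 1) := by rw [hh', ← pow_add]; congr 1; omega
    have hA : Tset.card ≤ Module.finrank K A := by
      refine card_le_finrank_of_eigen (ST ^ (2 ^ d)) A Tset fun β hβ => ?_
      have hv : (ST ^ (2 ^ d)) ((vv β : WT) : VT) = β • ((vv β : WT) : VT) :=
        congrArg Subtype.val (hvv β hβ)
      refine ⟨(vv β : VT), ⟨(vv β).2, ?_⟩, fun e => hvv0 β hβ (Subtype.ext e), hv⟩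
      rw [SetLike.mem_coe, hT2, Module.End.mem_eigenspace_iff, ← hMexp, pow_mul,
        end_pow_apply_eigen _ hv, hT β hβ]
    set B := A.map ST with hB
    have hSTinj : Function.Injective ST := by
      intro x y hxy
      have h := congrArg (fun z => (ST ^ (2 ^ M - 1) : Module.End K VT) z) hxy
      rwa [← Module.End.mul_apply, ← Module.End.mul_apply, ← pow_succ,
        Nat.sub_add_cancel (Nat.two_pow_pos M : 1 ≤ 2 ^ M), hSTn, Module.End.one_apply,
        Module.End.one_apply] at h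
    have hBA : A ⊓ B = ⊥ := by
      rw [Submodule.eq_bot_iff]
      rintro x ⟨hxA, hxB⟩
      obtain ⟨z, hz, rfl⟩ := hxB
      obtain ⟨w, hw, hwz⟩ := hπsurjW z hz.1
      have h0 : eT (ST z) = 0 := by
        rw [← hwz, ← hπS, ← hπe]
        have h1 := charProj_semiconj ρUE (φ ^ 2 ^ a) (semiconj_pow ρUE φ hSUE (2 ^ a)) μ
        have h2 : eE ((SE ^ (2 ^ a)) w) =
            (SE ^ (2 ^ a)) (charProj ρUE (μ.comp (φ ^ 2 ^ a).toMonoidHom) w) :=
          (LinearMap.congr_fun h1 w).symm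
        rw [h2]
        have h3 : charProj ρUE (μ.comp (φ ^ 2 ^ a).toMonoidHom) w = 0 := by
          rw [← hWEe w hw]
          exact LinearMap.congr_fun (charProj_mul_of_ne ρUE (hne (2 ^ a) (pow_pos two_pos a)
            (Nat.pow_lt_pow_right one_lt_two (by omega)))) w
        rw [h3, map_zero, map_zero]
      exact (hWTe _ hxA.1).symm.trans h0
    have hBle : B ≤ T2 := by
      rintro _ ⟨z, hz, rfl⟩
      have hz2 := Module.End.mem_eigenspace_iff.1 hz.2
      rw [hT2, Module.End.mem_eigenspace_iff, ← Module.End.mul_apply,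
        (Commute.pow_self ST _).eq, Module.End.mul_apply, hz2, map_smul]
    have hBcard : Module.finrank K B = Module.finrank K A :=
      (Submodule.equivMapOfInjective ST hSTinj A).finrank_eq.symm
    have h1 := Submodule.finrank_sup_add_finrank_inf_eq A B
    rw [hBA, finrank_bot, add_zero, hBcard] at h1
    have h2 : Module.finrank K (A ⊔ B : Submodule K VT) ≤ Module.finrank K T2 :=
      Submodule.finrank_mono (sup_le (inf_le_right : A ≤ T2) hBle)
    omega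
  · -- the stabiliser of the component is larger
    obtain ⟨d, hd⟩ : ∃ d, a = a' + d := ⟨a - a', by omega⟩
    have hexp : 2 ^ a = 2 ^ a' * 2 ^ d := by rw [hd, pow_add]
    have hSEW : ∀ w ∈ WE, (SE ^ (2 ^ a)) w ∈ WE := fun w hw => by
      have h := (((Γ ^ (2 ^ d)) ⟨w, hw⟩ : WE)).2
      rw [hΓpow, ← pow_mul, ← hexp] at h
      exact h
    have hSTW : ∀ v ∈ WT, ST v ∈ WT := fun v hv => by
      obtain ⟨w, hw, rfl⟩ := hπsurjW v hv
      rw [← hπS]
      exact hπW _ (hSEW w hw)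
    set ΓT : Module.End K WT := ST.restrict hSTW with hΓT
    have hΓTρ : ∀ y, ΓT * ρWT y = ρWT ((σ ^ (2 ^ a)) y) * ΓT := fun y =>
      LinearMap.ext fun v => Subtype.ext (LinearMap.congr_fun (hST y) (v : VT))
    have hΓTN : ΓT ^ (2 ^ M) = 1 := LinearMap.ext fun v => by
      have key : ∀ (i : ℕ) (v : WT), (((ΓT ^ i) v : WT) : VT) = (ST ^ i) (v : VT) := by
        intro i
        induction i with
        | zero => intro v; rfl
        | succ i ih' =>
          intro v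
          rw [pow_succ', pow_succ', Module.End.mul_apply, Module.End.mul_apply, ← ih']
          rfl
      refine Subtype.ext ?_
      rw [key, hSTn]; rfl
    set Γ₁ := Γ₀ ^ (2 ^ d) with hΓ₁
    have hγγ : σ ^ (2 ^ a) = γ' ^ (2 ^ d) := by rw [hγ', ← pow_mul, ← hexp]
    have hΓ₀pow : ∀ (i : ℕ) (y : Y), Γ₀ ^ i * ρ₀ y = ρ₀ ((γ' ^ i) y) * Γ₀ ^ i := by
      intro i
      induction i with
      | zero => intro y; simp
      | succ i ih' =>
        intro y
        calc Γ₀ ^ (i + 1) * ρ₀ y = Γ₀ * (Γ₀ ^ i * ρ₀ y) := by rw [pow_succ', mul_assoc]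
          _ = Γ₀ * ρ₀ ((γ' ^ i) y) * Γ₀ ^ i := by rw [ih', mul_assoc]
          _ = ρ₀ (γ' ((γ' ^ i) y)) * Γ₀ * Γ₀ ^ i := by rw [hΓ₀]
          _ = ρ₀ ((γ' ^ (i + 1)) y) * Γ₀ ^ (i + 1) := by
            rw [mul_assoc, ← pow_succ', pow_succ' γ']; rfl
    have hMM : 2 ^ d * 2 ^ M = 2 ^ M' := by rw [← pow_add]; congr 1; omega
    obtain ⟨f, ω, hfinj, hωN, -, hf⟩ := exists_eigen_intertwiner ρ₀ ρWT hR0 hDR hnd0 hirr
      (σ ^ (2 ^ a)) (pow_pos two_pos M) (Γ₁ := Γ₁)
      (fun y => by rw [hγγ]; exact hΓ₀pow _ y)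
      (by rw [hΓ₁, ← pow_mul, hMM, hΓ₀N]) hΓTρ hΓTN
    set H := 2 ^ (M - 1) with hH
    have hH2 : H * 2 = 2 ^ M := by rw [hH, ← pow_succ]; congr 1; omega
    have hω2 : (ω ^ H) ^ 2 = 1 := by rw [← pow_mul, hH2, hωN]
    have hωH : ω ^ H ≠ 0 := fun e => by
      rw [e, zero_pow two_ne_zero] at hω2; exact zero_ne_one hω2
    obtain ⟨Tset, hTcard, hT⟩ := exists_roots_pow_eq hh'K (-(ω ^ H)⁻¹) (neg_ne_zero.2 (inv_ne_zero hωH))
    have hdH : 2 ^ d * H = h' := by rw [hh', hH, ← pow_add]; congr 1; omega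
    have heig : ∀ α ∈ Tset.erase α₀, ∃ v : X, v ≠ 0 ∧ Γ₀ v = α • v := fun α hα => by
      obtain ⟨hne', hα⟩ := Finset.mem_erase.1 hα
      refine hspec α ?_ hne'
      rw [← h2M', pow_mul, hT α hα, neg_sq, inv_pow, hω2, inv_one]
    set T2 := (ST ^ H).eigenspace (-1) with hT2
    let fV : X →ₗ[K] VT := WT.subtype.comp f
    have hfV : Function.Injective fV := Subtype.val_injective.comp hfinj
    let A : Submodule K X := T2.comap fV
    have hA : (Tset.erase α₀).card ≤ Module.finrank K A := by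
      refine card_le_finrank_of_eigen Γ₀ A (Tset.erase α₀) fun α hα => ?_
      obtain ⟨v, hv0, hv⟩ := heig α hα
      refine ⟨v, ?_, hv0, hv⟩
      show fV v ∈ T2
      rw [hT2, Module.End.mem_eigenspace_iff]
      have h1 : ST (fV v) = (ω * α ^ (2 ^ d)) • fV v := by
        show ((ΓT (f v) : WT) : VT) = _
        rw [hf, hΓ₁, end_pow_apply_eigen _ hv, map_smul, smul_smul]
        rfl
      rw [end_pow_apply_eigen _ h1, mul_pow, ← pow_mul, hdH, hT α (Finset.mem_erase.1 hα).2,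
        mul_neg, mul_inv_cancel₀ hωH]
    have h1 : Module.finrank K A ≤ Module.finrank K T2 :=
      LinearMap.finrank_le_finrank_of_injective
        (f := (fV.comp A.subtype).codRestrict T2 fun v => v.2)
        (fun x y hxy => Subtype.ext (hfV (by
          have h := congrArg (fun z : T2 => (z : VT)) hxy
          exact h)))
    have h2 := Finset.pred_card_le_card_erase (s := Tset) (a := α₀)
    have h4 : 4 ≤ h' := by
      rw [hh']
      calc (4 : ℕ) = 2 ^ 2 := by norm_num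
        _ ≤ 2 ^ (M' - 1) := Nat.pow_le_pow_right two_pos (by omega)
    omega

end CfsgLib.Solvable
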