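import Cfsg.Agent.Lib.Solvable.Hall
import Cfsg.Agent.Lib.Solvable.MinimalNormal
import Mathlib.GroupTheory.Sylow

/-!
# The number of Hall subgroups of a solvable group
-/

namespace CfsgLib.Solvable

open scoped Pointwise

variable {G : Type*} [Group G]

/-- The index of the fixed points of a solvable group acting coprimely on a subgroup of prime power
order is a product of numbers congruent to `1` modulo prime divisors of the acting group. -/
theorem exists_factors_centralizer [Finite G] (N H : Subgroup G) {q a : ℕ} (hq : q.Prime)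
    (hN : Nat.card N = q ^ a) (hHN : H ≤ Subgroup.normalizer (N : Set G))
    (hs : Group.IsSolvable H) (hcop : (Nat.card N).Coprime (Nat.card H)) :
    ∃ l : List ℕ, (N ⊓ Subgroup.centralizer (H : Set G)).relIndex N = l.prod ∧
      ∀ x ∈ l, (∃ e, x = q ^ e) ∧ x ∣ Nat.card N ∧ ∃ r : ℕ, r.Prime ∧ r ∣ Nat.card H ∧ x ≡ 1 [MOD r] := by
  induction h : Nat.card H using Nat.strong_induction_on generalizing H with
  | _ d ih =>
  subst h
  rcases eq_or_ne H ⊥ with rfl | hH
  · refine ⟨[], ?_, by simp⟩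
    have : N ≤ Subgroup.centralizer ((⊥ : Subgroup G) : Set G) := by
      intro x _ y hy
      rw [Subgroup.coe_bot, Set.mem_singleton_iff] at hy
      subst hy; simp
    rw [inf_eq_left.2 this, Subgroup.relIndex_self]; rfl
  · haveI : Nontrivial H := (Subgroup.nontrivial_iff_ne_bot H).2 hH
    haveI := hs
    obtain ⟨M, hM, hDM⟩ := (eq_top_or_exists_le_coatom (commutator H)).resolve_left
      (Group.IsSolvable.commutator_lt_top_of_nontrivial H).ne
    haveI hMn : M.Normal := ⟨fun x hx g => by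
      have : g * x * g⁻¹ * x⁻¹ ∈ M :=
        hDM (Subgroup.commutator_mem_commutator (Subgroup.mem_top g) (Subgroup.mem_top x))
      simpa using mul_mem this hx⟩
    have hMi : M.index ≠ 1 := fun h1 => hM.1 (Subgroup.index_eq_one.1 h1)
    obtain ⟨r, hr, hri⟩ := Nat.exists_prime_and_dvd hMi
    haveI : Fact r.Prime := ⟨hr⟩
    have hrH : r ∣ Nat.card H := hri.trans M.index_dvd_card
    let R : Sylow r H := Classical.arbitrary _
    have hRM : ¬ (R : Subgroup H) ≤ M := fun hle =>
      R.not_dvd_index (hri.trans (Subgroup.index_dvd_of_le hle))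
    have hsup : M ⊔ (R : Subgroup H) = ⊤ :=
      hM.2 _ (lt_of_le_of_ne le_sup_left fun heq => hRM (le_sup_right.trans heq.ge))
    set H₀ := M.map H.subtype with hH₀
    set R₀ := (R : Subgroup H).map H.subtype with hR₀
    have hH₀H : H₀ ≤ H := Subgroup.map_subtype_le _
    have hR₀H : R₀ ≤ H := Subgroup.map_subtype_le _
    have hsup₀ : H₀ ⊔ R₀ = H := by
      rw [hH₀, hR₀, ← Subgroup.map_sup, hsup, ← MonoidHom.range_eq_map, Subgroup.range_subtype]
    have hlt : Nat.card H₀ < Nat.card H := by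
      rw [hH₀, Subgroup.card_map_of_injective H.subtype_injective]
      rcases lt_or_eq_of_le (Subgroup.card_le_card_group M) with h1 | h1
      · exact h1
      · exact absurd ((Subgroup.card_eq_iff_eq_top M).1 h1) hM.1
    have hdvd : Nat.card H₀ ∣ Nat.card H := Subgroup.card_dvd_of_le hH₀H
    obtain ⟨l, hl, hl'⟩ := ih _ hlt H₀ (hH₀H.trans hHN) (isSolvable_of_le hs hH₀H)
      (hcop.coprime_dvd_right hdvd) rfl
    set C₀ := N ⊓ Subgroup.centralizer (H₀ : Set G) with hC₀
    set C₁ := N ⊓ Subgroup.centralizer (H : Set G) with hC₁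
    have h10 : C₁ ≤ C₀ := inf_le_inf_left _ (Subgroup.centralizer_le hH₀H)
    have hinv : ∀ g ∈ R₀, ∀ x ∈ C₀, g * x * g⁻¹ ∈ C₀ := by
      intro g hg x hx
      refine ⟨(Subgroup.mem_normalizer_iff.1 (hHN (hR₀H hg)) x).1 hx.1, fun y hy => ?_⟩
      obtain ⟨g', -, rfl⟩ := hg
      obtain ⟨y', hy', rfl⟩ := hy
      have hy2 : ((g'⁻¹ * y' * g' : H) : G) ∈ H₀ :=
        ⟨_, by simpa using hMn.conj_mem y' hy' g'⁻¹, rfl⟩
      have hc : ((g'⁻¹ * y' * g' : H) : G) * x = x * ((g'⁻¹ * y' * g' : H) : G) := hx.2 _ hy2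
      simp only [Subgroup.coe_mul, Subgroup.coe_inv, Subgroup.coe_subtype] at hc ⊢
      calc (y' : G) * ((g' : G) * x * (g' : G)⁻¹)
          = (g' : G) * ((g' : G)⁻¹ * y' * g' * x) * (g' : G)⁻¹ := by group
        _ = (g' : G) * (x * ((g' : G)⁻¹ * y' * g')) * (g' : G)⁻¹ := by rw [hc]
        _ = (g' : G) * x * (g' : G)⁻¹ * y' := by group
    letI : MulAction R₀ C₀ :=
      { smul := fun g x => ⟨g * x * (g : G)⁻¹, hinv g g.2 x x.2⟩
        one_smul := fun x => Subtype.ext (show (1 : G) * x * (1 : G)⁻¹ = x by simp)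
        mul_smul := fun g g' x => Subtype.ext
          (show (g : G) * g' * x * ((g : G) * g')⁻¹ = g * (g' * x * (g' : G)⁻¹) * (g : G)⁻¹ by group) }
    have hfix : Nat.card (MulAction.fixedPoints R₀ C₀) = Nat.card C₁ := by
      refine Nat.card_congr
        { toFun := fun x => ⟨(x.1 : G), x.1.2.1, ?_⟩
          invFun := fun x => ⟨⟨x.1, h10 x.2⟩, fun g => Subtype.ext ?_⟩
          left_inv := fun x => rfl
          right_inv := fun x => rfl }
      · show (x.1 : G) ∈ Subgroup.centralizer (H : Set G)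
        have h1 : H ≤ Subgroup.centralizer ({(x.1 : G)} : Set G) := by
          rw [← hsup₀]
          refine sup_le (fun y hy => Subgroup.mem_centralizer_singleton_iff.2 (x.1.2.2 y hy))
            fun y hy => Subgroup.mem_centralizer_singleton_iff.2 ?_
          exact mul_inv_eq_iff_eq_mul.1 (congrArg Subtype.val (x.2 ⟨y, hy⟩))
        exact fun y hy => Subgroup.mem_centralizer_singleton_iff.1 (h1 hy)
      · show (g : G) * x.1 * (g : G)⁻¹ = x.1
        rw [x.2.2 g (hR₀H g.2), mul_inv_cancel_right]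
    have hmod := ((R.isPGroup').map H.subtype).card_modEq_card_fixedPoints C₀
    rw [hfix] at hmod
    have hmul : C₁.relIndex C₀ * Nat.card C₁ = Nat.card C₀ := by
      rw [← (C₁.subgroupOf C₀).index_mul_card,
        Nat.card_congr (Subgroup.subgroupOfEquivOfLe h10).toEquiv]
      rfl
    have hdN : Nat.card C₀ ∣ Nat.card N := Subgroup.card_dvd_of_le inf_le_left
    set e := C₁.relIndex C₀ with he
    have hedvd : e ∣ Nat.card N := (Dvd.intro _ hmul).trans hdN
    refine ⟨e :: l, ?_, ?_⟩
    · rw [List.prod_cons, ← hl, Subgroup.relIndex_mul_relIndex _ _ _ h10 inf_le_left]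
    · intro x hx
      rcases List.mem_cons.1 hx with rfl | hx
      · obtain ⟨i, -, hi⟩ := (Nat.dvd_prime_pow hq).1 (hN ▸ hedvd)
        refine ⟨⟨i, hi⟩, hedvd, r, hr, hrH, ?_⟩
        have hc : Nat.Coprime (Nat.card C₁) r :=
          (hcop.coprime_dvd_right hrH).coprime_dvd_left (Subgroup.card_dvd_of_le inf_le_left)
        have h2 : e * Nat.card C₁ ≡ 1 * Nat.card C₁ [MOD r] := by rw [one_mul, hmul]; exact hmod
        exact Nat.ModEq.cancel_right_of_coprime hc.symm h2
      · obtain ⟨h1, h2, r', hr', hr'd, h3⟩ := hl' x hx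
        exact ⟨h1, h2, r', hr', hr'd.trans hdvd, h3⟩

/-- The subgroups of order `m` with a given image modulo `N` are permuted transitively by `N`. -/
theorem card_fibre [Finite G] (N H₀ : Subgroup G) [N.Normal] (hs : Group.IsSolvable N)
    (hcop : (Nat.card N).Coprime (Nat.card H₀)) :
    Nat.card {H : Subgroup G // Nat.card H = Nat.card H₀ ∧
        H.map (QuotientGroup.mk' N) = H₀.map (QuotientGroup.mk' N)} =
      (N ⊓ Subgroup.centralizer (H₀ : Set G)).relIndex N := by
  have hH0N : H₀ ≤ Subgroup.normalizer (N : Set G) := fun x _ => by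
    rw [Subgroup.normalizer_eq_top]; exact Subgroup.mem_top x
  letI : MulAction N (Subgroup G) := MulAction.compHom _ ((MulAut.conj (G := G)).comp N.subtype)
  have hst : MulAction.stabilizer N H₀ = (N ⊓ Subgroup.centralizer (H₀ : Set G)).subgroupOf N := by
    ext ⟨x, hx⟩
    rw [MulAction.mem_stabilizer_iff, Subgroup.mem_subgroupOf]
    show MulAut.conj x • H₀ = H₀ ↔ x ∈ N ⊓ Subgroup.centralizer (H₀ : Set G)
    constructor
    · intro h
      refine ⟨hx, fun y hy => ?_⟩
      have h1 : x * y * x⁻¹ ∈ H₀ := by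
        rw [← h, mem_conj_smul_iff]; simpa [mul_assoc] using hy
      have h2 : x * y * x⁻¹ * y⁻¹ ∈ N ⊓ H₀ := by
        refine Subgroup.mem_inf.2 ⟨?_, mul_mem h1 (inv_mem hy)⟩
        have h3 := (inferInstance : N.Normal).conj_mem _ (inv_mem hx) y
        simpa [mul_assoc] using mul_mem hx h3
      rw [disjoint_of_coprime hcop, Subgroup.mem_bot] at h2
      rw [mul_inv_eq_one, mul_inv_eq_iff_eq_mul] at h2
      exact h2.symm
    · rintro ⟨-, hc⟩
      rw [← mem_normalizer_iff_conj_smul, Subgroup.mem_normalizer_iff]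
      intro y
      constructor <;> intro hy
      · rw [← hc y hy, mul_inv_cancel_right]; exact hy
      · have h3 : (x * y * x⁻¹) * x = x * (x * y * x⁻¹) := hc _ hy
        have : y = x * y * x⁻¹ := by
          calc y = x⁻¹ * ((x * y * x⁻¹) * x) := by group
            _ = x⁻¹ * (x * (x * y * x⁻¹)) := by rw [h3]
            _ = x * y * x⁻¹ := by group
        rw [this]; exact hy
  rw [Subgroup.relIndex, ← hst, MulAction.index_stabilizer, ← Nat.card_coe_set_eq]
  refine Nat.card_congr (Equiv.subtypeEquivRight fun H => ?_)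
  constructor
  · rintro ⟨hc, hm⟩
    have hle : H ≤ N ⊔ H₀ := by
      intro x hx
      obtain ⟨y, hy, hxy⟩ := hm.le ⟨x, hx, rfl⟩
      rw [QuotientGroup.mk'_apply, QuotientGroup.mk'_apply, QuotientGroup.eq] at hxy
      have h1 : (y⁻¹ * x) ∈ N := hxy
      have : x = y * (y⁻¹ * x) := by group
      rw [this]
      exact mul_mem (Subgroup.mem_sup_right hy) (Subgroup.mem_sup_left h1)
    obtain ⟨k, hk, hle'⟩ := exists_conj_le N H₀ H hH0N
      (disjoint_of_coprime hcop) hle (by rw [hc]; exact hcop) (Or.inl hs)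
    have heq := conj_smul_eq_of_le hle' hc.symm.le
    refine ⟨⟨k⁻¹, inv_mem hk⟩, ?_⟩
    show MulAut.conj k⁻¹ • H₀ = H
    rw [← heq, conj_smul_conj_smul, inv_mul_cancel, map_one, one_smul]
  · rintro ⟨⟨k, hk⟩, rfl⟩
    show Nat.card (MulAut.conj k • H₀ : Subgroup G) = _ ∧ (MulAut.conj k • H₀).map _ = _
    refine ⟨card_conj_smul k H₀, ?_⟩
    rw [map_conj_smul, QuotientGroup.mk'_apply, (QuotientGroup.eq_one_iff k).2 hk, map_one, one_smul]

end CfsgLib.Solvable

namespace CfsgLib.Solvable

open scoped Pointwise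

universe u

/-- `a` divides the order of a chief factor of `G`. -/
def DvdChief (G : Type u) [Group G] (a : ℕ) : Prop :=
  ∃ K L : Subgroup G, K.Normal ∧ L.Normal ∧ K < L ∧
    (∀ M : Subgroup G, M.Normal → K ≤ M → M ≤ L → M = K ∨ M = L) ∧ a ∣ K.relIndex L

theorem dvdChief_of_quotient {G : Type u} [Group G] {N : Subgroup G} [N.Normal] {a : ℕ}
    (h : DvdChief (G ⧸ N) a) : DvdChief G a := by
  obtain ⟨K, L, hK, hL, hlt, hmin, hd⟩ := h
  set f := QuotientGroup.mk' N with hf
  have hsurj : Function.Surjective f := QuotientGroup.mk'_surjective N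
  refine ⟨K.comap f, L.comap f, hK.comap f, hL.comap f,
    (Subgroup.comap_lt_comap_of_surjective hsurj).2 hlt, fun M hM h1 h2 => ?_, ?_⟩
  · have hker : f.ker ≤ M := le_trans (by
      intro x hx
      show f x ∈ K
      rw [MonoidHom.mem_ker.1 hx]; exact one_mem K) h1
    have hM' : (M.map f).comap f = M := Subgroup.comap_map_eq_self hker
    haveI := hM
    rcases hmin (M.map f) (hM.map f hsurj)
        (by rw [← Subgroup.map_comap_eq_self_of_surjective hsurj K]; exact Subgroup.map_mono h1)
        (by rw [← Subgroup.map_comap_eq_self_of_surjective hsurj L]; exact Subgroup.map_mono h2)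
      with h | h
    · exact Or.inl (by rw [← hM', h])
    · exact Or.inr (by rw [← hM', h])
  · rw [Subgroup.relIndex_comap, Subgroup.map_comap_eq_self_of_surjective hsurj]
    exact hd

/-- Philip Hall's theorem on the number of Hall subgroups of a solvable group. -/
theorem hall_count (G : Type u) [Group G] [Finite G] [Group.IsSolvable G] (m n : ℕ)
    (hG : Nat.card G = m * n) (hmn : Nat.Coprime m n) :
    ∃ l : List ℕ, Nat.card {H : Subgroup G // Nat.card H = m} = l.prod ∧
      ∀ x ∈ l, (∃ q e : ℕ, q.Prime ∧ x = q ^ e) ∧ DvdChief G x ∧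
        ∃ r : ℕ, r.Prime ∧ r ∣ m ∧ x ≡ 1 [MOD r] := by
  suffices key : ∀ (d : ℕ) (G : Type u) [Group G] [Finite G] [Group.IsSolvable G] (m n : ℕ),
      Nat.card G = d → Nat.card G = m * n → Nat.Coprime m n →
      ∃ l : List ℕ, Nat.card {H : Subgroup G // Nat.card H = m} = l.prod ∧
        ∀ x ∈ l, (∃ q e : ℕ, q.Prime ∧ x = q ^ e) ∧ DvdChief G x ∧
          ∃ r : ℕ, r.Prime ∧ r ∣ m ∧ x ≡ 1 [MOD r] from key _ G m n rfl hG hmn

  intro d
  induction d using Nat.strong_induction_on with
  | _ d ih =>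
  intro G _ _ _ m n hd hG hmn
  subst hd
  rcases subsingleton_or_nontrivial G with hsub | hnt
  · refine ⟨[], ?_, by simp⟩
    have hm : m = 1 := Nat.eq_one_of_mul_eq_one_right (by rw [← hG]; exact Nat.card_unique)
    subst hm
    rw [List.prod_nil, Nat.card_eq_one_iff_exists]
    refine ⟨⟨⊥, Subgroup.card_bot⟩, fun H => Subtype.ext ?_⟩
    exact Subgroup.card_eq_one.1 H.2
  obtain ⟨N, q, a, hNn, hq, ha, -, hNc, hN, -, hmin⟩ := exists_normal_prime_pow_card (G := G)
  haveI := hNn
  have hlt := card_quotient_lt N hN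
  have hcardG : Nat.card (G ⧸ N) * Nat.card N = Nat.card G := by
    rw [← Subgroup.index_eq_card, Subgroup.index_mul_card]
  set f := QuotientGroup.mk' N with hf
  have hsurj : Function.Surjective f := QuotientGroup.mk'_surjective N
  by_cases hqm : q ∣ m
  · have hcopn : (Nat.card N).Coprime n := hNc ▸ (hmn.coprime_dvd_left hqm).pow_left a
    have hNle : ∀ H : Subgroup G, Nat.card H = m → N ≤ H := fun H hH => by
      obtain ⟨g, hg⟩ := exists_conj_le_hall hG hmn hH hcopn
      intro x hx
      refine hg (mem_conj_smul_iff.2 ?_)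
      simpa [mul_assoc] using hNn.conj_mem x hx g⁻¹
    obtain ⟨m', hm'⟩ : Nat.card N ∣ m :=
      hcopn.dvd_of_dvd_mul_right (hG ▸ Dvd.intro_left _ hcardG)
    have hG' : Nat.card (G ⧸ N) = m' * n := by
      refine mul_right_cancel₀ (Nat.card_pos (α := N)).ne' (hcardG.trans ?_)
      rw [hG, hm']; ring
    obtain ⟨l, hl, hl'⟩ := ih _ hlt (G ⧸ N) m' n rfl hG'
      (hmn.coprime_dvd_left (Dvd.intro_left _ hm'.symm))
    refine ⟨l, ?_, fun x hx => ?_⟩
    · rw [← hl]
      refine Nat.card_congr
        { toFun := fun H => ⟨H.1.map f, ?_⟩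
          invFun := fun K => ⟨K.1.comap f, ?_⟩
          left_inv := fun H => Subtype.ext (Subgroup.comap_map_eq_self
            (by rw [hf, QuotientGroup.ker_mk']; exact hNle _ H.2))
          right_inv := fun K => Subtype.ext (Subgroup.map_comap_eq_self_of_surjective hsurj K.1) }
      · have h1 := card_comap_mk' N (H.1.map f)
        rw [← hf, Subgroup.comap_map_eq_self (by rw [hf, QuotientGroup.ker_mk']; exact hNle _ H.2),
          ] at h1
        exact (Nat.eq_of_mul_eq_mul_left Nat.card_pos ((hm'.symm.trans H.2.symm).trans h1)).symm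
      · rw [card_comap_mk' N K.1, K.2, hm']
    · obtain ⟨h1, h2, r, hr, hrd, h3⟩ := hl' x hx
      exact ⟨h1, dvdChief_of_quotient h2, r, hr, hrd.trans (Dvd.intro_left _ hm'.symm), h3⟩
  · have hcopm : (Nat.card N).Coprime m := hNc ▸ (hq.coprime_iff_not_dvd.2 hqm).pow_left a
    obtain ⟨n', hn'⟩ : Nat.card N ∣ n :=
      hcopm.dvd_of_dvd_mul_left (hG ▸ Dvd.intro_left _ hcardG)
    have hG' : Nat.card (G ⧸ N) = m * n' := by
      refine mul_right_cancel₀ (Nat.card_pos (α := N)).ne' (hcardG.trans ?_)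
      rw [hG, hn']; ring
    obtain ⟨l, hl, hl'⟩ := ih _ hlt (G ⧸ N) m n' rfl hG'
      (hmn.coprime_dvd_right (Dvd.intro_left _ hn'.symm))
    have himg : ∀ H : Subgroup G, Nat.card H = m → Nat.card (H.map f) = m := fun H hH => by
      have hinj : Function.Injective (f.comp H.subtype) := by
        rw [injective_iff_map_eq_one]
        intro x hx
        have h1 : (x : G) ∈ N ⊓ H := ⟨(QuotientGroup.eq_one_iff (x : G)).1 hx, x.2⟩
        rw [disjoint_of_coprime (hH ▸ hcopm), Subgroup.mem_bot] at h1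
        exact Subtype.ext h1
      have hrange : (f.comp H.subtype).range = H.map f := by
        rw [MonoidHom.range_eq_map, ← Subgroup.map_map, ← MonoidHom.range_eq_map,
          Subgroup.range_subtype]
      rw [← hH, ← hrange]
      exact (Nat.card_congr (MonoidHom.ofInjective hinj).toEquiv).symm
    obtain ⟨H₁, hH₁⟩ := exists_hall hG hmn
    set c := (N ⊓ Subgroup.centralizer (H₁ : Set G)).relIndex N with hc
    have hconst : ∀ H : Subgroup G, Nat.card H = m →
        (N ⊓ Subgroup.centralizer (H : Set G)).relIndex N = c := fun H hH => by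
      obtain ⟨g, hg⟩ := exists_conj_eq_hall hG hmn hH₁ hH
      have key : MulAut.conj g • (N ⊓ Subgroup.centralizer (H₁ : Set G)) =
          N ⊓ Subgroup.centralizer (H : Set G) := by
        ext x
        rw [mem_conj_smul_iff, Subgroup.mem_inf, Subgroup.mem_inf, ← hg]
        refine and_congr ⟨fun h => ?_, fun h => ?_⟩ ⟨fun h y hy => ?_, fun h y hy => ?_⟩
        · simpa [mul_assoc] using hNn.conj_mem _ h g
        · simpa [mul_assoc] using hNn.conj_mem _ h g⁻¹
        · have h1 := h _ (mem_conj_smul_iff.1 hy)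
          calc y * x = g * ((g⁻¹ * y * g) * (g⁻¹ * x * g)) * g⁻¹ := by group
            _ = g * ((g⁻¹ * x * g) * (g⁻¹ * y * g)) * g⁻¹ := by rw [h1]
            _ = x * y := by group
        · have h1 : g * y * g⁻¹ ∈ MulAut.conj g • H₁ :=
            mem_conj_smul_iff.2 (by simpa [mul_assoc] using hy)
          calc y * (g⁻¹ * x * g) = g⁻¹ * ((g * y * g⁻¹) * x) * g := by group
            _ = g⁻¹ * (x * (g * y * g⁻¹)) * g := by rw [h _ h1]
            _ = (g⁻¹ * x * g) * y := by group
      rw [hc, ← key]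
      have h2 : MulAut.conj g • N = N := conj_smul_self_of_mem_normalizer
        (by rw [Subgroup.normalizer_eq_top]; exact Subgroup.mem_top g)
      have e1 : ∀ C : Subgroup G, C ≤ N → C.relIndex N * Nat.card C = Nat.card N := fun C hC => by
        rw [← (C.subgroupOf N).index_mul_card,
          Nat.card_congr (Subgroup.subgroupOfEquivOfLe hC).toEquiv]
        rfl
      refine Nat.eq_of_mul_eq_mul_right (Nat.card_pos
        (α := ↥(N ⊓ Subgroup.centralizer (H₁ : Set G)))) ?_
      rw [e1 _ inf_le_left]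
      conv_lhs => rw [← card_conj_smul g (N ⊓ Subgroup.centralizer (H₁ : Set G))]
      exact e1 _ ((conj_smul_mono g inf_le_left).trans h2.le)
    let φ : {H : Subgroup G // Nat.card H = m} → {K : Subgroup (G ⧸ N) // Nat.card K = m} :=
      fun H => ⟨H.1.map f, himg H.1 H.2⟩
    have hfib : ∀ K, Nat.card {H // φ H = K} = c := by
      intro K
      obtain ⟨H₀, hH₀, hH₀K⟩ : ∃ H₀ : Subgroup G, Nat.card H₀ = m ∧ H₀.map f = K.1 := by
        have hL : Nat.card ↥(K.1.comap f) = m * Nat.card N := by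
          rw [card_comap_mk' N K.1, K.2, mul_comm]
        haveI : Group.IsSolvable ↥(K.1.comap f) := inferInstance
        obtain ⟨H, hH⟩ := exists_hall hL hcopm.symm
        refine ⟨H.map (K.1.comap f).subtype, ?_, ?_⟩
        · rw [Subgroup.card_map_of_injective (K.1.comap f).subtype_injective, hH]
        · have hc' : Nat.card (H.map (K.1.comap f).subtype : Subgroup G) = m := by
            rw [Subgroup.card_map_of_injective (K.1.comap f).subtype_injective, hH]
          refine Subgroup.eq_of_le_of_card_ge ?_ ((himg _ hc').trans K.2.symm).ge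
          exact (Subgroup.map_mono (Subgroup.map_subtype_le _)).trans (Subgroup.map_comap_le _ _)
      rw [← hconst H₀ hH₀, ← card_fibre N H₀ inferInstance (hH₀.symm ▸ hcopm)]
      exact Nat.card_congr
        { toFun := fun H => ⟨H.1.1, H.1.2.trans hH₀.symm,
            (congrArg Subtype.val H.2).trans hH₀K.symm⟩
          invFun := fun H => ⟨⟨H.1, H.2.1.trans hH₀⟩, Subtype.ext (H.2.2.trans hH₀K)⟩
          left_inv := fun H => rfl
          right_inv := fun H => rfl }
    have hcount : Nat.card {H : Subgroup G // Nat.card H = m} =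
        Nat.card {K : Subgroup (G ⧸ N) // Nat.card K = m} * c := by
      rw [Nat.card_congr (((Equiv.sigmaFiberEquiv φ).symm.trans (Equiv.sigmaCongrRight fun K =>
        Finite.equivFinOfCardEq (hfib K))).trans (Equiv.sigmaEquivProd _ _)), Nat.card_prod,
        Nat.card_fin]
    obtain ⟨l₁, hl₁, hl₁'⟩ := exists_factors_centralizer N H₁ hq hNc
      (fun x _ => by rw [Subgroup.normalizer_eq_top]; exact Subgroup.mem_top x) inferInstance
      (hH₁.symm ▸ hcopm)
    refine ⟨l ++ l₁, ?_, fun x hx => ?_⟩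
    · rw [hcount, List.prod_append, hl, hc, hl₁]
    · rcases List.mem_append.1 hx with hx | hx
      · obtain ⟨h1, h2, h3⟩ := hl' x hx
        exact ⟨h1, dvdChief_of_quotient h2, h3⟩
      · obtain ⟨⟨e, he⟩, h2, r, hr, hrd, h3⟩ := hl₁' x hx
        refine ⟨⟨q, e, hq, he⟩, ⟨⊥, N, inferInstance, hNn, bot_lt_iff_ne_bot.2 hN,
          fun M hM _ hMN => hmin M hM hMN, ?_⟩, r, hr, hH₁ ▸ hrd, h3⟩
        rwa [Subgroup.relIndex_bot_left]

end CfsgLib.Solvable
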