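import Mathlib

/-!
A diagonalisable operator with a missing eigenvalue whose conjugation action on endomorphisms has
almost equidistributed eigenvalues.
-/

set_option autoImplicit false

namespace CfsgLib.Solvable

variable {k : Type*} [Field k] {W : Type*} [AddCommGroup W] [Module k W]

/-- The endomorphisms `Ψ` with `G₀ Ψ = ψ • Ψ G₀`. -/
noncomputable def twistComm (G₀ : Module.End k W) (ψ : k) : Submodule k (Module.End k W) :=
  LinearMap.ker (LinearMap.mulLeft k G₀ - ψ • LinearMap.mulRight k G₀)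

theorem mem_twistComm {G₀ : Module.End k W} {ψ : k} {Φ : Module.End k W} :
    Φ ∈ twistComm G₀ ψ ↔ G₀ * Φ = ψ • (Φ * G₀) := by
  rw [twistComm, LinearMap.mem_ker, LinearMap.sub_apply, sub_eq_zero]
  rfl

variable [IsAlgClosed k] [FiniteDimensional k W]

theorem exists_eigenbasis_of_pow_eq_one {N : ℕ} (hN : (N : k) ≠ 0) {G₀ : Module.End k W}
    (hG : G₀ ^ N = 1) :
    ∃ (B : Module.Basis (Fin (Module.finrank k W)) k W) (d : Fin (Module.finrank k W) → k),
      (∀ i, d i ^ N = 1) ∧ ∀ i, G₀ (B i) = d i • B i := by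
  classical
  have hN0 : N ≠ 0 := fun h => hN (by rw [h, Nat.cast_zero])
  have hss : Module.End.IsSemisimple G₀ := by
    refine Module.End.isSemisimple_of_squarefree_aeval_eq_zero
      (p := (Polynomial.X : Polynomial k) ^ N - Polynomial.C (1 : k))
      ((Polynomial.separable_X_pow_sub_C (1 : k) hN one_ne_zero).squarefree) ?_
    simp [hG]
  have htop : ⨆ μ : k, G₀.eigenspace μ = ⊤ := by
    rw [← Module.End.iSup_maxGenEigenspace_eq_top G₀]
    congr 1
    ext1 μ
    exact (hss.isFinitelySemisimple.maxGenEigenspace_eq_eigenspace μ).symm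
  have hspan : Submodule.span k {v : W | ∃ μ : k, G₀ v = μ • v} = ⊤ := by
    rw [eq_top_iff, ← htop, iSup_le_iff]
    exact fun μ v hv => Submodule.subset_span ⟨μ, Module.End.mem_eigenspace_iff.1 hv⟩
  obtain ⟨b, hbsub, hbspan, hbind⟩ := exists_linearIndependent k {v : W | ∃ μ : k, G₀ v = μ • v}
  let B₀ : Module.Basis b k W := Module.Basis.mk hbind (by
    rw [Subtype.range_coe, hbspan, hspan])
  haveI : Fintype b := FiniteDimensional.fintypeBasisIndex B₀
  let e : b ≃ Fin (Module.finrank k W) :=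
    (Fintype.equivFinOfCardEq (Module.finrank_eq_card_basis B₀).symm)
  let B := B₀.reindex e
  have hB : ∀ i, ∃ μ : k, G₀ (B i) = μ • B i := fun i => by
    have : B i = ((e.symm i : b) : W) := by
      simp only [B, Module.Basis.reindex_apply, B₀, Module.Basis.mk_apply]
    rw [this]
    exact hbsub (e.symm i).2
  choose d hd using hB
  refine ⟨B, d, fun i => ?_, hd⟩
  have h1 : ∀ j : ℕ, (G₀ ^ j) (B i) = d i ^ j • B i := by
    intro j
    induction j with
    | zero => rw [pow_zero, pow_zero, one_smul]; rfl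
    | succ j ih => rw [pow_succ', Module.End.mul_apply, ih, map_smul, hd, smul_smul, ← pow_succ]
  have h2 := h1 N
  rw [hG, Module.End.one_apply] at h2
  exact (smul_left_injective k (B.ne_zero i) ((one_smul k (B i)).trans h2)).symm

omit [IsAlgClosed k] in
theorem finrank_twistComm {n : ℕ} (B : Module.Basis (Fin n) k W) {d : Fin n → k}
    {G₀ : Module.End k W} (hd : ∀ i, G₀ (B i) = d i • B i) (ψ : k) :
    Module.finrank k (twistComm G₀ ψ) = Nat.card {ij : Fin n × Fin n // d ij.1 = ψ * d ij.2} := by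
  classical
  have hent : ∀ (Φ : Module.End k W) (i j : Fin n), B.repr (G₀ (Φ (B j))) i =
      d i * B.repr (Φ (B j)) i := by
    intro Φ i j
    conv_lhs => rw [← B.sum_repr (Φ (B j)), map_sum, map_sum]
    rw [Finsupp.finsetSum_apply, Finset.sum_eq_single i]
    · rw [map_smul, hd, map_smul, map_smul, B.repr_self]
      simp [mul_comm]
    · intro l _ hl
      rw [map_smul, hd, map_smul, map_smul, B.repr_self]
      simp [Finsupp.single_eq_of_ne hl.symm]
    · intro h; exact absurd (Finset.mem_univ i) h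
  have hentR : ∀ (Φ : Module.End k W) (i j : Fin n), B.repr (Φ (G₀ (B j))) i =
      d j * B.repr (Φ (B j)) i := by
    intro Φ i j
    rw [hd, map_smul, map_smul, Finsupp.smul_apply, smul_eq_mul]
  let P := {ij : Fin n × Fin n // d ij.1 = ψ * d ij.2}
  let L : twistComm G₀ ψ →ₗ[k] (P → k) :=
    { toFun := fun Φ ij => B.repr ((Φ : Module.End k W) (B ij.1.2)) ij.1.1
      map_add' := fun Φ Φ' => by ext ij; simp
      map_smul' := fun c Φ => by ext ij; simp }
  have hinj : Function.Injective L := by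
    rw [injective_iff_map_eq_zero]
    intro Φ hΦ
    refine Subtype.ext (B.ext fun j => B.ext_elem fun i => ?_)
    simp only [ZeroMemClass.coe_zero, LinearMap.zero_apply, map_zero, Finsupp.zero_apply]
    by_cases h : d i = ψ * d j
    · exact congrFun hΦ ⟨(i, j), h⟩
    · have h1 := congrArg (fun T : Module.End k W => B.repr (T (B j)) i) (mem_twistComm.1 Φ.2)
      simp only [Module.End.mul_apply, LinearMap.smul_apply, map_smul, Finsupp.smul_apply,
        smul_eq_mul, hent, hentR] at h1
      by_contra hne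
      exact h (mul_right_cancel₀ hne (h1.trans (by ring)))
  have hsurj : Function.Surjective L := by
    intro c
    let Φ : Module.End k W := B.constr k fun j =>
      ∑ i, (if h : d i = ψ * d j then c ⟨(i, j), h⟩ else 0) • B i
    have hΦ : ∀ i j, B.repr (Φ (B j)) i = if h : d i = ψ * d j then c ⟨(i, j), h⟩ else 0 := by
      intro i j
      simp only [Φ, Module.Basis.constr_basis, map_sum, map_smul, B.repr_self,
        Finsupp.finsetSum_apply, Finsupp.smul_apply, smul_eq_mul]
      rw [Finset.sum_eq_single i (fun l _ hl => by simp [Finsupp.single_eq_of_ne hl.symm])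
        (fun h => absurd (Finset.mem_univ i) h)]
      simp
    refine ⟨⟨Φ, mem_twistComm.2 (B.ext fun j => B.ext_elem fun i => ?_)⟩, ?_⟩
    · simp only [Module.End.mul_apply, LinearMap.smul_apply, map_smul, Finsupp.smul_apply,
        smul_eq_mul, hent, hentR, hΦ]
      split_ifs with h
      · rw [h]; ring
      · ring
    · funext ij
      show B.repr (Φ (B ij.1.2)) ij.1.1 = c ij
      rw [hΦ, dif_pos ij.2]
  rw [LinearEquiv.finrank_eq (LinearEquiv.ofBijective L ⟨hinj, hsurj⟩), Module.finrank_pi,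
    Nat.card_eq_fintype_card]

/-- An operator of order dividing `N` lacking one root of unity as eigenvalue, whose centraliser
is at most one dimension bigger than each twisted centraliser, lives in dimension `N - 1`. -/
theorem missing_eigenvalue_spectrum {N : ℕ} (hN : (N : k) ≠ 0) {G₀ : Module.End k W}
    (hG : G₀ ^ N = 1) {α₀ : k} (hα₀ : α₀ ^ N = 1) (hmiss : ∀ v : W, G₀ v = α₀ • v → v = 0)
    (hdim : 1 < Module.finrank k W)
    (hle : ∀ ψ : k, ψ ^ N = 1 →
      Module.finrank k (twistComm G₀ 1) ≤ Module.finrank k (twistComm G₀ ψ) + 1) :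
    Module.finrank k W + 1 = N ∧
      ∀ α : k, α ^ N = 1 → α ≠ α₀ → ∃ v : W, v ≠ 0 ∧ G₀ v = α • v := by
  classical
  haveI : NeZero N := ⟨fun h => hN (by rw [h, Nat.cast_zero])⟩
  haveI : NeZero (N : k) := ⟨hN⟩
  obtain ⟨B, d, hdN, hd⟩ := exists_eigenbasis_of_pow_eq_one hN hG
  generalize hn : Module.finrank k W = n at B d hdN hd hdim ⊢
  letI : Fintype (rootsOfUnity N k) := Fintype.ofFinite _
  let D : Fin n → rootsOfUnity N k := fun i => rootsOfUnity.mkOfPowEq (d i) (hdN i)
  have hD : ∀ i, (((D i : kˣ) : k)) = d i := fun i => rootsOfUnity.coe_mkOfPowEq _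
  let T₀ : rootsOfUnity N k := rootsOfUnity.mkOfPowEq α₀ hα₀
  have hne : ∀ i, D i ≠ T₀ := fun i h => by
    refine B.ne_zero i (hmiss _ ?_)
    rw [hd, ← hD i, h, rootsOfUnity.coe_mkOfPowEq]
  have hR : Fintype.card (rootsOfUnity N k) = N := by
    rw [← Nat.card_eq_fintype_card]; exact HasEnoughRootsOfUnity.natCard_rootsOfUnity k N
  -- pair counts
  let cnt : rootsOfUnity N k → ℕ := fun ψ =>
    (Finset.univ.filter fun ij : Fin n × Fin n => D ij.1 / D ij.2 = ψ).card
  have hcnt : ∀ ψ : rootsOfUnity N k,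
      Module.finrank k (twistComm G₀ ((ψ : kˣ) : k)) = cnt ψ := by
    intro ψ
    rw [finrank_twistComm B hd, Nat.card_eq_fintype_card, Fintype.card_subtype]
    refine congrArg Finset.card (Finset.filter_congr fun ij _ => ?_)
    rw [div_eq_iff_eq_mul, ← hD ij.1, ← hD ij.2, ← Units.val_mul, Units.val_inj,
      ← Subgroup.coe_mul, Subtype.coe_inj]
  have hle' : ∀ ψ, cnt 1 ≤ cnt ψ + 1 := fun ψ => by
    rw [← hcnt, ← hcnt]
    simpa using hle _ (by rw [← Units.val_pow_eq_pow_val]; exact congrArg Units.val ψ.2)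
  have hinj : Function.Injective D := by
    intro i₁ i₂ h12
    by_contra hne12
    let f : rootsOfUnity N k → ℤ := fun α => (Finset.univ.filter fun i => D i = α).card
    set ψ := D i₁ / T₀
    have hsq : ∀ φ : rootsOfUnity N k, (cnt φ : ℤ) = ∑ α, f α * f (φ * α) := by
      intro φ
      have e : cnt φ = ∑ j, (Finset.univ.filter fun i => D i = φ * D j).card := by
        simp only [cnt, div_eq_iff_eq_mul, Finset.card_filter]
        rw [Fintype.sum_prod_type, Finset.sum_comm]
      rw [e, Nat.cast_sum, ← Finset.sum_fiberwise Finset.univ D]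
      refine Finset.sum_congr rfl fun α _ => ?_
      rw [Finset.sum_congr rfl (g := fun _ => f (φ * α)) fun j hj => by
        rw [(Finset.mem_filter.1 hj).2]]
      rw [Finset.sum_const, nsmul_eq_mul]
    have h2 : (∑ α, (f α - f (ψ * α)) ^ 2) ≤ 2 := by
      have e : (∑ α, (f α - f (ψ * α)) ^ 2) = 2 * (cnt 1 : ℤ) - 2 * (cnt ψ : ℤ) := by
        rw [hsq, hsq]
        have e2 : ∑ α, f (ψ * α) * f (ψ * α) = ∑ α, f α * f α :=
          Fintype.sum_equiv (Equiv.mulLeft ψ) _ _ fun α => rfl
        calc (∑ α, (f α - f (ψ * α)) ^ 2)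
            = ∑ α, (f α * f α + f (ψ * α) * f (ψ * α) - 2 * (f α * f (ψ * α))) :=
              Finset.sum_congr rfl fun α _ => by ring
          _ = 2 * (∑ α, f α * f (1 * α)) - 2 * ∑ α, f α * f (ψ * α) := by
              rw [Finset.sum_sub_distrib, Finset.sum_add_distrib, e2, ← Finset.mul_sum]
              simp only [one_mul]
              ring
      have h3 : (cnt 1 : ℤ) ≤ (cnt ψ : ℤ) + 1 := by exact_mod_cast hle' ψ
      omega
    have h4 : (f T₀ - f (ψ * T₀)) ^ 2 ≤ 2 :=
      le_trans (Finset.single_le_sum (f := fun α => (f α - f (ψ * α)) ^ 2)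
        (fun α _ => sq_nonneg _) (Finset.mem_univ T₀)) h2
    have h5 : f T₀ = 0 := by
      simp only [f, Nat.cast_eq_zero, Finset.card_eq_zero, Finset.filter_eq_empty_iff]
      exact fun i _ => hne i
    have h6 : 2 ≤ f (ψ * T₀) := by
      simp only [f, ψ, div_mul_cancel]
      refine (Nat.ofNat_le_cast).2 (Finset.one_lt_card.2 ⟨i₁, ?_, i₂, ?_, hne12⟩)
      · simp
      · simp [← h12]
    rw [h5] at h4
    nlinarith
  have hup : n + 1 ≤ N := by
    have h1 : (Finset.univ.image D).card < (Finset.univ : Finset (rootsOfUnity N k)).card :=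
      Finset.card_lt_card (Finset.ssubset_univ_iff.2 fun h => by
        obtain ⟨i, -, hi⟩ := Finset.mem_image.1 (h.symm ▸ Finset.mem_univ T₀)
        exact hne i hi)
    rw [Finset.card_image_of_injective _ hinj, Finset.card_univ, Finset.card_univ, hR,
      Fintype.card_fin] at h1
    omega
  have h1 : cnt 1 = n := by
    simp only [cnt, div_eq_one]
    refine (Finset.card_bij' (fun ij _ => ij.1) (fun i _ => (i, i)) ?_ ?_ ?_ ?_).trans
      (Fintype.card_fin n)
    · simp
    · simp
    · intro ij hij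
      exact Prod.ext rfl (hinj (Finset.mem_filter.1 hij).2)
    · intros; rfl
  have hsum : ∑ ψ, cnt ψ = n * n := by
    rw [← Finset.card_eq_sum_card_fiberwise (s := Finset.univ)
      (f := fun ij : Fin n × Fin n => D ij.1 / D ij.2) (fun _ _ => Finset.mem_univ _)]
    simp
  have hlow : N * n ≤ n * n + (N - 1) := by
    have h2 : ∑ ψ ∈ Finset.univ.erase (1 : rootsOfUnity N k), n ≤
        ∑ ψ ∈ Finset.univ.erase (1 : rootsOfUnity N k), (cnt ψ + 1) :=
      Finset.sum_le_sum fun ψ _ => h1 ▸ hle' ψ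
    rw [Finset.sum_add_distrib, Finset.sum_const, Finset.sum_const,
      Finset.card_erase_of_mem (Finset.mem_univ _), Finset.card_univ, hR, smul_eq_mul,
      smul_eq_mul, mul_one] at h2
    have h3 := Finset.sum_erase_add Finset.univ cnt (Finset.mem_univ (1 : rootsOfUnity N k))
    rw [hsum, h1] at h3
    obtain ⟨N', rfl⟩ : ∃ N', N = N' + 1 := ⟨N - 1, by omega⟩
    rw [Nat.add_sub_cancel] at h2 ⊢
    rw [add_mul, one_mul]
    omega
  have hfin : n + 1 = N := by
    by_contra hne'
    obtain ⟨c, hc⟩ : ∃ c, N = n + 2 + c := ⟨N - (n + 2), by omega⟩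
    subst hc
    have : n + 2 + c - 1 = n + 1 + c := by omega
    rw [this] at hlow
    nlinarith
  refine ⟨hfin, fun α hα hαne => ?_⟩
  by_cases hex : ∃ i, D i = rootsOfUnity.mkOfPowEq α hα
  · obtain ⟨i, hi⟩ := hex
    refine ⟨B i, B.ne_zero i, ?_⟩
    rw [hd, ← hD i, hi, rootsOfUnity.coe_mkOfPowEq]
  · exfalso
    push Not at hex
    have hne2 : rootsOfUnity.mkOfPowEq α hα ≠ T₀ := fun h => hαne (by
      have := congrArg (fun u : rootsOfUnity N k => ((u : kˣ) : k)) h
      simpa [T₀, rootsOfUnity.coe_mkOfPowEq] using this)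
    have h2 : (Finset.univ.image D).card + 2 ≤ Fintype.card (rootsOfUnity N k) := by
      have hsub : Finset.univ.image D ⊆
          (Finset.univ.erase T₀).erase (rootsOfUnity.mkOfPowEq α hα) := by
        intro u hu
        obtain ⟨i, -, rfl⟩ := Finset.mem_image.1 hu
        simp [hne i, hex i]
      have h3 := Finset.card_le_card hsub
      rw [Finset.card_erase_of_mem (by simp [hne2]), Finset.card_erase_of_mem (Finset.mem_univ _),
        Finset.card_univ] at h3
      rw [hR] at h3 ⊢
      omega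
    rw [Finset.card_image_of_injective _ hinj, Finset.card_univ, hR, Fintype.card_fin] at h2
    omega

theorem finrank_of_missing_eigenvalue {N : ℕ} (hN : (N : k) ≠ 0) {G₀ : Module.End k W}
    (hG : G₀ ^ N = 1) {α₀ : k} (hα₀ : α₀ ^ N = 1) (hmiss : ∀ v : W, G₀ v = α₀ • v → v = 0)
    (hdim : 1 < Module.finrank k W)
    (hle : ∀ ψ : k, ψ ^ N = 1 →
      Module.finrank k (twistComm G₀ 1) ≤ Module.finrank k (twistComm G₀ ψ) + 1) :
    Module.finrank k W + 1 = N :=
  (missing_eigenvalue_spectrum hN hG hα₀ hmiss hdim hle).1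

end CfsgLib.Solvable
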