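import Cfsg.Agent.Lib.Solvable.CharProjection
import Cfsg.Agent.Lib.Solvable.MissingEigenvalue
import Cfsg.Agent.Lib.LocalEven.ExtraspecialModule
import Cfsg.Agent.Lib.FGS.ThompsonKernel

/-!
The extraspecial component in the Hall–Higman analysis of a fixed-point-free automorphism: if a
group acts projectively like a nondegenerate symplectic section `Q / R`, is normalised by an operator
of order `N` acting semiregularly on `Q / R`, and the operator fixes no vector, then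
`|Q : R| = (N - 1) ^ 2`.
-/

set_option autoImplicit false

open scoped commutatorElement

namespace CfsgLib.Solvable

variable {k : Type*} [Field k] {W : Type*} [AddCommGroup W] [Module k W]
variable {Q : Type*} [Group Q] [Finite Q]

omit [Finite Q] in
theorem rep_ne_zero [Nontrivial W] (ρ : Q →* Module.End k W) (x : Q) : ρ x ≠ 0 := fun h => by
  have : ρ x * ρ x⁻¹ = 1 := by rw [← map_mul, mul_inv_cancel, map_one]
  rw [h, zero_mul] at this
  exact zero_ne_one this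

omit [Finite Q] in
theorem rep_conj_eq_smul (ρ : Q →* Module.End k W) {R : Subgroup Q}
    (hR : ∀ r ∈ R, ∃ c : k, ρ r = c • 1) (hD : ∀ x y : Q, ⁅x, y⁆ ∈ R) (y a : Q) :
    ∃ c : k, ρ (y * a * y⁻¹) = c • ρ a := by
  obtain ⟨c, hc⟩ := hR _ (hD y a)
  refine ⟨c, ?_⟩
  have e : y * a * y⁻¹ = ⁅y, a⁆ * a := by rw [commutatorElement_def]; group
  rw [e, map_mul, hc, smul_mul_assoc, one_mul]

omit [Finite Q] in
theorem rep_separated [Nontrivial W] (ρ : Q →* Module.End k W) {R : Subgroup Q} [R.Normal]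
    (hR : ∀ r ∈ R, ∃ c : k, ρ r = c • 1) (hD : ∀ x y : Q, ⁅x, y⁆ ∈ R)
    (hnd : ∀ x : Q, x ∉ R → ∃ y : Q, ρ ⁅y, x⁆ ≠ 1) {a b : Q}
    (hab : (QuotientGroup.mk a : Q ⧸ R) ≠ QuotientGroup.mk b) :
    ∃ (y : Q) (ca cb : k), ρ (y * a * y⁻¹) = ca • ρ a ∧ ρ (y * b * y⁻¹) = cb • ρ b ∧ ca ≠ cb := by
  have hx : a * b⁻¹ ∉ R := fun h => hab (by
    rw [eq_comm, QuotientGroup.eq]
    simpa [mul_assoc] using (inferInstance : R.Normal).conj_mem _ h b⁻¹)
  obtain ⟨y, hy⟩ := hnd _ hx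
  obtain ⟨ca, hca⟩ := rep_conj_eq_smul ρ hR hD y a
  obtain ⟨cb, hcb⟩ := rep_conj_eq_smul ρ hR hD y b
  refine ⟨y, ca, cb, hca, hcb, ?_⟩
  rintro rfl
  apply hy
  have hne : ca ≠ 0 := fun h => rep_ne_zero ρ (y * a * y⁻¹) (by rw [hca, h, zero_smul])
  have h1 : ρ (y * b⁻¹ * y⁻¹) = ca⁻¹ • ρ b⁻¹ := by
    have h2 : ρ (y * b⁻¹ * y⁻¹) * ρ (y * b * y⁻¹) = 1 := by rw [← map_mul]; simp [mul_assoc]
    rw [hcb, mul_smul_comm] at h2
    have h3 : ρ (y * b⁻¹ * y⁻¹) * ρ b = ca⁻¹ • 1 := by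
      rw [← h2, smul_smul, inv_mul_cancel₀ hne, one_smul]
    calc ρ (y * b⁻¹ * y⁻¹) = ρ (y * b⁻¹ * y⁻¹) * ρ b * ρ b⁻¹ := by
          rw [mul_assoc _ (ρ b) (ρ b⁻¹), ← map_mul ρ b b⁻¹, mul_inv_cancel, map_one, mul_one]
      _ = _ := by rw [h3, smul_mul_assoc, one_mul]
  have e : ⁅y, a * b⁻¹⁆ = (y * a * y⁻¹) * (y * b⁻¹ * y⁻¹) * (a * b⁻¹)⁻¹ := by
    rw [commutatorElement_def]; group
  rw [e, map_mul, map_mul, hca, h1, smul_mul_smul_comm, mul_inv_cancel₀ hne, one_smul, ← map_mul,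
    ← map_mul, mul_inv_cancel, map_one]

omit [Finite Q] in
theorem rep_section_independent [Nontrivial W] (ρ : Q →* Module.End k W) {R : Subgroup Q}
    [R.Normal] (hR : ∀ r ∈ R, ∃ c : k, ρ r = c • 1) (hD : ∀ x y : Q, ⁅x, y⁆ ∈ R)
    (hnd : ∀ x : Q, x ∉ R → ∃ y : Q, ρ ⁅y, x⁆ ≠ 1) (s : Q ⧸ R → Q) (hs : ∀ t, QuotientGroup.mk (s t) = t) :
    LinearIndependent k fun t => ρ (s t) := by
  refine CfsgLib.LocalEven.ExtMod.independent_of_separated _ (fun t => rep_ne_zero ρ _)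
    fun i j hij => ?_
  obtain ⟨y, ci, cj, hci, hcj, hne⟩ := rep_separated ρ hR hD hnd
    (a := s i) (b := s j) (by rw [hs, hs]; exact hij)
  have hall : ∀ t, ∃ c : k, ρ (y * s t * y⁻¹) = c • ρ (s t) := fun t => rep_conj_eq_smul ρ hR hD y _
  choose c hc using hall
  refine ⟨(LinearMap.mulLeft k (ρ y)).comp (LinearMap.mulRight k (ρ y⁻¹)), c, fun t => ?_, ?_⟩
  · rw [LinearMap.comp_apply, LinearMap.mulLeft_apply, LinearMap.mulRight_apply, ← hc,
      map_mul, map_mul, mul_assoc]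
  · intro h
    apply hne
    rw [← smul_left_injective k (rep_ne_zero ρ (s i)) ((hc i).symm.trans hci),
      ← smul_left_injective k (rep_ne_zero ρ (s j)) ((hc j).symm.trans hcj), h]

variable [IsAlgClosed k] [FiniteDimensional k W]

omit [Finite Q] in
theorem schur_scalar [Nontrivial W] (ρ : Q →* Module.End k W)
    (hirr : ∀ U : Submodule k W, (∀ x, ∀ w ∈ U, ρ x w ∈ U) → U = ⊥ ∨ U = ⊤)
    {T : Module.End k W} (hT : ∀ x, T * ρ x = ρ x * T) : ∃ c : k, T = c • 1 := by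
  obtain ⟨c, hc⟩ := Module.End.exists_eigenvalue T
  refine ⟨c, LinearMap.ext fun w => ?_⟩
  have hinv : ∀ x, ∀ w ∈ T.eigenspace c, ρ x w ∈ T.eigenspace c := fun x w hw => by
    rw [Module.End.mem_eigenspace_iff] at hw ⊢
    rw [← Module.End.mul_apply, hT, Module.End.mul_apply, hw, map_smul]
  rcases hirr (T.eigenspace c) hinv with h | h
  · exact absurd h hc
  · exact Module.End.mem_eigenspace_iff.1 (h ▸ Submodule.mem_top : w ∈ T.eigenspace c)

theorem rep_section_span [Nontrivial W] (ρ : Q →* Module.End k W) {R : Subgroup Q} [R.Normal]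
    (hR : ∀ r ∈ R, ∃ c : k, ρ r = c • 1) (hD : ∀ x y : Q, ⁅x, y⁆ ∈ R)
    (hnd : ∀ x : Q, x ∉ R → ∃ y : Q, ρ ⁅y, x⁆ ≠ 1) (hk : (Nat.card Q : k) ≠ 0)
    (hirr : ∀ U : Submodule k W, (∀ x, ∀ w ∈ U, ρ x w ∈ U) → U = ⊥ ∨ U = ⊤)
    (s : Q ⧸ R → Q) (hs : ∀ t, QuotientGroup.mk (s t) = t) :
    Submodule.span k (Set.range fun t => ρ (s t)) = ⊤ := by
  classical
  letI : CommGroup (Q ⧸ R) :=
    { (inferInstance : Group (Q ⧸ R)) with
      mul_comm := fun a b => by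
        obtain ⟨x, rfl⟩ := QuotientGroup.mk_surjective a
        obtain ⟨y, rfl⟩ := QuotientGroup.mk_surjective b
        rw [← QuotientGroup.mk_mul, ← QuotientGroup.mk_mul, QuotientGroup.eq]
        have e : (x * y)⁻¹ * (y * x) = ⁅y⁻¹, x⁻¹⁆ := by rw [commutatorElement_def]; group
        rw [e]
        exact hD _ _ }
  have hU : (Nat.card (Q ⧸ R) : k) ≠ 0 := fun h => hk (by
    obtain ⟨c, hc⟩ := Subgroup.card_quotient_dvd_card R
    rw [hc, Nat.cast_mul, h, zero_mul])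
  let Ad : Q →* Module.End k (Module.End k W) :=
    { toFun := fun x => (LinearMap.mulLeft k (ρ x)).comp (LinearMap.mulRight k (ρ x⁻¹))
      map_one' := by
        refine LinearMap.ext fun T => ?_
        simp
      map_mul' := fun x y => LinearMap.ext fun T => by
        simp [mul_assoc] }
  have hAd : ∀ (x : Q) (T : Module.End k W), Ad x T = ρ x * T * ρ x⁻¹ := fun x T =>
    (mul_assoc _ _ _).symm
  have hker : R ≤ Ad.ker := fun r hr => by
    obtain ⟨c, hc⟩ := hR r hr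
    refine LinearMap.ext fun T => ?_
    rw [hAd, Module.End.one_apply, hc, smul_mul_assoc, one_mul]
    calc (c • T) * ρ r⁻¹ = T * ((c • 1) * ρ r⁻¹) := by
          simp only [smul_mul_assoc, one_mul, mul_smul_comm]
      _ = T := by rw [← hc, ← map_mul, mul_inv_cancel, map_one, mul_one]
  let A : (Q ⧸ R) →* Module.End k (Module.End k W) := QuotientGroup.lift R Ad hker
  have heig : ∀ (t u : Q ⧸ R), ∃ c : kˣ, A u (ρ (s t)) = (c : k) • ρ (s t) := by
    intro t u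
    obtain ⟨y, rfl⟩ := QuotientGroup.mk_surjective u
    obtain ⟨c, hc⟩ := rep_conj_eq_smul ρ hR hD y (s t)
    have hne : c ≠ 0 := fun h => rep_ne_zero ρ (y * s t * y⁻¹) (by rw [hc, h, zero_smul])
    refine ⟨Units.mk0 c hne, ?_⟩
    show Ad y (ρ (s t)) = c • ρ (s t)
    rw [hAd, ← map_mul, ← map_mul, hc]
  choose χ hχ using heig
  have huniq : ∀ {t : Q ⧸ R} {a b : kˣ}, (a : k) • ρ (s t) = (b : k) • ρ (s t) → a = b :=
    fun h => Units.ext (smul_left_injective k (rep_ne_zero ρ _) h)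
  let X : Q ⧸ R → ((Q ⧸ R) →* kˣ) := fun t =>
    { toFun := χ t
      map_one' := huniq (by rw [← hχ, map_one]; simp)
      map_mul' := fun u v => huniq (by
        rw [← hχ, map_mul, Module.End.mul_apply, hχ, map_smul, hχ, smul_smul, ← Units.val_mul,
          mul_comm (χ t v)]) }
  have hXinj : Function.Injective X := by
    intro i j hij
    by_contra hne
    obtain ⟨y, ci, cj, hci, hcj, hcne⟩ := rep_separated ρ hR hD hnd
      (a := s i) (b := s j) (by rw [hs, hs]; exact hne)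
    apply hcne
    have h1 : ∀ (t : Q ⧸ R) (c : k), ρ (y * s t * y⁻¹) = c • ρ (s t) →
        ((X t (QuotientGroup.mk y) : kˣ) : k) = c := fun t c hc => by
      refine smul_left_injective k (rep_ne_zero ρ (s t)) ?_
      show ((χ t (QuotientGroup.mk y) : kˣ) : k) • ρ (s t) = c • ρ (s t)
      rw [← hχ]
      show Ad y (ρ (s t)) = c • ρ (s t)
      rw [hAd, ← map_mul, ← map_mul, hc]
    rw [← h1 i ci hci, ← h1 j cj hcj, hij]
  haveI : NeZero ((Monoid.exponent (Q ⧸ R) : ℕ) : k) := ⟨fun h => hU (by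
    obtain ⟨c, hc⟩ := Group.exponent_dvd_nat_card (G := Q ⧸ R)
    rw [hc, Nat.cast_mul, h, zero_mul])⟩
  have hcard := CommGroup.card_monoidHom_of_hasEnoughRootsOfUnity (Q ⧸ R) k
  haveI : Finite ((Q ⧸ R) →* kˣ) := Nat.finite_of_card_ne_zero
    (by rw [hcard]; exact Nat.card_pos.ne')
  have hXbij := hXinj.bijective_of_nat_card_le hcard.le
  rw [eq_top_iff]
  intro T _
  letI := Fintype.ofFinite ((Q ⧸ R) →* kˣ)
  have hT := LinearMap.congr_fun (sum_charProj A hU) T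
  rw [Module.End.one_apply, LinearMap.sum_apply] at hT
  rw [← hT]
  refine Submodule.sum_mem _ fun φ _ => ?_
  obtain ⟨t, rfl⟩ := hXbij.2 φ
  set Φ := charProj A (X t) T
  obtain ⟨c, hc⟩ : ∃ c : k, Φ * ρ (s t)⁻¹ = c • 1 := by
    refine schur_scalar ρ hirr fun y => ?_
    set a : k := ((χ t (QuotientGroup.mk y) : kˣ) : k)
    have h1 : ρ y * Φ * ρ y⁻¹ = a • Φ := by
      have h := LinearMap.congr_fun (apply_mul_charProj A (X t) (QuotientGroup.mk y)) T
      rw [Module.End.mul_apply, LinearMap.smul_apply] at h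
      rw [← hAd]
      exact h
    have h2 : ρ y * ρ (s t) * ρ y⁻¹ = a • ρ (s t) := by
      rw [← hAd]
      exact hχ t (QuotientGroup.mk y)
    have h3 : ρ y * Φ = a • (Φ * ρ y) := by
      calc ρ y * Φ = (ρ y * Φ * ρ y⁻¹) * ρ y := by
            rw [mul_assoc (ρ y * Φ), ← map_mul ρ, inv_mul_cancel, map_one, mul_one]
        _ = _ := by rw [h1, smul_mul_assoc]
    have h4 : ρ y * ρ (s t) = a • (ρ (s t) * ρ y) := by
      calc ρ y * ρ (s t) = (ρ y * ρ (s t) * ρ y⁻¹) * ρ y := by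
            rw [mul_assoc (ρ y * ρ (s t)), ← map_mul ρ y⁻¹, inv_mul_cancel, map_one, mul_one]
        _ = _ := by rw [h2, smul_mul_assoc]
    have h5 : ρ (s t)⁻¹ * ρ y = a • (ρ y * ρ (s t)⁻¹) := by
      calc ρ (s t)⁻¹ * ρ y = ρ (s t)⁻¹ * (ρ y * ρ (s t)) * ρ (s t)⁻¹ := by
            simp only [← map_mul ρ]; simp [mul_assoc]
        _ = _ := by
            rw [h4, mul_smul_comm, smul_mul_assoc, ← mul_assoc, ← map_mul ρ, inv_mul_cancel,
              map_one, one_mul]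
    calc Φ * ρ (s t)⁻¹ * ρ y = Φ * (a • (ρ y * ρ (s t)⁻¹)) := by rw [mul_assoc, h5]
      _ = ρ y * Φ * ρ (s t)⁻¹ := by rw [h3, mul_smul_comm, smul_mul_assoc, mul_assoc]
      _ = ρ y * (Φ * ρ (s t)⁻¹) := mul_assoc _ _ _
  have hΦ : Φ = c • ρ (s t) := by
    calc Φ = Φ * ρ (s t)⁻¹ * ρ (s t) := by
          rw [mul_assoc, ← map_mul ρ, inv_mul_cancel, map_one, mul_one]
      _ = _ := by rw [hc, smul_mul_assoc, one_mul]
  rw [hΦ]
  exact Submodule.smul_mem _ _ (Submodule.subset_span ⟨t, rfl⟩)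

/-- An irreducible projective representation of `Q / R` intertwines with its twist. -/
theorem exists_intertwiner [Nontrivial W] (ρ : Q →* Module.End k W) {R : Subgroup Q} [R.Normal]
    (hR : ∀ r ∈ R, ∃ c : k, ρ r = c • 1) (hD : ∀ x y : Q, ⁅x, y⁆ ∈ R)
    (hnd : ∀ x : Q, x ∉ R → ∃ y : Q, ρ ⁅y, x⁆ ≠ 1)
    (hirr : ∀ U : Submodule k W, (∀ x, ∀ w ∈ U, ρ x w ∈ U) → U = ⊥ ∨ U = ⊤)
    (γ : MulAut Q) (hγR : ∀ r ∈ R, γ r ∈ R) (hγρ : ∀ r ∈ R, ρ (γ r) = ρ r) {N : ℕ} (hN : 0 < N)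
    (hγN : γ ^ N = 1) :
    ∃ Γ₀ : Module.End k W, (∀ x, Γ₀ * ρ x = ρ (γ x) * Γ₀) ∧ Γ₀ ^ N = 1 := by
  classical
  letI := Fintype.ofFinite (Q ⧸ R)
  let ρ₁ : Q →* Module.End k W := ρ.comp γ.toMonoidHom
  have hR₁ : ∀ r ∈ R, ∃ c : k, ρ₁ r = c • 1 := fun r hr => hR _ (hγR r hr)
  have hnd₁ : ∀ x : Q, x ∉ R → ∃ y : Q, ρ₁ ⁅y, x⁆ ≠ 1 := fun x hx => by
    obtain ⟨y, hy⟩ := hnd x hx
    exact ⟨y, fun h => hy ((hγρ _ (hD y x)).symm.trans h)⟩
  have hind := rep_section_independent ρ₁ hR₁ hD hnd₁ (fun t : Q ⧸ R => t.out)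
    (fun t => t.out_eq')
  let avg : Module.End k W → Module.End k W := fun Ψ =>
    ∑ t : Q ⧸ R, ρ₁ t.out * Ψ * ρ t.out⁻¹
  obtain ⟨Ψ₀, hΨ₀⟩ : ∃ Ψ, avg Ψ ≠ 0 := by
    by_contra hc
    push Not at hc
    obtain ⟨v, hv⟩ := exists_ne (0 : W)
    obtain ⟨f, hf⟩ : ∃ f : W →ₗ[k] k, f (ρ (1 : Q ⧸ R).out⁻¹ v) ≠ 0 := by
      by_contra hcon
      push Not at hcon
      have h0 := (Module.forall_dual_apply_eq_zero_iff k _).1 hcon
      refine hv ?_
      calc v = ρ (1 : Q ⧸ R).out (ρ (1 : Q ⧸ R).out⁻¹ v) := by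
            rw [← Module.End.mul_apply, ← map_mul, mul_inv_cancel, map_one, Module.End.one_apply]
        _ = 0 := by rw [h0, map_zero]
    refine hf (Fintype.linearIndependent_iff.1 hind (fun t => f (ρ t.out⁻¹ v)) ?_ 1)
    refine LinearMap.ext fun u => ?_
    have h := LinearMap.congr_fun (hc (f.smulRight u)) v
    simpa [avg, LinearMap.sum_apply] using h
  set Ψ := avg Ψ₀ with hΨ
  have hint : ∀ y, Ψ * ρ y = ρ₁ y * Ψ := by
    intro y
    let F : Q → Module.End k W := fun x => ρ₁ x * Ψ₀ * ρ x⁻¹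
    have hF : ∀ r ∈ R, ∀ x, F (x * r) = F x := by
      intro r hr x
      obtain ⟨c, hc⟩ := hR r hr
      have e1 : ρ₁ r = c • 1 := (hγρ r hr).trans hc
      have e2 : c • ρ r⁻¹ = 1 := by
        rw [← one_mul (ρ r⁻¹), ← smul_mul_assoc, ← hc, ← map_mul, mul_inv_cancel, map_one]
      show ρ₁ (x * r) * Ψ₀ * ρ (x * r)⁻¹ = ρ₁ x * Ψ₀ * ρ x⁻¹
      rw [map_mul, e1, mul_smul_comm, mul_one, mul_inv_rev, map_mul ρ]
      calc c • ρ₁ x * Ψ₀ * (ρ r⁻¹ * ρ x⁻¹) = ρ₁ x * Ψ₀ * ((c • ρ r⁻¹) * ρ x⁻¹) := by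
            simp only [smul_mul_assoc, mul_smul_comm]
        _ = _ := by rw [e2, one_mul]
    have hF' : ∀ x, F x = F (QuotientGroup.mk x : Q ⧸ R).out := fun x => by
      obtain ⟨r, hr⟩ := QuotientGroup.mk_out_eq_mul R x
      rw [hr, hF r r.2]
    have h1 : ρ₁ y * Ψ * ρ y⁻¹ = Ψ := by
      rw [hΨ]
      simp only [avg, Finset.mul_sum, Finset.sum_mul]
      refine Fintype.sum_equiv (Equiv.mulLeft (QuotientGroup.mk y)) _ _ fun t => ?_
      calc ρ₁ y * (ρ₁ t.out * Ψ₀ * ρ t.out⁻¹) * ρ y⁻¹ = F (y * t.out) := by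
            simp only [F, map_mul, mul_inv_rev, mul_assoc]
        _ = F (Equiv.mulLeft (QuotientGroup.mk y) t).out := by
            rw [hF' (y * t.out), QuotientGroup.mk_mul, QuotientGroup.out_eq']; rfl
    calc Ψ * ρ y = ρ₁ y * Ψ * ρ y⁻¹ * ρ y := by rw [h1]
      _ = ρ₁ y * Ψ := by rw [mul_assoc (ρ₁ y * Ψ), ← map_mul, inv_mul_cancel, map_one, mul_one]
  have hinj : LinearMap.ker Ψ = ⊥ := by
    refine (hirr _ fun x w hw => ?_).resolve_right fun h => hΨ₀ ?_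
    · rw [LinearMap.mem_ker] at hw ⊢
      rw [← Module.End.mul_apply, hint, Module.End.mul_apply, hw, map_zero]
    · exact LinearMap.ker_eq_top.1 h
  have hpow : ∀ (i : ℕ) (x : Q), Ψ ^ i * ρ x = ρ ((γ ^ i) x) * Ψ ^ i := by
    intro i
    induction i with
    | zero => intro x; simp
    | succ i ih =>
      intro x
      calc Ψ ^ (i + 1) * ρ x = Ψ * (Ψ ^ i * ρ x) := by rw [pow_succ', mul_assoc]
        _ = Ψ * ρ ((γ ^ i) x) * Ψ ^ i := by rw [ih, mul_assoc]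
        _ = ρ₁ ((γ ^ i) x) * Ψ * Ψ ^ i := by rw [hint]
        _ = ρ ((γ ^ (i + 1)) x) * Ψ ^ (i + 1) := by rw [mul_assoc, ← pow_succ', pow_succ' γ]; rfl
  obtain ⟨c, hc⟩ := schur_scalar ρ hirr (T := Ψ ^ N) fun x => by rw [hpow N x, hγN]; rfl
  have hinjN : ∀ i : ℕ, Function.Injective (Ψ ^ i : Module.End k W) := by
    intro i
    induction i with
    | zero => exact fun _ _ h => h
    | succ i ih => rw [pow_succ']; exact (LinearMap.ker_eq_bot.1 hinj).comp ih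
  have hc0 : c ≠ 0 := by
    rintro rfl
    obtain ⟨v, hv⟩ := exists_ne (0 : W)
    exact hv (hinjN N (by rw [hc, map_zero, zero_smul, LinearMap.zero_apply]))
  obtain ⟨z, hz⟩ := IsAlgClosed.exists_pow_nat_eq (c⁻¹) hN
  refine ⟨z • Ψ, fun x => ?_, ?_⟩
  · rw [smul_mul_assoc, hint, mul_smul_comm]; rfl
  · rw [smul_pow, hz, hc, smul_smul, inv_mul_cancel₀ hc0, one_smul]

/-- Centraliser versus twisted centraliser for an operator permuting a basis of translates. -/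
theorem finrank_twistComm_le [Nontrivial W] (ρ : Q →* Module.End k W) {R : Subgroup Q} [R.Normal]
    (hR : ∀ r ∈ R, ∃ c : k, ρ r = c • 1) (hD : ∀ x y : Q, ⁅x, y⁆ ∈ R)
    (hnd : ∀ x : Q, x ∉ R → ∃ y : Q, ρ ⁅y, x⁆ ≠ 1) (hk : (Nat.card Q : k) ≠ 0)
    (hirr : ∀ U : Submodule k W, (∀ x, ∀ w ∈ U, ρ x w ∈ U) → U = ⊥ ∨ U = ⊤)
    (γ : MulAut Q) (hγR : ∀ r ∈ R, γ r ∈ R) {N : ℕ} (hN : 0 < N) (hγN : γ ^ N = 1)
    (hsemi : ∀ x, x ∉ R → ∀ j, 0 < j → j < N → x⁻¹ * (γ ^ j) x ∉ R)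
    {Γ₀ : Module.End k W} (hΓ₀ : ∀ x, Γ₀ * ρ x = ρ (γ x) * Γ₀) (hΓN : Γ₀ ^ N = 1)
    {ψ : k} (hψ : ψ ^ N = 1) :
    Module.finrank k (twistComm Γ₀ 1) ≤ Module.finrank k (twistComm Γ₀ ψ) + 1 := by
  classical
  letI := Fintype.ofFinite (Q ⧸ R)
  obtain ⟨g, hg⟩ := CfsgLib.FGS.exists_quotient_mulAut γ hγR
  have hgN : ∀ t : Q ⧸ R, (g ^ N) t = t := fun t => by
    obtain ⟨x, rfl⟩ := QuotientGroup.mk'_surjective R t
    rw [hg, hγN]; rfl
  have hgmul : ∀ (j i : ℕ) (t : Q ⧸ R), (g ^ (i + N * j)) t = (g ^ i) t := by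
    intro j
    induction j with
    | zero => intro i t; simp
    | succ j ih =>
      intro i t
      rw [show i + N * (j + 1) = i + N * j + N by ring, pow_add, MulAut.mul_apply, hgN, ih]
  have hgmod : ∀ (i : ℕ) (t : Q ⧸ R), (g ^ i) t = (g ^ (i % N)) t := fun i t => by
    conv_lhs => rw [← Nat.mod_add_div i N, hgmul]
  have hgadd : ∀ (i j : ℕ) (t : Q ⧸ R), (g ^ i) ((g ^ j) t) = (g ^ (i + j)) t := fun i j t => by
    rw [pow_add]; rfl
  have hfree : ∀ (i j : ℕ), i < N → j < N → ∀ t : Q ⧸ R, t ≠ 1 → (g ^ i) t = (g ^ j) t → i = j := by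
    intro i j hi hj t ht h
    wlog hle : i ≤ j generalizing i j
    · exact (this j i hj hi h.symm (le_of_not_ge hle)).symm
    by_contra hne
    have h2 : (g ^ i) t = (g ^ i) ((g ^ (j - i)) t) := by
      rw [hgadd, h, Nat.add_sub_cancel' hle]
    have h3 := ((g ^ i).injective h2).symm
    obtain ⟨x, rfl⟩ := QuotientGroup.mk'_surjective R t
    rw [hg] at h3
    refine hsemi x (fun hx => ht ((QuotientGroup.eq_one_iff x).2 hx)) (j - i) (by omega) (by omega) ?_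
    exact QuotientGroup.eq.1 h3.symm
  let S : Setoid (Q ⧸ R) :=
    { r := fun a b => ∃ i : ℕ, (g ^ i) a = b
      iseqv :=
        ⟨fun a => ⟨0, rfl⟩,
        fun {a b} ⟨i, hi⟩ => ⟨N - i % N, by
          rw [← hi, hgmod i, hgadd, Nat.sub_add_cancel (Nat.mod_lt i hN).le, hgN]⟩,
        fun {a b c} ⟨i, hi⟩ ⟨j, hj⟩ => ⟨j + i, by rw [← hgadd, hi, hj]⟩⟩ }
  let rep : Q ⧸ R → Q ⧸ R := fun t => (Quotient.mk S t).out
  have hrep : ∀ t, ∃ j, j < N ∧ (g ^ j) (rep t) = t := fun t => by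
    obtain ⟨i, hi⟩ := Quotient.exact (Quotient.out_eq (Quotient.mk S t))
    exact ⟨i % N, Nat.mod_lt i hN, (hgmod i _).symm.trans hi⟩
  choose jj hjlt hjeq using hrep
  let x : Q ⧸ R → Q := fun t => if t = 1 then 1 else (γ ^ jj t) (rep t).out
  have hxmk : ∀ t, QuotientGroup.mk (x t) = t := fun t => by
    by_cases ht : t = 1
    · simp [x, ht]
    · simp only [x, if_neg ht]
      have h := hg (jj t) (rep t).out
      rw [QuotientGroup.mk'_apply, QuotientGroup.out_eq', hjeq] at h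
      exact h.symm
  have hgne : ∀ t, t ≠ 1 → g t ≠ 1 := fun t ht h => ht (g.injective (h.trans (map_one g).symm))
  have hjsucc : ∀ t, t ≠ 1 → rep (g t) = rep t ∧ jj (g t) = (jj t + 1) % N := by
    intro t ht
    have h1 : rep (g t) = rep t :=
      congrArg Quotient.out (Quotient.sound (s := S) (⟨1, by rw [pow_one]⟩ : S.r t (g t))).symm
    refine ⟨h1, hfree _ _ (hjlt _) (Nat.mod_lt _ hN) (rep t) (fun h => ht ?_) ?_⟩
    · rw [← hjeq t, h, map_one]
    · have h2 := hjeq (g t)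
      rw [h1] at h2
      rw [h2, ← hgmod, add_comm, ← hgadd, hjeq, pow_one]
  have hxsucc : ∀ t, γ (x t) = x (g t) := by
    intro t
    by_cases ht : t = 1
    · simp [x, ht]
    · obtain ⟨h1, h2⟩ := hjsucc t ht
      simp only [x, if_neg ht, if_neg (hgne t ht), h1, h2]
      have : γ ^ ((jj t + 1) % N) = γ ^ (jj t + 1) := by
        conv_rhs => rw [← Nat.mod_add_div (jj t + 1) N, pow_add, pow_mul, hγN, one_pow, mul_one]
      rw [this, pow_succ']; rfl
  let F : Module.Basis (Q ⧸ R) k (Module.End k W) := Module.Basis.mk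
    (rep_section_independent ρ hR hD hnd x hxmk)
    (rep_section_span ρ hR hD hnd hk hirr x hxmk).ge
  have hF : ∀ t, F t = ρ (x t) := fun t => Module.Basis.mk_apply _ _ t
  set φ := ψ⁻¹ with hφ
  have hφN : φ ^ N = 1 := by rw [hφ, inv_pow, hψ, inv_one]
  have hψ0 : ψ ≠ 0 := fun h => by rw [h, zero_pow hN.ne'] at hψ; exact zero_ne_one hψ
  let P : Module.End k W →ₗ[k] Module.End k W := F.constr k fun t => F (g t)
  let M : Module.End k W →ₗ[k] Module.End k W :=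
    F.constr k fun t => if t = 1 then 0 else φ ^ jj t • F t
  have hLRP : ∀ Φ : Module.End k W, Γ₀ * Φ = P Φ * Γ₀ := by
    intro Φ
    have : LinearMap.mulLeft k Γ₀ = (LinearMap.mulRight k Γ₀).comp P := F.ext fun t => by
      simp only [LinearMap.comp_apply, LinearMap.mulLeft_apply, LinearMap.mulRight_apply, P,
        Module.Basis.constr_basis]
      rw [hF, hF, hΓ₀, hxsucc]
    exact LinearMap.congr_fun this Φ
  have hMP : ∀ Φ, M (P Φ) = φ • P (M Φ) := by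
    intro Φ
    have : M.comp P = φ • P.comp M := F.ext fun t => by
      simp only [LinearMap.comp_apply, LinearMap.smul_apply, P, M, Module.Basis.constr_basis]
      by_cases ht : t = 1
      · simp [ht]
      · rw [if_neg ht, if_neg (hgne t ht), map_smul, Module.Basis.constr_basis, smul_smul,
          (hjsucc t ht).2, ← pow_eq_pow_mod (jj t + 1) hφN, pow_succ']
    exact LinearMap.congr_fun this Φ
  have hΓinv : Γ₀ * Γ₀ ^ (N - 1) = 1 := by rw [← pow_succ', Nat.sub_add_cancel hN, hΓN]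
  have hmem : ∀ Φ ∈ twistComm Γ₀ 1, M Φ ∈ twistComm Γ₀ ψ := by
    intro Φ hΦ
    rw [mem_twistComm, one_smul, hLRP] at hΦ
    have hP : P Φ = Φ := by
      calc P Φ = P Φ * Γ₀ * Γ₀ ^ (N - 1) := by rw [mul_assoc, hΓinv, mul_one]
        _ = Φ := by rw [hΦ, mul_assoc, hΓinv, mul_one]
    have h1 := hMP Φ
    rw [hP] at h1
    rw [mem_twistComm, hLRP, ← smul_mul_assoc]
    conv_rhs => rw [h1, smul_smul, hφ, mul_inv_cancel₀ hψ0, one_smul]
  let M' : twistComm Γ₀ 1 →ₗ[k] twistComm Γ₀ ψ :=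
    (M.comp (twistComm Γ₀ 1).subtype).codRestrict _ fun Φ => hmem _ Φ.2
  let ev : LinearMap.ker M' →ₗ[k] k :=
    (F.coord 1).comp ((twistComm Γ₀ 1).subtype.comp (LinearMap.ker M').subtype)
  have hev : Function.Injective ev := by
    rw [injective_iff_map_eq_zero]
    intro Φ h0
    have hMc : ∀ t : Q ⧸ R, t ≠ 1 → ∀ Ψ, F.coord t (M Ψ) = φ ^ jj t * F.coord t Ψ := by
      intro t ht Ψ
      have : (F.coord t).comp M = φ ^ jj t • F.coord t := F.ext fun u => by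
        simp only [LinearMap.comp_apply, LinearMap.smul_apply, M, Module.Basis.constr_basis,
          Module.Basis.coord_apply, smul_eq_mul]
        by_cases hu : u = 1
        · subst hu
          simp [F.repr_self, Finsupp.single_eq_of_ne ht]
        · rw [if_neg hu, map_smul, Finsupp.smul_apply, smul_eq_mul, F.repr_self]
          by_cases hut : u = t
          · subst hut; simp
          · simp [Finsupp.single_eq_of_ne (Ne.symm hut)]
      exact LinearMap.congr_fun this Ψ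
    refine Subtype.ext (Subtype.ext (F.ext_elem fun t => ?_))
    simp only [ZeroMemClass.coe_zero, map_zero, Finsupp.zero_apply]
    by_cases ht : t = 1
    · subst ht; exact h0
    · have h1 : M ((Φ : twistComm Γ₀ 1) : Module.End k W) = 0 :=
        congrArg Subtype.val (LinearMap.mem_ker.1 Φ.2)
      have h2 := hMc t ht ((Φ : twistComm Γ₀ 1) : Module.End k W)
      rw [h1, map_zero, eq_comm, mul_eq_zero] at h2
      exact h2.resolve_left (pow_ne_zero _ (inv_ne_zero hψ0))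
  have h1 := LinearMap.finrank_range_add_finrank_ker M'
  have h2 := Submodule.finrank_le (LinearMap.range M')
  have h3 := LinearMap.finrank_le_finrank_of_injective hev
  rw [Module.finrank_self] at h3
  omega

end CfsgLib.Solvable
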