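import Cfsg.Agent.Lib.Solvable.MinimalNormal

/-!
Solvable groups all of whose maximal subgroups are Hall subgroups.
-/

set_option autoImplicit false

open scoped Pointwise

namespace CfsgLib.Solvable

universe u

theorem exists_normal_sylow_of_hall_maximal : ∀ (n : ℕ) {G : Type u} [Group G] [Finite G]
    [Group.IsSolvable G] [Nontrivial G], Nat.card G = n →
    (∀ M : Subgroup G, IsCoatom M → (Nat.card M).Coprime M.index) →
    ∃ p : ℕ, p.Prime ∧ p ∣ Nat.card G ∧ ∀ P : Sylow p G, (P : Subgroup G).Normal := by
  intro n
  induction n using Nat.strong_induction_on with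
  | _ n ih =>
    intro G _ _ _ _ hn hmax
    obtain ⟨N, p, a, hNn, hp, ha, hNp, hNcard, hNbot, hNab, hNmin⟩ :=
      exists_normal_prime_pow_card (G := G)
    have := hNn
    have := Fact.mk hp
    have hpG : p ∣ Nat.card G :=
      ((dvd_pow_self p ha.ne').trans hNcard.symm.dvd).trans N.card_subgroup_dvd_card
    by_cases hNtop : N = ⊤
    · refine ⟨p, hp, hpG, fun P => ?_⟩
      rw [← P.3 hNp (hNtop ▸ le_top)]
      exact hNn
    let π := QuotientGroup.mk' N
    have hπ : Function.Surjective π := QuotientGroup.mk'_surjective N
    have : Nontrivial (G ⧸ N) := (QuotientGroup.nontrivial_iff).2 hNtop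
    obtain ⟨q, hq, hqdvd, hQ⟩ := ih _ (hn ▸ card_quotient_lt N hNbot) (G := G ⧸ N) rfl
      (fun M hM => by
        have h1 : IsCoatom (M.comap π) := Subgroup.isCoatom_comap_of_surjective hπ hM
        have h2 := hmax _ h1
        rw [Subgroup.index_comap_of_surjective M hπ, card_comap_mk'] at h2
        exact Nat.Coprime.coprime_mul_left h2)
    have := Fact.mk hq
    refine (em (q = p)).elim (fun hqp => ?_) (fun hqp => ?_)
    · subst hqp
      refine ⟨q, hq, hpG, fun P => ?_⟩
      have hNP : N ≤ P := by
        obtain ⟨P0, hP0⟩ := hNp.exists_le_sylow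
        obtain ⟨g, rfl⟩ := MulAction.exists_smul_eq G P0 P
        intro x hx
        rw [Sylow.coe_subgroup_smul]
        exact mem_conj_smul_iff.2 (hP0 (by simpa using hNn.conj_mem x hx g⁻¹))
      have h := (hQ (P.mapSurjective hπ)).comap π
      have e : ((P.mapSurjective hπ : Sylow q (G ⧸ N)) : Subgroup (G ⧸ N)).comap π = P := by
        show ((P : Subgroup G).map π).comap π = P
        rw [Subgroup.comap_map_eq, QuotientGroup.ker_mk', sup_eq_left.2 hNP]
      rwa [e] at h
    · by_cases hall : ∀ Q : Sylow q G, (Q : Subgroup G).Normal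
      · exact ⟨q, hq, hqdvd.trans (N.card_quotient_dvd_card), hall⟩
      · push Not at hall
        obtain ⟨Q, hQn⟩ := hall
        have hK : ((Q : Subgroup G).map π).Normal := hQ (Q.mapSurjective hπ)
        set K := ((Q : Subgroup G).map π).comap π
        have hKn : K.Normal := hK.comap π
        have hQK : (Q : Subgroup G) ≤ K := Subgroup.le_comap_map π _
        have hFr : Subgroup.normalizer (Q : Set G) ⊔ K = ⊤ :=
          Q.normalizer_sup_eq_top' hQK
        have hne : Subgroup.normalizer (Q : Set G) ≠ ⊤ := fun h =>
          hQn (Subgroup.normalizer_eq_top_iff.1 h)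
        obtain ⟨M, hM, hle⟩ := (eq_top_or_exists_le_coatom (Subgroup.normalizer (Q : Set G))).resolve_left hne
        have hMN : M ⊔ N = ⊤ := by
          rw [eq_top_iff, ← hFr]
          refine sup_le (hle.trans le_sup_left) ?_
          show ((Q : Subgroup G).map π).comap π ≤ _
          rw [Subgroup.comap_map_eq, QuotientGroup.ker_mk']
          exact sup_le ((Subgroup.le_normalizer.trans hle).trans le_sup_left) le_sup_right
        have hd : N ⊓ M = ⊥ := by
          have hnorm : (N ⊓ M).Normal := by
            refine ⟨fun x hx g => ?_⟩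
            have hMNle : M ≤ Subgroup.normalizer (N : Set G) := by
              rw [Subgroup.normalizer_eq_top]; exact le_top
            obtain ⟨m, hm, y, hy, rfl⟩ := exists_mul_of_mem_sup hMNle (g := g)
              (by rw [sup_comm, hMN]; trivial)
            have h1 : y * x * y⁻¹ ∈ N := hNn.conj_mem x hx.1 y
            have h2 : m * y * x * (m * y)⁻¹ = y * x * y⁻¹ := by
              calc m * y * x * (m * y)⁻¹ = m * (y * x * y⁻¹) * m⁻¹ := by group
                _ = _ := by rw [hNab m hm _ h1, mul_inv_cancel_right]
            rw [h2]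
            exact ⟨h1, M.mul_mem (M.mul_mem hy hx.2) (M.inv_mem hy)⟩
          refine (hNmin _ hnorm inf_le_left).resolve_right fun h => hM.1 ?_
          rw [← hMN, eq_comm, sup_eq_left]
          exact h ▸ inf_le_right
        have hcard : Nat.card G = Nat.card N * Nat.card M := by
          rw [← card_sup_of_disjoint (by rw [Subgroup.normalizer_eq_top]; exact le_top) hd,
            sup_comm, hMN, Subgroup.card_top]
        have hidx : M.index = Nat.card N := by
          have h := M.card_mul_index
          rw [hcard, mul_comm (Nat.card N)] at h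
          exact Nat.eq_of_mul_eq_mul_left Nat.card_pos h
        have hcop := hmax M hM
        rw [hidx, hNcard, Nat.coprime_pow_right_iff ha, Nat.coprime_comm,
          hp.coprime_iff_not_dvd] at hcop
        refine ⟨p, hp, hpG, fun P => ?_⟩
        have hnd : ¬ p ∣ N.index := by
          intro h
          have h2 := N.card_mul_index
          rw [hcard] at h2
          rw [Nat.eq_of_mul_eq_mul_left Nat.card_pos h2] at h
          exact hcop h
        obtain ⟨g, hg⟩ := MulAction.exists_smul_eq G (hNp.toSylow hnd) P
        rw [← hg, Sylow.coe_subgroup_smul]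
        show (MulAut.conj g • N).Normal
        rw [conj_smul_self_of_mem_normalizer (by rw [Subgroup.normalizer_eq_top]; trivial)]
        exact hNn

end CfsgLib.Solvable
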