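import Mathlib.GroupTheory.Focal
import Mathlib.GroupTheory.Complement
import Mathlib.Tactic.Group

/-!
A Hall subgroup whose iterated focal subgroups reach the trivial group has a normal complement.
-/

set_option autoImplicit false

open scoped commutatorElement

namespace CfsgLib.Solvable

universe u

theorem focal_mono {G : Type*} [Group G] {K L : Subgroup G} (h : K ≤ L) :
    K.focalSubgroup ≤ L.focalSubgroup := by
  rw [Subgroup.focalSubgroup_def, Subgroup.focalSubgroup_def]
  refine Subgroup.closure_mono ?_
  rintro g ⟨hg, x, hx, u, rfl⟩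
  exact ⟨h hg, x, h hx, u, rfl⟩

theorem map_focal_le {G : Type*} [Group G] (N : Subgroup G) (K : Subgroup N) :
    (K.focalSubgroup).map N.subtype ≤ (K.map N.subtype).focalSubgroup := by
  rw [Subgroup.map_le_iff_le_comap, Subgroup.focalSubgroup_def, Subgroup.closure_le]
  rintro g ⟨hg, x, hx, u, rfl⟩
  show N.subtype ⁅x, u⁆ ∈ (K.map N.subtype).focalSubgroup
  rw [Subgroup.focalSubgroup_def]
  exact Subgroup.subset_closure ⟨Subgroup.mem_map_of_mem _ hg, N.subtype x,
    Subgroup.mem_map_of_mem _ hx, N.subtype u, map_commutatorElement _ _ _⟩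

theorem map_iterate_focal_le {G : Type*} [Group G] (N : Subgroup G) (K : Subgroup N) (n : ℕ) :
    ((fun X : Subgroup N => X.focalSubgroup)^[n] K).map N.subtype ≤
      (fun X : Subgroup G => X.focalSubgroup)^[n] (K.map N.subtype) := by
  induction n with
  | zero => exact le_rfl
  | succ n ih =>
    rw [Function.iterate_succ_apply', Function.iterate_succ_apply']
    exact (map_focal_le N _).trans (focal_mono ih)

theorem normal_of_coprime_complement {G : Type*} [Group G] [Finite G] {M : Subgroup G} [M.Normal]
    {N : Subgroup M} [N.Normal] (hN : (Nat.card N).Coprime N.index) :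
    (N.map M.subtype).Normal := by
  haveI : N.Characteristic := by
    refine Subgroup.characteristic_iff_map_le.2 fun φ => ?_
    rintro _ ⟨x, hx, rfl⟩
    have h1 : ((φ x : M) : M ⧸ N) = 1 := by
      rw [← orderOf_eq_one_iff]
      refine Nat.eq_one_of_dvd_coprimes hN ?_ ?_
      · refine (orderOf_map_dvd (QuotientGroup.mk' N) (φ x)).trans ?_
        rw [MulEquiv.orderOf_eq φ x]
        exact (Subgroup.orderOf_coe ⟨x, hx⟩).symm ▸ orderOf_dvd_natCard (⟨x, hx⟩ : N)
      · rw [Subgroup.index_eq_card]
        exact orderOf_dvd_natCard _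
    exact (QuotientGroup.eq_one_iff _).1 h1
  infer_instance

private theorem iterated_focal_aux : ∀ (n : ℕ) (G : Type u) [Group G] [Finite G] (H : Subgroup G),
    (Nat.card H).Coprime H.index → (fun K : Subgroup G => Subgroup.focalSubgroup K)^[n] H = ⊥ →
    ∃ N : Subgroup G, N.Normal ∧ Subgroup.IsComplement' N H := by
  intro n
  induction n with
  | zero =>
    intro G _ _ H _ h
    rw [Function.iterate_zero_apply] at h
    subst h
    exact ⟨⊤, inferInstance, Subgroup.isComplement'_top_bot⟩
  | succ n ih =>
    intro G _ _ H hcop hit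
    rw [Function.iterate_succ_apply] at hit
    set τ := H.transferFocal with hτ
    set M := τ.ker with hM
    have hMH : M ⊓ H = H.focalSubgroup := by
      have hinj : Function.Injective fun y : H ⧸ H.focalSubgroupOf => y ^ H.index := by
        refine (powCoprime (?_ : (Nat.card (H ⧸ H.focalSubgroupOf)).Coprime H.index)).injective
        exact hcop.coprime_dvd_left (Subgroup.card_quotient_dvd_card _)
      refine le_antisymm (fun x hx => ?_) (le_inf (fun x hx => ?_) H.focalSubgroup_le)
      · have h1 : ((⟨x, hx.2⟩ : H) : H ⧸ H.focalSubgroupOf) ^ H.index = 1 := by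
          rw [← Subgroup.transferFocal_eq_pow]
          exact hx.1
        have h2 := hinj (a₁ := ((⟨x, hx.2⟩ : H) : H ⧸ H.focalSubgroupOf)) (a₂ := 1)
          (by simpa using h1)
        exact ((QuotientGroup.eq_one_iff (N := H.focalSubgroupOf) (⟨x, hx.2⟩ : H)).1 h2 : _)
      · have h1 := H.transferFocal_eq_pow ⟨x, H.focalSubgroup_le hx⟩
        show τ x = 1
        rw [hτ, h1, show (((⟨x, H.focalSubgroup_le hx⟩ : H)) : H ⧸ H.focalSubgroupOf) = 1 from
          (QuotientGroup.eq_one_iff _).2 hx, one_pow]
    have hsurj : Function.Surjective τ := fun y => by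
      obtain ⟨x, rfl⟩ := QuotientGroup.mk_surjective y
      obtain ⟨z, hz⟩ := (powCoprime (hcop.coprime_dvd_left
        (Subgroup.card_quotient_dvd_card H.focalSubgroupOf) :
          (Nat.card (H ⧸ H.focalSubgroupOf)).Coprime H.index)).surjective (x : H ⧸ H.focalSubgroupOf)
      obtain ⟨w, rfl⟩ := QuotientGroup.mk_surjective z
      exact ⟨w, (H.transferFocal_eq_pow w).trans hz⟩
    have hMidx : M.index = (H.focalSubgroupOf).index := by
      rw [hM, Subgroup.index_ker, MonoidHom.range_eq_top.2 hsurj, Subgroup.card_top,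
        Subgroup.index_eq_card]
    set H₁ := H.focalSubgroup.subgroupOf M with hH₁
    have hle : H.focalSubgroup ≤ M := hMH ▸ inf_le_left
    have hmap : H₁.map M.subtype = H.focalSubgroup := Subgroup.map_subgroupOf_eq_of_le hle
    have hc1 : Nat.card H₁ = Nat.card H.focalSubgroupOf := by
      rw [hH₁, Subgroup.focalSubgroupOf_def,
        Nat.card_congr (Subgroup.subgroupOfEquivOfLe hle).toEquiv,
        Nat.card_congr (Subgroup.subgroupOfEquivOfLe H.focalSubgroup_le).toEquiv]
    have hc2 : H₁.index = H.index := by
      have e1 := M.card_mul_index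
      have e2 := H₁.card_mul_index
      have e3 := H.focalSubgroupOf.card_mul_index
      have e4 := H.card_mul_index
      rw [hMidx, ← e2, hc1, ← e4, ← e3] at e1
      refine Nat.eq_of_mul_eq_mul_left (Nat.mul_pos (Nat.card_pos (α := H.focalSubgroupOf))
        (Nat.pos_of_ne_zero (Subgroup.index_ne_zero_of_finite (H := H.focalSubgroupOf)))) ?_
      calc _ = Nat.card H.focalSubgroupOf * H₁.index * H.focalSubgroupOf.index := by ring
        _ = _ := e1
    have hcop₁ : (Nat.card H₁).Coprime H₁.index := by
      rw [hc1, hc2]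
      exact hcop.coprime_dvd_left H.focalSubgroupOf.card_subgroup_dvd_card
    have hit₁ : (fun K : Subgroup M => Subgroup.focalSubgroup K)^[n] H₁ = ⊥ := by
      have := map_iterate_focal_le M H₁ n
      rw [hmap, hit, le_bot_iff] at this
      exact (Subgroup.map_eq_bot_iff_of_injective _ M.subtype_injective).1 this
    obtain ⟨N, hNn, hN⟩ := ih M H₁ hcop₁ hit₁
    haveI := hNn
    have hNc : Nat.card N = H.index := by
      rw [← hc2]
      refine Nat.eq_of_mul_eq_mul_left (Nat.card_pos (α := H₁)) ?_
      rw [H₁.card_mul_index, mul_comm, hN.card_mul]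
    have hNi : N.index = Nat.card H₁ := by
      refine Nat.eq_of_mul_eq_mul_left (Nat.card_pos (α := N)) ?_
      rw [N.card_mul_index, hN.card_mul]
    refine ⟨N.map M.subtype, normal_of_coprime_complement (by
        rw [hNc, hNi, ← hc2]; exact hcop₁.symm),
      Subgroup.isComplement'_of_coprime ?_ ?_⟩
    · rw [Subgroup.card_subtype, hNc, H.index_mul_card]
    · rw [Subgroup.card_subtype, hNc]; exact hcop.symm

theorem exists_normal_complement_of_iterated_focal {G : Type u} [Group G] [Finite G]
    (H : Subgroup G) (hcop : (Nat.card H).Coprime H.index) (n : ℕ)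
    (h : (fun K : Subgroup G => Subgroup.focalSubgroup K)^[n] H = ⊥) :
    ∃ N : Subgroup G, N.Normal ∧ Subgroup.IsComplement' N H :=
  iterated_focal_aux n G H hcop h

end CfsgLib.Solvable
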