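import Cfsg.Agent.Lib.Solvable.Supersolvable
import Cfsg.Agent.S0572

/-!
A product of two abelian groups has a normal subgroup inside a factor; products of two cyclic
groups are supersolvable.
-/

set_option autoImplicit false

open scoped Pointwise commutatorElement

namespace CfsgLib.Solvable

universe u

variable {G : Type*} [Group G]

/-- Either some nontrivial normal subgroup lies in a factor, or nothing centralises `A ⊔ G'`
inside it. -/
theorem normal_in_factor_or_center_trivial (A B : Subgroup G)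
    (hA : ∀ x ∈ A, ∀ y ∈ A, x * y = y * x) (hB : ∀ x ∈ B, ∀ y ∈ B, x * y = y * x)
    (hAB : ∀ g : G, ∃ a ∈ A, ∃ b ∈ B, g = a * b) :
    (∃ N : Subgroup G, N.Normal ∧ N ≠ ⊥ ∧ (N ≤ A ∨ N ≤ B)) ∨
      ∀ z ∈ A ⊔ commutator G, (∀ w ∈ A ⊔ commutator G, w * z = z * w) → z = 1 := by
  by_cases hex : ∃ b ∈ B, b ≠ 1 ∧ ∀ a ∈ A, a * b = b * a
  · obtain ⟨b, hb, hb1, hab⟩ := hex
    refine Or.inl ⟨Subgroup.zpowers b, ⟨fun x hx g => ?_⟩,
      fun e => hb1 (Subgroup.zpowers_eq_bot.1 e), Or.inr (Subgroup.zpowers_le.2 hb)⟩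
    obtain ⟨i, rfl⟩ := hx
    obtain ⟨a, ha, b', hb', rfl⟩ := hAB g
    have h1 : a * b' * b * (a * b')⁻¹ = b := by
      rw [show a * b' * b * (a * b')⁻¹ = a * (b' * b) * b'⁻¹ * a⁻¹ by group, hB b' hb' b hb,
        show a * (b * b') * b'⁻¹ * a⁻¹ = a * b * a⁻¹ by group, hab a ha, mul_inv_cancel_right]
    show a * b' * b ^ i * (a * b')⁻¹ ∈ _
    rw [← conj_zpow, h1]
    exact ⟨i, rfl⟩
  push Not at hex
  set W := A ⊔ commutator G with hW
  haveI hWn : W.Normal := ⟨fun x hx g => by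
    have h1 := mul_mem ((le_sup_right : commutator G ≤ W) (Subgroup.commutator_mem_commutator
      (Subgroup.mem_top g) (Subgroup.mem_top x))) hx
    rwa [commutatorElement_def, inv_mul_cancel_right] at h1⟩
  set Z := (Subgroup.center W).map W.subtype with hZ
  by_cases hZ1 : Z = ⊥
  · refine Or.inr fun z hz hc => ?_
    rw [← Subgroup.mem_bot, ← hZ1]
    exact ⟨⟨z, hz⟩, Subgroup.mem_center_iff.2 fun w => Subtype.ext (hc w w.2), rfl⟩
  refine Or.inl ⟨Z, inferInstance, hZ1, Or.inl ?_⟩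
  rintro _ ⟨z, hz, rfl⟩
  obtain ⟨a, ha, b, hb, e⟩ := hAB (z : G)
  by_cases hb1 : b = 1
  · subst hb1
    rw [mul_one] at e
    show (z : G) ∈ A
    rw [e]; exact ha
  exfalso
  obtain ⟨c, hc, hne⟩ := hex b hb hb1
  refine hne (mul_left_cancel (a := a) ?_)
  have h1 : c * (z : G) = (z : G) * c := congrArg Subtype.val
    (Subgroup.mem_center_iff.1 hz (⟨c, Subgroup.mem_sup_left hc⟩ : W))
  rw [e] at h1
  calc a * (c * b) = c * (a * b) := by rw [← mul_assoc, hA a ha c hc, mul_assoc]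
    _ = a * (b * c) := by rw [h1, mul_assoc]

theorem exists_normal_in_factor [Finite G] [Nontrivial G] (A B : Subgroup G) [IsMulCommutative A]
    [IsMulCommutative B] (hAB : ∀ g : G, ∃ a ∈ A, ∃ b ∈ B, g = a * b) :
    ∃ N : Subgroup G, N.Normal ∧ N ≠ ⊥ ∧ (N ≤ A ∨ N ≤ B) := by
  have hA : ∀ x ∈ A, ∀ y ∈ A, x * y = y * x := fun x hx y hy =>
    congrArg Subtype.val (mul_comm' (⟨x, hx⟩ : A) ⟨y, hy⟩)
  have hB : ∀ x ∈ B, ∀ y ∈ B, x * y = y * x := fun x hx y hy =>
    congrArg Subtype.val (mul_comm' (⟨x, hx⟩ : B) ⟨y, hy⟩)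
  by_contra hcon
  have hZA := (normal_in_factor_or_center_trivial A B hA hB hAB).resolve_left hcon
  have hBA : ∀ g : G, ∃ b ∈ B, ∃ a ∈ A, g = b * a := fun g => by
    obtain ⟨x, hx, y, hy, hg⟩ := hAB g⁻¹
    exact ⟨y⁻¹, inv_mem hy, x⁻¹, inv_mem hx, by rw [← mul_inv_rev, ← hg, inv_inv]⟩
  have hZB := (normal_in_factor_or_center_trivial B A hB hA hBA).resolve_left
    fun ⟨N, h1, h2, h3⟩ => hcon ⟨N, h1, h2, h3.symm⟩
  have hAB0 : ∀ x ∈ A, x ∈ B → x = 1 := by
    intro x hxA hxB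
    refine hZA x (Subgroup.mem_sup_left hxA) fun w _ => ?_
    obtain ⟨a, ha, b, hb, rfl⟩ := hAB w
    rw [mul_assoc, hB b hb x hxB, ← mul_assoc, hA a ha x hxA, mul_assoc]
  set M := commutator G with hM
  have hMc : ∀ x ∈ M, ∀ y ∈ M, x * y = y * x := by
    intro x hx y hy
    have h2 := Cfsg.Agent.S0572.result A B hAB
    rw [derivedSeries_succ, derivedSeries_one] at h2
    refine commutatorElement_eq_one_iff_mul_comm.1 ?_
    rw [← Subgroup.mem_bot, ← h2]
    exact Subgroup.commutator_mem_commutator hx hy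
  have hMA : ∀ x ∈ A, x ∈ M → x = 1 := fun x hxA hxM => hZA x (Subgroup.mem_sup_left hxA) (by
    intro w hw
    have : A ⊔ M ≤ Subgroup.centralizer {x} := sup_le
      (fun a ha => Subgroup.mem_centralizer_singleton_iff.2 (hA a ha x hxA))
      (fun m hm => Subgroup.mem_centralizer_singleton_iff.2 (hMc m hm x hxM))
    exact Subgroup.mem_centralizer_singleton_iff.1 (this hw))
  have hMB : ∀ x ∈ B, x ∈ M → x = 1 := fun x hxB hxM => hZB x (Subgroup.mem_sup_left hxB) (by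
    intro w hw
    have : B ⊔ M ≤ Subgroup.centralizer {x} := sup_le
      (fun b hb => Subgroup.mem_centralizer_singleton_iff.2 (hB b hb x hxB))
      (fun m hm => Subgroup.mem_centralizer_singleton_iff.2 (hMc m hm x hxM))
    exact Subgroup.mem_centralizer_singleton_iff.1 (this hw))
  -- `B ∩ (A L)` has the order of `L`
  have hcard : ∀ L : Subgroup G, L.Normal → L ≤ M →
      Nat.card (B ⊓ (A ⊔ L) : Subgroup G) = Nat.card L := by
    intro L hLn hLM
    choose fa hfa fb hfb hf using hAB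
    have hin : ∀ m : L, fb (m : G) ∈ B ⊓ (A ⊔ L) := by
      intro m
      refine ⟨hfb _, ?_⟩
      have e : fb (m : G) = (fa (m : G))⁻¹ * m := eq_inv_mul_of_mul_eq (hf _).symm
      rw [e]
      exact mul_mem (Subgroup.mem_sup_left (inv_mem (hfa _))) (Subgroup.mem_sup_right m.2)
    refine (Nat.card_congr (Equiv.ofBijective (fun m : L => (⟨fb (m : G), hin m⟩ :
      (B ⊓ (A ⊔ L) : Subgroup G))) ⟨fun m m' h => ?_, fun b => ?_⟩)).symm
    · have h' : fb (m : G) = fb (m' : G) := congrArg Subtype.val h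
      have h2 : (m : G) * (m' : G)⁻¹ = fa (m : G) * (fa (m' : G))⁻¹ := by
        conv_lhs => rw [hf (m : G), hf (m' : G), h']
        group
      exact Subtype.ext (mul_inv_eq_one.1 (hMA _ (h2 ▸ mul_mem (hfa _) (inv_mem (hfa _)))
        (hLM (L.mul_mem m.2 (L.inv_mem m'.2)))))
    · obtain ⟨a, ha, l, hl, e⟩ := exists_mul_of_mem_sup (A := A) (K := L)
        (g := (b : G)) (Subgroup.normalizer_eq_top L ▸ le_top) (by rw [sup_comm]; exact b.2.2)
      -- here `b = a * l` with `a ∈ L`, `l ∈ A`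
      have h3 : l⁻¹ * a * l ∈ L := by simpa using hLn.conj_mem a ha l⁻¹
      refine ⟨⟨_, h3⟩, Subtype.ext ?_⟩
      show fb (l⁻¹ * a * l) = b
      have h4 : fa (l⁻¹ * a * l) * fb (l⁻¹ * a * l) = l⁻¹ * (b : G) := by
        rw [← hf, e]; group
      have h5 : (fa (l⁻¹ * a * l))⁻¹ * l⁻¹ = fb (l⁻¹ * a * l) * (b : G)⁻¹ := by
        calc (fa (l⁻¹ * a * l))⁻¹ * l⁻¹ = (fa (l⁻¹ * a * l))⁻¹ * (l⁻¹ * (b : G)) * (b : G)⁻¹ := by
              group
          _ = _ := by rw [← h4]; group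
      have h6 : fb (l⁻¹ * a * l) * (b : G)⁻¹ = 1 := hAB0 _
        (h5 ▸ mul_mem (inv_mem (hfa _)) (inv_mem hl)) (B.mul_mem (hfb _) (B.inv_mem b.2.1))
      exact mul_inv_eq_one.1 h6
  -- `M` is nontrivial
  have hMb : M ≠ ⊥ := by
    intro hbot
    have hc : ∀ a b : G, a * b = b * a := fun a b => commutatorElement_eq_one_iff_mul_comm.1 (by
      rw [← Subgroup.mem_bot, ← hbot]
      exact Subgroup.commutator_mem_commutator (Subgroup.mem_top a) (Subgroup.mem_top b))
    have hn : ∀ N : Subgroup G, N.Normal := fun N => ⟨fun x hx g => by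
      rwa [hc g x, mul_inv_cancel_right]⟩
    by_cases hAb : A = ⊥
    · refine hcon ⟨B, hn B, fun hBb => ?_, Or.inr le_rfl⟩
      obtain ⟨g, hg⟩ := exists_ne (1 : G)
      obtain ⟨a, ha, b, hb, rfl⟩ := hAB g
      rw [hAb, Subgroup.mem_bot] at ha
      rw [hBb, Subgroup.mem_bot] at hb
      exact hg (by rw [ha, hb, one_mul])
    · exact hcon ⟨A, hn A, hAb, Or.inl le_rfl⟩
  obtain ⟨p, hp, hpM⟩ := Nat.exists_prime_and_dvd fun h => hMb (Subgroup.card_eq_one.1 h)
  haveI : Fact p.Prime := ⟨hp⟩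
  haveI : IsMulCommutative M := ⟨⟨fun x y => Subtype.ext (hMc _ x.2 _ y.2)⟩⟩
  let Mq : ℕ → Subgroup G := fun q => ((Classical.arbitrary (Sylow q M) : Sylow q M) : Subgroup M).map M.subtype
  have hMqn : ∀ q : ℕ, q.Prime → (Mq q).Normal := fun q hq => by
    haveI : Fact q.Prime := ⟨hq⟩
    haveI : ((Classical.arbitrary (Sylow q M) : Sylow q M) : Subgroup M).Normal :=
      ⟨fun x hx g => by rwa [mul_comm' g x, mul_inv_cancel_right]⟩
    haveI := Sylow.characteristic_of_normal (Classical.arbitrary (Sylow q M)) ‹_›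
    show (Subgroup.map M.subtype _).Normal
    infer_instance
  have hMqM : ∀ q, Mq q ≤ M := fun q => Subgroup.map_subtype_le _
  -- the other primes centralise the `p`-part
  have hcomm : ∀ q : ℕ, q.Prime → q ≠ p → ∀ b ∈ B ⊓ (A ⊔ Mq q), ∀ m ∈ Mq p, b * m = m * b := by
    intro q hq hqp b hb m hm
    obtain ⟨l, hl, a', ha', e⟩ := exists_mul_of_mem_sup (A := A) (K := Mq q)
      (g := b) (@Subgroup.normalizer_eq_top _ _ (Mq q) (hMqn q hq) ▸ le_top)
      (by rw [sup_comm]; exact hb.2)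
    obtain ⟨a, ha, bm, hbm, em⟩ := hAB m
    set m' := a'⁻¹ * l * a' with hm'
    have hm'q : m' ∈ Mq q := by simpa using (hMqn q hq).conj_mem l hl a'⁻¹
    have hb' : b = a' * m' := by rw [e, hm']; group
    have hl1 : a * b * a⁻¹ * b⁻¹ = m * (b * m⁻¹ * b⁻¹) := by
      rw [em]
      calc a * b * a⁻¹ * b⁻¹ = a * (b * bm⁻¹) * bm * a⁻¹ * b⁻¹ * 1 := by group
        _ = a * bm * (b * (a * bm)⁻¹ * b⁻¹) := by
          have : bm * (b * bm⁻¹) = b := by rw [← mul_assoc, hB bm hbm b hb.1]; group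
          calc a * (b * bm⁻¹) * bm * a⁻¹ * b⁻¹ * 1 = a * b * a⁻¹ * b⁻¹ := by group
            _ = a * (bm * (b * bm⁻¹)) * a⁻¹ * b⁻¹ := by rw [this]
            _ = _ := by group
    have h1 : a * b * a⁻¹ * b⁻¹ ∈ Mq p ⊓ Mq q := by
      refine ⟨?_, ?_⟩
      · rw [hl1]
        exact (Mq p).mul_mem hm ((hMqn p hp).conj_mem _ ((Mq p).inv_mem hm) b)
      · have e2 : a * b * a⁻¹ * b⁻¹ = a' * ((a * m' * a⁻¹) * m'⁻¹) * a'⁻¹ := by
          rw [hb']
          calc a * (a' * m') * a⁻¹ * (a' * m')⁻¹ = (a * a') * m' * a⁻¹ * m'⁻¹ * a'⁻¹ := by group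
            _ = _ := by rw [hA a ha a' ha']; group
        rw [e2]
        exact (hMqn q hq).conj_mem _
          ((Mq q).mul_mem ((hMqn q hq).conj_mem m' hm'q a) ((Mq q).inv_mem hm'q)) a'
    haveI : Fact q.Prime := ⟨hq⟩
    rw [(IsPGroup.disjoint_of_ne p q hqp.symm _ _ ((Classical.arbitrary (Sylow p M)).2.map M.subtype)
      ((Classical.arbitrary (Sylow q M)).2.map M.subtype)).eq_bot, Subgroup.mem_bot, hl1] at h1
    calc b * m = (m * (b * m⁻¹ * b⁻¹)) * (b * m) := by rw [h1, one_mul]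
      _ = m * b := by group
  -- a fixed point of the `p`-part
  set Bp := B ⊓ (A ⊔ Mq p) with hBp
  have hMqc : ∀ q : ℕ, q.Prime → Nat.card (Mq q) = q ^ (Nat.card M).factorization q := fun q hq => by
    haveI : Fact q.Prime := ⟨hq⟩
    show Nat.card (Subgroup.map M.subtype _) = _
    rw [Subgroup.card_subtype, Sylow.card_eq_multiplicity]
  have hBpp : IsPGroup p Bp := IsPGroup.of_card (by rw [hBp, hcard _ (hMqn p hp) (hMqM p), hMqc p hp])
  haveI := hMqn p hp
  letI : MulAction Bp (Mq p) := MulAction.compHom (Mq p) ((MulAut.conjNormal (H := Mq p)).comp Bp.subtype)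
  have hfix1 : (1 : Mq p) ∈ MulAction.fixedPoints Bp (Mq p) := fun b => map_one (MulAut.conjNormal (H := Mq p) (b : G))
  obtain ⟨x, hx, hx1⟩ := hBpp.exists_fixed_point_of_prime_dvd_card_of_fixed_point (Mq p)
    (by rw [hMqc p hp]; exact dvd_pow_self p (hp.factorization_pos_of_dvd Nat.card_pos.ne' hpM).ne')
    hfix1
  have hxp : ∀ b ∈ Bp, b * (x : G) = x * b := fun b hb => mul_inv_eq_iff_eq_mul.1
    (show b * (x : G) * b⁻¹ = x from congrArg Subtype.val (hx ⟨b, hb⟩))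
  -- `x` is centralised by all of `B ∩ A M`
  set B₁ := B ⊓ (A ⊔ M) with hB₁
  set Cx := B₁ ⊓ Subgroup.centralizer {(x : G)} with hCx
  have hCB : Cx = B₁ := by
    refine Subgroup.eq_of_le_of_card_ge inf_le_left (Nat.le_of_dvd Nat.card_pos ?_)
    rw [hB₁, hcard M inferInstance le_rfl, ← Nat.factorization_le_iff_dvd Nat.card_pos.ne'
      Nat.card_pos.ne', Finsupp.le_iff]
    intro q hq
    have hqq := Nat.prime_of_mem_primeFactors hq
    have hle : B ⊓ (A ⊔ Mq q) ≤ Cx := by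
      refine le_inf (inf_le_inf_left B (sup_le_sup_left (hMqM q) A)) fun b hb =>
        Subgroup.mem_centralizer_singleton_iff.2 ?_
      rcases eq_or_ne q p with rfl | hne
      · exact hxp b hb
      · exact hcomm q hqq hne b hb x x.2
    have h2 := Subgroup.card_dvd_of_le hle
    rw [hcard _ (hMqn q hqq) (hMqM q), hMqc q hqq] at h2
    exact (hqq.pow_dvd_iff_le_factorization Nat.card_pos.ne').1 h2
  obtain ⟨a, ha, b, hb, e⟩ := hAB (x : G)
  have hxM : (x : G) ∈ M := hMqM p x.2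
  have haM : ∀ m ∈ M, m * a = a * m := by
    intro m hm
    obtain ⟨a', ha', b', hb', em⟩ := hAB m
    have hb'1 : b' ∈ B₁ := ⟨hb', by
      rw [eq_inv_mul_of_mul_eq em.symm]
      exact mul_mem (Subgroup.mem_sup_left (inv_mem ha')) (Subgroup.mem_sup_right hm)⟩
    have h1 := Subgroup.mem_centralizer_singleton_iff.1 (hCB.ge hb'1).2
    have h2 : a' * (x : G) = x * a' := by
      have h3 := hMc m hm x hxM
      rw [em] at h3
      calc a' * (x : G) = (a' * (x * b')) * b'⁻¹ := by group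
        _ = a' * (b' * x) * b'⁻¹ := by rw [h1]
        _ = (a' * b' * x) * b'⁻¹ := by group
        _ = _ := by rw [h3]; group
    have h4 : b = a⁻¹ * x := eq_inv_mul_of_mul_eq e.symm
    have h5 : b' = a'⁻¹ * m := eq_inv_mul_of_mul_eq em.symm
    have h6 := hB b hb b' hb'
    rw [h4, h5] at h6
    have h7 : (x : G) * a'⁻¹ = a'⁻¹ * x := by
      rw [mul_inv_eq_iff_eq_mul, mul_assoc, ← h2, inv_mul_cancel_left]
    have h8 : a⁻¹ * m = m * a⁻¹ := by
      have e9 : (a⁻¹ * x) * (a'⁻¹ * m) = a'⁻¹ * (a⁻¹ * m) * x := by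
        calc (a⁻¹ * x) * (a'⁻¹ * m) = a⁻¹ * ((x : G) * a'⁻¹) * m := by group
          _ = a⁻¹ * a'⁻¹ * ((x : G) * m) := by rw [h7]; group
          _ = (a⁻¹ * a'⁻¹) * (m * x) := by rw [hMc x hxM m hm]
          _ = (a'⁻¹ * a⁻¹) * (m * x) := by rw [hA _ (inv_mem ha) _ (inv_mem ha')]
          _ = _ := by group
      rw [e9] at h6
      have h10 : a'⁻¹ * (a⁻¹ * m) * (x : G) = a'⁻¹ * (m * a⁻¹) * (x : G) := by rw [h6]; group
      exact mul_left_cancel (mul_right_cancel h10)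
    calc m * a = a * (a⁻¹ * m) * a := by group
      _ = a * m := by rw [h8]; group
  have ha1 : a = 1 := hZA a (Subgroup.mem_sup_left ha) fun w hw => by
    have : A ⊔ M ≤ Subgroup.centralizer {a} := sup_le
      (fun c hc => Subgroup.mem_centralizer_singleton_iff.2 (hA c hc a ha))
      (fun c hc => Subgroup.mem_centralizer_singleton_iff.2 (haM c hc))
    exact Subgroup.mem_centralizer_singleton_iff.1 (this hw)
  rw [ha1, one_mul] at e
  exact hx1 (Subtype.ext (hMB _ (e ▸ hb) hxM)).symm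

private theorem cyclic_product_aux : ∀ (n : ℕ) (G : Type u) [Group G] [Finite G], Nat.card G = n →
    ∀ (A B : Subgroup G) [IsCyclic A] [IsCyclic B],
      (∀ g : G, ∃ a ∈ A, ∃ b ∈ B, g = a * b) → Cfsg.IsSupersolvable G := by
  intro n
  induction n using Nat.strong_induction_on with
  | _ n ih =>
  intro G _ _ hn A B _ _ hAB
  rcases subsingleton_or_nontrivial G with hs | hs
  · exact isSupersolvable_of_subsingleton
  obtain ⟨N, hNn, hN, hle⟩ := exists_normal_in_factor A B hAB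
  haveI : IsCyclic N := hle.elim (fun h => Subgroup.isCyclic_of_le h) fun h => Subgroup.isCyclic_of_le h
  set π := QuotientGroup.mk' N with hπ
  haveI : IsCyclic (A.map π) := isCyclic_of_surjective _ (π.subgroupMap_surjective A)
  haveI : IsCyclic (B.map π) := isCyclic_of_surjective _ (π.subgroupMap_surjective B)
  refine isSupersolvable_extension N (ih _ (hn ▸ card_quotient_lt _ hN) (G ⧸ N) rfl
    (A.map π) (B.map π) fun x => ?_)
  obtain ⟨g, rfl⟩ := QuotientGroup.mk'_surjective N x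
  obtain ⟨a, ha, b, hb, rfl⟩ := hAB g
  exact ⟨π a, Subgroup.mem_map_of_mem π ha, π b, Subgroup.mem_map_of_mem π hb, map_mul π a b⟩

theorem isSupersolvable_of_cyclic_mul {G : Type u} [Group G] [Finite G] (A B : Subgroup G)
    [IsCyclic A] [IsCyclic B] (hAB : ∀ g : G, ∃ a ∈ A, ∃ b ∈ B, g = a * b) :
    Cfsg.IsSupersolvable G :=
  cyclic_product_aux _ G rfl A B hAB

end CfsgLib.Solvable
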