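import Cfsg.Agent.Lib.Solvable.CoprimeAction
import Cfsg.Agent.Lib.Solvable.MinimalNormal
import Cfsg.Agent.Lib.Transfer.PSolvable
import Cfsg.Agent.Lib.Cores.Basic

/-!
Groups whose maximal subgroups are `p`-nilpotent or of prime index have `p`-length at most two.
-/

set_option autoImplicit false

namespace CfsgLib.Solvable

open Subgroup Cfsg
open scoped commutatorElement Pointwise

variable {G : Type*} [Group G] [Finite G] (p : ℕ) [hp : Fact p.Prime]

/-- Every maximal subgroup is `p`-nilpotent or of prime index. -/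
def MaxHyp (G : Type*) [Group G] : Prop :=
  ∀ M : Subgroup G, IsCoatom M →
    (∃ K : Subgroup ↥M, K.Normal ∧ ¬ p ∣ Nat.card K ∧ ∃ k : ℕ, K.index = p ^ k) ∨ (M.index).Prime

/-- Every nontrivial normal subgroup of `G/O_p(G)` contains a nontrivial normal `p'`-subgroup. -/
def SectionHyp (G : Type*) [Group G] : Prop :=
  ∀ C : Subgroup (G ⧸ pCore p G), C.Normal → C ≠ ⊥ →
    ∃ L : Subgroup (G ⧸ pCore p G), L.Normal ∧ L ≤ C ∧ L ≠ ⊥ ∧ ¬ p ∣ Nat.card L

theorem sectionHyp_of_isPSolvable (h : IsPSolvable p G) : SectionHyp p G := by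
  intro C hC hne
  refine ⟨(pPrimeCore p C).map C.subtype, Cores.map_subtype_pPrimeCore_normal p C, map_subtype_le _, fun e => ?_, ?_⟩
  · rw [Subgroup.map_eq_bot_iff_of_injective _ C.subtype_injective] at e
    have h1 : pCore p C = ⊥ := by
      rw [eq_bot_iff, ← Subgroup.map_le_map_iff_of_injective C.subtype_injective, Subgroup.map_bot,
        ← Cores.pCore_quotient_self (G := G) p]
      exact Cores.map_subtype_pCore_le_of_normal p C
    have h2 := Transfer.centralizer_pCore_le_of_isPSolvable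
      (Transfer.isPSolvable_subgroup (Transfer.isPSolvable_quotient h (pCore p G)) C) e
    rw [h1] at h2
    refine hne ?_
    rw [eq_bot_iff]
    intro x hx
    have : (⟨x, hx⟩ : C) ∈ (⊥ : Subgroup C) := h2 (Subgroup.mem_centralizer_iff.2 fun y hy => by
      rw [Subgroup.coe_bot, Set.mem_singleton_iff] at hy; rw [hy, one_mul, mul_one])
    rw [Subgroup.mem_bot] at this ⊢
    exact congrArg Subtype.val this
  · rw [Subgroup.card_map_of_injective C.subtype_injective]
    exact Cores.not_dvd_card_pPrimeCore p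

theorem sectionHyp_of_isSolvable (h : Group.IsSolvable G) : SectionHyp p G := by
  intro C hC hne
  obtain ⟨L, hL, hLne, hLC, hmin⟩ := exists_minimal_normal_le C hne
  haveI := h
  obtain ⟨q, a, hq, ha, hLq, hcard⟩ := exists_pow_card_of_minimal_normal L hLne hmin inferInstance
  refine ⟨L, hL, hLC, hLne, fun hd => hLne ?_⟩
  rw [hcard] at hd
  obtain rfl := (Nat.prime_dvd_prime_iff_eq hp.out hq).1 (hp.out.dvd_of_dvd_pow hd)
  rw [eq_bot_iff, ← Cores.pCore_quotient_self (G := G) p]
  exact Cores.le_pCore hLq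

variable {p}

/-- Elements acting trivially on `O_p(G)` modulo the Frattini subgroup lie in `O_p(G)`. -/
theorem trivial_mod_frattini_le (hsec : SectionHyp p G) (hO : pPrimeCore p G = ⊥) (g : G)
    (hg : ∀ b ∈ pCore p G, ⁅g, b⁆ ∈ frattini G) : g ∈ pCore p G := by
  set B := pCore p G with hB
  set D : Subgroup G := B ⊓ frattini G with hD
  haveI : D.Normal := Subgroup.normal_inf_normal _ _
  haveI hBn : B.Normal := inferInstance
  -- the elements acting trivially
  set C : Subgroup G := (Subgroup.centralizer (B.map (QuotientGroup.mk' D) : Set (G ⧸ D))).comap (QuotientGroup.mk' D)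
    with hC
  haveI : (B.map (QuotientGroup.mk' D)).Normal := hBn.map _ (QuotientGroup.mk'_surjective D)
  haveI : C.Normal := inferInstance
  have hCmem : ∀ x, x ∈ C ↔ ∀ b ∈ B, ⁅x, b⁆ ∈ D := by
    intro x
    rw [hC, Subgroup.mem_comap, Subgroup.mem_centralizer_iff]
    constructor
    · intro h b hb
      rw [← QuotientGroup.eq_one_iff]
      show QuotientGroup.mk' D ⁅x, b⁆ = 1
      rw [map_commutatorElement, commutatorElement_eq_one_iff_mul_comm]
      exact (h _ ⟨b, hb, rfl⟩).symm
    · rintro h _ ⟨b, hb, rfl⟩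
      have := (QuotientGroup.eq_one_iff _).2 (h b hb)
      change QuotientGroup.mk' D ⁅x, b⁆ = 1 at this
      rw [map_commutatorElement, commutatorElement_eq_one_iff_mul_comm] at this
      exact this.symm
  have hgC : g ∈ C := (hCmem g).2 fun b hb =>
    ⟨show g * b * g⁻¹ * b⁻¹ ∈ B from mul_mem (hBn.conj_mem b hb g) (inv_mem hb), hg b hb⟩
  by_contra hgB
  have hCne : C.map (QuotientGroup.mk' B) ≠ ⊥ := fun e => hgB ((QuotientGroup.eq_one_iff g).1
    (Subgroup.mem_bot.1 (e.le ⟨g, hgC, rfl⟩)))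
  obtain ⟨L0, hL0, hL0C, hL0ne, hL0p⟩ := hsec _ ((inferInstance : C.Normal).map _ (QuotientGroup.mk'_surjective B)) hCne
  set L := L0.comap (QuotientGroup.mk' B) with hL
  haveI : L.Normal := hL0.comap _
  have hBL : B ≤ L := by
    rw [hL]; exact (QuotientGroup.ker_mk' B).ge.trans (MonoidHom.ker_le_comap _ _)
  have hidx : (B.subgroupOf L).index = Nat.card L0 := by
    show B.relIndex L = _
    rw [show B.relIndex L = (QuotientGroup.mk' B).ker.relIndex L by rw [QuotientGroup.ker_mk'],
      Subgroup.relIndex_ker, hL, Subgroup.map_comap_eq_self_of_surjective (QuotientGroup.mk'_surjective B)]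
  obtain ⟨i, hi⟩ := IsPGroup.iff_card.1 (Cores.isPGroup_pCore (G := G) p)
  have hcop : (Nat.card B).Coprime (Nat.card L0) := by
    rw [hi]; exact Nat.Coprime.pow_left _ (hp.out.coprime_iff_not_dvd.2 hL0p)
  obtain ⟨K0, hK0⟩ := Subgroup.exists_right_complement'_of_coprime (N := B.subgroupOf L) (by
    rwa [hidx, Nat.card_congr (Subgroup.subgroupOfEquivOfLe hBL).toEquiv])
  set K := K0.map L.subtype with hK
  have hKL : K ≤ L := Subgroup.map_subtype_le _
  have hKcard : Nat.card K = Nat.card L0 := by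
    rw [hK, Subgroup.card_map_of_injective L.subtype_injective, ← hidx, hK0.symm.index_eq_card]
  have hBK : B ⊓ K = ⊥ := Subgroup.inf_eq_bot_of_coprime (hKcard ▸ hcop)
  have hsup : B ⊔ K = L := by
    refine le_antisymm (sup_le hBL hKL) ?_
    have h1 := congrArg (Subgroup.map L.subtype) hK0.sup_eq_top
    rw [Subgroup.map_sup, Subgroup.subgroupOf_map_subtype, inf_eq_left.2 hBL, ← MonoidHom.range_eq_map,
      Subgroup.range_subtype] at h1
    exact h1.ge
  have hKB : K ≤ normalizer (B : Set G) := by rw [Subgroup.normalizer_eq_top]; exact le_top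
  haveI hBs : Group.IsSolvable B := (haveI := (Cores.isPGroup_pCore (G := G) p).isNilpotent; inferInstance)
  have hKC : K ≤ C := by
    intro k hk
    obtain ⟨c, hc, hck⟩ := hL0C (show (k : G ⧸ B) ∈ L0 from hKL hk)
    have hd : c⁻¹ * k ∈ B := QuotientGroup.eq.1 hck
    rw [← QuotientGroup.eq_one_iff]
    have h1 : (k : G ⧸ C) = ((c⁻¹ * k : G) : G ⧸ C) := by
      rw [QuotientGroup.mk_mul, QuotientGroup.mk_inv, (QuotientGroup.eq_one_iff c).2 hc, inv_one, one_mul]
    have h2 : orderOf (k : G ⧸ C) ∣ Nat.card L0 :=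
      (orderOf_map_dvd (QuotientGroup.mk' C) k).trans (hKcard ▸ Subgroup.orderOf_dvd_natCard K hk)
    have h3 : orderOf (k : G ⧸ C) ∣ Nat.card B := by
      rw [h1]
      exact (orderOf_map_dvd (QuotientGroup.mk' C) _).trans (Subgroup.orderOf_dvd_natCard B hd)
    exact orderOf_eq_one_iff.1 (Nat.eq_one_of_dvd_coprimes hcop h3 h2)
  -- Frattini argument
  have htop : normalizer (K : Set G) = ⊤ := by
    by_contra hne
    obtain ⟨M, hM, hNM⟩ := (eq_top_or_exists_le_coatom (normalizer (K : Set G))).resolve_left hne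
    have hKM : K ≤ M := Subgroup.le_normalizer.trans hNM
    have hDM : D ≤ M := inf_le_right.trans (frattini_le_coatom hM)
    have hBM : B ≤ M := by
      intro b hb
      have hconj : MulAut.conj b • K ≤ D ⊔ K := by
        rintro _ ⟨k, hk, rfl⟩
        show b * k * b⁻¹ ∈ D ⊔ K
        have h1 : ⁅k, b⁆ ∈ D := (hCmem k).1 (hKC hk) b hb
        rw [show b * k * b⁻¹ = ⁅k, b⁆⁻¹ * k by rw [commutatorElement_def]; group]
        exact Subgroup.mul_mem_sup (inv_mem h1) hk
      obtain ⟨d, hd, hdK⟩ := exists_conj_le D K (MulAut.conj b • K) (by rw [Subgroup.normalizer_eq_top]; exact le_top)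
        (Subgroup.inf_eq_bot_of_coprime (hKcard.symm ▸ hcop.coprime_dvd_left (Subgroup.card_dvd_of_le inf_le_left)))
        hconj (by
          rw [card_conj_smul, hKcard]; exact hcop.coprime_dvd_left (Subgroup.card_dvd_of_le inf_le_left))
        (Or.inl (haveI := ((Cores.isPGroup_pCore (G := G) p).to_le (inf_le_left : D ≤ B)).isNilpotent; inferInstance))
      have hdb : d * b ∈ normalizer (K : Set G) := by
        refine Subgroup.mem_normalizer_fintype fun k hk => hdK ?_
        refine ⟨b * k * b⁻¹, ⟨k, hk, rfl⟩, ?_⟩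
        show d * (b * k * b⁻¹) * d⁻¹ = d * b * k * (d * b)⁻¹
        group
      rw [show b = d⁻¹ * (d * b) by group]
      exact mul_mem (inv_mem (hDM hd)) (hNM hdb)
    refine hM.1 (eq_top_iff.2 fun x _ => ?_)
    have hx : MulAut.conj x • K ≤ B ⊔ K := by
      rw [hsup]
      rintro _ ⟨k, hk, rfl⟩
      exact (inferInstance : L.Normal).conj_mem k (hKL hk) x
    obtain ⟨b, hb, hbK⟩ := exists_conj_le B K (MulAut.conj x • K) hKB hBK hx
      (by rw [card_conj_smul, hKcard]; exact hcop) (Or.inl hBs)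
    have hbx : b * x ∈ normalizer (K : Set G) := by
      refine Subgroup.mem_normalizer_fintype fun k hk => hbK ?_
      refine ⟨x * k * x⁻¹, ⟨k, hk, rfl⟩, ?_⟩
      show b * (x * k * x⁻¹) * b⁻¹ = b * x * k * (b * x)⁻¹
      group
    rw [show x = b⁻¹ * (b * x) by group]
    exact mul_mem (inv_mem (hBM hb)) (hNM hbx)
  haveI : K.Normal := Subgroup.normalizer_eq_top_iff.1 htop
  have hK1 : K = ⊥ := le_bot_iff.1 (hO ▸ Cores.le_pPrimeCore_of_not_dvd (hKcard.symm ▸ hL0p))
  rw [hK1, Subgroup.card_bot] at hKcard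
  exact hL0ne (Subgroup.card_eq_one.1 hKcard.symm)

/-- The structure of `G` above `O_p(G)`. -/
theorem structure_above_pCore (hsec : SectionHyp p G) (hO : pPrimeCore p G = ⊥) (hmax : MaxHyp p G) :
    (∃ C : Subgroup G, C.Normal ∧ pCore p G ≤ C ∧ ¬ p ∣ (pCore p G).relIndex C ∧ ∃ k : ℕ, C.index = p ^ k) ∨
    ((∀ g h : G, ⁅g, h⁆ ∈ pCore p G) ∧ ∀ g : G, g ^ (p - 1) ∈ pCore p G) := by
  set B := pCore p G with hB
  haveI hBn : B.Normal := inferInstance
  by_cases hnil : ∃ M : Subgroup G, IsCoatom M ∧ ¬ B ≤ M ∧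
      ∃ K : Subgroup ↥M, K.Normal ∧ ¬ p ∣ Nat.card K ∧ ∃ k : ℕ, K.index = p ^ k
  · left
    obtain ⟨M, hM, hBM, K, hK, hKp, k, hk⟩ := hnil
    let f : M →* G ⧸ B := (QuotientGroup.mk' B).comp M.subtype
    have hf : Function.Surjective f := by
      rw [← MonoidHom.range_eq_top, MonoidHom.range_comp, Subgroup.range_subtype]
      have h1 : B ⊔ M = ⊤ := hM.2 _ (lt_of_le_of_ne le_sup_right fun e => hBM (e ▸ le_sup_left))
      have h2 := congrArg (Subgroup.map (QuotientGroup.mk' B)) h1
      rw [Subgroup.map_sup, QuotientGroup.map_mk'_self, bot_sup_eq,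
        Subgroup.map_top_of_surjective _ (QuotientGroup.mk'_surjective B)] at h2
      exact h2
    set C := (K.map f).comap (QuotientGroup.mk' B) with hC
    refine ⟨C, (hK.map f hf).comap _, ?_, ?_, ?_⟩
    · rw [hC]; exact (QuotientGroup.ker_mk' B).ge.trans (MonoidHom.ker_le_comap _ _)
    · rw [show B.relIndex C = (QuotientGroup.mk' B).ker.relIndex C by rw [QuotientGroup.ker_mk'],
        Subgroup.relIndex_ker, hC, Subgroup.map_comap_eq_self_of_surjective (QuotientGroup.mk'_surjective B)]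
      exact fun h => hKp (h.trans (Subgroup.card_map_dvd K f))
    · rw [hC, Subgroup.index_comap_of_surjective _ (QuotientGroup.mk'_surjective B)]
      obtain ⟨j, -, hj⟩ := (Nat.dvd_prime_pow hp.out).1 (hk ▸ Subgroup.index_map_dvd K hf)
      exact ⟨j, hj⟩
  right
  push Not at hnil
  -- the action on each factor
  have key : ∀ M : Subgroup G, IsCoatom M → ∀ g h : G, ∀ b ∈ B, ⁅⁅g, h⁆, b⁆ ∈ M ∧ ⁅g ^ (p - 1), b⁆ ∈ M := by
    intro M hM g h b hb
    have hmem : ∀ x : G, ⁅x, b⁆ ∈ B := fun x =>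
      show x * b * x⁻¹ * b⁻¹ ∈ B from mul_mem (hBn.conj_mem b hb x) (inv_mem hb)
    by_cases hBM : B ≤ M
    · exact ⟨hBM (hmem _), hBM (hmem _)⟩
    have hq : (M.index).Prime := (hmax M hM).resolve_left fun ⟨K, hK, hKp, k, hk⟩ => hnil M hM hBM K hK hKp k hk
    have h1 : B ⊔ M = ⊤ := hM.2 _ (lt_of_le_of_ne le_sup_right fun e => hBM (e ▸ le_sup_left))
    set X := B ⊓ M with hX
    have hrel : X.relIndex B = M.index := by
      have e1 := Subgroup.card_mul_index B
      have e2 := Subgroup.card_mul_index M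
      have e3 : Nat.card X * X.relIndex B = Nat.card B := by
        rw [← Subgroup.relIndex_bot_left, ← Subgroup.relIndex_bot_left B,
          Subgroup.relIndex_mul_relIndex _ _ _ bot_le inf_le_left]
      have e4 : Nat.card X * X.relIndex M = Nat.card M := by
        rw [← Subgroup.relIndex_bot_left, ← Subgroup.relIndex_bot_left M,
          Subgroup.relIndex_mul_relIndex _ _ _ bot_le inf_le_right]
      have e5 : X.relIndex M = B.index := by
        rw [hX, Subgroup.inf_relIndex_right, ← Subgroup.relIndex_sup_right (H := M) (K := B), sup_comm, h1,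
          Subgroup.relIndex_top_right]
      rw [e5] at e4
      rw [← e3] at e1
      rw [← e4] at e2
      have h0 : 0 < Nat.card X * B.index := Nat.mul_pos Nat.card_pos (Nat.pos_of_ne_zero Subgroup.index_ne_zero_of_finite)
      refine Nat.eq_of_mul_eq_mul_left h0 ?_
      linarith
    obtain ⟨i, hi⟩ := (Cores.isPGroup_pCore (G := G) p).exists_card_eq
    have hidx : M.index = p := by
      have hd : M.index ∣ p ^ i := hi ▸ hrel ▸ Subgroup.relIndex_dvd_card X B
      exact (Nat.prime_dvd_prime_iff_eq hq hp.out).1 (hq.dvd_of_dvd_pow hd)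
    haveI hXn : X.Normal := by
      rw [← Subgroup.normalizer_eq_top_iff, eq_top_iff, ← h1]
      refine sup_le ?_ ?_
      · have : (X.subgroupOf B).Normal := by
          haveI : Fact (Nat.Prime p) := hp
          have hidx' : (X.subgroupOf B).index = p := by rw [← hidx, ← hrel]; rfl
          have hBp := Cores.isPGroup_pCore (G := G) p
          refine Subgroup.normal_of_index_eq_minFac_card ?_
          rw [hidx', hi, Nat.pow_minFac (fun e => ?_), hp.out.minFac_eq]
          rw [e, pow_zero] at hi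
          have := Subgroup.index_dvd_card (X.subgroupOf B)
          rw [hidx', hi] at this
          exact hp.out.one_lt.ne' (Nat.dvd_one.1 this)
        exact (Subgroup.normal_subgroupOf_iff_le_normalizer inf_le_left).1 this
      · intro m hm
        refine Subgroup.mem_normalizer_fintype fun x (hx : x ∈ X) => ⟨hBn.conj_mem x hx.1 m, ?_⟩
        exact show m * x * m⁻¹ ∈ M from mul_mem (mul_mem hm hx.2) (inv_mem hm)
    set Bq := B.map (QuotientGroup.mk' X) with hBq
    haveI : Bq.Normal := hBn.map _ (QuotientGroup.mk'_surjective X)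
    have hcard : Nat.card Bq = p := by
      rw [hBq, ← Subgroup.relIndex_ker, QuotientGroup.ker_mk', hrel, hidx]
    haveI : IsCyclic Bq := isCyclic_of_prime_card hcard
    let act : G →* MulAut Bq := (MulAut.conjNormal : G ⧸ X →* MulAut Bq).comp (QuotientGroup.mk' X)
    have hker : ∀ x : G, act x = 1 → ⁅x, b⁆ ∈ M := by
      intro x hx
      have h2 := congrArg (fun φ : MulAut Bq => ((φ ⟨_, b, hb, rfl⟩ : Bq) : G ⧸ X)) hx
      simp only [act, MonoidHom.comp_apply, MulAut.conjNormal_apply, MulAut.one_apply] at h2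
      have h3 : ⁅x, b⁆ ∈ X := by
        rw [← QuotientGroup.eq_one_iff]
        show QuotientGroup.mk' X (x * b * x⁻¹ * b⁻¹) = 1
        rw [map_mul, map_mul, map_mul, map_inv, map_inv, h2, mul_inv_cancel]
      exact h3.2
    have hab : ∀ φ ψ : MulAut Bq, φ * ψ = ψ * φ := by
      intro φ ψ
      obtain ⟨i, hi⟩ := MonoidHom.map_cyclic φ.toMonoidHom
      obtain ⟨j, hj⟩ := MonoidHom.map_cyclic ψ.toMonoidHom
      refine MulEquiv.ext fun x => ?_
      show φ.toMonoidHom (ψ.toMonoidHom x) = ψ.toMonoidHom (φ.toMonoidHom x)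
      rw [hi, hj, hj, hi, ← zpow_mul, ← zpow_mul, mul_comm]
    refine ⟨hker _ ?_, hker _ ?_⟩
    · rw [map_commutatorElement, commutatorElement_eq_one_iff_mul_comm]
      exact hab _ _
    · rw [map_pow]
      have hc : Nat.card (MulAut Bq) = p - 1 := by
        rw [IsCyclic.card_mulAut, hcard, Nat.totient_prime hp.out]
      rw [← hc]
      exact pow_card_eq_one'
  have hfr : ∀ x : G, (∀ M : Subgroup G, IsCoatom M → ∀ b ∈ B, ⁅x, b⁆ ∈ M) → x ∈ B := by
    intro x hx
    refine trivial_mod_frattini_le hsec hO x fun b hb => ?_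
    rw [frattini, Order.radical, Subgroup.mem_iInf]
    intro M
    rw [Subgroup.mem_iInf]
    exact fun hM => hx M hM b hb
  exact ⟨fun g h => hfr _ fun M hM b hb => (key M hM g h b hb).1,
    fun g => hfr _ fun M hM b hb => (key M hM g 1 b hb).2⟩

theorem maxHyp_quotient (hmax : MaxHyp p G) (N : Subgroup G) [N.Normal] : MaxHyp p (G ⧸ N) := by
  intro M hM
  have hs := QuotientGroup.mk'_surjective N
  set M' := M.comap (QuotientGroup.mk' N) with hM'
  have hcoatom : IsCoatom M' := by
    refine ⟨fun e => hM.1 ?_, fun X hX => ?_⟩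
    · rw [← Subgroup.map_comap_eq_self_of_surjective hs M, ← hM', e, Subgroup.map_top_of_surjective _ hs]
    · have hNX : N ≤ X := (QuotientGroup.ker_mk' N).ge.trans ((MonoidHom.ker_le_comap _ _).trans hX.le)
      have hle : M < X.map (QuotientGroup.mk' N) := by
        refine lt_of_le_of_ne ?_ fun e => hX.ne ?_
        · rw [← Subgroup.map_comap_eq_self_of_surjective hs M]; exact Subgroup.map_mono hX.le
        · rw [hM', e, Subgroup.comap_map_eq_self ((QuotientGroup.ker_mk' N).le.trans hNX)]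
      have := congrArg (Subgroup.comap (QuotientGroup.mk' N)) (hM.2 _ hle)
      rwa [Subgroup.comap_map_eq_self ((QuotientGroup.ker_mk' N).le.trans hNX), Subgroup.comap_top] at this
  rcases hmax M' hcoatom with ⟨K, hK, hKp, k, hk⟩ | hq
  · left
    let f : M' →* M := (QuotientGroup.mk' N).subgroupComap M
    have hf : Function.Surjective f := MonoidHom.subgroupComap_surjective_of_surjective _ M hs
    obtain ⟨j, -, hj⟩ := (Nat.dvd_prime_pow hp.out).1 (hk ▸ Subgroup.index_map_dvd K hf)
    exact ⟨K.map f, hK.map f hf, fun h => hKp (h.trans (Subgroup.card_map_dvd K f)), j, hj⟩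
  · right
    rwa [hM', Subgroup.index_comap_of_surjective _ hs] at hq

/-- The conclusion. -/
theorem exists_series (hsec : SectionHyp p (G ⧸ pPrimeCore p G)) (hmax : MaxHyp p G) :
    ∃ A B C : Subgroup G, A.Normal ∧ B.Normal ∧ C.Normal ∧ A ≤ B ∧ B ≤ C ∧ ¬ p ∣ Nat.card A ∧
      (∃ k : ℕ, A.relIndex B = p ^ k) ∧ ¬ p ∣ B.relIndex C ∧ ∃ k : ℕ, C.index = p ^ k := by
  set A := pPrimeCore p G with hA
  haveI : A.Normal := inferInstance
  have hs := QuotientGroup.mk'_surjective A
  set B0 := pCore p (G ⧸ A) with hB0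
  haveI : B0.Normal := inferInstance
  suffices h : ∃ C0 : Subgroup (G ⧸ A), C0.Normal ∧ B0 ≤ C0 ∧ ¬ p ∣ B0.relIndex C0 ∧ ∃ k : ℕ, C0.index = p ^ k by
    obtain ⟨C0, hC0, hBC, hp1, k, hk⟩ := h
    refine ⟨A, B0.comap (QuotientGroup.mk' A), C0.comap (QuotientGroup.mk' A), inferInstance,
      (inferInstance : B0.Normal).comap _, hC0.comap _, ?_, Subgroup.comap_mono hBC,
      Cores.not_dvd_card_pPrimeCore p, ?_, ?_, k, ?_⟩
    · exact (QuotientGroup.ker_mk' A).ge.trans (MonoidHom.ker_le_comap _ _)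
    · obtain ⟨i, hi⟩ := (Cores.isPGroup_pCore (G := G ⧸ A) p).exists_card_eq
      refine ⟨i, ?_⟩
      rw [show A.relIndex (B0.comap (QuotientGroup.mk' A)) =
          (QuotientGroup.mk' A).ker.relIndex (B0.comap (QuotientGroup.mk' A)) by rw [QuotientGroup.ker_mk'],
        Subgroup.relIndex_ker, Subgroup.map_comap_eq_self_of_surjective hs, hi]
    · rwa [Subgroup.relIndex_comap, Subgroup.map_comap_eq_self_of_surjective hs]
    · rw [Subgroup.index_comap_of_surjective _ hs, hk]
  rcases structure_above_pCore hsec (Cores.pPrimeCore_quotient_self p) (maxHyp_quotient hmax A) with h | ⟨hab, hexp⟩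
  · exact h
  refine ⟨⊤, inferInstance, le_top, fun hd => ?_, 0, by rw [Subgroup.index_top, pow_zero]⟩
  rw [Subgroup.relIndex_top_right] at hd
  obtain ⟨x, hx⟩ := exists_prime_orderOf_dvd_card' p (hd : p ∣ Nat.card ((G ⧸ A) ⧸ B0))
  obtain ⟨g, rfl⟩ := QuotientGroup.mk'_surjective B0 x
  have h1 : orderOf (QuotientGroup.mk' B0 g) ∣ p - 1 := orderOf_dvd_of_pow_eq_one (by
    rw [← map_pow]; exact (QuotientGroup.eq_one_iff _).2 (hexp g))
  rw [hx] at h1
  have := Nat.le_of_dvd (Nat.sub_pos_of_lt hp.out.one_lt) h1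
  exact absurd this (Nat.not_le.2 (Nat.sub_lt hp.out.pos one_pos))

end CfsgLib.Solvable
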