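import Cfsg.Agent.Lib.Solvable.MinimalNonNilpotent
import Cfsg.Agent.Lib.Solvable.CoprimeAction
import Cfsg.Agent.Lib.Solvable.MinimalNormal
import Cfsg.Agent.Lib.Transfer.Frobenius
import Cfsg.Agent.Lib.OddLocal.Basic

/-!
Groups all of whose maximal subgroups of order divisible by `p` are nilpotent.
-/

set_option autoImplicit false

open scoped Pointwise

namespace CfsgLib.Solvable

variable {G : Type*} [Group G] [Finite G]

theorem commute_of_le_nilpotent {M : Subgroup G} (hM : Group.IsNilpotent M) {x y : G}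
    (hx : x ∈ M) (hy : y ∈ M) (h : (orderOf x).Coprime (orderOf y)) : Commute x y := by
  haveI := hM
  have h1 := CfsgLib.OddLocal.commute_of_coprime_orderOf (⟨x, hx⟩ : M) ⟨y, hy⟩
    (by rwa [← Subgroup.orderOf_coe, ← Subgroup.orderOf_coe])
  exact congrArg Subtype.val (h1 : _ * _ = _ * _)

theorem isNilpotent_of_prime_dvd {p : ℕ}
    (h : ∀ M : Subgroup G, IsCoatom M → p ∣ Nat.card M → Group.IsNilpotent M) {H : Subgroup G}
    (hH : H ≠ ⊤) (hp : p ∣ Nat.card H) : Group.IsNilpotent H := by
  obtain ⟨M, hM, hle⟩ := (eq_top_or_exists_le_coatom H).resolve_left hH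
  exact isNilpotent_le (h M hM (hp.trans (Subgroup.card_dvd_of_le hle))) hle

theorem nilpotent_maximal_dvd_forward {p : ℕ} [hp : Fact p.Prime] (hpG : p ∣ Nat.card G)
    (h : ∀ M : Subgroup G, IsCoatom M → p ∣ Nat.card M → Group.IsNilpotent M) :
    Group.IsNilpotent G ∨ Cfsg.IsMinimalNonNilpotent G ∨
      ∃ Z K : Subgroup G, Z.Normal ∧ K.Normal ∧ Z ⊓ K = ⊥ ∧ Z ⊔ K = ⊤ ∧ Nat.card Z = p ∧
        Cfsg.IsMinimalNonNilpotent K ∧ ¬ p ∣ Nat.card K := by
  by_cases hnil : Group.IsNilpotent G
  · exact Or.inl hnil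
  by_cases hall : ∀ M : Subgroup G, IsCoatom M → Group.IsNilpotent M
  · refine Or.inr (Or.inl ⟨hnil, fun H hH => ?_⟩)
    obtain ⟨M, hM, hle⟩ := (eq_top_or_exists_le_coatom H).resolve_left hH
    exact isNilpotent_le (hall M hM) hle
  by_cases hU : ∃ U : Subgroup G, U.Normal ∧ U ≠ ⊥ ∧ IsPGroup p U
  · push Not at hall
    obtain ⟨M, hM, hMn⟩ := hall
    have hpM : ¬ p ∣ Nat.card M := fun hd => hMn (h M hM hd)
    obtain ⟨U₀, hU₀n, hU₀, hU₀p⟩ := hU
    haveI := hU₀n
    obtain ⟨U, hUn, hUbot, hUle, hUmin⟩ := exists_minimal_normal_le U₀ hU₀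
    haveI := hUn
    have hUp : IsPGroup p U := hU₀p.to_le hUle
    obtain ⟨k, hk⟩ := hUp.exists_card_eq
    have hk0 : k ≠ 0 := fun hk' => hUbot (Subgroup.eq_bot_of_card_eq _ (by rw [hk, hk', pow_zero]))
    have hpU : p ∣ Nat.card U := hk ▸ dvd_pow_self p hk0
    have hcop : (Nat.card U).Coprime (Nat.card M) := by
      rw [hk]; exact (hp.out.coprime_iff_not_dvd.2 hpM).pow_left k
    have hd : U ⊓ M = ⊥ := disjoint_of_coprime hcop
    have hMU : M ≤ Subgroup.normalizer (U : Set G) := by
      rw [Subgroup.normalizer_eq_top]; exact le_top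
    have htop : U ⊔ M = ⊤ := hM.2 _ (lt_of_le_of_ne le_sup_right fun e =>
      hpM (hpU.trans (Subgroup.card_dvd_of_le (le_sup_left.trans e.symm.le))))
    have hUs : Group.IsSolvable U := by
      haveI := hUp.isNilpotent
      infer_instance
    have hUab := commute_of_minimal_normal U hUbot hUmin hUs
    have hsub : ∀ L : Subgroup G, L ≤ M → L ≠ M →
        Group.IsNilpotent L ∧ ∀ x ∈ L, ∀ u ∈ U, x * u = u * x := by
      intro L hL hne
      have hLU : L ≤ Subgroup.normalizer (U : Set G) := hL.trans hMU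
      have hdL : U ⊓ L = ⊥ := eq_bot_iff.2 ((inf_le_inf_left _ hL).trans hd.le)
      have hne' : U ⊔ L ≠ ⊤ := by
        intro e
        have h1 := card_sup_of_disjoint hLU hdL
        have h2 := card_sup_of_disjoint hMU hd
        rw [e] at h1
        rw [htop, h1] at h2
        exact hne (Subgroup.eq_of_le_of_card_ge hL (Nat.eq_of_mul_eq_mul_left Nat.card_pos h2).ge)
      have hn := isNilpotent_of_prime_dvd h hne'
        (hpU.trans (Subgroup.card_dvd_of_le le_sup_left))
      refine ⟨isNilpotent_le hn le_sup_right, fun x hx u hu => ?_⟩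
      exact (commute_of_le_nilpotent hn (Subgroup.mem_sup_right hx) (Subgroup.mem_sup_left hu)
        (((hcop.coprime_dvd_left (U.orderOf_dvd_natCard hu)).coprime_dvd_right
          (M.orderOf_dvd_natCard (hL hx))).symm)).eq
    have hcent : ∀ x ∈ M, ∀ u ∈ U, x * u = u * x := by
      intro x hx
      refine (hsub (Subgroup.zpowers x) ((Subgroup.zpowers_le).2 hx) ?_).2 x
        (Subgroup.mem_zpowers x)
      intro e
      apply hMn
      rw [← e]
      exact @CommGroup.isNilpotent (Subgroup.zpowers x)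
        { (inferInstance : Group (Subgroup.zpowers x)) with
          mul_comm := fun a b => Subtype.ext (by
            obtain ⟨i, hi⟩ := Subgroup.mem_zpowers_iff.1 a.2
            obtain ⟨j, hj⟩ := Subgroup.mem_zpowers_iff.1 b.2
            simp only [Subgroup.coe_mul, ← hi, ← hj]
            exact (Commute.zpow_zpow_self x i j).eq) }
    have hUz : ∀ u ∈ U, ∀ g : G, g * u = u * g := by
      intro u hu g
      obtain ⟨v, hv, x, hx, rfl⟩ := exists_mul_of_mem_sup hMU (g := g) (by simp [htop])
      rw [mul_assoc, hcent x hx u hu, ← mul_assoc, hUab v hv u hu, mul_assoc]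
    have hcard : Nat.card U = p := by
      obtain ⟨u, hu⟩ := exists_prime_orderOf_dvd_card' p hpU
      have hle : Subgroup.zpowers (u : G) ≤ U := Subgroup.zpowers_le.2 u.2
      have hn : (Subgroup.zpowers (u : G)).Normal := ⟨fun y hy g => by
        rwa [hUz y (hle hy) g, mul_inv_cancel_right]⟩
      rcases hUmin _ hn hle with e | e
      · exfalso
        rw [Subgroup.zpowers_eq_bot] at e
        rw [← Subgroup.orderOf_coe, e, orderOf_one] at hu
        exact hp.out.ne_one hu.symm
      · rw [← e, Nat.card_zpowers, Subgroup.orderOf_coe, hu]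
    have hMnorm : M.Normal := by
      refine ⟨fun y hy g => ?_⟩
      obtain ⟨v, hv, x, hx, rfl⟩ := exists_mul_of_mem_sup hMU (g := g) (by simp [htop])
      have hxy : x * y * x⁻¹ ∈ M := M.mul_mem (M.mul_mem hx hy) (M.inv_mem hx)
      have e : v * x * y * (v * x)⁻¹ = x * y * x⁻¹ := by
        calc v * x * y * (v * x)⁻¹ = v * (x * y * x⁻¹) * v⁻¹ := by group
          _ = _ := by rw [← hcent _ hxy v hv, mul_inv_cancel_right]
      rw [e]; exact hxy
    refine Or.inr (Or.inr ⟨U, M, hUn, hMnorm, hd, htop, hcard, ⟨hMn, fun L hL => ?_⟩, hpM⟩)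
    haveI := (hsub (L.map M.subtype) (Subgroup.map_subtype_le _) (fun e => hL ?_)).1
    · exact Group.nilpotent_of_mulEquiv
        (L.equivMapOfInjective M.subtype Subtype.val_injective).symm
    · apply Subgroup.map_injective M.subtype_injective
      rw [e, ← MonoidHom.range_eq_map, Subgroup.range_subtype]
  · push Not at hU
    have hnoU : ∀ U : Subgroup G, U.Normal → IsPGroup p U → U = ⊥ := fun U hn hUp => by
      by_contra hne
      exact hU U hn hne hUp
    have hfc : CfsgLib.Transfer.FrobeniusCond p G := by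
      intro Q hQ g hg hgp
      by_cases hQ1 : Q = ⊥
      · subst hQ1
        rw [Subgroup.mem_centralizer_iff]
        intro x hx
        rw [Subgroup.mem_bot.1 (SetLike.mem_coe.1 hx), one_mul, mul_one]
      have hne : Subgroup.normalizer (Q : Set G) ≠ ⊤ := fun e =>
        hQ1 (hnoU Q (Subgroup.normalizer_eq_top_iff.1 e) hQ)
      obtain ⟨k, hk⟩ := hQ.exists_card_eq
      have hk0 : k ≠ 0 := fun hk' => hQ1 (Subgroup.eq_bot_of_card_eq _ (by rw [hk, hk', pow_zero]))
      have hn := isNilpotent_of_prime_dvd h hne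
        ((hk ▸ dvd_pow_self p hk0).trans (Subgroup.card_dvd_of_le Subgroup.le_normalizer))
      rw [Subgroup.mem_centralizer_iff]
      intro x hx
      refine (commute_of_le_nilpotent hn (Subgroup.le_normalizer hx) hg ?_).eq
      obtain ⟨i, hi⟩ := IsPGroup.iff_orderOf.1 hQ ⟨x, hx⟩
      rw [← Subgroup.orderOf_coe] at hi
      rw [hi]
      exact (hgp.symm).pow_left i
    obtain ⟨P, K, hKn, hKP⟩ := CfsgLib.Transfer.hasNormalPComplement_of_frobeniusCond hfc
    haveI := hKn
    have hcardG : Nat.card K * Nat.card P = Nat.card G := hKP.card_mul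
    have hPK : (P : Subgroup G) ≤ Subgroup.normalizer (K : Set G) := by
      rw [Subgroup.normalizer_eq_top]; exact le_top
    have hidx : (P : Subgroup G).index = Nat.card K := hKP.index_eq_card
    have hcop : (Nat.card P).Coprime (Nat.card K) := by
      obtain ⟨k, hk⟩ := P.2.exists_card_eq
      have hk' : Nat.card P = p ^ k := hk
      rw [hk']
      exact (hp.out.coprime_iff_not_dvd.2 (hidx ▸ P.not_dvd_index)).pow_left k
    have hPn : Group.IsSolvable (P : Subgroup G) := by
      haveI := P.2.isNilpotent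
      infer_instance
    have hpP : p ∣ Nat.card P := P.dvd_card_of_dvd_card hpG
    have hPnot : ¬ (P : Subgroup G).Normal := fun hn => by
      have := hnoU P hn P.2
      rw [this, Subgroup.card_bot] at hpP
      exact hp.out.not_dvd_one hpP
    have hex : ∃ r : ℕ, r.Prime ∧ ∃ R : Subgroup G, R ≤ K ∧ IsPGroup r R ∧
        (P : Subgroup G) ≤ Subgroup.normalizer (R : Set G) ∧ R ⊔ P = ⊤ := by
      by_contra hno
      push Not at hno
      apply hPnot
      have hKC : K ≤ Subgroup.centralizer ((P : Subgroup G) : Set G) := by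
        have : (Subgroup.centralizer ((P : Subgroup G) : Set G)).subgroupOf K = ⊤ := by
          refine eq_top_of_sylow_le fun r hr => ?_
          haveI := Fact.mk hr
          obtain ⟨R, hR⟩ := exists_invariant_sylow (P : Subgroup G) K hPK hcop (Or.inl hPn) r
          refine ⟨R, fun x hx => Subgroup.mem_subgroupOf.2 ?_⟩
          set R' := (R : Subgroup K).map K.subtype
          have hne := hno r hr R' (Subgroup.map_subtype_le _) (R.2.map _) hR
          have hn := isNilpotent_of_prime_dvd h hne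
            (hpP.trans (Subgroup.card_dvd_of_le le_sup_right))
          rw [Subgroup.mem_centralizer_iff]
          intro y hy
          refine (commute_of_le_nilpotent hn (Subgroup.mem_sup_right hy)
            (Subgroup.mem_sup_left (⟨x, hx, rfl⟩ : (x : G) ∈ R')) ?_).eq
          exact (hcop.coprime_dvd_left ((P : Subgroup G).orderOf_dvd_natCard hy)).coprime_dvd_right
            (K.orderOf_dvd_natCard x.2)
        exact Subgroup.subgroupOf_eq_top.1 this
      rw [← Subgroup.normalizer_eq_top_iff, eq_top_iff, ← hKP.sup_eq_top]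
      refine sup_le (hKC.trans fun x hx => ?_) Subgroup.le_normalizer
      exact mem_normalizer_of_conj_mem fun y hy => by
        rw [← Subgroup.mem_centralizer_iff.1 hx y hy, mul_inv_cancel_right]; exact hy
    obtain ⟨r, hr, R, hRK, hRr, hPR, htop⟩ := hex
    haveI := Fact.mk hr
    have hRKeq : R = K := by
      refine Subgroup.eq_of_le_of_card_ge hRK ?_
      have hd : R ⊓ P = ⊥ := eq_bot_iff.2 ((inf_le_inf_right _ hRK).trans hKP.disjoint.le_bot)
      have h1 := card_sup_of_disjoint hPR hd
      rw [htop, Subgroup.card_top, ← hcardG] at h1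
      exact (Nat.eq_of_mul_eq_mul_right Nat.card_pos h1).le
    subst hRKeq
    obtain ⟨k, hk⟩ := P.2.exists_card_eq
    have hk' : Nat.card P = p ^ k := hk
    have hk1 : k = 1 := by
      have hk0 : k ≠ 0 := fun e => by
        rw [hk', e, pow_zero] at hpP
        exact hp.out.not_dvd_one hpP
      by_contra hk1
      obtain ⟨m, rfl⟩ : ∃ m, k = m + 1 := ⟨k - 1, by omega⟩
      obtain ⟨P₁, hP₁⟩ := Sylow.exists_subgroup_card_pow_prime (G := (P : Subgroup G)) p (n := m)
        (hk ▸ pow_dvd_pow p (Nat.le_succ m))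
      have hP₁n : P₁.Normal := by
        refine Subgroup.normal_of_index_eq_minFac_card ?_
        have h1 := P₁.card_mul_index
        rw [hP₁, hk, pow_succ] at h1
        rw [Nat.eq_of_mul_eq_mul_left (pow_pos hp.out.pos _) h1, hk,
          Nat.Prime.pow_minFac hp.out (Nat.succ_ne_zero m)]
      set Q := P₁.map (P : Subgroup G).subtype
      have hQP : Q ≤ P := Subgroup.map_subtype_le _
      have hQcard : Nat.card Q = p ^ m := by
        rw [Subgroup.card_map_of_injective (f := (P : Subgroup G).subtype) Subtype.val_injective, hP₁]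
      have hQne : Q ≠ ⊥ := fun e => by
        rw [e, Subgroup.card_bot] at hQcard
        exact absurd hQcard.symm (Nat.one_lt_pow (by omega) hp.out.one_lt).ne'
      have hd : R ⊓ Q = ⊥ := eq_bot_iff.2 ((inf_le_inf_left _ hQP).trans hKP.disjoint.le_bot)
      have hne : R ⊔ Q ≠ ⊤ := by
        intro e
        have h1 := card_sup_of_disjoint (hQP.trans hPR) hd
        rw [e, Subgroup.card_top, ← hcardG] at h1
        have h2 := Nat.eq_of_mul_eq_mul_left Nat.card_pos h1
        rw [hk', hQcard, pow_succ] at h2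
        have : p ^ m * p = p ^ m * 1 := by rw [mul_one]; exact h2
        exact hp.out.ne_one (Nat.eq_of_mul_eq_mul_left (pow_pos hp.out.pos _) this)
      have hn := isNilpotent_of_prime_dvd h hne (((dvd_pow_self p (by omega : m ≠ 0)).trans
        hQcard.symm.dvd).trans (Subgroup.card_dvd_of_le le_sup_right))
      refine hQne (hnoU Q ?_ (P.2.to_le hQP))
      rw [← Subgroup.normalizer_eq_top_iff, eq_top_iff, ← htop]
      refine sup_le (fun x hx => mem_normalizer_of_conj_mem fun y hy => ?_) fun x hx => ?_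
      · have := (commute_of_le_nilpotent hn (Subgroup.mem_sup_left hx) (Subgroup.mem_sup_right hy)
          ((hcop.coprime_dvd_left ((P : Subgroup G).orderOf_dvd_natCard (hQP hy))).coprime_dvd_right
            (R.orderOf_dvd_natCard hx)).symm).eq
        rw [this, mul_inv_cancel_right]; exact hy
      · refine mem_normalizer_of_conj_mem fun y hy => ?_
        obtain ⟨y, hy, rfl⟩ := hy
        exact ⟨⟨x, hx⟩ * y * ⟨x, hx⟩⁻¹, hP₁n.conj_mem y hy _, rfl⟩
    refine Or.inr (Or.inl ⟨hnil, fun H hH => ?_⟩)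
    obtain ⟨M, hM, hle⟩ := (eq_top_or_exists_le_coatom H).resolve_left hH
    refine isNilpotent_le ?_ hle
    by_cases hd : p ∣ Nat.card M
    · exact h M hM hd
    · obtain ⟨a, ha⟩ := hRr.exists_card_eq
      have h1 := M.card_subgroup_dvd_card
      rw [← hcardG, hk', hk1, pow_one, ha] at h1
      obtain ⟨b, -, hb⟩ := (Nat.dvd_prime_pow hr).1
        ((((hp.out.coprime_iff_not_dvd.2 hd).symm)).dvd_of_dvd_mul_right h1)
      exact (IsPGroup.of_card hb).isNilpotent

theorem nilpotent_maximal_dvd_backward {p : ℕ} [hp : Fact p.Prime]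
    (h : Group.IsNilpotent G ∨ Cfsg.IsMinimalNonNilpotent G ∨
      ∃ Z K : Subgroup G, Z.Normal ∧ K.Normal ∧ Z ⊓ K = ⊥ ∧ Z ⊔ K = ⊤ ∧ Nat.card Z = p ∧
        Cfsg.IsMinimalNonNilpotent K ∧ ¬ p ∣ Nat.card K)
    (M : Subgroup G) (hM : IsCoatom M) (hpM : p ∣ Nat.card M) : Group.IsNilpotent M := by
  rcases h with h | h | ⟨Z, K, hZn, hKn, hd, htop, hZ, hK, hpK⟩
  · haveI := h
    infer_instance
  · exact h.2 M hM.1
  haveI := hZn
  haveI := hKn
  have hcomm : ∀ z ∈ Z, ∀ k ∈ K, Commute z k := fun z hz k hk =>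
    Subgroup.commute_of_normal_of_disjoint Z K hZn hKn (disjoint_iff.2 hd) z k hz hk
  have hKZ : K ≤ Subgroup.normalizer (Z : Set G) := by
    rw [Subgroup.normalizer_eq_top]; exact le_top
  have hcard : Nat.card Z * Nat.card K = Nat.card G := by
    rw [← card_sup_of_disjoint hKZ hd, htop, Subgroup.card_top]
  have hidx : ¬ p ∣ Z.index := by
    have h2 := Z.card_mul_index
    rw [← hcard] at h2
    rwa [Nat.eq_of_mul_eq_mul_left Nat.card_pos h2]
  have hZp : IsPGroup p Z := IsPGroup.of_card (n := 1) (by rw [hZ, pow_one])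
  have hZM : Z ≤ M := by
    obtain ⟨x, hx⟩ := exists_prime_orderOf_dvd_card' p hpM
    rw [← Subgroup.orderOf_coe] at hx
    have hxZ : (x : G) ∈ Z := by
      obtain ⟨S, hS⟩ := (IsPGroup.of_card (n := 1)
        (by rw [Nat.card_zpowers, hx, pow_one] : Nat.card (Subgroup.zpowers (x : G)) = p ^ 1)).exists_le_sylow
      obtain ⟨g, hg⟩ := MulAction.exists_smul_eq G (hZp.toSylow hidx) S
      rw [← hg, Sylow.coe_subgroup_smul] at hS
      have h1 : (x : G) ∈ MulAut.conj g • Z := hS (Subgroup.mem_zpowers _)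
      rwa [conj_smul_self_of_mem_normalizer (by rw [Subgroup.normalizer_eq_top]; trivial)] at h1
    have : Z = Subgroup.zpowers (x : G) := (Subgroup.eq_of_le_of_card_ge
      (Subgroup.zpowers_le.2 hxZ) (by rw [Nat.card_zpowers, hx, hZ])).symm
    rw [this]
    exact Subgroup.zpowers_le.2 x.2
  have hne : M.subgroupOf K ≠ ⊤ := fun e => hM.1 (eq_top_iff.2
    (htop ▸ sup_le hZM (Subgroup.subgroupOf_eq_top.1 e)))
  haveI hL : Group.IsNilpotent (M.subgroupOf K) := hK.2 _ hne
  have hMK : Group.IsNilpotent ((M.subgroupOf K).map K.subtype : Subgroup G) :=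
    isNilpotent_map' K.subtype hL
  rw [Subgroup.subgroupOf_map_subtype] at hMK
  haveI := hMK
  haveI := hZp.isNilpotent
  let f : Z × (M ⊓ K : Subgroup G) →* M :=
    { toFun := fun a => ⟨(a.1 : G) * a.2, M.mul_mem (hZM a.1.2) a.2.2.1⟩
      map_one' := Subtype.ext (by simp)
      map_mul' := fun a b => Subtype.ext (by
        have := (hcomm b.1 b.1.2 a.2 a.2.2.2).eq
        simp only [Prod.fst_mul, Prod.snd_mul, Subgroup.coe_mul]
        calc (a.1 : G) * b.1 * (a.2 * b.2) = a.1 * ((b.1 : G) * a.2) * b.2 := by group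
          _ = a.1 * ((a.2 : G) * b.1) * b.2 := by rw [this]
          _ = _ := by group) }
  refine Group.nilpotent_of_surjective f fun m => ?_
  obtain ⟨z, hz, k, hk, e⟩ := exists_mul_of_mem_sup hKZ (g := (m : G)) (by simp [htop])
  have hkM : k ∈ M := by
    have : k = z⁻¹ * m := by rw [e]; group
    rw [this]; exact M.mul_mem (M.inv_mem (hZM hz)) m.2
  exact ⟨(⟨z, hz⟩, ⟨k, hkM, hk⟩), Subtype.ext e.symm⟩

end CfsgLib.Solvable
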