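import Cfsg.Agent.Lib.Solvable.HallHigmanData
import Cfsg.Agent.Lib.Solvable.HallHigmanCyclic
import Cfsg.Agent.Lib.Solvable.GrossLower
import Cfsg.Agent.Lib.Solvable.ShultGross
import Cfsg.Agent.Lib.OddChar.FreeModule

/-!
An automorphism of prime order `t` of a class-two group with a faithful representation in which it
fixes no vector leaves no room for a coprime abelian group of automorphisms which it normalises,
either fixed-point-freely or centrally.
-/

set_option autoImplicit false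

open scoped commutatorElement

namespace CfsgLib.Solvable

/-- Freeness over a cyclic group of prime order acting fixed-point-freely on a coprime group. -/
theorem card_eq_card_fixed_pow_aux {q t : ℕ} [hq : Fact q.Prime] [ht : Fact t.Prime] (hqt : q ≠ t)
    {M : Type*} [CommGroup M] [Finite M] [Module (ZMod q) (Additive M)] {Y : Type*} [CommGroup Y]
    [Fintype Y] (hY : ¬ q ∣ Fintype.card Y) (αM : Y →* MulAut M)
    (hnorm : ∀ m, ∏ y, αM y m = 1) (σ : MulAut M) (τY : MulAut Y) (hσ : σ ^ t = 1)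
    (hτY : τY ^ t = 1) (hfpf : ∀ y, τY y = y → y = 1) (hY1 : ∃ y : Y, y ≠ 1)
    (hcompat : ∀ y m, σ (αM y m) = αM (τY y) (σ m)) :
    Nat.card M = Nat.card (σ.toMonoidHom.eqLocus (MonoidHom.id M)) ^ t := by
  classical
  obtain ⟨y₀, hy₀⟩ := hY1
  set π : MulAut M × MulAut Y := (σ, τY) with hπ
  set E := Subgroup.zpowers π with hE
  letI := Fintype.ofFinite E
  have hπt : π ^ t = 1 := Prod.ext hσ hτY
  have hπ1 : π ≠ 1 := fun h => hy₀ (hfpf y₀ (by
    rw [show τY = 1 from congrArg Prod.snd h]; rfl))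
  have hEcard : Fintype.card E = t := by
    rw [← Nat.card_eq_fintype_card, hE, Nat.card_zpowers, orderOf_eq_prime hπt hπ1]
  let α : E →* MulAut Y := (MonoidHom.snd _ _).comp E.subtype
  let εE : E →* MulAut M := (MonoidHom.fst _ _).comp E.subtype
  have hgen : ∀ g : E, ∃ i : ℕ, εE g = σ ^ i ∧ α g = τY ^ i := fun g => by
    obtain ⟨i, hi⟩ := (isOfFinOrder_iff_pow_eq_one.2 ⟨t, ht.out.pos, hπt⟩).mem_powers_iff_mem_zpowers.2
      g.2
    exact ⟨i, (congrArg Prod.fst hi).symm, (congrArg Prod.snd hi).symm⟩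
  have hαfpf : ∀ g : E, g ≠ 1 → ∀ a, α g a = a → a = 1 := by
    intro g hg a ha
    have hog : orderOf g = t := orderOf_eq_prime
      (Subtype.ext (by
        obtain ⟨i, hi⟩ := Subgroup.mem_zpowers_iff.1 g.2
        rw [SubgroupClass.coe_pow, ← hi, ← zpow_natCast, ← zpow_mul, mul_comm, zpow_mul,
          zpow_natCast, hπt, one_zpow]; rfl)) hg
    have htop : Subgroup.zpowers g = ⊤ := Subgroup.eq_top_of_card_eq _ (by
      rw [Nat.card_zpowers, hog, Nat.card_eq_fintype_card, hEcard])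
    obtain ⟨j, hj⟩ := (isOfFinOrder_of_finite g).mem_powers_iff_mem_zpowers.2
      (htop ▸ Subgroup.mem_top (⟨π, Subgroup.mem_zpowers π⟩ : E) : _ ∈ Subgroup.zpowers g)
    refine hfpf a ?_
    have h : τY = α g ^ j := by
      rw [← map_pow, show g ^ j = ⟨π, Subgroup.mem_zpowers π⟩ from hj]; rfl
    rw [h]
    exact pow_apply_fixed ha j
  have hcompat' : ∀ (g : E) (y : Y) (m : M), εE g (αM y m) = αM (α g y) (εE g m) := by
    intro g y m
    obtain ⟨i, hi, hi'⟩ := hgen g
    rw [hi, hi']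
    clear hi hi'
    induction i with
    | zero => rfl
    | succ i ih =>
      rw [pow_succ', pow_succ', MulAut.mul_apply, MulAut.mul_apply, MulAut.mul_apply, ih, hcompat]
  haveI : Finite (Additive M) := Finite.of_equiv M Additive.ofMul
  haveI : Module.Finite (ZMod q) (Additive M) := Module.Finite.of_finite
  let C : Submodule (ZMod q) (Additive M) :=
    LinearMap.eqLocus (zmodAut q σ) (LinearMap.id)
  have hC : ∀ w, w ∈ C ↔ ∀ g : E, (zmodAut q).comp εE g w = w := by
    intro w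
    refine ⟨fun h g => ?_, fun h => ?_⟩
    · obtain ⟨i, hi, -⟩ := hgen g
      have h' : σ w.toMul = w.toMul := congrArg Additive.toMul h
      show zmodAut q (εE g) w = w
      rw [hi, zmodAut_apply, pow_apply_fixed h' i, ofMul_toMul]
    · exact h ⟨π, Subgroup.mem_zpowers π⟩
  have key := CfsgLib.OddChar.FreeModule.finrank_eq_mul (p := q) α hαfpf hY
    (by rw [hEcard]; exact fun h => hqt ((Nat.prime_dvd_prime_iff_eq hq.out ht.out).1 h))
    ((zmodAut q).comp αM) ((zmodAut q).comp εE)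
    (fun g a => LinearMap.ext fun w => by
      rw [Module.End.mul_apply, Module.End.mul_apply]
      show zmodAut q (εE g) (zmodAut q (αM a) w) = zmodAut q (αM (α g a)) (zmodAut q (εE g) w)
      rw [zmodAut_apply, zmodAut_apply, zmodAut_apply, zmodAut_apply, toMul_ofMul, toMul_ofMul,
        hcompat'])
    (LinearMap.ext fun w => by
      rw [LinearMap.sum_apply, LinearMap.zero_apply]
      refine Additive.toMul.injective ?_
      rw [toMul_sum, toMul_zero]
      refine Eq.trans (Finset.prod_congr rfl fun y _ => ?_) (hnorm w.toMul)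
      show (zmodAut q (αM y) w).toMul = _
      rw [zmodAut_apply, toMul_ofMul]) C hC
  have h1 : Nat.card M = q ^ Module.finrank (ZMod q) (Additive M) := by
    rw [Nat.card_congr (Additive.ofMul (α := M)), Module.natCard_eq_pow_finrank (K := ZMod q),
      Nat.card_zmod]
  have h2 : Nat.card (σ.toMonoidHom.eqLocus (MonoidHom.id M)) =
      q ^ Module.finrank (ZMod q) C := by
    refine Eq.trans ?_ (Nat.card_zmod q ▸ Module.natCard_eq_pow_finrank (K := ZMod q) (V := C))
    refine Nat.card_congr (Equiv.subtypeEquiv Additive.ofMul fun m => ?_)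
    exact ⟨fun h => congrArg Additive.ofMul h, fun h => congrArg Additive.toMul h⟩
  rw [h1, h2, key, hEcard, ← pow_mul, mul_comm]

theorem card_eq_card_fixed_pow {q t : ℕ} [hq : Fact q.Prime] [ht : Fact t.Prime] (hqt : q ≠ t)
    {M : Type*} [CommGroup M] [Finite M] (hM : ∀ m : M, m ^ q = 1) {Y : Type*} [CommGroup Y]
    [Fintype Y] (hY : ¬ q ∣ Fintype.card Y) (αM : Y →* MulAut M)
    (hnorm : ∀ m, ∏ y, αM y m = 1) (σ : MulAut M) (τY : MulAut Y) (hσ : σ ^ t = 1)
    (hτY : τY ^ t = 1) (hfpf : ∀ y, τY y = y → y = 1) (hY1 : ∃ y : Y, y ≠ 1)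
    (hcompat : ∀ y m, σ (αM y m) = αM (τY y) (σ m)) :
    Nat.card M = Nat.card (σ.toMonoidHom.eqLocus (MonoidHom.id M)) ^ t :=
  @card_eq_card_fixed_pow_aux q t hq ht hqt M _ _
    (AddCommGroup.zmodModule fun v => by
      refine Additive.toMul.injective ?_
      rw [toMul_nsmul, toMul_zero]
      exact hM _) Y _ _ hY αM hnorm σ τY hσ hτY hfpf hY1 hcompat

/-- The commutation set of an endomorphism with all eigenvalues simple is commutative. -/
theorem commute_of_simple_spectrum {k : Type*} [Field k] {U : Type*} [AddCommGroup U] [Module k U]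
    [FiniteDimensional k U] {Γ : Module.End k U} (S : Finset k) (hS : Module.finrank k U ≤ S.card)
    (hv : ∀ α ∈ S, ∃ v : U, v ≠ 0 ∧ Γ v = α • v) {T₁ T₂ : Module.End k U}
    (h₁ : T₁ * Γ = Γ * T₁) (h₂ : T₂ * Γ = Γ * T₂) : T₁ * T₂ = T₂ * T₁ := by
  classical
  have hv' : ∀ α : S, ∃ v : U, v ≠ 0 ∧ Γ v = (α : k) • v := fun α => hv α α.2
  choose v hv0 hveq using hv'
  have hli : LinearIndependent k v := Module.End.eigenvectors_linearIndependent' Γ (fun α : S => (α : k))
    Subtype.val_injective v fun α => ⟨Module.End.mem_eigenspace_iff.2 (hveq α), hv0 α⟩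
  have hle := hli.fintype_card_le_finrank
  have hspan : Submodule.span k (Set.range v) = ⊤ := by
    refine hli.span_eq_top_of_card_eq_finrank' ?_
    rw [Fintype.card_coe] at hle ⊢
    omega
  let b := Module.Basis.mk hli hspan.ge
  have hb : ∀ α, b α = v α := fun α => Module.Basis.mk_apply hli _ α
  have heig : ∀ (T : Module.End k U), T * Γ = Γ * T → ∀ α, ∃ c : k, T (v α) = c • v α := by
    intro T hT α
    have h1 : Γ (T (v α)) = (α : k) • T (v α) := by
      rw [← Module.End.mul_apply, ← hT, Module.End.mul_apply, hveq, map_smul]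
    set c := fun γ => b.repr (T (v α)) γ with hc
    have hw : T (v α) = ∑ γ, c γ • v γ := by
      conv_lhs => rw [← b.sum_repr (T (v α))]
      exact Finset.sum_congr rfl fun γ _ => by rw [hb]
    have h0 : ∑ γ, (c γ * ((γ : k) - α)) • v γ = 0 := by
      have h2 : Γ (T (v α)) - (α : k) • T (v α) = 0 := sub_eq_zero.2 h1
      rw [hw, map_sum, Finset.smul_sum, ← Finset.sum_sub_distrib] at h2
      refine Eq.trans (Finset.sum_congr rfl fun γ _ => ?_) h2
      rw [map_smul, hveq, smul_smul, smul_smul, ← sub_smul]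
      congr 1
      ring
    have hz := Fintype.linearIndependent_iff.1 hli _ h0
    refine ⟨c α, ?_⟩
    rw [hw, Finset.sum_eq_single α]
    · intro γ _ hγ
      rw [(mul_eq_zero.1 (hz γ)).resolve_right fun e => hγ (Subtype.ext (sub_eq_zero.1 e)),
        zero_smul]
    · intro h; exact absurd (Finset.mem_univ _) h
  refine b.ext fun α => ?_
  obtain ⟨c₁, hc₁⟩ := heig T₁ h₁ α
  obtain ⟨c₂, hc₂⟩ := heig T₂ h₂ α
  rw [hb, Module.End.mul_apply, Module.End.mul_apply, hc₁, hc₂, map_smul, map_smul, hc₁, hc₂,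
    smul_comm]

section

variable {K : Type*} [Field K] [IsAlgClosed K] {W : Type*} [AddCommGroup W] [Module K W]
  [Nontrivial W] [FiniteDimensional K W] {q t : ℕ} [hq : Fact q.Prime] [ht : Fact t.Prime]
  {Q : Type*} [Group Q] [Finite Q] {Y : Type*} [CommGroup Y] [Finite Y]

/-- The central subgroup acting by scalars is fixed by whatever is intertwined. -/
theorem apply_eq_self_of_scalar {π : Q →* Module.End K W} (hinj : Function.Injective π) {z : Q}
    (hz : ∃ c : K, π z = c • 1) {η : MulAut Q} {B B' : Module.End K W} (hBB : B * B' = 1)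
    (hB : ∀ x, B * π x = π (η x) * B) : η z = z := by
  refine hinj ?_
  obtain ⟨c, hc⟩ := hz
  calc π (η z) = π (η z) * B * B' := by rw [mul_assoc, hBB, mul_one]
    _ = B * π z * B' := by rw [hB]
    _ = π z := by rw [hc, mul_smul_comm, mul_one, smul_mul_assoc, hBB]

/-- A scalar element is central. -/
theorem commute_of_scalar {π : Q →* Module.End K W} (hinj : Function.Injective π) {z : Q}
    (hz : ∃ c : K, π z = c • 1) (x : Q) : x * z = z * x := by
  refine hinj ?_
  obtain ⟨c, hc⟩ := hz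
  rw [map_mul, map_mul, hc, mul_smul_comm, mul_one, smul_mul_assoc, one_mul]

set_option maxHeartbeats 1000000 in
/-- No room for a group on which the automorphism acts fixed-point-freely. -/
theorem false_of_component_fpf (hqt : q ≠ t) (htK : (t : K) ≠ 0) (hqK : (q : K) ≠ 0)
    (hQ : IsPGroup q Q) (π : Q →* Module.End K W) (hinj : Function.Injective π) {Z : Subgroup Q}
    (hZ : ∀ z ∈ Z, ∃ c : K, π z = c • 1) (hD : ∀ x y : Q, ⁅x, y⁆ ∈ Z) (hexpQ : ∀ x : Q, x ^ q ∈ Z)
    (τ : MulAut Q) (hτ : τ ^ t = 1) (hτZ : ∀ z ∈ Z, τ z ∈ Z) {Γ : Module.End K W}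
    (hΓ : ∀ x, Γ * π x = π (τ x) * Γ) (hΓt : Γ ^ t = 1) (hfix : ∀ w, Γ w = w → w = 0)
    (hY : (Nat.card Y).Coprime q) (α : Y →* MulAut Q) (τY : MulAut Y) (hτY : τY ^ t = 1)
    (hfpf : ∀ y, τY y = y → y = 1) (hτα : ∀ y x, τ (α y x) = α (τY y) (τ x))
    (hL : Subgroup.closure {z : Q | ∃ y : Y, ∃ x : Q, x⁻¹ * α y x = z} = ⊤)
    (hne : ∃ x y : Q, x * y ≠ y * x) : False := by
  classical
  letI := Fintype.ofFinite Y
  have hΓinv : Γ * Γ ^ (t - 1) = 1 := by rw [← pow_succ', Nat.sub_add_cancel ht.out.pos, hΓt]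
  have hτfix : ∀ z ∈ Z, τ z = z := fun z hz =>
    apply_eq_self_of_scalar hinj (hZ z hz) hΓinv hΓ
  have hZc : Z ≤ Subgroup.center Q := fun z hz =>
    Subgroup.mem_center_iff.2 fun x => commute_of_scalar hinj (hZ z hz) x
  haveI hZn : Z.Normal := ⟨fun z hz g => by
    rw [Subgroup.mem_center_iff.1 (hZc hz) g, mul_inv_cancel_right]; exact hz⟩
  set R := Subgroup.center Q with hR
  haveI hRn : R.Normal := inferInstance
  have hcomm : ∀ (N : Subgroup Q) [N.Normal], Z ≤ N → ∀ a b : Q ⧸ N, a * b = b * a := by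
    intro N _ hN a b
    obtain ⟨x, rfl⟩ := QuotientGroup.mk_surjective a
    obtain ⟨y, rfl⟩ := QuotientGroup.mk_surjective b
    rw [← QuotientGroup.mk_mul, ← QuotientGroup.mk_mul, QuotientGroup.eq]
    have e : (x * y)⁻¹ * (y * x) = ⁅y⁻¹, x⁻¹⁆ := by rw [commutatorElement_def]; group
    rw [e]
    exact hN (hD _ _)
  letI : CommGroup (Q ⧸ Z) := { (inferInstance : Group (Q ⧸ Z)) with mul_comm := hcomm Z le_rfl }
  letI : CommGroup (Q ⧸ R) := { (inferInstance : Group (Q ⧸ R)) with mul_comm := hcomm R hZc }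
  have hRchar : ∀ (f : MulAut Q), ∀ x ∈ R, f x ∈ R := fun f x hx =>
    apply_mem_of_characteristic f R hx
  let autR : MulAut Q →* MulAut (Q ⧸ R) :=
    (quotientHom (⊤ : Subgroup (MulAut Q)) R fun y _ => hRchar y).comp
      Subgroup.topEquiv.symm.toMonoidHom
  have hautR : ∀ (f : MulAut Q) (x : Q), autR f (QuotientGroup.mk x) = QuotientGroup.mk (f x) :=
    fun f x => rfl
  set σ := autR τ with hσdef
  obtain ⟨σZ, hσZ⟩ := CfsgLib.FGS.exists_quotient_mulAut τ hτZ
  have hσZ1 : ∀ x : Q, σZ (QuotientGroup.mk' Z x) = QuotientGroup.mk' Z (τ x) := fun x => by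
    have h := hσZ 1 x
    rwa [pow_one, pow_one] at h
  -- the homomorphism `m ↦ m⁻¹ σ m` modulo `Z`
  let D : (Q ⧸ Z) →* Q ⧸ Z := σZ.toMonoidHom / MonoidHom.id _
  have hD' : ∀ x : Q, D (QuotientGroup.mk' Z x) = QuotientGroup.mk' Z (x⁻¹ * τ x) := fun x => by
    show σZ _ / _ = _
    rw [hσZ1, div_eq_mul_inv, mul_comm, map_mul, map_inv]; rfl
  have hord : ∀ m : Q ⧸ Z, m ^ t = 1 → m = 1 := fun m hm => by
    obtain ⟨i, hi⟩ := IsPGroup.iff_orderOf.1 (hQ.to_quotient Z) m
    refine orderOf_eq_one_iff.1 (Nat.eq_one_of_dvd_coprimes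
      (((Nat.coprime_primes ht.out hq.out).2 hqt.symm).pow_right i)
      (orderOf_dvd_of_pow_eq_one hm) (dvd_of_eq hi))
  have hDD : ∀ m, D (D m) = 1 → D m = 1 := by
    intro m hm
    have hfix' : σZ (D m) = D m := div_eq_one.1 (show σZ (D m) / D m = 1 from hm)
    have hstep' : σZ m = m * D m := by
      show σZ m = m * (σZ m / m)
      rw [mul_div_cancel]
    have hp : ∀ i : ℕ, (σZ ^ i) m = m * D m ^ i := by
      intro i
      induction i with
      | zero => simp
      | succ i ih =>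
        rw [pow_succ', MulAut.mul_apply, ih, map_mul, map_pow, hfix', hstep', pow_succ', mul_assoc]
    refine hord _ ?_
    have h := hp t
    obtain ⟨x, hx⟩ := QuotientGroup.mk'_surjective Z m
    rw [← hx, hσZ, hτ, MulAut.one_apply, hx] at h
    exact left_eq_mul.1 h
  set X : Subgroup Q := D.range.comap (QuotientGroup.mk' Z) with hX
  have hmemX : ∀ x : Q, x ∈ X ↔ ∃ u, QuotientGroup.mk' Z x = D u := fun x =>
    ⟨fun ⟨u, hu⟩ => ⟨u, hu.symm⟩, fun ⟨u, hu⟩ => ⟨u, hu.symm⟩⟩
  have hsurjD : ∀ u, ∃ v ∈ D.range, D v = D u := by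
    intro u
    let f : D.range → D.range := fun v => ⟨D v, ⟨v, rfl⟩⟩
    have hf : Function.Injective f := by
      rintro ⟨a, a', rfl⟩ ⟨b, b', rfl⟩ h
      refine Subtype.ext ?_
      have h' : D (D a') = D (D b') := congrArg Subtype.val h
      have h'' := hDD (a' / b') (by rw [map_div, map_div, h', div_self'])
      rw [map_div] at h''
      exact div_eq_one.1 h''
    obtain ⟨v, hv⟩ := (Finite.injective_iff_surjective.1 hf) ⟨D u, u, rfl⟩
    exact ⟨v, v.2, congrArg Subtype.val hv⟩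
  have hdecX : ∀ x ∈ X, ∃ u ∈ X, ∃ z ∈ Z, x = u⁻¹ * τ u * z := by
    intro x hx
    obtain ⟨u, hu⟩ := (hmemX x).1 hx
    obtain ⟨v, hv, hvu⟩ := hsurjD u
    obtain ⟨w, rfl⟩ := QuotientGroup.mk'_surjective Z v
    refine ⟨w, hv, (w⁻¹ * τ w)⁻¹ * x, ?_, by group⟩
    rw [← hu, hD'] at hvu
    exact QuotientGroup.eq.1 hvu
  have hgenX : ∀ u : Q, u⁻¹ * τ u ∈ X := fun u => (hmemX _).2 ⟨_, (hD' u).symm⟩
  have hZX : Z ≤ X := fun z hz => (hmemX z).2 ⟨1, by
    rw [map_one]; exact (QuotientGroup.eq_one_iff z).2 hz⟩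
  -- elements fixed modulo the centre commute with `X`
  have hXc : ∀ c : Q, c⁻¹ * τ c ∈ R → ∀ x ∈ X, c * x = x * c := by
    intro c hc x hx
    obtain ⟨u, -, z, hz, rfl⟩ := hdecX x hx
    have h1 : τ u * c * (τ u)⁻¹ * c⁻¹ = u * c * u⁻¹ * c⁻¹ := by
      have e : τ ⁅u, c⁆ = ⁅u, c⁆ := hτfix _ (hD u c)
      rw [map_commutatorElement] at e
      rw [commutatorElement_def, commutatorElement_def] at e
      rw [← e]
      obtain ⟨r, hr⟩ : ∃ r, r = c⁻¹ * τ c := ⟨_, rfl⟩
      have hτc : τ c = c * r := by rw [hr]; group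
      have hrc : ∀ g, g * r = r * g := fun g => Subgroup.mem_center_iff.1 (hr ▸ hc) g
      rw [hτc]
      calc τ u * c * (τ u)⁻¹ * c⁻¹ = τ u * c * ((τ u)⁻¹ * r) * (r⁻¹ * c⁻¹) := by group
        _ = τ u * c * (r * (τ u)⁻¹) * (r⁻¹ * c⁻¹) := by rw [hrc]
        _ = _ := by group
    have h2 : c * (u⁻¹ * τ u) = u⁻¹ * τ u * c := by
      have h3 : τ u * c * (τ u)⁻¹ = u * c * u⁻¹ := mul_right_cancel h1
      calc c * (u⁻¹ * τ u) = u⁻¹ * (u * c * u⁻¹) * τ u := by group
        _ = u⁻¹ * (τ u * c * (τ u)⁻¹) * τ u := by rw [h3]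
        _ = _ := by group
    rw [← mul_assoc c, h2, mul_assoc, Subgroup.mem_center_iff.1 (hZc hz) c, ← mul_assoc]
  have hdecQ : ∀ g : Q, ∃ u ∈ X, (u⁻¹ * g)⁻¹ * τ (u⁻¹ * g) ∈ Z := by
    intro g
    obtain ⟨v, hv, hvu⟩ := hsurjD (QuotientGroup.mk' Z g)
    obtain ⟨w, rfl⟩ := QuotientGroup.mk'_surjective Z v
    refine ⟨w, hv, ?_⟩
    rw [← QuotientGroup.eq_one_iff]
    show QuotientGroup.mk' Z _ = 1
    rw [← hD', map_mul, map_inv, map_mul, map_inv, hvu, inv_mul_cancel]
  -- modulo the centre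
  let αR : Y →* MulAut (Q ⧸ R) := autR.comp α
  have hnorm : ∀ m : Q ⧸ R, ∏ y : Y, αR y m = 1 := by
    let N : Q →* Q ⧸ R :=
      { toFun := fun x => ∏ y : Y, αR y (QuotientGroup.mk x)
        map_one' := by simp
        map_mul' := fun a b => by simp [Finset.prod_mul_distrib] }
    have hN : Subgroup.closure {z : Q | ∃ y : Y, ∃ x : Q, x⁻¹ * α y x = z} ≤ N.ker := by
      rw [Subgroup.closure_le]
      rintro _ ⟨y, x, rfl⟩
      show N (x⁻¹ * α y x) = 1
      rw [map_mul, map_inv, inv_mul_eq_one]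
      refine (Fintype.prod_equiv (Equiv.mulRight y) _ _ fun y' => ?_).symm
      rw [Equiv.coe_mulRight, map_mul, MulAut.mul_apply]
      rfl
    intro m
    obtain ⟨x, rfl⟩ := QuotientGroup.mk_surjective m
    exact hN (hL ▸ Subgroup.mem_top x)
  have hY1 : ∃ y : Y, y ≠ 1 := by
    by_contra hcon
    push Not at hcon
    obtain ⟨a, b, hab⟩ := hne
    have h : Subgroup.closure {z : Q | ∃ y : Y, ∃ x : Q, x⁻¹ * α y x = z} ≤ ⊥ := by
      rw [Subgroup.closure_le]
      rintro _ ⟨y, x, rfl⟩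
      rw [hcon y, map_one, MulAut.one_apply, inv_mul_cancel]
      exact Subgroup.one_mem _
    rw [hL] at h
    exact hab (by
      rw [Subgroup.mem_bot.1 (h (Subgroup.mem_top a)), Subgroup.mem_bot.1 (h (Subgroup.mem_top b))])
  have hfree := card_eq_card_fixed_pow (q := q) (t := t) hqt (M := Q ⧸ R)
    (fun m => by
      obtain ⟨x, rfl⟩ := QuotientGroup.mk_surjective m
      rw [← QuotientGroup.mk_pow, QuotientGroup.eq_one_iff]
      exact hZc (hexpQ x))
    (fun h => hq.out.ne_one (Nat.eq_one_of_dvd_coprimes hY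
      (by rwa [Nat.card_eq_fintype_card]) dvd_rfl))
    αR hnorm σ τY (by rw [hσdef, ← map_pow, hτ, map_one]) hτY hfpf hY1
    (fun y m => by
      obtain ⟨x, rfl⟩ := QuotientGroup.mk_surjective m
      show autR τ (autR (α y) _) = autR (α (τY y)) (autR τ _)
      rw [hautR, hautR, hautR, hautR, hτα])
  set C₀ := σ.toMonoidHom.eqLocus (MonoidHom.id (Q ⧸ R)) with hC₀
  let D₁ : (Q ⧸ R) →* Q ⧸ R := σ.toMonoidHom / MonoidHom.id _
  have hD₁ : ∀ x : Q, D₁ (QuotientGroup.mk x) = QuotientGroup.mk (x⁻¹ * τ x) := fun x => by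
    show σ _ / _ = _
    rw [hσdef, hautR, QuotientGroup.mk_mul, QuotientGroup.mk_inv, div_eq_mul_inv, mul_comm]
    rfl
  have hker : Nat.card C₀ * Nat.card D₁.range = Nat.card (Q ⧸ R) := by
    have h : D₁.ker = C₀ := SetLike.ext fun m => by
      show σ m / m = 1 ↔ σ m = m
      exact div_eq_one
    rw [← h, ← Subgroup.index_ker]
    exact D₁.ker.card_mul_index
  have hQR : 1 < Nat.card (Q ⧸ R) := by
    haveI : Nontrivial (Q ⧸ R) := QuotientGroup.nontrivial_iff.2 fun h => by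
      obtain ⟨a, b, hab⟩ := hne
      exact hab (Subgroup.mem_center_iff.1 (h ▸ Subgroup.mem_top b : b ∈ R) a)
    exact Finite.one_lt_card
  -- the restriction to `X`
  have hτX : ∀ x ∈ X, τ x ∈ X := fun x hx => by
    rw [show τ x = x * (x⁻¹ * τ x) by group]
    exact X.mul_mem hx (hgenX x)
  obtain ⟨γ, hγ⟩ := CfsgLib.FGS.exists_restrict_mulAut τ hτX
  have hγ1 : ∀ x : X, ((γ x : X) : Q) = τ x := fun x => by
    have h := hγ 1 x
    rwa [pow_one, pow_one] at h
  have hXK : (Nat.card X : K) ≠ 0 := by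
    obtain ⟨i, hi⟩ := (hQ.to_subgroup X).exists_card_eq
    rw [hi, Nat.cast_pow]; exact pow_ne_zero _ hqK
  have hτ' : γ ^ (t ^ (1 - 1)) = γ := by simp
  set CX := Z.subgroupOf X with hCX
  have hcd := component_data (p := t) (M := 1) one_pos htK hXK (C := CX)
    (fun z hz => Subgroup.mem_center_iff.2 fun x => Subtype.ext
      (Subgroup.mem_center_iff.1 (hZc (Subgroup.mem_subgroupOf.1 hz)) x))
    (fun x y => Subgroup.mem_subgroupOf.2 (hD x y)) γ
    (MulEquiv.ext fun x => Subtype.ext (by rw [pow_one, hγ, hτ]; rfl))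
    (by
      rw [hτ']
      exact fun z hz => Subtype.ext (by rw [hγ1, hτfix _ (Subgroup.mem_subgroupOf.1 hz)]))
    (by
      rw [hτ']
      intro x hx
      rw [hCX, Subgroup.mem_subgroupOf] at hx ⊢
      have h1 : D (QuotientGroup.mk' Z (x : Q)) = 1 := by
        rw [hD']
        refine (QuotientGroup.eq_one_iff _).2 ?_
        rw [← hγ1]
        exact hx
      obtain ⟨u, hu⟩ := (hmemX _).1 x.2
      rw [hu] at h1
      exact (QuotientGroup.eq_one_iff _).1 (hu.trans (hDD u h1)))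
    (by
      rw [hτ']
      refine eq_top_iff.2 fun x _ => ?_
      obtain ⟨u, hu, z, hz, he⟩ := hdecX x x.2
      have e : x = (⟨u, hu⟩ : X)⁻¹ * γ ⟨u, hu⟩ * ⟨z, hZX hz⟩ :=
        Subtype.ext (by simp only [Subgroup.coe_mul, Subgroup.coe_inv, hγ1]; exact he)
      rw [e]
      exact mul_mem (Subgroup.mem_sup_left (Subgroup.subset_closure ⟨_, rfl⟩))
        (Subgroup.mem_sup_right (Subgroup.mem_subgroupOf.2 hz)))
    (fun z hz => Subgroup.mem_subgroupOf.2 (by
      rw [hγ1]; exact hτZ _ (Subgroup.mem_subgroupOf.1 hz)))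
    (π.comp X.subtype) (fun z hz => hZ _ (Subgroup.mem_subgroupOf.1 hz)) (Γ := Γ)
    (fun y => by show Γ * π y = π (γ y : X) * Γ; rw [hγ1]; exact hΓ y)
    (by rw [pow_one]; exact hΓt) hfix
  rcases hcd with hleft | ⟨R', hR'n, hR', -, -, -, -, -, hcard, -⟩
  · rw [hτ'] at hleft
    have h1 : ∀ x ∈ X, τ x = x := fun x hx => hinj (by
      have h := hleft ⟨x, hx⟩
      simpa [hγ1] using h)
    have h2 : C₀ = ⊤ := eq_top_iff.2 fun m _ => by
      obtain ⟨g, rfl⟩ := QuotientGroup.mk_surjective m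
      obtain ⟨u, hu, z, hz, he⟩ := hdecX _ (hgenX g)
      rw [h1 u hu, inv_mul_cancel, one_mul] at he
      show σ _ = _
      rw [hσdef, hautR]
      exact (QuotientGroup.eq.2 (hZc (by rw [he]; exact hz))).symm
    rw [h2, Subgroup.card_top] at hfree
    exact absurd hfree (by
      have := Nat.pow_lt_pow_right hQR ht.out.one_lt
      rw [pow_one] at this
      exact this.ne)
  let f : X →* Q ⧸ R := (QuotientGroup.mk' R).comp X.subtype
  have hfker : f.ker = R' := by
    refine SetLike.ext fun x => ?_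
    rw [hR']
    refine ⟨fun h y => ?_, fun h => ?_⟩
    · have hx : (x : Q) ∈ R := (QuotientGroup.eq_one_iff (x : Q)).1 h
      show π ((⁅x, y⁆ : X) : Q) = 1
      rw [show ((⁅x, y⁆ : X) : Q) = 1 by
        show ⁅(x : Q), (y : Q)⁆ = 1
        exact commutatorElement_eq_one_iff_mul_comm.2 (Subgroup.mem_center_iff.1 hx y).symm,
        map_one]
    · refine (QuotientGroup.eq_one_iff (x : Q)).2 (Subgroup.mem_center_iff.2 fun g => ?_)
      obtain ⟨u, hu, hc⟩ := hdecQ g
      have h3 : u * x = (x : Q) * u := by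
        have h4 : π ⁅(x : Q), u⁆ = π 1 := (h ⟨u, hu⟩).trans (map_one π).symm
        exact (commutatorElement_eq_one_iff_mul_comm.1 (hinj h4)).symm
      have h5 := hXc _ (hZc hc) x x.2
      calc g * (x : Q) = u * (u⁻¹ * g * x) := by group
        _ = u * x * (u⁻¹ * g) := by rw [h5, mul_assoc]
        _ = (x : Q) * g := by rw [h3]; group
  have hfrange : f.range = D₁.range := by
    refine le_antisymm ?_ ?_
    · rintro _ ⟨x, rfl⟩
      obtain ⟨u, -, z, hz, he⟩ := hdecX x x.2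
      refine ⟨QuotientGroup.mk u, ?_⟩
      rw [hD₁]
      refine QuotientGroup.eq.2 ?_
      show (u⁻¹ * τ u)⁻¹ * (x : Q) ∈ R
      rw [he, inv_mul_cancel_left]
      exact hZc hz
    · rintro _ ⟨m, rfl⟩
      obtain ⟨u, rfl⟩ := QuotientGroup.mk_surjective m
      exact ⟨⟨_, hgenX u⟩, (hD₁ u).symm⟩
  have hrange : Nat.card D₁.range = (t - 1) ^ 2 := by
    rw [← hfrange, ← Subgroup.index_ker, hfker]
    rw [pow_one] at hcard
    exact hcard
  obtain ⟨e, he⟩ := ((hQ.to_quotient R).to_subgroup C₀).exists_card_eq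
  have he0 : 0 < e := by
    refine Nat.pos_of_ne_zero fun h => ?_
    rw [he, h, pow_zero, one_pow] at hfree
    omega
  have hn : (t - 1) ^ 2 = q ^ (e * (t - 1)) := by
    have h6 : q ^ e * (t - 1) ^ 2 = q ^ e * q ^ (e * (t - 1)) := by
      rw [← hrange, ← pow_add, ← he, hker, hfree, he, ← pow_mul]
      congr 1
      obtain ⟨n, hn⟩ : ∃ n, t = n + 1 := ⟨t - 1, (Nat.sub_add_cancel ht.out.pos).symm⟩
      subst hn
      rw [Nat.add_sub_cancel]; ring
    exact Nat.eq_of_mul_eq_mul_left (pow_pos hq.out.pos _) h6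
  obtain ⟨a, -, ha⟩ := (Nat.dvd_prime_pow hq.out).1
    (hn ▸ dvd_pow_self _ two_ne_zero : t - 1 ∣ q ^ (e * (t - 1)))
  rw [ha, ← pow_mul] at hn
  have ha2 := Nat.pow_right_injective hq.out.two_le hn
  have h2a : 2 ^ a ≤ q ^ a := Nat.pow_le_pow_left hq.out.two_le a
  have he1 : e = 1 := by
    by_contra h
    have h7 : 2 * q ^ a ≤ e * q ^ a := Nat.mul_le_mul_right _ (by omega)
    have := Nat.lt_two_pow_self (n := a)
    omega
  have hq2 : q = 2 := by
    by_contra h
    have h8 : ∀ n, 2 * n < 3 ^ n := by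
      intro n
      induction n with
      | zero => simp
      | succ n ih => rw [pow_succ]; have := Nat.one_le_pow n 3 (by norm_num); omega
    have h9 : 3 ^ a ≤ q ^ a := Nat.pow_le_pow_left (by have := hq.out.two_le; omega) a
    have := h8 a
    rw [he1, one_mul] at ha2
    omega
  rw [he1, pow_one, hq2] at he
  obtain ⟨⟨c₁, hc₁⟩, hc₁1⟩ := (one_ne_bot_of_card he)
  obtain ⟨c, rfl⟩ := QuotientGroup.mk_surjective c₁
  refine hc₁1 (Subtype.ext ((QuotientGroup.eq_one_iff c).2 (Subgroup.mem_center_iff.2 fun g => ?_)))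
  have hcR : c⁻¹ * τ c ∈ R := by
    have h : σ (QuotientGroup.mk c) = QuotientGroup.mk c := hc₁
    rw [hσdef, hautR] at h
    exact QuotientGroup.eq.1 h.symm
  obtain ⟨u, hu, hgu⟩ := hdecQ g
  have hgC : (QuotientGroup.mk (u⁻¹ * g) : Q ⧸ R) ∈ C₀ := by
    show σ _ = _
    rw [hσdef, hautR]
    exact (QuotientGroup.eq.2 (hZc hgu)).symm
  have htwo : ∀ m : C₀, m = 1 ∨ m = ⟨_, hc₁⟩ := by
    intro m
    by_contra hcon
    push Not at hcon
    letI := Fintype.ofFinite C₀
    have h3 : 3 ≤ Nat.card C₀ := by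
      rw [Nat.card_eq_fintype_card]
      have hs : ({1, m, ⟨_, hc₁⟩} : Finset C₀).card = 3 := by
        rw [Finset.card_eq_three]
        exact ⟨1, m, ⟨_, hc₁⟩, hcon.1.symm, fun h => hc₁1 h.symm, hcon.2, rfl⟩
      exact hs ▸ Finset.card_le_univ _
    omega
  have hcomc : c * (u⁻¹ * g) = u⁻¹ * g * c := by
    rcases htwo ⟨_, hgC⟩ with h | h
    · exact Subgroup.mem_center_iff.1
        ((QuotientGroup.eq_one_iff _).1 (congrArg Subtype.val h)) c
    · have h' : (u⁻¹ * g)⁻¹ * c ∈ R := QuotientGroup.eq.1 (congrArg Subtype.val h)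
      have h'' := Subgroup.mem_center_iff.1 h' (u⁻¹ * g)
      generalize u⁻¹ * g = w at h''
      rw [mul_inv_cancel_left] at h''
      calc c * w = w * (w⁻¹ * c * w) := by group
        _ = w * c := by rw [← h'']
  calc g * c = u * (u⁻¹ * g * c) := by group
    _ = u * c * (u⁻¹ * g) := by rw [← hcomc, mul_assoc]
    _ = c * g := by rw [← hXc c hcR u hu]; group
where
  one_ne_bot_of_card {G : Type _} [Group G] (h : Nat.card G = 2) : ∃ x : G, x ≠ 1 := by
    haveI : Finite G := Nat.finite_of_card_ne_zero (by omega)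
    haveI : Nontrivial G := Finite.one_lt_card_iff_nontrivial.1 (by omega)
    exact exists_ne 1

set_option maxHeartbeats 1000000 in
/-- No room for a group centralised by the automorphism. -/
theorem false_of_component_comm (hqt : q ≠ t) (htK : (t : K) ≠ 0) (hqK : (q : K) ≠ 0)
    (hQ : IsPGroup q Q) (π : Q →* Module.End K W) (hinj : Function.Injective π) {Z : Subgroup Q}
    (hZ : ∀ z ∈ Z, ∃ c : K, π z = c • 1) (hD : ∀ x y : Q, ⁅x, y⁆ ∈ Z)
    (τ : MulAut Q) (hτ : τ ^ t = 1) (hτZ : ∀ z ∈ Z, τ z ∈ Z)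
    (hτfpf : ∀ x, x⁻¹ * τ x ∈ Z → x ∈ Z) {Γ : Module.End K W}
    (hΓ : ∀ x, Γ * π x = π (τ x) * Γ) (hΓt : Γ ^ t = 1) (hfix : ∀ w, Γ w = w → w = 0)
    (hY : (Nat.card Y).Coprime t) (α : Y →* MulAut Q) (hτα : ∀ y, Commute τ (α y))
    (hB : ∀ y, ∃ B B' : Module.End K W, B * B' = 1 ∧ ∀ x, B * π x = π (α y x) * B)
    (hL : Subgroup.closure {z : Q | ∃ y : Y, ∃ x : Q, x⁻¹ * α y x = z} = ⊤)
    (hne : ∃ x y : Q, x * y ≠ y * x) : False := by
  classical
  have hΓinv : Γ * Γ ^ (t - 1) = 1 := by rw [← pow_succ', Nat.sub_add_cancel ht.out.pos, hΓt]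
  have hτfix : ∀ z ∈ Z, τ z = z := fun z hz =>
    apply_eq_self_of_scalar hinj (hZ z hz) hΓinv hΓ
  have hZc : Z ≤ Subgroup.center Q := fun z hz =>
    Subgroup.mem_center_iff.2 fun x => commute_of_scalar hinj (hZ z hz) x
  haveI hZn : Z.Normal := ⟨fun z hz g => by
    rw [Subgroup.mem_center_iff.1 (hZc hz) g, mul_inv_cancel_right]; exact hz⟩
  have hgen : Subgroup.closure (Set.range fun x : Q => x⁻¹ * τ x) ⊔ Z = ⊤ := by
    obtain ⟨g, hg⟩ := CfsgLib.FGS.exists_quotient_mulAut τ hτZ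
    have hgfpf : ∀ m, g m = m → m = 1 := fun m hm => by
      obtain ⟨x, rfl⟩ := QuotientGroup.mk'_surjective Z m
      have h := hg 1 x
      rw [pow_one, pow_one, hm] at h
      exact (QuotientGroup.eq_one_iff x).2 (hτfpf x (QuotientGroup.eq.1 h))
    refine eq_top_iff.2 fun x _ => ?_
    obtain ⟨m, hm⟩ := (CfsgLib.FGS.bijective_inv_mul_apply g hgfpf).2 (QuotientGroup.mk' Z x)
    obtain ⟨u, rfl⟩ := QuotientGroup.mk'_surjective Z m
    have h1 := hg 1 u
    rw [pow_one, pow_one] at h1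
    simp only [h1, ← map_inv, ← map_mul] at hm
    rw [show x = (u⁻¹ * τ u) * ((u⁻¹ * τ u)⁻¹ * x) by group]
    exact mul_mem (Subgroup.mem_sup_left (Subgroup.subset_closure ⟨u, rfl⟩))
      (Subgroup.mem_sup_right (QuotientGroup.eq.1 hm))
  have hτ' : τ ^ (t ^ (1 - 1)) = τ := by simp
  have hQK : (Nat.card Q : K) ≠ 0 := by
    obtain ⟨i, hi⟩ := hQ.exists_card_eq
    rw [hi, Nat.cast_pow]; exact pow_ne_zero _ hqK
  rcases component_data (p := t) (M := 1) one_pos htK hQK hZc hD τ (by rw [pow_one]; exact hτ)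
    (by rw [hτ']; exact hτfix) (by rw [hτ']; exact hτfpf) (by rw [hτ']; exact hgen) hτZ π hZ hΓ
    (by rw [pow_one]; exact hΓt) hfix with
    hleft | ⟨R, hRn, hRmem, hZR, hτR, hRs, hτfpfR, hnd, hcard, U, hU, hUnt, hirr, Γ₀, α₀, hΓ₀, hΓ₀t,
      hspec⟩
  · rw [hτ'] at hleft
    obtain ⟨a, b, hab⟩ := hne
    refine hab (Subgroup.mem_center_iff.1 (hZc (hτfpf b ?_)) a)
    rw [hinj (hleft b), inv_mul_cancel]
    exact Z.one_mem
  rw [hτ'] at hτfpfR
  rw [pow_one] at hΓ₀t hspec hcard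
  haveI := hRn
  haveI := hUnt
  set π₀ := restrictRep π U hU with hπ₀
  have hR0 : ∀ r ∈ R, ∃ c : K, π₀ r = c • 1 := fun r hr =>
    (hRs r hr).imp fun c hc => restrictRep_smul π U hU hc
  have hDR : ∀ x y : Q, ⁅x, y⁆ ∈ R := fun x y => hZR (hD x y)
  have hnd0 : ∀ x : Q, x ∉ R → ∃ y : Q, π₀ ⁅y, x⁆ ≠ 1 := fun x hx => by
    obtain ⟨y, hy⟩ := hnd x hx
    obtain ⟨c, hc⟩ := hZ _ (hD y x)
    refine ⟨y, fun h => hy ?_⟩
    rw [hπ₀, restrictRep_smul π U hU hc] at h
    obtain ⟨w, hw⟩ := exists_ne (0 : U)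
    have hc1 : c = 1 := smul_left_injective K hw
      (show c • w = (1 : K) • w by simpa using LinearMap.congr_fun h w)
    rw [hc, hc1, one_smul]
  -- dimensions
  letI := Fintype.ofFinite (Q ⧸ R)
  have hind := rep_section_independent π₀ hR0 hDR hnd0 (fun u : Q ⧸ R => u.out) fun u => u.out_eq'
  have hdim : Module.finrank K U = t - 1 := by
    have h : Module.finrank K U * Module.finrank K U = (t - 1) ^ 2 := by
      rw [← Module.finrank_linearMap K K U U, ← hcard,
        Module.finrank_eq_card_basis (Module.Basis.mk hind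
          (rep_section_span π₀ hR0 hDR hnd0 hQK hirr (fun u : Q ⧸ R => u.out)
            fun u => u.out_eq').ge), Nat.card_eq_fintype_card]
    rw [← sq] at h
    exact (Nat.pow_left_injective two_ne_zero) h
  obtain ⟨ζ, hζ⟩ : ∃ ζ : K, IsPrimitiveRoot ζ t := by
    haveI : NeZero (t : K) := ⟨htK⟩
    exact HasEnoughRootsOfUnity.exists_primitiveRoot K t
  set S := ((Finset.range t).image fun i => ζ ^ i).erase α₀ with hS
  have hScard : t - 1 ≤ S.card := by
    have h : ((Finset.range t).image fun i => ζ ^ i).card = t := by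
      rw [Finset.card_image_of_injOn, Finset.card_range]
      intro i hi j hj h
      exact hζ.pow_inj (Finset.mem_range.1 hi) (Finset.mem_range.1 hj) h
    rw [hS]
    have := Finset.pred_card_le_card_erase (a := α₀) (s := (Finset.range t).image fun i => ζ ^ i)
    omega
  have hcommutant : ∀ {T₁ T₂ : Module.End K U}, T₁ * Γ₀ = Γ₀ * T₁ → T₂ * Γ₀ = Γ₀ * T₂ →
      T₁ * T₂ = T₂ * T₁ := fun h₁ h₂ => by
    refine commute_of_simple_spectrum S (hdim ▸ hScard) (fun a ha => ?_) h₁ h₂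
    rw [hS, Finset.mem_erase, Finset.mem_image] at ha
    obtain ⟨ha0, i, -, rfl⟩ := ha
    exact hspec _ (by rw [← pow_mul, mul_comm, pow_mul, hζ.pow_eq_one, one_pow]) ha0
  -- every element of `Y` fixes every class
  have hτpowR : ∀ i : ℕ, ∀ r ∈ R, (τ ^ i) r ∈ R := CfsgLib.FGS.pow_apply_mem hτR
  have hsemi : ∀ x, x ∉ R → ∀ j, 0 < j → j < t → x⁻¹ * (τ ^ j) x ∉ R := by
    intro x hx j hj hjt hjR
    obtain ⟨g, hg⟩ := CfsgLib.FGS.exists_quotient_mulAut τ hτR
    have h1 : (g ^ j) (QuotientGroup.mk' R x) = QuotientGroup.mk' R x := by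
      rw [hg]; exact (QuotientGroup.eq.2 hjR).symm
    have hgt : g ^ t = 1 := MulEquiv.ext fun m => by
      obtain ⟨v, rfl⟩ := QuotientGroup.mk'_surjective R m
      rw [hg, hτ]; rfl
    obtain ⟨m, hm⟩ := exists_pow_eq_self_of_coprime (x := g) (n := j)
      (Nat.Coprime.coprime_dvd_right (orderOf_dvd_of_pow_eq_one hgt)
        ((ht.out.coprime_iff_not_dvd).2 (Nat.not_dvd_of_pos_of_lt hj hjt)).symm)
    have h2 := pow_apply_fixed h1 m
    rw [hm] at h2
    have h3 := hg 1 x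
    rw [pow_one, pow_one, h2] at h3
    exact hx (hτfpfR x (QuotientGroup.eq.1 h3))
  have hmain : ∀ (y : Y) (x : Q), x⁻¹ * α y x ∈ R := by
    intro y
    set η := α y with hη
    obtain ⟨B₀, B₀', hBB, hBπ⟩ := hB y
    have hηR : ∀ r ∈ R, η r = r := fun r hr => apply_eq_self_of_scalar hinj (hRs r hr) hBB hBπ
    have hηm : η ^ Nat.card Y = 1 := by rw [hη, ← map_pow, pow_card_eq_one', map_one]
    obtain ⟨B, hBρ, hBm⟩ := exists_intertwiner π₀ hR0 hDR hnd0 hirr η
      (fun r hr => by rw [hηR r hr]; exact hr) (fun r hr => by rw [hηR r hr]) Nat.card_pos hηm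
    have hBinv : B * B ^ (Nat.card Y - 1) = 1 := by
      rw [← pow_succ', Nat.sub_add_cancel Nat.card_pos, hBm]
    have hBinv' : B ^ (Nat.card Y - 1) * B = 1 := by
      rw [← pow_succ, Nat.sub_add_cancel Nat.card_pos, hBm]
    have hΓ₀inv : Γ₀ * Γ₀ ^ (t - 1) = 1 := by
      rw [← pow_succ', Nat.sub_add_cancel ht.out.pos, hΓ₀t]
    have hΓ₀inv' : Γ₀ ^ (t - 1) * Γ₀ = 1 := by
      rw [← pow_succ, Nat.sub_add_cancel ht.out.pos, hΓ₀t]
    obtain ⟨c, hc⟩ := schur_scalar π₀ hirr (T := Γ₀ ^ (t - 1) * B ^ (Nat.card Y - 1) * Γ₀ * B)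
      (fun x => by
        set Γ' := Γ₀ ^ (t - 1)
        set B' := B ^ (Nat.card Y - 1)
        have eΓ : ∀ v, Γ' * π₀ (τ v) = π₀ v * Γ' := fun v => by
          calc Γ' * π₀ (τ v) = Γ' * (π₀ (τ v) * Γ₀) * Γ' := by
                rw [mul_assoc, mul_assoc (π₀ (τ v)), hΓ₀inv, mul_one]
            _ = Γ' * (Γ₀ * π₀ v) * Γ' := by rw [hΓ₀]
            _ = _ := by rw [← mul_assoc Γ', hΓ₀inv', one_mul]
        have eB : ∀ v, B' * π₀ (η v) = π₀ v * B' := fun v => by
          calc B' * π₀ (η v) = B' * (π₀ (η v) * B) * B' := by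
                rw [mul_assoc, mul_assoc (π₀ (η v)), hBinv, mul_one]
            _ = B' * (B * π₀ v) * B' := by rw [hBρ]
            _ = _ := by rw [← mul_assoc B', hBinv', one_mul]
        calc Γ' * B' * Γ₀ * B * π₀ x = Γ' * B' * (Γ₀ * π₀ (η x)) * B := by
              rw [mul_assoc _ B, hBρ]; simp only [mul_assoc]
          _ = Γ' * (B' * π₀ (η (τ x))) * Γ₀ * B := by
              rw [hΓ₀, show τ (η x) = η (τ x) from DFunLike.congr_fun (hτα y) x]
              simp only [mul_assoc]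
          _ = π₀ x * (Γ' * B' * Γ₀ * B) := by
              rw [eB, ← mul_assoc Γ', eΓ]; simp only [mul_assoc])
    have hΓB : Γ₀ * B = c • (B * Γ₀) := by
      calc Γ₀ * B = B * Γ₀ * (Γ₀ ^ (t - 1) * B ^ (Nat.card Y - 1) * Γ₀ * B) := by
            simp only [← mul_assoc]
            rw [mul_assoc B, hΓ₀inv, mul_one, hBinv, one_mul]
        _ = c • (B * Γ₀) := by rw [hc, mul_smul_comm, mul_one]
    have hc1 : c = 1 := by
      have hp1 : ∀ i, Γ₀ ^ i * B = c ^ i • (B * Γ₀ ^ i) := by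
        intro i
        induction i with
        | zero => simp
        | succ i ih =>
          rw [pow_succ', mul_assoc, ih, mul_smul_comm, ← mul_assoc, hΓB, smul_mul_assoc, smul_smul,
            mul_assoc B, ← pow_succ]
      have hp2 : ∀ i, Γ₀ * B ^ i = c ^ i • (B ^ i * Γ₀) := by
        intro i
        induction i with
        | zero => simp
        | succ i ih =>
          rw [pow_succ, ← mul_assoc, ih, smul_mul_assoc, mul_assoc, hΓB, mul_smul_comm, smul_smul,
            ← mul_assoc, ← pow_succ, ← pow_succ]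
      have hB0 : B ≠ 0 := fun h => by
        rw [h, zero_mul] at hBinv; exact zero_ne_one hBinv
      have hΓ0 : Γ₀ ≠ 0 := fun h => by
        rw [h, zero_mul] at hΓ₀inv; exact zero_ne_one hΓ₀inv
      have h1 : c ^ t = 1 := by
        have h := hp1 t
        rw [hΓ₀t, one_mul, mul_one] at h
        exact (smul_left_injective K hB0 ((one_smul K B).trans h)).symm
      have h2 : c ^ Nat.card Y = 1 := by
        have h := hp2 (Nat.card Y)
        rw [hBm, one_mul, mul_one] at h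
        exact (smul_left_injective K hΓ0 ((one_smul K Γ₀).trans h)).symm
      exact orderOf_eq_one_iff.1 (Nat.eq_one_of_dvd_coprimes hY
        (orderOf_dvd_of_pow_eq_one h2) (orderOf_dvd_of_pow_eq_one h1))
    rw [hc1, one_smul] at hΓB
    intro x
    by_cases hxR : x ∈ R
    · rw [hηR x hxR, inv_mul_cancel]; exact R.one_mem
    -- the orbit sum
    let S₁ : Q → Module.End K U := fun v => ∑ i ∈ Finset.range t, π₀ ((τ ^ i) v)
    have hS₁ : ∀ v, S₁ v * Γ₀ = Γ₀ * S₁ v := by
      intro v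
      simp only [S₁, Finset.sum_mul, Finset.mul_sum]
      obtain ⟨n, hn⟩ : ∃ n, t = n + 1 := ⟨t - 1, (Nat.sub_add_cancel ht.out.pos).symm⟩
      have e : ∀ i, Γ₀ * π₀ ((τ ^ i) v) = π₀ ((τ ^ (i + 1)) v) * Γ₀ := fun i => by
        rw [hΓ₀, pow_succ', MulAut.mul_apply]
      simp only [e]
      rw [hn]
      conv_lhs => rw [Finset.sum_range_succ']
      conv_rhs => rw [Finset.sum_range_succ, ← hn, hτ]
      rw [pow_zero]
    have hηS : B * S₁ x = S₁ (η x) * B := by
      simp only [S₁, Finset.sum_mul, Finset.mul_sum]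
      refine Finset.sum_congr rfl fun i _ => ?_
      rw [hBρ]
      congr 2
      exact (DFunLike.congr_fun ((hτα y).pow_left i) x).symm
    have hSS : S₁ x = S₁ (η x) := by
      have h := hcommutant (T₁ := B) (T₂ := S₁ x) hΓB.symm (hS₁ x)
      rw [hηS] at h
      calc S₁ x = S₁ x * B * B ^ (Nat.card Y - 1) := by rw [mul_assoc, hBinv, mul_one]
        _ = S₁ (η x) * B * B ^ (Nat.card Y - 1) := by rw [h]
        _ = _ := by rw [mul_assoc, hBinv, mul_one]
    have horb : ∃ i, (QuotientGroup.mk' R (η x)) = QuotientGroup.mk' R ((τ ^ i) x) := by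
      by_contra hcon
      push Not at hcon
      set m₀ : Q ⧸ R := QuotientGroup.mk' R x with hm₀
      let s : Q ⧸ R → Q := fun m => if m = m₀ then x else m.out
      have hs : ∀ m, QuotientGroup.mk (s m) = m := fun m => by
        by_cases h : m = m₀
        · simp only [s, if_pos h]; exact h.symm
        · simp only [s, if_neg h]; exact m.out_eq'
      have hli := rep_section_independent π₀ hR0 hDR hnd0 s hs
      have hnotin := hli.notMem_span_image (s := {m | m ≠ m₀}) (x := m₀) (by simp)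
      have hspan : ∀ v : Q, QuotientGroup.mk' R v ≠ m₀ →
          π₀ v ∈ Submodule.span K ((fun m => π₀ (s m)) '' {m | m ≠ m₀}) := by
        intro v hv
        set m := QuotientGroup.mk' R v with hm
        obtain ⟨d, hd⟩ := hR0 ((s m)⁻¹ * v) (QuotientGroup.eq.1 (hs m))
        rw [show π₀ v = d • π₀ (s m) by
          rw [show v = s m * ((s m)⁻¹ * v) by group, map_mul, hd, mul_smul_comm, mul_one]]
        exact Submodule.smul_mem _ _ (Submodule.subset_span ⟨m, hv, rfl⟩)
      apply hnotin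
      show π₀ (s m₀) ∈ _
      rw [show s m₀ = x by simp [s]]
      obtain ⟨n, hn⟩ : ∃ n, t = n + 1 := ⟨t - 1, (Nat.sub_add_cancel ht.out.pos).symm⟩
      have e : π₀ x = S₁ (η x) - ∑ i ∈ Finset.range n, π₀ ((τ ^ (i + 1)) x) := by
        rw [← hSS]
        simp only [S₁, hn]
        rw [Finset.sum_range_succ', pow_zero, MulAut.one_apply, add_sub_cancel_left]
      rw [e]
      refine sub_mem (sum_mem fun i hi => hspan _ fun h => ?_) (sum_mem fun i hi => hspan _ fun h => ?_)
      · refine hcon ((t - 1) * i) ?_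
        obtain ⟨g, hg⟩ := CfsgLib.FGS.exists_quotient_mulAut τ hτR
        have h2 := congrArg (g ^ ((t - 1) * i)) h
        rw [hg, hm₀, hg, ← MulAut.mul_apply, ← pow_add,
          show (t - 1) * i + i = t * i by
            obtain ⟨n, hn⟩ : ∃ n, t = n + 1 := ⟨t - 1, (Nat.sub_add_cancel ht.out.pos).symm⟩
            subst hn; rw [Nat.add_sub_cancel]; ring,
          pow_mul, hτ, one_pow, MulAut.one_apply] at h2
        exact h2
      · rw [Finset.mem_range] at hi
        exact hsemi x hxR (i + 1) (Nat.succ_pos _) (by omega) (QuotientGroup.eq.1 h.symm)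
    obtain ⟨i, hi⟩ := horb
    have hi' : x⁻¹ * η x ∈ R ↔ x⁻¹ * (τ ^ i) x ∈ R := by
      have h : ((τ ^ i) x)⁻¹ * η x ∈ R := QuotientGroup.eq.1 hi.symm
      rw [show x⁻¹ * η x = x⁻¹ * (τ ^ i) x * (((τ ^ i) x)⁻¹ * η x) by group]
      exact R.mul_mem_cancel_right h
    rw [hi']
    obtain ⟨g, hg⟩ := CfsgLib.FGS.exists_quotient_mulAut τ hτR
    obtain ⟨gη, hgη⟩ := CfsgLib.FGS.exists_quotient_mulAut η fun r hr => by rw [hηR r hr]; exact hr
    have hk : ∀ j : ℕ, (gη ^ j) (QuotientGroup.mk' R x) = (g ^ (i * j)) (QuotientGroup.mk' R x) := by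
      intro j
      induction j with
      | zero => simp
      | succ j ih =>
        rw [pow_succ', MulAut.mul_apply, ih, hg]
        have h1 := hgη 1 ((τ ^ (i * j)) x)
        rw [pow_one, pow_one] at h1
        rw [h1, ← MulAut.mul_apply, ((hτα y).pow_left (i * j)).symm.eq, MulAut.mul_apply, ← hg, hi,
          ← hg, ← MulAut.mul_apply, ← pow_add, Nat.mul_succ]
    have hfixi : x⁻¹ * (τ ^ (i * Nat.card Y)) x ∈ R := by
      have h := hk (Nat.card Y)
      rw [hgη, hg, hηm] at h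
      exact QuotientGroup.eq.1 h
    have hdvd : t ∣ i * Nat.card Y := by
      rw [Nat.dvd_iff_mod_eq_zero]
      by_contra h0
      rw [pow_eq_pow_mod _ hτ] at hfixi
      exact hsemi x hxR _ (Nat.pos_of_ne_zero h0) (Nat.mod_lt _ ht.out.pos) hfixi
    obtain ⟨d, hd⟩ := (ht.out.dvd_mul.1 hdvd).resolve_right fun h =>
      ht.out.ne_one (Nat.eq_one_of_dvd_coprimes hY h dvd_rfl)
    rw [hd, pow_mul, hτ, one_pow, MulAut.one_apply, inv_mul_cancel]
    exact R.one_mem
  have hLR : Subgroup.closure {z : Q | ∃ y : Y, ∃ x : Q, x⁻¹ * α y x = z} ≤ R := by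
    rw [Subgroup.closure_le]
    rintro _ ⟨y, x, rfl⟩
    exact hmain y x
  rw [hL] at hLR
  obtain ⟨a, b, hab⟩ := hne
  refine hab (Eq.symm (commutatorElement_eq_one_iff_mul_comm.1 (hinj ?_)))
  rw [(hRmem b).1 (hLR (Subgroup.mem_top b)) a, map_one]

end

end CfsgLib.Solvable
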