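import Cfsg.Agent.Lib.Solvable.PQComponent
import Cfsg.Agent.Lib.Solvable.CharProjection
import Cfsg.Agent.Lib.Solvable.WardCore
import Cfsg.Agent.Lib.PGroup.Basic

/-!
The core of the height bound for a nonabelian group of order `p * l` without common fixed points:
no abelian group of automorphisms of a `q`-group `Q` is normalised by it irreducibly, when `Q` acts
nontrivially on a module without common fixed points.
-/

set_option autoImplicit false

open scoped commutatorElement

namespace CfsgLib.Solvable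

namespace PQ

section

variable {A : Type*} [Group A] [Finite A] {p l : ℕ} [hp : Fact p.Prime] [hl : Fact l.Prime] {f : A}

theorem notMem_pow (hA : Nat.card A = p * l) (hf : orderOf f = l) [(Subgroup.zpowers f).Normal]
    {g : A} (hg : g ∉ Subgroup.zpowers f) {i : ℕ} (hi : 0 < i) (hip : i < p) :
    g ^ i ∉ Subgroup.zpowers f := by
  intro h
  have hQ : Nat.card (A ⧸ Subgroup.zpowers f) = p := by
    have h1 := Subgroup.card_eq_card_quotient_mul_card_subgroup (Subgroup.zpowers f)
    rw [hA, Nat.card_zpowers, hf] at h1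
    exact (Nat.eq_of_mul_eq_mul_right hl.out.pos h1).symm
  have hg1 : (QuotientGroup.mk g : A ⧸ Subgroup.zpowers f) ≠ 1 := fun e =>
    hg ((QuotientGroup.eq_one_iff g).1 e)
  have ho : orderOf (QuotientGroup.mk g : A ⧸ Subgroup.zpowers f) = p := by
    refine orderOf_eq_prime ?_ hg1
    rw [← hQ]; exact pow_card_eq_one'
  have h2 : (QuotientGroup.mk g : A ⧸ Subgroup.zpowers f) ^ i = 1 :=
    (QuotientGroup.eq_one_iff (g ^ i)).2 h
  have h3 := orderOf_dvd_of_pow_eq_one h2
  rw [ho] at h3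
  exact Nat.not_dvd_of_pos_of_lt hi hip h3

theorem sup_zpowers_eq_top (hA : Nat.card A = p * l) (hf : orderOf f = l) {g : A}
    (hg : g ∉ Subgroup.zpowers f) : Subgroup.zpowers f ⊔ Subgroup.zpowers g = ⊤ := by
  have h1 : l ∣ Nat.card ↥(Subgroup.zpowers f ⊔ Subgroup.zpowers g) := by
    have := Subgroup.card_dvd_of_le (le_sup_left : Subgroup.zpowers f ≤ _ ⊔ Subgroup.zpowers g)
    rwa [Nat.card_zpowers, hf] at this
  have h2 : Nat.card ↥(Subgroup.zpowers f ⊔ Subgroup.zpowers g) ≠ l := fun h => hg (by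
    rw [Subgroup.eq_of_le_of_card_ge (le_sup_left :
      Subgroup.zpowers f ≤ Subgroup.zpowers f ⊔ Subgroup.zpowers g)
      (by rw [h, Nat.card_zpowers, hf])]
    exact Subgroup.mem_sup_right (Subgroup.mem_zpowers g))
  obtain ⟨d, hd⟩ := h1
  have h3 := Subgroup.card_subgroup_dvd_card (Subgroup.zpowers f ⊔ Subgroup.zpowers g)
  rw [hd, hA, mul_comm p l] at h3
  have h4 : d ∣ p := Nat.dvd_of_mul_dvd_mul_left hl.out.pos h3
  rcases (Nat.dvd_prime hp.out).1 h4 with rfl | rfl
  · exact absurd (by rw [hd, mul_one]) h2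
  · exact Subgroup.eq_top_of_card_eq _ (by rw [hd, hA, mul_comm])

theorem exists_pow_mul_pow (hA : Nat.card A = p * l) (hf : orderOf f = l)
    [(Subgroup.zpowers f).Normal] {g : A} (hg : g ∉ Subgroup.zpowers f) (a : A) :
    ∃ i j : ℕ, a = f ^ i * g ^ j := by
  have h : a ∈ Subgroup.zpowers f ⊔ Subgroup.zpowers g := by
    rw [sup_zpowers_eq_top hA hf hg]; exact Subgroup.mem_top a
  obtain ⟨y, hy, z, hz, rfl⟩ := Subgroup.mem_sup_of_normal_left.1 h
  obtain ⟨i, hi⟩ := (isOfFinOrder_of_finite f).mem_powers_iff_mem_zpowers.2 hy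
  obtain ⟨j, hj⟩ := (isOfFinOrder_of_finite g).mem_powers_iff_mem_zpowers.2 hz
  exact ⟨i, j, by rw [← hi, ← hj]⟩

theorem orderOf_eq (hA : Nat.card A = p * l) (hf : orderOf f = l) [(Subgroup.zpowers f).Normal]
    (hna : ∃ a b : A, a * b ≠ b * a) {g : A} (hg : g ∉ Subgroup.zpowers f) : orderOf g = p := by
  have hg1 : g ≠ 1 := fun e => hg (e ▸ Subgroup.one_mem _)
  refine orderOf_eq_prime ?_ hg1
  by_contra hgp
  have hdvd : orderOf g ∣ p * l := hA ▸ orderOf_dvd_natCard g
  obtain ⟨d, hd, hd'⟩ : ∃ d, orderOf g = d ∧ d ∣ p * l := ⟨_, rfl, hdvd⟩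
  have hp' : g ^ p ∈ Subgroup.zpowers f := by
    rw [← QuotientGroup.eq_one_iff, QuotientGroup.mk_pow]
    have hQ : Nat.card (A ⧸ Subgroup.zpowers f) = p := by
      have h1 := Subgroup.card_eq_card_quotient_mul_card_subgroup (Subgroup.zpowers f)
      rw [hA, Nat.card_zpowers, hf] at h1
      exact (Nat.eq_of_mul_eq_mul_right hl.out.pos h1).symm
    rw [← hQ]; exact pow_card_eq_one'
  -- `g ^ p` generates `⟨f⟩`, so everything commutes with `g`
  obtain ⟨i, hi⟩ := (isOfFinOrder_of_finite f).mem_powers_iff_mem_zpowers.2 hp'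
  have hfo : orderOf (g ^ p) = l := by
    refine orderOf_eq_prime ?_ hgp
    rw [← hi, ← pow_mul, mul_comm, pow_mul, ← hf, pow_orderOf_eq_one, one_pow]
  have hfg : f ∈ Subgroup.zpowers g := by
    have h : Subgroup.zpowers (g ^ p) = Subgroup.zpowers f :=
      Subgroup.eq_of_le_of_card_ge (Subgroup.zpowers_le.2 hp')
        (by rw [Nat.card_zpowers, Nat.card_zpowers, hf, hfo])
    exact Subgroup.zpowers_le.2 (Subgroup.npow_mem_zpowers g p) (h ▸ Subgroup.mem_zpowers f)
  have htop : Subgroup.zpowers g = ⊤ := top_le_iff.1 (sup_zpowers_eq_top hA hf hg ▸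
    sup_le (Subgroup.zpowers_le.2 hfg) le_rfl)
  obtain ⟨a, b, hab⟩ := hna
  obtain ⟨m, rfl⟩ := Subgroup.mem_zpowers_iff.1 (htop ▸ Subgroup.mem_top a : a ∈ Subgroup.zpowers g)
  obtain ⟨n, rfl⟩ := Subgroup.mem_zpowers_iff.1 (htop ▸ Subgroup.mem_top b : b ∈ Subgroup.zpowers g)
  exact hab (by rw [← zpow_add, ← zpow_add, add_comm])

theorem eq_one_of_pow_mem {l : ℕ} [Fact l.Prime] {H : Subgroup A} {a : A} (ha : orderOf a = l)
    {i : ℕ} (hi : 0 < i) (hil : i < l) (h : a ^ i ∈ H) : a ∈ H := by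
  obtain ⟨m, hm⟩ := exists_pow_eq_self_of_coprime (x := a) (n := i) (by
    rw [ha]; exact ((Fact.out : l.Prime).coprime_iff_not_dvd.2 (Nat.not_dvd_of_pos_of_lt hi hil)).symm)
  exact hm ▸ H.pow_mem h m

variable {K : Type*} [Field K] [IsAlgClosed K] {V : Type*} [AddCommGroup V] [Module K V]

/-- The stabiliser of a nontrivial character in the support. -/
theorem exists_type (hpK : (p : K) ≠ 0) (hlK : (l : K) ≠ 0) (hA : Nat.card A = p * l)
    (hf : orderOf f = l) [(Subgroup.zpowers f).Normal] (hna : ∃ a b : A, a * b ≠ b * a)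
    {q : ℕ} [hq : Fact q.Prime] (hqp : q ≠ p) (hql : q ≠ l) {U : Type*} [CommGroup U] [Finite U]
    (hU : IsPGroup q U) (hqK : (q : K) ≠ 0) (F : A →* MulAut U)
    (hfix : ∀ u, (∀ a, F a u = u) → u = 1) (ρ : U →* Module.End K V) (ε : A →* Module.End K V)
    (hρε : ∀ a u, ε a * ρ u = ρ (F a u) * ε a) (hVfix : ∀ v, (∀ a, ε a v = v) → v = 0)
    {χ : U →* Kˣ} (he : charProj ρ χ ≠ 0) (hχ : χ ≠ 1) :
    ∃ τ : A, τ ≠ 1 ∧ (τ = f ∨ τ ∉ Subgroup.zpowers f) ∧ χ.comp (F τ).toMonoidHom = χ ∧
      ∀ c : A, c ∉ Subgroup.zpowers τ → χ.comp (F c).toMonoidHom ≠ χ := by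
  classical
  letI := Fintype.ofFinite A
  let S : Subgroup A :=
    { carrier := {a | ∀ u, χ (F a u) = χ u}
      one_mem' := fun u => by rw [map_one]; rfl
      mul_mem' := fun {a b} ha hb u => by rw [map_mul, MulAut.mul_apply, ha, hb]
      inv_mem' := fun {a} ha u => by
        have h := ha (F a⁻¹ u)
        rw [← MulAut.mul_apply, ← map_mul, mul_inv_cancel, map_one, MulAut.one_apply] at h
        exact h.symm }
  have hS : ∀ a, a ∈ S ↔ χ.comp (F a).toMonoidHom = χ := fun a =>
    ⟨fun h => MonoidHom.ext h, fun h u => DFunLike.congr_fun h u⟩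
  have hUK : (Nat.card U : K) ≠ 0 := by
    obtain ⟨i, hi⟩ := hU.exists_card_eq
    rw [hi, Nat.cast_pow]; exact pow_ne_zero _ hqK
  have hAK : (Nat.card A : K) ≠ 0 := by rw [hA, Nat.cast_mul]; exact mul_ne_zero hpK hlK
  have hne : S ≠ ⊥ := by
    intro hbot
    refine he (LinearMap.ext fun v => ?_)
    set w := charProj ρ χ v with hw
    have hew : charProj ρ χ w = w := LinearMap.congr_fun (charProj_idem ρ hUK χ) v
    have h0 : ∑ a : A, ε a w = 0 := hVfix _ fun c => by
      rw [map_sum]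
      refine Fintype.sum_equiv (Equiv.mulLeft c) _ _ fun x => ?_
      rw [Equiv.coe_mulLeft, map_mul, Module.End.mul_apply]
    have h1 := congrArg (charProj ρ χ) h0
    rw [map_zero, map_sum, Finset.sum_eq_single 1] at h1
    · rw [map_one, Module.End.one_apply, hew] at h1
      exact h1
    · intro a _ ha
      have hac : χ.comp (F a).toMonoidHom ≠ χ := fun h => ha (by
        rw [← Subgroup.mem_bot, ← hbot]; exact (hS a).2 h)
      rw [← Module.End.mul_apply, ← charProj_semiconj ρ (F a) (hρε a) χ, Module.End.mul_apply]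
      have h3 : charProj ρ (χ.comp (F a).toMonoidHom) w = 0 := by
        rw [← hew, ← Module.End.mul_apply, charProj_mul_of_ne ρ hac]; rfl
      rw [h3, map_zero]
    · intro h; exact absurd (Finset.mem_univ _) h
  have hntop : S ≠ ⊤ := by
    intro htop
    refine hχ (MonoidHom.ext fun u => ?_)
    have h0 : ∏ a : A, F a u = 1 := hfix _ fun c => by
      rw [map_prod]
      refine Fintype.prod_equiv (Equiv.mulLeft c) _ _ fun x => ?_
      rw [Equiv.coe_mulLeft, map_mul, MulAut.mul_apply]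
    have h1 := congrArg χ h0
    rw [map_prod, map_one, Finset.prod_congr rfl fun a _ => (htop ▸ Subgroup.mem_top a : a ∈ S) u,
      Finset.prod_const, Finset.card_univ, ← Nat.card_eq_fintype_card, hA] at h1
    obtain ⟨i, hi⟩ := hU u
    refine orderOf_eq_one_iff.1 (Nat.eq_one_of_dvd_coprimes
      (Nat.Coprime.mul_left (((Nat.coprime_primes hp.out hq.out).2 hqp.symm).pow_right i)
        (((Nat.coprime_primes hl.out hq.out).2 hql.symm).pow_right i))
      (orderOf_dvd_of_pow_eq_one h1) (orderOf_dvd_of_pow_eq_one ?_))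
    rw [← map_pow, hi, map_one]
  have hmax : ∀ τ : A, τ ≠ 1 → (τ = f ∨ τ ∉ Subgroup.zpowers f) → τ ∈ S →
      ∀ c : A, c ∉ Subgroup.zpowers τ → χ.comp (F c).toMonoidHom ≠ χ := by
    intro τ hτ1 hτ hτS c hc hceq
    have hcS := (hS c).2 hceq
    refine hntop (top_le_iff.1 ?_)
    rcases hτ with rfl | hτ
    · rw [← sup_zpowers_eq_top hA hf hc]
      exact sup_le (Subgroup.zpowers_le.2 hτS) (Subgroup.zpowers_le.2 hcS)
    · by_cases hcf : c ∈ Subgroup.zpowers f
      · have hc1 : c ≠ 1 := fun e => hc (e ▸ Subgroup.one_mem _)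
        have hfS : f ∈ S := by
          have h : Subgroup.zpowers c = Subgroup.zpowers f :=
            Subgroup.eq_of_le_of_card_ge (Subgroup.zpowers_le.2 hcf) (by
              rw [Nat.card_zpowers, Nat.card_zpowers, hf]
              have hd : orderOf c ∣ l := by
                rw [← hf, ← Nat.card_zpowers f]
                exact Subgroup.orderOf_dvd_natCard _ hcf
              rcases (Nat.dvd_prime hl.out).1 hd with h | h
              · exact absurd (orderOf_eq_one_iff.1 h) hc1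
              · exact h.ge)
          exact Subgroup.zpowers_le.2 hcS (h ▸ Subgroup.mem_zpowers f)
        rw [← sup_zpowers_eq_top hA hf hτ]
        exact sup_le (Subgroup.zpowers_le.2 hfS) (Subgroup.zpowers_le.2 hτS)
      · -- a subgroup properly containing one of order `p` is everything
        have h1 : p ∣ Nat.card S := by
          rw [← orderOf_eq hA hf hna hτ]; exact Subgroup.orderOf_dvd_natCard S hτS
        have h2 : Nat.card S ≠ p := fun h => hc (by
          rw [Subgroup.eq_of_le_of_card_ge (Subgroup.zpowers_le.2 hτS)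
            (by rw [h, Nat.card_zpowers, orderOf_eq hA hf hna hτ])]
          exact hcS)
        obtain ⟨d, hd⟩ := h1
        have h3 := S.card_subgroup_dvd_card
        rw [hd, hA] at h3
        rcases (Nat.dvd_prime hl.out).1 (Nat.dvd_of_mul_dvd_mul_left hp.out.pos h3) with rfl | rfl
        · exact absurd (by rw [hd, mul_one]) h2
        · exact (Subgroup.eq_top_of_card_eq _ (by rw [hd, hA])).ge
  obtain ⟨⟨a, haS⟩, ha'⟩ := Subgroup.ne_bot_iff_exists_ne_one.1 hne
  have ha : a ≠ 1 := fun e => ha' (Subtype.ext e)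
  by_cases haf : a ∈ Subgroup.zpowers f
  · have hf1 : f ≠ 1 := fun e => hl.out.ne_one (by rw [← hf, e, orderOf_one])
    have hfS : f ∈ S := by
      obtain ⟨i, hi⟩ := (isOfFinOrder_of_finite f).mem_powers_iff_mem_zpowers.2 haf
      have hi' : f ^ (i % l) = a := by rw [← hi, ← hf, pow_mod_orderOf]
      rcases Nat.eq_zero_or_pos (i % l) with h0 | h0
      · rw [h0, pow_zero] at hi'; exact absurd hi'.symm ha
      · exact eq_one_of_pow_mem hf h0 (Nat.mod_lt _ hl.out.pos) (hi' ▸ haS)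
    exact ⟨f, hf1, Or.inl rfl, (hS f).1 hfS, hmax f hf1 (Or.inl rfl) hfS⟩
  · exact ⟨a, ha, Or.inr haf, (hS a).1 haS, hmax a ha (Or.inr haf) haS⟩

omit [Finite A] hp hl in
/-- An element fixed by `c` acts trivially on a component on whose orbit `c` acts regularly. -/
theorem apply_charProj_eq_self' {n : ℕ} (hn : 0 < n) {U : Type*} [CommGroup U] [Finite U]
    (hUK : (Nat.card U : K) ≠ 0) (F : A →* MulAut U) (ρ : U →* Module.End K V)
    (ε : A →* Module.End K V) (hρε : ∀ a u, ε a * ρ u = ρ (F a u) * ε a) {χ : U →* Kˣ} {c : A}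
    (hcn : c ^ n = 1) (hc : ∀ i, 0 < i → i < n → χ.comp (F (c ^ i)).toMonoidHom ≠ χ)
    {T : Module.End K V} (hT : T * charProj ρ χ = charProj ρ χ * T)
    (hfixT : ∀ v, ε c v = v → T v = v) : T * charProj ρ χ = charProj ρ χ := by
  refine LinearMap.ext fun v => ?_
  rw [Module.End.mul_apply]
  set w := charProj ρ χ v with hw
  have hew : charProj ρ χ w = w := LinearMap.congr_fun (charProj_idem ρ hUK χ) v
  set s := ∑ i ∈ Finset.range n, ε (c ^ i) w with hs
  have h1 : T s = s := hfixT _ (by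
    rw [hs, map_sum]
    have e : ∀ i, ε c (ε (c ^ i) w) = ε (c ^ (i + 1)) w := fun i => by
      rw [pow_succ', map_mul]; rfl
    simp only [e]
    have h2 := Finset.sum_range_succ' (fun i => ε (c ^ i) w) n
    rw [Finset.sum_range_succ, hcn, pow_zero] at h2
    exact (add_right_cancel h2).symm)
  have h2 : charProj ρ χ s = w := by
    rw [hs, map_sum, Finset.sum_eq_single 0]
    · rw [pow_zero, map_one, Module.End.one_apply, hew]
    · intro i hi hi0
      rw [← Module.End.mul_apply, ← charProj_semiconj ρ (F (c ^ i)) (hρε _) χ,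
        Module.End.mul_apply]
      have h3 : charProj ρ (χ.comp (F (c ^ i)).toMonoidHom) w = 0 := by
        rw [← hew, ← Module.End.mul_apply,
          charProj_mul_of_ne ρ (hc i (Nat.pos_of_ne_zero hi0) (Finset.mem_range.1 hi))]
        rfl
      rw [h3, map_zero]
    · intro h; exact absurd (Finset.mem_range.2 hn) h
  conv_lhs => rw [← h2, ← Module.End.mul_apply, hT, Module.End.mul_apply, h1]
  exact h2

set_option maxHeartbeats 4000000 in
/-- The core of the theorem. -/
theorem false_of_pq_core [FiniteDimensional K V] {q : ℕ} [hq : Fact q.Prime] (hqp : q ≠ p)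
    (hql : q ≠ l) (hqK : (q : K) ≠ 0) (hpK : (p : K) ≠ 0) (hlK : (l : K) ≠ 0)
    (hA : Nat.card A = p * l) (hf : orderOf f = l) [hfn : (Subgroup.zpowers f).Normal]
    (hna : ∃ a b : A, a * b ≠ b * a) {Q : Type*} [Group Q] [Finite Q] (hQ : IsPGroup q Q)
    (φ : A →* MulAut Q) (hQfix : ∀ x, (∀ a, φ a x = x) → x = 1)
    (hQlift : ∀ (N : Subgroup Q), (∀ a, ∀ x ∈ N, φ a x ∈ N) → ∀ x,
      (∀ a, x⁻¹ * φ a x ∈ N) → ∃ z, z⁻¹ * x ∈ N ∧ ∀ a, φ a z = z)
    (ρ : Q →* Module.End K V)
    (ε : A →* Module.End K V) (hρε : ∀ a x, ε a * ρ x = ρ (φ a x) * ε a)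
    (hVfix : ∀ v, (∀ a, ε a v = v) → v = 0)
    (h1 : ∀ x, φ f x = x → ∀ v, ε f v = v → ρ x v = v)
    (Y : Subgroup (MulAut Q)) (hYq : (Nat.card Y).Coprime q) (hYp : (Nat.card Y).Coprime p)
    (hYl : (Nat.card Y).Coprime l)
    (hYc : ∀ y ∈ Y, ∀ z ∈ Y, y * z = z * y) (hYA : ∀ a, ∀ y ∈ Y, φ a * y * (φ a)⁻¹ ∈ Y)
    (hY3 : ∀ y ∈ Y, (∀ a, φ a * y = y * φ a) → y = 1)
    (hYmin : ∀ H ≤ Y, (∀ a, ∀ y ∈ H, φ a * y * (φ a)⁻¹ ∈ H) → H = ⊥ ∨ H = Y)
    (h2 : ∀ y ∈ Y, φ f * y = y * φ f → ∀ x, φ f x = x → y x = x)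
    (hB : ∀ y ∈ Y, ∃ B B' : Module.End K V, B * B' = 1 ∧ ∀ x, B * ρ x = ρ (y x) * B)
    (hmin : ∀ H : Subgroup Q, H ≠ ⊤ → (∀ a, ∀ x ∈ H, φ a x ∈ H) →
      (∀ y ∈ Y, ∀ x ∈ H, y x ∈ H) → ∀ y ∈ Y, ∀ x ∈ H, y x = x)
    (hY1 : ∃ y ∈ Y, y ≠ 1) (hρ : ∃ x, ρ x ≠ 1) : False := by
  classical
  obtain ⟨y₀, hy₀, hy₀1⟩ := hY1
  have hf1 : f ≠ 1 := fun e => hl.out.ne_one (by rw [← hf, e, orderOf_one])
  have hfl : f ^ l = 1 := hf ▸ pow_orderOf_eq_one f
  have hstep : ∀ y ∈ Y, ∀ x : Q, y (x⁻¹ * y x) = x⁻¹ * y x → y x = x := by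
    intro y hy x hz
    have h := pow_apply_mul_fixed (φ := y) (x := x) (mul_inv_cancel_left x (y x)).symm hz
      (Nat.card Y)
    have hyc : y ^ Nat.card Y = 1 := congrArg Subtype.val (pow_card_eq_one' (x := (⟨y, hy⟩ : Y)))
    rw [hyc, MulAut.one_apply] at h
    have h3 : x⁻¹ * y x = 1 := by
      obtain ⟨i, hi⟩ := IsPGroup.iff_orderOf.1 hQ (x⁻¹ * y x)
      exact orderOf_eq_one_iff.1 (Nat.eq_one_of_dvd_coprimes (hYq.pow_right i)
        (orderOf_dvd_of_pow_eq_one (left_eq_mul.1 h)) (dvd_of_eq hi))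
    exact (inv_mul_eq_one.1 h3).symm
  -- `Q = [Q, Y]`
  set L := Subgroup.closure {z : Q | ∃ y ∈ Y, ∃ x, x⁻¹ * y x = z} with hL
  have hLtop : L = ⊤ := by
    by_contra hne
    refine hy₀1 (MulEquiv.ext fun x => hstep y₀ hy₀ x (hmin L hne ?_ ?_ y₀ hy₀ _
      (Subgroup.subset_closure ⟨y₀, hy₀, x, rfl⟩)))
    · intro a
      suffices L ≤ L.comap (φ a).toMonoidHom from fun z hz => this hz
      rw [hL, Subgroup.closure_le]
      rintro _ ⟨y, hy, x, rfl⟩
      refine Subgroup.subset_closure ⟨φ a * y * (φ a)⁻¹, hYA a y hy, φ a x, ?_⟩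
      simp
    · intro y hy
      suffices L ≤ L.comap y.toMonoidHom from fun z hz => this hz
      rw [hL, Subgroup.closure_le]
      rintro _ ⟨y', hy', x, rfl⟩
      refine Subgroup.subset_closure ⟨y * y' * y⁻¹, Y.mul_mem (Y.mul_mem hy hy') (Y.inv_mem hy),
        y x, ?_⟩
      simp
  haveI : Nontrivial Q := by
    by_contra hnt
    rw [not_nontrivial_iff_subsingleton] at hnt
    exact hy₀1 (MulEquiv.ext fun x => Subsingleton.elim _ _)
  set Z := frattini Q with hZ
  haveI hZn : Z.Normal := inferInstance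
  have hZchar : ∀ (g : MulAut Q), ∀ x ∈ Z, g x ∈ Z := fun g x hx =>
    apply_mem_of_characteristic g Z hx
  have hZY : ∀ y ∈ Y, ∀ x ∈ Z, y x = x :=
    hmin Z (CfsgLib.PGroup.frattini_ne_top hQ) (fun a => hZchar (φ a)) fun y _ => hZchar y
  have hZcent : Z ≤ Subgroup.center Q := by
    intro d hd
    have h : L ≤ Subgroup.centralizer {d} := by
      rw [hL, Subgroup.closure_le]
      rintro _ ⟨y, hy, x, rfl⟩
      refine Subgroup.mem_centralizer_singleton_iff.2 ?_
      have h3 := hZY y hy _ (hZn.conj_mem d hd x)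
      rw [map_mul, map_mul, map_inv, hZY y hy d hd] at h3
      calc x⁻¹ * y x * d = x⁻¹ * (y x * d * (y x)⁻¹) * y x := by group
        _ = x⁻¹ * (x * d * x⁻¹) * y x := by rw [h3]
        _ = d * (x⁻¹ * y x) := by group
    rw [hLtop] at h
    exact Subgroup.mem_center_iff.2 fun g =>
      Subgroup.mem_centralizer_singleton_iff.1 (h (Subgroup.mem_top g))
  have hcomm : ∀ {d g : Q}, d ∈ Z → Commute g d :=
    fun hd => Subgroup.mem_center_iff.1 (hZcent hd) _
  -- the quotient `M`
  letI : CommGroup (Q ⧸ Z) :=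
    { (inferInstance : Group (Q ⧸ Z)) with
      mul_comm := CfsgLib.PGroup.quotient_frattini_comm hQ }
  let fM : A →* MulAut (Q ⧸ Z) :=
    (quotientHom φ.range Z fun y _ => hZchar y).comp φ.rangeRestrict
  have hfM : ∀ (a : A) (x : Q), fM a (QuotientGroup.mk x) = QuotientGroup.mk (φ a x) :=
    fun a x => rfl
  let αM : Y →* MulAut (Q ⧸ Z) := quotientHom Y Z fun y _ => hZchar y
  have hαM : ∀ (y : Y) (x : Q), αM y (QuotientGroup.mk x) = QuotientGroup.mk ((y : MulAut Q) x) :=
    fun y x => rfl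
  have hMp : IsPGroup q (Q ⧸ Z) := hQ.to_quotient Z
  have hMfix : ∀ m, (∀ a, fM a m = m) → m = 1 := by
    intro m hm
    obtain ⟨x, rfl⟩ := QuotientGroup.mk_surjective m
    obtain ⟨z, hz, hzfix⟩ := hQlift Z (fun a => hZchar (φ a)) x
      (fun a => QuotientGroup.eq.1 (hm a).symm)
    rw [hQfix z hzfix, inv_one, one_mul] at hz
    exact (QuotientGroup.eq_one_iff x).2 hz
  have hcopq : ∀ {n : ℕ}, n.Coprime q → ∀ m : Q ⧸ Z, m ^ n = 1 → m = 1 := fun hn m hm => by
    obtain ⟨i, hi⟩ := IsPGroup.iff_orderOf.1 hMp m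
    exact orderOf_eq_one_iff.1 (Nat.eq_one_of_dvd_coprimes (hn.pow_right i)
      (orderOf_dvd_of_pow_eq_one hm) (dvd_of_eq hi))
  have hlZ : ¬ l ∣ Nat.card Z := by
    obtain ⟨i, hi⟩ := (hQ.to_subgroup Z).exists_card_eq
    rw [hi]
    exact fun h => hql ((Nat.prime_dvd_prime_iff_eq hl.out hq.out).1 (hl.out.dvd_of_dvd_pow h)).symm
  have hliftM : ∀ x : Q, fM f (QuotientGroup.mk x) = QuotientGroup.mk x →
      ∃ z : Q, (QuotientGroup.mk z : Q ⧸ Z) = QuotientGroup.mk x ∧ φ f z = z := by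
    intro x hx
    obtain ⟨z, hz, hzfix⟩ := exists_fixed_in_coset (φ := φ f) (m := 1)
      (by rw [pow_one, ← map_pow, hfl, map_one]) hlZ (hZchar (φ f))
      (x := x) (QuotientGroup.eq.1 hx.symm)
    exact ⟨z, QuotientGroup.eq.2 hz, hzfix⟩
  have hfaith : ∀ y : Y, (∀ m, αM y m = m) → y = 1 := fun y hy =>
    Subtype.ext (MulEquiv.ext fun x => hstep y y.2 x
      (hZY y y.2 _ (QuotientGroup.eq.1 (hy (QuotientGroup.mk x)).symm)))
  letI : CommGroup Y :=
    { Y.toGroup with mul_comm := fun a b => Subtype.ext (hYc a a.2 b b.2) }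
  let fY : A →* MulAut Y :=
    { toFun := fun a =>
        { toFun := fun y => ⟨φ a * y * (φ a)⁻¹, hYA a y y.2⟩
          invFun := fun y => ⟨φ a⁻¹ * y * (φ a⁻¹)⁻¹, hYA _ y y.2⟩
          left_inv := fun y => Subtype.ext (by simp [map_inv, mul_assoc])
          right_inv := fun y => Subtype.ext (by simp [map_inv, mul_assoc])
          map_mul' := fun y y' => Subtype.ext (by simp [mul_assoc]) }
      map_one' := MulEquiv.ext fun y => Subtype.ext (by simp)
      map_mul' := fun a b => MulEquiv.ext fun y => Subtype.ext (by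
        simp [map_mul, mul_assoc]) }
  have hfY : ∀ a (y : Y), fY a y = y ↔ φ a * (y : MulAut Q) = y * φ a := fun a y => by
    rw [← Subtype.coe_inj]
    exact mul_inv_eq_iff_eq_mul
  have hconj : ∀ (a : A) (y : Y) (m : Q ⧸ Z), fM a (αM y m) = αM (fY a y) (fM a m) := by
    intro a y m
    obtain ⟨x, rfl⟩ := QuotientGroup.mk_surjective m
    rw [hαM, hfM, hfM, hαM]
    congr 1
    show φ a ((y : MulAut Q) x) = (φ a * (y : MulAut Q) * (φ a)⁻¹) (φ a x)
    simp
  letI := Fintype.ofFinite Y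
  -- `Y` has no fixed points on `M`
  have hnorm : ∀ m : Q ⧸ Z, ∏ y : Y, αM y m = 1 := by
    intro m
    let N : (Q ⧸ Z) →* Q ⧸ Z :=
      { toFun := fun m => ∏ y : Y, αM y m
        map_one' := by simp
        map_mul' := fun m m' => by simp [Finset.prod_mul_distrib] }
    have hN : L ≤ (N.comp (QuotientGroup.mk' Z)).ker := by
      rw [hL, Subgroup.closure_le]
      rintro _ ⟨y, hy, x, rfl⟩
      show N (QuotientGroup.mk (x⁻¹ * y x)) = 1
      rw [QuotientGroup.mk_mul, QuotientGroup.mk_inv, map_mul, map_inv, inv_mul_eq_one]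
      symm
      refine Fintype.prod_equiv (Equiv.mulRight ⟨y, hy⟩) _ _ fun y' => ?_
      rw [Equiv.coe_mulRight, map_mul]
      rfl
    obtain ⟨x, rfl⟩ := QuotientGroup.mk_surjective m
    exact hN (hLtop ▸ Subgroup.mem_top x)
  have hMY : ∀ m : Q ⧸ Z, (∀ y, αM y m = m) → m = 1 := by
    intro m hm
    refine hcopq hYq m ?_
    have h := hnorm m
    rw [Finset.prod_congr rfl fun y _ => hm y, Finset.prod_const, Finset.card_univ] at h
    rwa [Nat.card_eq_fintype_card]
  -- a character killing all commutators with `Y` is trivial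
  have hkillY : ∀ χ : Q ⧸ Z →* Kˣ, (∀ (y : Y) m, χ (αM y m) = χ m) → χ = 1 := by
    intro χ hχ
    refine MonoidHom.ext fun m => ?_
    have h := congrArg χ (hnorm m)
    rw [map_prod, map_one, Finset.prod_congr rfl fun y _ => hχ y m, Finset.prod_const,
      Finset.card_univ, ← Nat.card_eq_fintype_card] at h
    obtain ⟨i, hi⟩ := hMp m
    refine orderOf_eq_one_iff.1 (Nat.eq_one_of_dvd_coprimes (hYq.pow_right i)
      (orderOf_dvd_of_pow_eq_one h) (orderOf_dvd_of_pow_eq_one ?_))
    rw [← map_pow, hi, map_one]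
  -- the dichotomy
  have hdich : (∀ y : Y, fY f y = y) ∨ ∀ y : Y, fY f y = y → y = 1 := by
    let H : Subgroup (MulAut Q) :=
      ((fY f).toMonoidHom.eqLocus (MonoidHom.id Y)).map Y.subtype
    rcases hYmin H (Subgroup.map_subtype_le _) (by
      rintro a _ ⟨y, hy, rfl⟩
      refine ⟨fY a y, ?_, rfl⟩
      have hy' : fY f y = y := hy
      obtain ⟨i, hi⟩ := (isOfFinOrder_of_finite f).mem_powers_iff_mem_zpowers.2
        (show a⁻¹ * f * a ∈ Subgroup.zpowers f by
          simpa using hfn.conj_mem f (Subgroup.mem_zpowers f) a⁻¹)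
      show fY f (fY a y) = fY a y
      rw [← MulAut.mul_apply, ← map_mul,
        show f * a = a * f ^ i by rw [show f ^ i = a⁻¹ * f * a from hi]; group, map_mul,
        MulAut.mul_apply, map_pow, pow_apply_fixed hy']) with h | h
    · refine Or.inr fun y hy => Subtype.ext (Subgroup.mem_bot.1 ?_)
      rw [← h]; exact ⟨y, hy, rfl⟩
    · refine Or.inl fun y => ?_
      obtain ⟨z, hz, hzy⟩ := (h.symm ▸ y.2 : (y : MulAut Q) ∈ H)
      rw [← Subtype.ext hzy]
      exact hz
  -- case `f` central on `Y`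
  have hMf : (∀ y : Y, fY f y = y) → ∀ m, fM f m = m → m = 1 := by
    intro hall m hm
    let H := ((fM f).toMonoidHom.eqLocus (MonoidHom.id (Q ⧸ Z))).comap (QuotientGroup.mk' Z)
    have hHm : ∀ x : Q, x ∈ H ↔ fM f (QuotientGroup.mk x) = QuotientGroup.mk x := fun x => Iff.rfl
    have hHtop : H ≠ ⊤ := fun h => hy₀1 (congrArg Subtype.val (hfaith ⟨y₀, hy₀⟩ fun m' => by
      obtain ⟨x, rfl⟩ := QuotientGroup.mk_surjective m'
      obtain ⟨z, hz, hzfix⟩ := hliftM x ((hHm x).1 (h ▸ Subgroup.mem_top x))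
      rw [← hz, hαM, h2 y₀ hy₀ ((hfY f ⟨y₀, hy₀⟩).1 (hall _)) z hzfix]))
    have hfixH := hmin H hHtop (fun a x hx => by
        rw [hHm] at hx ⊢
        obtain ⟨i, hi⟩ := (isOfFinOrder_of_finite f).mem_powers_iff_mem_zpowers.2
          (show a⁻¹ * f * a ∈ Subgroup.zpowers f by
            simpa using hfn.conj_mem f (Subgroup.mem_zpowers f) a⁻¹)
        rw [← hfM, ← MulAut.mul_apply, ← map_mul,
          show f * a = a * f ^ i by rw [show f ^ i = a⁻¹ * f * a from hi]; group, map_mul,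
          MulAut.mul_apply, map_pow, pow_apply_fixed hx])
      (fun y hy x hx => by
        rw [hHm] at hx ⊢
        rw [← hαM ⟨y, hy⟩ x, hconj, hall, hx])
    refine hMY m fun y => ?_
    obtain ⟨x, rfl⟩ := QuotientGroup.mk_surjective m
    rw [hαM, hfixH y y.2 x ((hHm x).2 hm)]
  -- case `f` without fixed points on `Y`
  have hspanC : (∀ y : Y, fY f y = y → y = 1) → ∀ T : Subgroup (Q ⧸ Z),
      (∀ y : Y, ∀ m ∈ T, αM y m ∈ T) → (∀ m, fM f m = m → m ∈ T) → T = ⊤ := by
    intro hfp T hTY hTf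
    set N0 := Subgroup.closure {m : Q ⧸ Z | ∃ (y : Y) (m' : Q ⧸ Z), fM f m' = m' ∧ αM y m' = m}
      with hN0
    have hN0T : N0 ≤ T := by
      rw [hN0, Subgroup.closure_le]
      rintro _ ⟨y, m', hm', rfl⟩
      exact hTY y _ (hTf m' hm')
    refine top_le_iff.1 (le_trans (le_of_eq ?_) hN0T)
    symm
    by_contra hN
    have hN0A : ∀ d : A, ∀ m ∈ N0, fM d m ∈ N0 := by
      intro d
      suffices N0 ≤ N0.comap (fM d).toMonoidHom from fun m hm => this hm
      rw [hN0, Subgroup.closure_le]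
      rintro _ ⟨y, m', hm', rfl⟩
      refine Subgroup.subset_closure ⟨fY d y, fM d m', ?_, (hconj d y m').symm⟩
      obtain ⟨i, hi⟩ := (isOfFinOrder_of_finite f).mem_powers_iff_mem_zpowers.2
        (show d⁻¹ * f * d ∈ Subgroup.zpowers f by
          simpa using hfn.conj_mem f (Subgroup.mem_zpowers f) d⁻¹)
      rw [← MulAut.mul_apply, ← map_mul,
        show f * d = d * f ^ i by rw [show f ^ i = d⁻¹ * f * d from hi]; group, map_mul,
        MulAut.mul_apply, map_pow, pow_apply_fixed hm']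
    have hN0Y : ∀ y : Y, ∀ m ∈ N0, αM y m ∈ N0 := by
      intro y
      suffices N0 ≤ N0.comap (αM y).toMonoidHom from fun m hm => this hm
      rw [hN0, Subgroup.closure_le]
      rintro _ ⟨y', m', hm', rfl⟩
      refine Subgroup.subset_closure ⟨y * y', m', hm', ?_⟩
      rw [map_mul]; rfl
    set H := N0.comap (QuotientGroup.mk' Z) with hH
    have hHne : H ≠ ⊤ := fun h => hN (eq_top_iff.2 fun m _ => by
      obtain ⟨x, rfl⟩ := QuotientGroup.mk_surjective m
      exact (h ▸ Subgroup.mem_top x : x ∈ H))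
    have hYH := hmin H hHne (fun d x hx => hN0A d _ hx) fun y hy x hx => hN0Y ⟨y, hy⟩ _ hx
    have hC1 : ∀ m, fM f m = m → m = 1 := by
      intro m hm
      refine hMY m fun y => ?_
      obtain ⟨x, rfl⟩ := QuotientGroup.mk_surjective m
      have hxH : x ∈ H := Subgroup.subset_closure ⟨1, _, hm, by rw [map_one]; rfl⟩
      rw [hαM, hYH y y.2 x hxH]
    refine hN (eq_top_iff.2 fun m _ => ?_)
    suffices m = 1 by rw [this]; exact N0.one_mem
    refine hcopq hYq m ?_
    have hin : ∀ m' : Q ⧸ Z, ∏ i ∈ Finset.range l, fM (f ^ i) m' = 1 := fun m' => hC1 _ (by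
      rw [map_prod]
      have e : ∀ i, fM f (fM (f ^ i) m') = fM (f ^ (i + 1)) m' := fun i => by
        rw [pow_succ', map_mul]; rfl
      simp only [e]
      have h2 := Finset.prod_range_succ' (fun i => fM (f ^ i) m') l
      rw [Finset.prod_range_succ, hfl, pow_zero] at h2
      exact (mul_right_cancel h2).symm)
    have h0 : ∏ i ∈ Finset.range l, ∏ y : Y, αM y (fM (f ^ i) (αM y⁻¹ m)) = 1 := by
      rw [Finset.prod_comm]
      refine Finset.prod_eq_one fun y _ => ?_
      rw [← map_prod, hin, map_one]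
    rw [Finset.prod_eq_single 0] at h0
    · rw [Nat.card_eq_fintype_card, ← Finset.card_univ, ← Finset.prod_const]
      refine Eq.trans (Finset.prod_congr rfl fun y _ => ?_) h0
      rw [pow_zero, map_one fM, MulAut.one_apply, map_inv, MulAut.apply_inv_self]
    · intro i hi hi0
      rw [Finset.mem_range] at hi
      have hfp' : ∀ y : Y, fY (f ^ i) y = y → y = 1 := fun y hy => by
        refine hfp y ?_
        obtain ⟨k, hk⟩ := exists_pow_eq_self_of_coprime (x := f) (n := i) (by
          rw [hf]; exact ((hl.out.coprime_iff_not_dvd).2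
            (Nat.not_dvd_of_pos_of_lt (Nat.pos_of_ne_zero hi0) hi)).symm)
        conv_lhs => rw [← hk, map_pow]
        exact pow_apply_fixed hy k
      have hbij := CfsgLib.FGS.bijective_inv_mul_apply (fY (f ^ i)) hfp'
      rw [← hnorm (fM (f ^ i) m)]
      refine Fintype.prod_equiv (Equiv.ofBijective _ ((Equiv.inv Y).bijective.comp hbij)) _ _
        fun y => ?_
      show αM y (fM (f ^ i) (αM y⁻¹ m)) = αM (y⁻¹ * fY (f ^ i) y)⁻¹ (fM (f ^ i) m)
      rw [hconj, map_inv (fY (f ^ i)), mul_inv_rev, inv_inv, mul_comm _ y, map_mul,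
        MulAut.mul_apply]
    · intro h; exact absurd (Finset.mem_range.2 hl.out.pos) h
  have hfpg : (∀ y : Y, fY f y = y) → ∀ g, g ∉ Subgroup.zpowers f → ∀ y : Y, fY g y = y → y = 1 := by
    intro hall g hg y hy
    refine Subtype.ext (hY3 y y.2 fun a => (hfY a y).1 ?_)
    obtain ⟨i, j, rfl⟩ := exists_pow_mul_pow hA hf hg a
    rw [map_mul, MulAut.mul_apply, map_pow, map_pow, pow_apply_fixed hy, pow_apply_fixed (hall y)]
  have hQK : ∀ H : Subgroup Q, (Nat.card H : K) ≠ 0 := fun H => by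
    obtain ⟨i, hi⟩ := (hQ.to_subgroup H).exists_card_eq
    rw [hi, Nat.cast_pow]; exact pow_ne_zero _ hqK
  -- the Frattini subgroup acts trivially
  letI : CommGroup Z :=
    { (inferInstance : Group Z) with
      mul_comm := fun a b => Subtype.ext (hcomm b.2).eq }
  let fZ : A →* MulAut Z := (restrictHom φ.range Z fun y _ => hZchar y).comp φ.rangeRestrict
  let ρZ : Z →* Module.End K V := ρ.comp Z.subtype
  have hρεZ : ∀ a u, ε a * ρZ u = ρZ (fZ a u) * ε a := fun a u => hρε a u
  have hρZ1 : ∀ u : Z, ρZ u = 1 := by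
    intro u
    refine ext_charProj ρZ (hQK Z) fun ω => ?_
    rw [charProj_mul_apply, mul_one]
    set e := charProj ρZ ω with he
    by_cases he0 : e = 0
    · rw [he0, smul_zero]
    by_cases hω : ω = 1
    · rw [hω, MonoidHom.one_apply, Units.val_one, one_smul]
    exfalso
    obtain ⟨τ, hτ1, hτf, hτω, hne⟩ := exists_type hpK hlK hA hf hna hqp hql (hQ.to_subgroup Z) hqK
      fZ (fun u hu => Subtype.ext (hQfix u fun d => congrArg Subtype.val (hu d))) ρZ ε hρεZ hVfix
      he0 hω
    have hec : ∀ g, ρ g * e = e * ρ g := fun g => charProj_comm ρZ ω fun u => by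
      show ρ g * ρ (u : Q) = ρ (u : Q) * ρ g
      rw [← map_mul, ← map_mul, (hcomm u.2).eq]
    have hee : e * e = e := charProj_idem ρZ (hQK Z) ω
    set W := LinearMap.range e with hW
    have heW : ∀ w ∈ W, e w = w := by
      rintro _ ⟨v, rfl⟩
      exact LinearMap.congr_fun hee v
    have hWρ : ∀ g, ∀ w ∈ W, ρ g w ∈ W := by
      rintro g _ ⟨v, rfl⟩
      exact ⟨ρ g v, (LinearMap.congr_fun (hec g) v).symm⟩
    haveI : Nontrivial W := Submodule.nontrivial_iff_ne_bot.2 fun h =>
      he0 (LinearMap.range_eq_bot.1 h)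
    set πW := restrictRep ρ W hWρ with hπW
    have hscal : ∀ z : Z, πW (z : Q) = ((ω z : Kˣ) : K) • 1 := fun z =>
      LinearMap.ext fun w => Subtype.ext (by
        show ρ (z : Q) (w : V) = ((ω z : Kˣ) : K) • (w : V)
        conv_lhs => rw [← heW w w.2, ← Module.End.mul_apply]
        rw [show ρ (z : Q) * e = ((ω z : Kˣ) : K) • e from apply_mul_charProj ρZ ω z,
          LinearMap.smul_apply, heW w w.2])
    have hYω : ∀ y ∈ Y, ∀ g, ∀ B : Module.End K V, (∀ x, B * ρ x = ρ (y x) * B) →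
        ∀ w ∈ W, B w ∈ W ∧ B (ρ g w) = ρ (y g) (B w) := by
      intro y hy g B hBρ w hw
      have hBe : B * e = e * B := charProj_comm ρZ ω fun u => by
        show B * ρ (u : Q) = ρ (u : Q) * B
        rw [hBρ, hZY y hy u u.2]
      refine ⟨⟨B w, ?_⟩, LinearMap.congr_fun (hBρ g) w⟩
      conv_rhs => rw [← heW w hw, ← Module.End.mul_apply, hBe]
      rfl
    have hεW : ∀ a : A, ω.comp (fZ a).toMonoidHom = ω → ∀ w ∈ W, ε a w ∈ W := by
      intro a ha w hw
      have h := charProj_semiconj ρZ (fZ a) (hρεZ a) ω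
      rw [ha] at h
      refine ⟨ε a w, ?_⟩
      conv_rhs => rw [← heW w hw, ← Module.End.mul_apply, h]
      rfl
    set K0 := πW.ker with hK0
    haveI hK0n : K0.Normal := inferInstance
    let π : Q ⧸ K0 →* Module.End K W := QuotientGroup.lift K0 πW le_rfl
    have hπ : ∀ x : Q, π (QuotientGroup.mk' K0 x) = πW x := fun x => rfl
    have hinj : Function.Injective π := by
      intro s r hsr
      obtain ⟨y, rfl⟩ := QuotientGroup.mk'_surjective K0 s
      obtain ⟨z, rfl⟩ := QuotientGroup.mk'_surjective K0 r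
      rw [hπ, hπ] at hsr
      refine QuotientGroup.eq.2 ?_
      show πW (y⁻¹ * z) = 1
      rw [map_mul, ← hsr, ← map_mul, inv_mul_cancel, map_one]
    have hKY : ∀ y ∈ Y, ∀ x ∈ K0, y x ∈ K0 := by
      intro y hy x hx
      obtain ⟨B, B', hBB, hBρ⟩ := hB y hy
      have hBe : B * e = e * B := charProj_comm ρZ ω fun u => by
        show B * ρ (u : Q) = ρ (u : Q) * B
        rw [hBρ, hZY y hy u u.2]
      refine LinearMap.ext fun w => Subtype.ext ?_
      show ρ (y x) (w : V) = w
      have hb : B' (w : V) ∈ LinearMap.range (B' : Module.End K V) := ⟨_, rfl⟩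
      have h1' : (w : V) = B (B' w) := by
        rw [← Module.End.mul_apply, hBB]; rfl
      have h2' : ρ x (e (B' w)) = e (B' w) := by
        have h := LinearMap.congr_fun (MonoidHom.mem_ker.1 hx : πW x = 1)
          ⟨e (B' w), LinearMap.mem_range_self e _⟩
        exact congrArg Subtype.val h
      calc ρ (y x) (w : V) = ρ (y x) (B (e (B' w))) := by
            rw [← Module.End.mul_apply B e, hBe, Module.End.mul_apply, ← h1', heW w w.2]
        _ = B (ρ x (e (B' w))) := (LinearMap.congr_fun (hBρ x) _).symm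
        _ = w := by rw [h2', ← Module.End.mul_apply B e, hBe, Module.End.mul_apply, ← h1', heW w w.2]
    let α : Y →* MulAut (Q ⧸ K0) := quotientHom Y K0 hKY
    have hα : ∀ (y : Y) (x : Q), α y (QuotientGroup.mk' K0 x) =
        QuotientGroup.mk' K0 ((y : MulAut Q) x) := fun y x => rfl
    set Zt := Z.map (QuotientGroup.mk' K0) with hZt
    have hZscal : ∀ z ∈ Zt, ∃ c : K, π z = c • 1 := by
      rintro _ ⟨z, hz, rfl⟩
      exact ⟨_, (hπ z).trans (hscal ⟨z, hz⟩)⟩
    have hD : ∀ x y : Q ⧸ K0, ⁅x, y⁆ ∈ Zt := by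
      intro x y
      obtain ⟨a, rfl⟩ := QuotientGroup.mk'_surjective K0 x
      obtain ⟨b, rfl⟩ := QuotientGroup.mk'_surjective K0 y
      rw [← map_commutatorElement]
      refine ⟨_, (QuotientGroup.eq_one_iff _).1 ?_, rfl⟩
      show QuotientGroup.mk' Z ⁅a, b⁆ = 1
      rw [map_commutatorElement]
      exact commutatorElement_eq_one_iff_mul_comm.2 (mul_comm _ _)
    have hexpQ : ∀ x : Q ⧸ K0, x ^ q ∈ Zt := by
      intro x
      obtain ⟨a, rfl⟩ := QuotientGroup.mk'_surjective K0 x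
      refine ⟨a ^ q, (QuotientGroup.eq_one_iff _).1 ?_, by rw [map_pow]⟩
      rw [QuotientGroup.mk_pow]
      exact CfsgLib.PGroup.quotient_frattini_pow hQ _
    have hLq : Subgroup.closure {z : Q ⧸ K0 | ∃ y : Y, ∃ x : Q ⧸ K0, x⁻¹ * α y x = z} = ⊤ := by
      refine top_le_iff.1 fun t _ => ?_
      obtain ⟨a, rfl⟩ := QuotientGroup.mk'_surjective K0 t
      suffices L ≤ (Subgroup.closure {z : Q ⧸ K0 | ∃ y : Y, ∃ x : Q ⧸ K0,
          x⁻¹ * α y x = z}).comap (QuotientGroup.mk' K0) from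
        this (hLtop ▸ Subgroup.mem_top a)
      rw [hL, Subgroup.closure_le]
      rintro _ ⟨y, hy, x, rfl⟩
      exact Subgroup.subset_closure ⟨⟨y, hy⟩, QuotientGroup.mk' K0 x, by
        rw [hα, map_mul, map_inv]⟩
    -- the component is not scalar
    have hne' : ∃ x y : Q ⧸ K0, x * y ≠ y * x := by
      by_contra hcon
      push Not at hcon
      letI : CommGroup (Q ⧸ K0) :=
        { (inferInstance : Group (Q ⧸ K0)) with mul_comm := hcon }
      let N : Q →* Q ⧸ K0 :=
        { toFun := fun x => ∏ y : Y, α y (QuotientGroup.mk' K0 x)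
          map_one' := by simp
          map_mul' := fun m m' => by simp [Finset.prod_mul_distrib] }
      have hN : L ≤ N.ker := by
        rw [hL, Subgroup.closure_le]
        rintro _ ⟨y, hy, x, rfl⟩
        show N (x⁻¹ * y x) = 1
        rw [map_mul, map_inv, inv_mul_eq_one]
        refine (Fintype.prod_equiv (Equiv.mulRight ⟨y, hy⟩) _ _ fun y' => ?_).symm
        show α y' (QuotientGroup.mk' K0 (y x)) = α (y' * ⟨y, hy⟩) (QuotientGroup.mk' K0 x)
        rw [map_mul, MulAut.mul_apply, hα ⟨y, hy⟩]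
      refine hω (MonoidHom.ext fun u' => ?_)
      have h : N (u' : Q) = 1 := hN (hLtop ▸ Subgroup.mem_top _)
      simp only [N, MonoidHom.coe_mk, OneHom.coe_mk, hα,
        Finset.prod_congr rfl fun (y : Y) _ => congrArg (QuotientGroup.mk' K0) (hZY y y.2 u' u'.2),
        Finset.prod_const, Finset.card_univ] at h
      rw [← map_pow, ← Nat.card_eq_fintype_card] at h
      have h' : πW ((u' : Q) ^ Nat.card Y) = 1 := (QuotientGroup.eq_one_iff _).1 h
      rw [← SubgroupClass.coe_pow, hscal, map_pow] at h'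
      obtain ⟨i, hi⟩ := (hQ.to_subgroup Z) u'
      refine orderOf_eq_one_iff.1 (Nat.eq_one_of_dvd_coprimes (hYq.pow_right i)
        (orderOf_dvd_of_pow_eq_one (Units.ext ?_)) (orderOf_dvd_of_pow_eq_one (x := ω u') ?_))
      · exact smul_left_injective K (one_ne_zero : (1 : Module.End K W) ≠ 0)
          (show (((ω u') ^ Nat.card Y : Kˣ) : K) • (1 : Module.End K W) = ((1 : Kˣ) : K) • 1 by
            rw [Units.val_one, one_smul]; exact h')
      · rw [← map_pow, hi, map_one]
    -- the automorphism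
    obtain ⟨t, ht, htK, hqt, hτt⟩ : ∃ t : ℕ, t.Prime ∧ (t : K) ≠ 0 ∧ q ≠ t ∧ orderOf τ = t ∧
        (Nat.card Y).Coprime t := by
      rcases hτf with rfl | hτg
      · exact ⟨l, hl.out, hlK, hql, hf, hYl⟩
      · exact ⟨p, hp.out, hpK, hqp, orderOf_eq hA hf hna hτg, hYp⟩
    obtain ⟨hτt, hYt⟩ := hτt
    haveI := Fact.mk ht
    have hτpow : τ ^ t = 1 := hτt ▸ pow_orderOf_eq_one τ
    have hK0τ : ∀ x ∈ K0, φ τ x ∈ K0 := by
      intro x hx
      refine LinearMap.ext fun w => Subtype.ext ?_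
      show ρ (φ τ x) (w : V) = w
      have hinv : ω.comp (fZ τ⁻¹).toMonoidHom = ω := by
        conv_lhs => rw [← hτω]
        refine MonoidHom.ext fun u => ?_
        show ω (fZ τ (fZ τ⁻¹ u)) = ω u
        rw [← MulAut.mul_apply, ← map_mul, mul_inv_cancel, map_one]; rfl
      have h1' : (w : V) = ε τ (ε τ⁻¹ w) := by
        rw [← Module.End.mul_apply, ← map_mul, mul_inv_cancel, map_one]; rfl
      have h2' : ρ x (ε τ⁻¹ w) = ε τ⁻¹ w :=
        congrArg Subtype.val (LinearMap.congr_fun (MonoidHom.mem_ker.1 hx : πW x = 1)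
          ⟨_, hεW _ hinv w w.2⟩)
      conv_lhs => rw [h1', ← Module.End.mul_apply, ← hρε, Module.End.mul_apply, h2', ← h1']
    obtain ⟨τq, hτq⟩ := CfsgLib.FGS.exists_quotient_mulAut (φ τ) hK0τ
    have hτq1 : ∀ x : Q, τq (QuotientGroup.mk' K0 x) = QuotientGroup.mk' K0 (φ τ x) := fun x => by
      have h := hτq 1 x
      rwa [pow_one, pow_one] at h
    have hτqt : τq ^ t = 1 := MulEquiv.ext fun m => by
      obtain ⟨x, rfl⟩ := QuotientGroup.mk'_surjective K0 m
      rw [hτq, ← map_pow, hτpow, map_one]; rfl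
    have hZτ : ∀ z ∈ Zt, τq z ∈ Zt := by
      rintro _ ⟨z, hz, rfl⟩
      exact ⟨φ τ z, hZchar _ z hz, (hτq1 z).symm⟩
    let Γ : Module.End K W := (ε τ).restrict (hεW τ hτω)
    have hΓ : ∀ x, Γ * π x = π (τq x) * Γ := fun m => by
      obtain ⟨x, rfl⟩ := QuotientGroup.mk'_surjective K0 m
      rw [hτq1, hπ, hπ]
      exact LinearMap.ext fun w => Subtype.ext (LinearMap.congr_fun (hρε τ x) (w : V))
    have hΓpow : ∀ i, ∀ w : W, (((Γ ^ i) w : W) : V) = ε (τ ^ i) w := by
      intro i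
      induction i with
      | zero => intro w; rw [pow_zero, pow_zero, map_one]; rfl
      | succ i ih =>
        intro w
        rw [pow_succ', pow_succ', map_mul, Module.End.mul_apply, Module.End.mul_apply, ← ih]
        rfl
    have hΓt : Γ ^ t = 1 := LinearMap.ext fun w => Subtype.ext (by
      rw [hΓpow, hτpow, map_one]; rfl)
    have hfixW : ∀ w, Γ w = w → w = 0 := by
      intro w hw
      letI := Fintype.ofFinite A
      have hw' : ε τ (w : V) = w := congrArg Subtype.val hw
      have h0 : ∑ a : A, ε a (w : V) = 0 := hVfix _ fun c => by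
        rw [map_sum]
        refine Fintype.sum_equiv (Equiv.mulLeft c) _ _ fun x => ?_
        rw [Equiv.coe_mulLeft, map_mul, Module.End.mul_apply]
      have h := congrArg e h0
      rw [map_zero, map_sum, ← Finset.sum_filter_add_sum_filter_not Finset.univ
        (fun a => a ∈ Subgroup.zpowers τ), Finset.sum_eq_zero (s := Finset.univ.filter
        fun a => ¬ a ∈ Subgroup.zpowers τ), add_zero] at h
      · have hconst : ∀ a ∈ Finset.univ.filter (fun a => a ∈ Subgroup.zpowers τ),
            e (ε a (w : V)) = (w : V) := by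
          intro a ha
          obtain ⟨i, hi⟩ := (isOfFinOrder_of_finite τ).mem_powers_iff_mem_zpowers.2
            (Finset.mem_filter.1 ha).2
          have hi' : τ ^ i = a := hi
          have hε : ∀ j, ε (τ ^ j) (w : V) = w := by
            intro j
            induction j with
            | zero => rw [pow_zero, map_one]; rfl
            | succ j ih => rw [pow_succ', map_mul, Module.End.mul_apply, ih, hw']
          rw [← hi', hε, heW w w.2]
        rw [Finset.sum_congr rfl hconst, Finset.sum_const] at h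
        rw [← Fintype.card_subtype, ← Nat.card_eq_fintype_card,
          show Nat.card {a // a ∈ Subgroup.zpowers τ} = t by rw [Nat.card_zpowers, hτt],
          ← Nat.cast_smul_eq_nsmul K, smul_eq_zero] at h
        exact Subtype.ext (h.resolve_left htK)
      · intro a ha
        have hac := hne a (Finset.mem_filter.1 ha).2
        rw [← Module.End.mul_apply, ← charProj_semiconj ρZ (fZ a) (hρεZ a) ω,
          Module.End.mul_apply]
        have h3 : charProj ρZ (ω.comp (fZ a).toMonoidHom) (w : V) = 0 := by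
          conv_lhs => rw [← heW w w.2, ← Module.End.mul_apply, charProj_mul_of_ne ρZ hac]
          rfl
        rw [h3, map_zero]
    have hτα : ∀ (y : Y) (m : Q ⧸ K0), τq (α y m) = α (fY τ y) (τq m) := by
      intro y m
      obtain ⟨x, rfl⟩ := QuotientGroup.mk'_surjective K0 m
      rw [hα, hτq1, hτq1, hα]
      congr 1
      show φ τ ((y : MulAut Q) x) = (φ τ * (y : MulAut Q) * (φ τ)⁻¹) (φ τ x)
      simp
    have hfYt : fY τ ^ t = 1 := by rw [← map_pow, hτpow, map_one]
    rcases hdich with hall | hfp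
    · rcases hτf with rfl | hτg
      · -- `f` central on `Y`, fixing no class
        refine false_of_component_comm hqt htK hqK (hQ.to_quotient K0) π hinj hZscal hD τq hτqt hZτ
          ?_ hΓ hΓt hfixW hYt α (fun y => MulEquiv.ext fun m => ?_) (fun y => ?_) hLq hne'
        · intro m hm
          obtain ⟨x, rfl⟩ := QuotientGroup.mk'_surjective K0 m
          rw [hτq1, ← map_inv, ← map_mul] at hm
          set N := (K0 ⊔ Z).map (QuotientGroup.mk' Z) with hN
          have hNmem : ∀ v : Q, QuotientGroup.mk' K0 v ∈ Zt ↔ QuotientGroup.mk' Z v ∈ N := by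
            intro v
            rw [hN, hZt, ← Subgroup.mem_comap, ← Subgroup.mem_comap, Subgroup.comap_map_eq,
              Subgroup.comap_map_eq, QuotientGroup.ker_mk', QuotientGroup.ker_mk', sup_comm Z K0,
              sup_assoc, sup_idem]
          rw [hNmem] at hm ⊢
          have hNf : ∀ n ∈ N, fM τ n ∈ N := by
            rintro _ ⟨v, hv, rfl⟩
            refine ⟨φ τ v, ?_, rfl⟩
            obtain ⟨a, ha, b, hb, rfl⟩ := Subgroup.mem_sup_of_normal_right.1 hv
            rw [map_mul]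
            exact Subgroup.mul_mem_sup (hK0τ a ha) (hZchar _ b hb)
          let f' : N → N := fun n => ⟨(n : Q ⧸ Z)⁻¹ * fM τ n, N.mul_mem (N.inv_mem n.2) (hNf n n.2)⟩
          have hf' : Function.Injective f' := fun a b hab => Subtype.ext
            ((CfsgLib.FGS.bijective_inv_mul_apply (fM τ) (hMf hall)).1 (congrArg Subtype.val hab))
          obtain ⟨n, hn⟩ := (Finite.injective_iff_surjective.1 hf') ⟨_, hm⟩
          have hnx : (n : Q ⧸ Z) = QuotientGroup.mk' Z x :=
            (CfsgLib.FGS.bijective_inv_mul_apply (fM τ) (hMf hall)).1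
              ((congrArg Subtype.val hn).trans rfl)
          exact hnx ▸ n.2
        · rw [MulAut.mul_apply, MulAut.mul_apply, hτα, hall]
        · obtain ⟨B, B', hBB, hBρ⟩ := hB y y.2
          have hBW : ∀ w ∈ W, B w ∈ W := fun w hw => (hYω y y.2 1 B hBρ w hw).1
          have hBρ' : ∀ x, B' * ρ ((y : MulAut Q) x) = ρ x * B' := by
            intro x
            have hB'B : B' * B = 1 := mul_eq_one_comm.1 hBB
            calc B' * ρ ((y : MulAut Q) x) = B' * (ρ ((y : MulAut Q) x) * B) * B' := by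
                  rw [mul_assoc, mul_assoc (ρ _), hBB, mul_one]
              _ = B' * (B * ρ x) * B' := by rw [hBρ]
              _ = _ := by rw [← mul_assoc B', hB'B, one_mul]
          have hB'e : B' * e = e * B' := charProj_comm ρZ ω fun u => by
            show B' * ρ (u : Q) = ρ (u : Q) * B'
            conv_lhs => rw [← hZY y y.2 u u.2, hBρ']
          have hB'W : ∀ w ∈ W, B' w ∈ W := fun w hw => ⟨B' w, by
            conv_rhs => rw [← heW w hw, ← Module.End.mul_apply, hB'e]
            rfl⟩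
          refine ⟨B.restrict hBW, B'.restrict hB'W,
            LinearMap.ext fun w => Subtype.ext (LinearMap.congr_fun hBB (w : V)), fun m => ?_⟩
          obtain ⟨x, rfl⟩ := QuotientGroup.mk'_surjective K0 m
          rw [hα, hπ, hπ]
          exact LinearMap.ext fun w => Subtype.ext (LinearMap.congr_fun (hBρ x) (w : V))
      · exact false_of_component_fpf hqt htK hqK (hQ.to_quotient K0) π hinj hZscal hD hexpQ τq hτqt
          hZτ hΓ hΓt hfixW hYq α (fY τ) hfYt (hfpg hall τ hτg) hτα hLq hne'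
    · rcases hτf with rfl | hτg
      · exact false_of_component_fpf hqt htK hqK (hQ.to_quotient K0) π hinj hZscal hD hexpQ τq hτqt
          hZτ hΓ hΓt hfixW hYq α (fY _) hfYt hfp hτα hLq hne'
      · -- the fixed points of `f` act trivially
        have hKill : ∀ z, φ f z = z → z ∈ K0 := by
          intro z hz
          have h := apply_charProj_eq_self' hl.out.pos (hQK Z) fZ ρZ ε hρεZ (χ := ω) hfl
            (fun i hi hil => hne _ fun hmem => ?_) (hec z) (h1 z hz)
          · refine LinearMap.ext fun w => Subtype.ext ?_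
            show ρ z (w : V) = w
            conv_lhs => rw [← heW w w.2, ← Module.End.mul_apply, h, heW w w.2]
          · have hfmem : f ∈ Subgroup.zpowers τ := eq_one_of_pow_mem hf hi hil hmem
            have := Subgroup.orderOf_dvd_natCard _ hfmem
            rw [Nat.card_zpowers, hτt, hf] at this
            have htl := (Nat.prime_dvd_prime_iff_eq hl.out ht).1 this
            exact hτg (by
              rw [Subgroup.eq_of_le_of_card_ge (Subgroup.zpowers_le.2 hfmem)
                (by rw [Nat.card_zpowers, Nat.card_zpowers, hτt, hf, htl])]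
              exact Subgroup.mem_zpowers τ)
        have hT := hspanC hfp (K0.map (QuotientGroup.mk' Z))
          (by rintro y _ ⟨x, hx, rfl⟩; exact ⟨(y : MulAut Q) x, hKY y y.2 x hx, rfl⟩)
          (fun m hm => by
            obtain ⟨x, rfl⟩ := QuotientGroup.mk_surjective m
            obtain ⟨z, hz, hzfix⟩ := hliftM x hm
            exact ⟨z, hKill z hzfix, hz⟩)
        obtain ⟨a, b, hab⟩ := hne'
        obtain ⟨a, rfl⟩ := QuotientGroup.mk'_surjective K0 a
        obtain ⟨k', hk', hka⟩ := (hT ▸ Subgroup.mem_top (QuotientGroup.mk' Z a) :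
          QuotientGroup.mk' Z a ∈ K0.map (QuotientGroup.mk' Z))
        have hd : k'⁻¹ * a ∈ Z := QuotientGroup.eq.1 hka
        refine hab (commute_of_scalar hinj (hZscal _ ⟨_, hd, ?_⟩) b).symm
        rw [map_mul, map_inv, show QuotientGroup.mk' K0 k' = 1 from
          (QuotientGroup.eq_one_iff k').2 hk', inv_one, one_mul]
  -- the abelian case
  let ρM : Q ⧸ Z →* Module.End K V :=
    QuotientGroup.lift Z ρ fun u hu => hρZ1 ⟨u, hu⟩
  have hρM : ∀ x, ρM (QuotientGroup.mk x) = ρ x := fun x => rfl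
  have hρεM : ∀ a m, ε a * ρM m = ρM (fM a m) * ε a := fun a m => by
    obtain ⟨x, rfl⟩ := QuotientGroup.mk_surjective m
    exact hρε a x
  have hMK : (Nat.card (Q ⧸ Z) : K) ≠ 0 := by
    obtain ⟨i, hi⟩ := hMp.exists_card_eq
    rw [hi, Nat.cast_pow]; exact pow_ne_zero _ hqK
  let P : (Q ⧸ Z →* Kˣ) → Prop := fun ψ => charProj ρM ψ ≠ 0 ∧ ψ ≠ 1
  have hPY : ∀ (y : Y) ψ, P ψ → P (ψ.comp (αM y).toMonoidHom) := by
    rintro y ψ ⟨hψ0, hψ1⟩
    refine ⟨?_, fun h => hψ1 (MonoidHom.ext fun m => ?_)⟩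
    · obtain ⟨B, B', hBB, hBρ⟩ := hB y y.2
      intro h0
      have h := charProj_semiconj ρM (αM y) (S := B) (fun m => by
        obtain ⟨x, rfl⟩ := QuotientGroup.mk_surjective m
        rw [hαM, hρM, hρM]
        exact hBρ x) ψ
      rw [h0, mul_zero] at h
      refine hψ0 ?_
      calc charProj ρM ψ = charProj ρM ψ * B * B' := by rw [mul_assoc, hBB, mul_one]
        _ = 0 := by rw [← h, zero_mul]
    · obtain ⟨m, rfl⟩ := (αM y).surjective m
      exact DFunLike.congr_fun h m
  have htype : ∀ ψ, P ψ → ∃ τ : A, τ ≠ 1 ∧ (τ = f ∨ τ ∉ Subgroup.zpowers f) ∧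
      (∀ m, ψ (fM τ m) = ψ m) ∧ ∀ c : A, c ∉ Subgroup.zpowers τ →
        ¬ ∀ m, ψ (fM c m) = ψ m := by
    rintro ψ ⟨hψ0, hψ1⟩
    obtain ⟨τ, h₁, h₂, h₃, h₄⟩ :=
      exists_type hpK hlK hA hf hna hqp hql hMp hqK fM hMfix ρM ε hρεM hVfix hψ0 hψ1
    exact ⟨τ, h₁, h₂, fun m => DFunLike.congr_fun h₃ m, fun c hc h => h₄ c hc (MonoidHom.ext h)⟩
  have hiter : ∀ (ψ : Q ⧸ Z →* Kˣ) (a : A), (∀ m, ψ (fM a m) = ψ m) → ∀ (j : ℕ) m,
      ψ (fM (a ^ j) m) = ψ m := by
    intro ψ a h j
    induction j with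
    | zero => intro m; rw [pow_zero, map_one]; rfl
    | succ j ih => intro m; rw [pow_succ, map_mul, MulAut.mul_apply, ih, h]
  -- no character is fixed by `f`
  have hnoF : ∀ ψ, P ψ → ¬ ∀ m, ψ (fM f m) = ψ m := by
    intro lam hP hlam
    obtain ⟨hlam0, hlam1⟩ := hP
    rcases hdich with hall | hfp
    · refine hlam1 (MonoidHom.ext fun m => ?_)
      obtain ⟨v, rfl⟩ := (CfsgLib.FGS.bijective_inv_mul_apply (fM f) (hMf hall)).2 m
      rw [map_mul, map_inv, hlam, inv_mul_cancel, MonoidHom.one_apply]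
    let S : Subgroup Y :=
      { carrier := {y | ∀ m, lam (αM y m) = lam m}
        one_mem' := fun m => by rw [map_one]; rfl
        mul_mem' := fun {a b} ha hb m => by rw [map_mul, MulAut.mul_apply, ha, hb]
        inv_mem' := fun {a} ha m => by
          have h := ha (αM a⁻¹ m)
          rw [← MulAut.mul_apply, ← map_mul, mul_inv_cancel, map_one, MulAut.one_apply] at h
          exact h.symm }
    have hlamf' : ∀ m, lam (fM f⁻¹ m) = lam m := fun m => by
      have h := hlam (fM f⁻¹ m)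
      rw [← MulAut.mul_apply, ← map_mul, mul_inv_cancel, map_one, MulAut.one_apply] at h
      exact h.symm
    have hSf : ∀ y ∈ S, fY f y ∈ S := fun y hy m => by
      obtain ⟨m, rfl⟩ := (fM f).surjective m
      rw [← hconj, hlam, hy, hlam]
    let D : S → S := fun y => ⟨(y : Y)⁻¹ * fY f y, S.mul_mem (S.inv_mem y.2) (hSf y y.2)⟩
    have hbij := CfsgLib.FGS.bijective_inv_mul_apply (fY f) hfp
    have hDsurj : Function.Surjective D := Finite.injective_iff_surjective.1 fun a b hab =>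
      Subtype.ext (hbij.1 (congrArg Subtype.val hab))
    have hDS : ∀ y : Y, y⁻¹ * fY f y ∈ S → y ∈ S := fun y hy => by
      obtain ⟨z, hz⟩ := hDsurj ⟨_, hy⟩
      rw [← hbij.1 (congrArg Subtype.val hz : (z : Y)⁻¹ * fY f z = y⁻¹ * fY f y)]
      exact z.2
    have key : ∀ y : Y, (∀ m, lam (αM y (fM f m)) = lam (αM y m)) → y ∈ S := by
      intro y hy
      have h2' : ∀ m, lam (αM y m) = lam (αM (fY f y) m) := by
        intro m
        obtain ⟨m, rfl⟩ := (fM f).surjective m
        rw [hy, ← hconj, hlam]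
      refine hDS y fun m => ?_
      obtain ⟨v, rfl⟩ := (αM y).surjective m
      rw [map_mul, MulAut.mul_apply,
        show αM y⁻¹ (αM (fY f y) (αM y v)) = αM (fY f y) v by
          rw [← MulAut.mul_apply, ← MulAut.mul_apply, ← map_mul, ← map_mul]
          congr 2
          rw [mul_comm, mul_inv_cancel_left], ← h2']
    refine hlam1 (hkillY lam fun y m => ?_)
    suffices y ∈ S from this m
    obtain ⟨τ, -, hτ, hμ, -⟩ := htype _ (hPY y lam ⟨hlam0, hlam1⟩)
    have hμ' : ∀ m, lam (αM y (fM τ m)) = lam (αM y m) := hμ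
    rcases hτ with rfl | hτg
    · exact key y hμ'
    exfalso
    set z : Y := y * (fY τ⁻¹ y)⁻¹ with hz
    have hz1 : ∀ n, lam (fM τ n) = lam (αM z n) := by
      intro n
      obtain ⟨m, rfl⟩ := (αM (fY τ⁻¹ y)).surjective n
      have e : fM τ (αM (fY τ⁻¹ y) m) = αM y (fM τ m) := by
        rw [hconj, show fY τ (fY τ⁻¹ y) = y by
          rw [← MulAut.mul_apply, ← map_mul, mul_inv_cancel, map_one, MulAut.one_apply]]
      rw [e, hμ', hz, map_mul, MulAut.mul_apply, map_inv, MulAut.inv_apply_self]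
    have hzS : z ∈ S := by
      refine key z fun m => ?_
      rw [← hz1, ← hz1]
      obtain ⟨i, hi⟩ := (isOfFinOrder_of_finite f).mem_powers_iff_mem_zpowers.2
        (show τ * f * τ⁻¹ ∈ Subgroup.zpowers f from hfn.conj_mem f (Subgroup.mem_zpowers f) τ)
      rw [← MulAut.mul_apply, ← map_mul,
        show τ * f = f ^ i * τ by rw [show f ^ i = τ * f * τ⁻¹ from hi]; group, map_mul,
        MulAut.mul_apply, hiter lam f hlam]
    have hfix : ∀ m, lam (fM τ m) = lam m := fun m => (hz1 m).trans (hzS m)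
    obtain ⟨σ, -, hσ, hσlam, hσmax⟩ := htype lam ⟨hlam0, hlam1⟩
    rcases hσ with rfl | hσg
    · exact hσmax τ hτg hfix
    · refine hσmax f (fun hmem => ?_) hlam
      have := Subgroup.orderOf_dvd_natCard _ hmem
      rw [Nat.card_zpowers, orderOf_eq hA hf hna hσg, hf] at this
      have hpl := (Nat.prime_dvd_prime_iff_eq hl.out hp.out).1 this
      exact hσg (by
        rw [Subgroup.eq_of_le_of_card_ge (Subgroup.zpowers_le.2 hmem)
          (by rw [Nat.card_zpowers, Nat.card_zpowers, orderOf_eq hA hf hna hσg, hf, hpl])]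
        exact Subgroup.mem_zpowers σ)
  obtain ⟨χ, hχ0, hχ1⟩ : ∃ χ : Q ⧸ Z →* Kˣ, charProj ρM χ ≠ 0 ∧ χ ≠ 1 := by
    by_contra hcon
    push Not at hcon
    obtain ⟨x, hx⟩ := hρ
    refine hx ?_
    rw [← hρM]
    refine ext_charProj ρM hMK fun χ => ?_
    rw [charProj_mul_apply, mul_one]
    by_cases h : charProj ρM χ = 0
    · rw [h, smul_zero]
    · rw [hcon χ h, MonoidHom.one_apply, Units.val_one, one_smul]
  rcases hdich with hall | hfp
  · obtain ⟨g, -, hg, hgχ, hgmax⟩ := htype χ ⟨hχ0, hχ1⟩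
    rcases hg with rfl | hg
    · exact hnoF χ ⟨hχ0, hχ1⟩ hgχ
    refine hχ1 (hkillY χ fun w m => ?_)
    obtain ⟨y, hy⟩ := ((Equiv.inv Y).bijective.comp (CfsgLib.FGS.bijective_inv_mul_apply (fY g⁻¹)
      fun v hv => hfpg hall g⁻¹ (fun h => hg (by simpa using Subgroup.inv_mem _ h)) v hv)).2 w
    have hy' : y * (fY g⁻¹ y)⁻¹ = w := by
      rw [← hy]
      show y * (fY g⁻¹ y)⁻¹ = (y⁻¹ * fY g⁻¹ y)⁻¹
      rw [mul_inv_rev, inv_inv, mul_comm]
    obtain ⟨σ, -, hσ, hσμ, -⟩ := htype _ (hPY y χ ⟨hχ0, hχ1⟩)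
    have hσg : σ ∉ Subgroup.zpowers f := by
      rcases hσ with rfl | h
      · exact absurd hσμ (hnoF _ (hPY y χ ⟨hχ0, hχ1⟩))
      · exact h
    obtain ⟨i, j, hij⟩ := exists_pow_mul_pow hA hf hσg g
    obtain ⟨i', hi'⟩ : ∃ i' : ℕ, σ ^ j = f ^ i' * g := by
      obtain ⟨i', hi'⟩ := (isOfFinOrder_of_finite f).mem_powers_iff_mem_zpowers.2
        (Subgroup.inv_mem _ (Subgroup.npow_mem_zpowers f i))
      exact ⟨i', by rw [show f ^ i' = (f ^ i)⁻¹ from hi', hij, inv_mul_cancel_left]⟩
    obtain ⟨i'', hi''⟩ : ∃ i'' : ℕ, f ^ i' * g = g * f ^ i'' := by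
      obtain ⟨i'', hi''⟩ := (isOfFinOrder_of_finite f).mem_powers_iff_mem_zpowers.2
        (show g⁻¹ * f ^ i' * g ∈ Subgroup.zpowers f by
          simpa using hfn.conj_mem _ (Subgroup.npow_mem_zpowers f i') g⁻¹)
      exact ⟨i'', by rw [show f ^ i'' = g⁻¹ * f ^ i' * g from hi'']; group⟩
    have hfpow : ∀ (k : ℕ) (v : Y), fY (f ^ k) v = v := fun k v => by
      rw [map_pow]; exact pow_apply_fixed (hall v) k
    have hw1 : ∀ n, χ (fM (f ^ i'') n) = χ (αM w n) := by
      intro n
      obtain ⟨v, rfl⟩ := (αM (fY g⁻¹ y)).surjective n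
      have h := hiter _ σ hσμ j v
      have h' : χ (αM y (fM (σ ^ j) v)) = χ (αM y v) := h
      have e : αM y (fM (σ ^ j) v) = fM g (fM (f ^ i'') (αM (fY g⁻¹ y) v)) := by
        rw [hi', hi'', map_mul, MulAut.mul_apply, hconj (f ^ i''), hfpow, hconj g,
          show fY g (fY g⁻¹ y) = y by
            rw [← MulAut.mul_apply, ← map_mul, mul_inv_cancel, map_one, MulAut.one_apply]]
      rw [e, hgχ] at h'
      rw [h', ← hy', map_mul, MulAut.mul_apply, map_inv, MulAut.inv_apply_self]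
    have hwk : ∀ k : ℕ, ∀ n, χ (fM (f ^ (i'' * k)) n) = χ (αM (w ^ k) n) := by
      intro k
      induction k with
      | zero => intro n; simp
      | succ k ih =>
        intro n
        have e : αM (w ^ k) (fM (f ^ i'') n) = fM (f ^ i'') (αM (w ^ k) n) := by
          rw [hconj (f ^ i''), hfpow]
        rw [Nat.mul_succ, pow_add, map_mul, MulAut.mul_apply, ih, e, hw1, pow_succ', map_mul,
          MulAut.mul_apply]
    have hdvd : l ∣ i'' * Nat.card Y := by
      by_contra hnd
      refine hgmax (f ^ (i'' * Nat.card Y)) (fun hmem => ?_)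
        (fun n => by rw [hwk, pow_card_eq_one', map_one]; rfl)
      have hfm : f ∈ Subgroup.zpowers g := by
        refine eq_one_of_pow_mem hf (Nat.pos_of_ne_zero fun h0 => hnd
          (Nat.dvd_of_mod_eq_zero h0)) (Nat.mod_lt _ hl.out.pos) ?_
        rwa [show f ^ ((i'' * Nat.card Y) % l) = f ^ (i'' * Nat.card Y) by
          rw [← hf, pow_mod_orderOf]]
      have := Subgroup.orderOf_dvd_natCard _ hfm
      rw [Nat.card_zpowers, orderOf_eq hA hf hna hg, hf] at this
      have hpl := (Nat.prime_dvd_prime_iff_eq hl.out hp.out).1 this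
      exact hg (by
        rw [Subgroup.eq_of_le_of_card_ge (Subgroup.zpowers_le.2 hfm)
          (by rw [Nat.card_zpowers, Nat.card_zpowers, orderOf_eq hA hf hna hg, hf, hpl])]
        exact Subgroup.mem_zpowers g)
    obtain ⟨d, hd⟩ := (hl.out.dvd_mul.1 hdvd).resolve_right fun h =>
      hl.out.ne_one (Nat.eq_one_of_dvd_coprimes hYl h dvd_rfl)
    rw [← hw1, hd, pow_mul, hfl, one_pow, map_one, MulAut.one_apply]
  · let T : Subgroup (Q ⧸ Z) :=
      { carrier := {m | ∀ ψ, P ψ → ψ m = 1}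
        one_mem' := fun ψ _ => map_one ψ
        mul_mem' := fun {a b} ha hb ψ hψ => by rw [map_mul, ha ψ hψ, hb ψ hψ, one_mul]
        inv_mem' := fun {a} ha ψ hψ => by rw [map_inv, ha ψ hψ, inv_one] }
    have hT : T = ⊤ := by
      refine hspanC hfp T (fun y m hm ψ hψ => hm _ (hPY y ψ hψ)) fun m hm ψ hψ => ?_
      obtain ⟨x, rfl⟩ := QuotientGroup.mk_surjective m
      obtain ⟨z, hz, hzfix⟩ := hliftM x hm
      obtain ⟨τ, -, hτ, hτψ, hmax⟩ := htype ψ hψ
      rcases hτ with rfl | hτg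
      · exact absurd hτψ (hnoF ψ hψ)
      have h := apply_charProj_eq_self' hl.out.pos hMK fM ρM ε hρεM (χ := ψ) hfl
        (fun i hi hil heq => hmax (f ^ i) (fun hmem => ?_) (fun n => DFunLike.congr_fun heq n))
        (T := ρM (QuotientGroup.mk z)) (charProj_comm ρM ψ fun u => by
          rw [← map_mul, ← map_mul, mul_comm]) (h1 z hzfix)
      · rw [apply_mul_charProj, hz] at h
        exact Units.ext (smul_left_injective K hψ.1
          (show ((ψ (QuotientGroup.mk x) : Kˣ) : K) • charProj ρM ψ = (1 : K) • charProj ρM ψ by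
            rw [h, one_smul]))
      · have hfm : f ∈ Subgroup.zpowers τ := eq_one_of_pow_mem hf hi hil hmem
        have := Subgroup.orderOf_dvd_natCard _ hfm
        rw [Nat.card_zpowers, orderOf_eq hA hf hna hτg, hf] at this
        have hpl := (Nat.prime_dvd_prime_iff_eq hl.out hp.out).1 this
        exact hτg (by
          rw [Subgroup.eq_of_le_of_card_ge (Subgroup.zpowers_le.2 hfm)
            (by rw [Nat.card_zpowers, Nat.card_zpowers, orderOf_eq hA hf hna hτg, hf, hpl])]
          exact Subgroup.mem_zpowers τ)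
    exact hχ1 (MonoidHom.ext fun m => (hT ▸ Subgroup.mem_top m : m ∈ T) χ ⟨hχ0, hχ1⟩)

end

end PQ

end CfsgLib.Solvable
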