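import Cfsg.Agent.Lib.Solvable.WardCore
import Cfsg.Agent.Lib.Solvable.GrossReduction
import Cfsg.Agent.Lib.PStab.QuadPair

/-!
Ward's theorem: a finite solvable group with a group of automorphisms of order `p ^ 2` and exponent
`p` without common fixed points has Fitting height at most `2`.
-/

set_option autoImplicit false

open scoped commutatorElement TensorProduct

namespace CfsgLib.Solvable

universe u

theorem mem_fitting_sup {G : Type*} [Group G] [Finite G] {l : ℕ} [Fact l.Prime] {g : G}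
    (hg : g ∈ Cfsg.fittingSubgroup G) :
    g ∈ Cfsg.pCore l G ⊔ Subgroup.centralizer (Cfsg.pCore l G : Set G) := by
  refine (CfsgLib.Cores.fittingSubgroup_le_iSup_pCore.trans (iSup_le fun r => ?_)) hg
  by_cases hr : (r : ℕ) = l
  · rw [hr]; exact le_sup_left
  · haveI : Fact (r : ℕ).Prime := ⟨Nat.prime_of_mem_primeFactors r.2⟩
    exact fun x hx => Subgroup.mem_sup_right (Subgroup.mem_centralizer_iff.2 fun a ha =>
      (CfsgLib.Cores.commute_pCore_of_ne hr hx ha).eq.symm)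

/-- A normal subgroup which is an `l`-group modulo the Fitting subgroup induces an `l`-group on the
`l`-core. -/
theorem mk_mem_pCore_quot_centralizer {G : Type*} [Group G] [Finite G] {l : ℕ} [Fact l.Prime]
    (L : Subgroup G) [L.Normal] (hL : ∀ x ∈ L, ∃ i : ℕ, x ^ (l ^ i) ∈ Cfsg.fittingSubgroup G)
    {g : G} (hg : g ∈ L) :
    QuotientGroup.mk' (Subgroup.centralizer (Cfsg.pCore l G : Set G)) g ∈
      Cfsg.pCore l (G ⧸ Subgroup.centralizer (Cfsg.pCore l G : Set G)) := by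
  haveI : (Cfsg.pCore l G).Characteristic := CfsgLib.Cores.pCore_characteristic l
  set C := Subgroup.centralizer (Cfsg.pCore l G : Set G) with hC
  haveI : C.Normal := inferInstance
  haveI : (L.map (QuotientGroup.mk' C)).Normal :=
    (inferInstance : L.Normal).map _ (QuotientGroup.mk'_surjective C)
  have hp : IsPGroup l (L.map (QuotientGroup.mk' C)) := by
    rintro ⟨_, x, hx, rfl⟩
    obtain ⟨i, hi⟩ := hL x hx
    have h := mem_fitting_sup (l := l) hi
    obtain ⟨a, ha, c, hc, hac⟩ := Subgroup.mem_sup_of_normal_left.1 h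
    obtain ⟨j, hj⟩ := (CfsgLib.Cores.isPGroup_pCore (G := G) l) ⟨a, ha⟩
    refine ⟨i + j, Subtype.ext ?_⟩
    have haj : a ^ (l ^ j) = 1 := congrArg Subtype.val hj
    show (QuotientGroup.mk' C x) ^ (l ^ (i + j)) = 1
    rw [pow_add, pow_mul, ← map_pow, ← hac, map_mul,
      show QuotientGroup.mk' C c = 1 from (QuotientGroup.eq_one_iff c).2 hc, mul_one, ← map_pow, haj,
      map_one]
  exact CfsgLib.Cores.le_pCore hp ⟨g, hg, rfl⟩

/-- An element that is an `l`-element modulo the Fitting subgroup and centralises the other cores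
lies in the Fitting subgroup. -/
theorem mem_fitting_of_centralizes {G : Type*} [Group G] [Finite G] [Group.IsSolvable G] {l : ℕ}
    [Fact l.Prime] (L : Subgroup G) [L.Normal]
    (hL : ∀ x ∈ L, ∃ i : ℕ, x ^ (l ^ i) ∈ Cfsg.fittingSubgroup G) {g : G} (hg : g ∈ L)
    (hc : ∀ r : ℕ, r.Prime → r ≠ l → g ∈ Subgroup.centralizer (Cfsg.pCore r G : Set G)) :
    g ∈ Cfsg.fittingSubgroup G := by
  refine mem_fitting_of_forall g fun r hr => ?_
  rcases eq_or_ne r l with rfl | hrl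
  · exact mk_mem_pCore_quot_centralizer L hL hg
  · rw [show QuotientGroup.mk' (Subgroup.centralizer (Cfsg.pCore r G : Set G)) g = 1 from
      (QuotientGroup.eq_one_iff g).2 (hc r hr hrl)]
    exact one_mem _

section

variable {A : Type*} [CommGroup A] [Finite A] {p : ℕ} [hp : Fact p.Prime]

omit [Finite A] in
theorem not_dvd_card_of_fixed_eq_one {G : Type*} [Group G] [Finite G] (hA : IsPGroup p A)
    (φ : A →* MulAut G) (hfix : ∀ x, (∀ a, φ a x = x) → x = 1) : ¬ p ∣ Nat.card G := by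
  intro hdvd
  letI : MulAction A G :=
    { smul := fun a x => φ a x
      one_smul := fun x => by show φ 1 x = x; rw [map_one]; rfl
      mul_smul := fun a b x => by show φ (a * b) x = φ a (φ b x); rw [map_mul]; rfl }
  have h1 : (1 : G) ∈ MulAction.fixedPoints A G := fun a => map_one (φ a)
  obtain ⟨b, hb, hne⟩ := hA.exists_fixed_point_of_prime_dvd_card_of_fixed_point G hdvd h1
  exact hne (hfix b hb).symm

/-- Elements of coprime orders fixed by the same nontrivial element commute. -/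
theorem commute_of_fixed_of_coprime (hA : Nat.card A = p ^ 2) (hexp : ∀ a : A, a ^ p = 1)
    {G : Type*} [Group G] [Finite G] (φ : A →* MulAut G)
    (hfix : ∀ x, (∀ a, φ a x = x) → x = 1) {a : A} (ha : a ≠ 1) {x z : G} (hx : φ a x = x)
    (hz : φ a z = z) (hcop : (orderOf x).Coprime (orderOf z)) : x * z = z * x := by
  obtain ⟨b, hb⟩ : ∃ b, b ∉ Subgroup.zpowers a := by
    by_contra hcon
    push Not at hcon
    have h1 : Nat.card A = p := by
      rw [← Subgroup.card_top (G := A), ← eq_top_iff.2 (fun y _ => hcon y : ⊤ ≤ Subgroup.zpowers a),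
        Nat.card_zpowers, orderOf_eq_prime (hexp a) ha]
    rw [hA] at h1
    have := hp.out.two_le
    nlinarith
  let C : Subgroup G := (φ a).toMonoidHom.eqLocus (MonoidHom.id G)
  have hC : ∀ y, y ∈ C ↔ φ a y = y := fun y => Iff.rfl
  have hCb : ∀ y ∈ C, φ b y ∈ C := fun y hy => by
    rw [hC] at hy ⊢
    rw [← MulAut.mul_apply, ← map_mul, mul_comm, map_mul, MulAut.mul_apply, hy]
  obtain ⟨ψ, hψ⟩ := CfsgLib.FGS.exists_restrict_mulAut (φ b) hCb
  haveI : Group.IsNilpotent C := by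
    refine CfsgLib.FGS.isNilpotent_of_fpf_prime hp.out ψ (fun y hy => Subtype.ext (hfix y ?_))
      (MulEquiv.ext fun y => Subtype.ext (by rw [hψ, ← map_pow, hexp, map_one]; rfl))
    have hby : φ b (y : G) = y := by
      have h := hψ 1 y
      rw [pow_one, pow_one, hy] at h
      exact h.symm
    intro d
    obtain ⟨i, k, rfl⟩ := exists_pow_mul_pow hA hexp ha hb d
    rw [map_mul, MulAut.mul_apply, map_pow, map_pow, pow_apply_fixed hby,
      pow_apply_fixed ((hC _).1 y.2)]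
  have h := CfsgLib.OddLocal.commute_of_coprime_orderOf (⟨x, hx⟩ : C) ⟨z, hz⟩
    (by rw [← Subgroup.orderOf_coe, ← Subgroup.orderOf_coe]; exact hcop)
  exact congrArg Subtype.val h

set_option maxHeartbeats 1000000 in
theorem false_of_ward_groups_aux {q r : ℕ} [hq : Fact q.Prime] [hr : Fact r.Prime] (hqp : q ≠ p)
    (hqr : q ≠ r) (hrp : r ≠ p) (hA : Nat.card A = p ^ 2) (hexp : ∀ a : A, a ^ p = 1)
    {Q : Type*} [Group Q] [Finite Q] (hQ : IsPGroup q Q) (φ : A →* MulAut Q)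
    (hQfix : ∀ x, (∀ a, φ a x = x) → x = 1) {M : Type*} [CommGroup M] [Finite M]
    [Module (ZMod r) (Additive M)] (ρ0 : Q →* MulAut M) (ε0 : A →* MulAut M)
    (hρε : ∀ a x, ε0 a * ρ0 x = ρ0 (φ a x) * ε0 a) (hMfix : ∀ v, (∀ a, ε0 a v = v) → v = 1)
    (h1 : ∀ a : A, a ≠ 1 → ∀ x, φ a x = x → ∀ v, ε0 a v = v → ρ0 x v = v)
    (Y : Subgroup (MulAut Q)) (hYq : (Nat.card Y).Coprime q) (hYp : ¬ p ∣ Nat.card Y)
    (hYc : ∀ y ∈ Y, ∀ z ∈ Y, y * z = z * y) (hYA : ∀ a, ∀ y ∈ Y, φ a * y * (φ a)⁻¹ ∈ Y)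
    (h2 : ∀ a : A, a ≠ 1 → ∀ y ∈ Y, φ a * y = y * φ a → ∀ x, φ a x = x → y x = x)
    (hB : ∀ y ∈ Y, ∃ B B' : MulAut M, B * B' = 1 ∧ ∀ x, B * ρ0 x = ρ0 (y x) * B)
    (hmin : ∀ H : Subgroup Q, H ≠ ⊤ → (∀ a, ∀ x ∈ H, φ a x ∈ H) →
      (∀ y ∈ Y, ∀ x ∈ H, y x ∈ H) → ∀ y ∈ Y, ∀ x ∈ H, y x = x)
    (hY1 : ∃ y ∈ Y, y ≠ 1) (hρ : ∃ x, ρ0 x ≠ 1) : False := by
  classical
  let K := AlgebraicClosure (ZMod r)
  haveI : Finite (Additive M) := Finite.of_equiv M Additive.ofMul
  haveI : Module.Finite (ZMod r) (Additive M) := Module.Finite.of_finite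
  let g : Module.End (ZMod r) (Additive M) →ₐ[ZMod r] Module.End K (K ⊗[ZMod r] Additive M) :=
    Module.End.baseChangeHom (ZMod r) K (Additive M)
  let e : MulAut M →* Module.End K (K ⊗[ZMod r] Additive M) :=
    (g : Module.End (ZMod r) (Additive M) →* _).comp (zmodAut r)
  have he : ∀ f, e f = g (zmodAut r f) := fun f => rfl
  have hcast : ∀ l : ℕ, l.Prime → l ≠ r → (l : K) ≠ 0 := fun l hl hlr h => hlr
    ((Nat.prime_dvd_prime_iff_eq hr.out hl).1 ((CharP.cast_eq_zero_iff K r l).1 h)).symm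
  letI := Fintype.ofFinite A
  refine false_of_ward_core (K := K) hqp (hcast q hq.out hqr) (hcast p hp.out hrp.symm) hA hexp hQ
    φ hQfix (e.comp ρ0) (e.comp ε0) (fun a x => ?_) (fun v hv => ?_) (fun a ha x hx v hv => ?_) Y
    hYq hYp hYc hYA h2 (fun y hy => ?_) hmin hY1 ?_
  · show e (ε0 a) * e (ρ0 x) = e (ρ0 (φ a x)) * e (ε0 a)
    rw [← map_mul, ← map_mul, hρε]
  · have h0 : ∑ a : A, zmodAut r (ε0 a) = 0 := LinearMap.ext fun w => by
      rw [LinearMap.sum_apply, LinearMap.zero_apply]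
      refine Additive.toMul.injective ?_
      rw [toMul_zero, toMul_sum]
      refine hMfix _ fun c => ?_
      rw [map_prod]
      refine Fintype.prod_equiv (Equiv.mulLeft c) _ _ fun a => ?_
      rw [Equiv.coe_mulLeft, zmodAut_apply, zmodAut_apply, toMul_ofMul, toMul_ofMul, map_mul]
      rfl
    have h3 := LinearMap.congr_fun (congrArg g h0) v
    rw [map_zero, LinearMap.zero_apply, map_sum, LinearMap.sum_apply,
      Finset.sum_congr rfl fun a _ => (show g (zmodAut r (ε0 a)) v = v from hv a), Finset.sum_const,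
      Finset.card_univ, ← Nat.card_eq_fintype_card, hA, ← Nat.cast_smul_eq_nsmul K,
      smul_eq_zero] at h3
    exact h3.resolve_left (by rw [Nat.cast_pow]; exact pow_ne_zero _ (hcast p hp.out hrp.symm))
  · have h3 : zmodAut r (ρ0 x) * ∑ i ∈ Finset.range p, zmodAut r (ε0 (a ^ i)) =
        ∑ i ∈ Finset.range p, zmodAut r (ε0 (a ^ i)) := LinearMap.ext fun w => by
      rw [Module.End.mul_apply, zmodAut_apply]
      refine congrArg Additive.ofMul (h1 a ha x hx _ ?_)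
      let ε' : A →* AddMonoid.End (Additive M) :=
        { toFun := fun b => (zmodAut r (ε0 b)).toAddMonoidHom
          map_one' := by rw [map_one, map_one]; rfl
          map_mul' := fun b c => by rw [map_mul, map_mul]; rfl }
      have h4 := congrArg Additive.toMul (sum_range_eq_of_pow ε' (hexp a) w)
      rw [LinearMap.sum_apply]
      exact h4
    have h5 := LinearMap.congr_fun (congrArg g h3) v
    rw [map_mul, Module.End.mul_apply, map_sum, LinearMap.sum_apply] at h5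
    have h6 : ∀ i, g (zmodAut r (ε0 (a ^ i))) v = v := by
      intro i
      induction i with
      | zero => rw [pow_zero, map_one, map_one, map_one]; rfl
      | succ i ih =>
        rw [pow_succ, map_mul, map_mul, map_mul, Module.End.mul_apply,
          show g (zmodAut r (ε0 a)) v = v from hv]
        exact ih
    rw [Finset.sum_congr rfl fun i _ => h6 i, Finset.sum_const, Finset.card_range,
      ← Nat.cast_smul_eq_nsmul K, map_smul] at h5
    exact smul_right_injective _ (hcast p hp.out hrp.symm) h5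
  · obtain ⟨B, B', hBB, hBρ⟩ := hB y hy
    refine ⟨e B, e B', by rw [← map_mul, hBB, map_one], fun x => ?_⟩
    show e B * e (ρ0 x) = e (ρ0 (y x)) * e B
    rw [← map_mul, ← map_mul, hBρ]
  · obtain ⟨x, hx⟩ := hρ
    refine ⟨x, fun h => hx (MulEquiv.ext fun v => ?_)⟩
    have h3 := LinearMap.baseChangeHom_injective (R := ZMod r) (S := K) (M := Additive M)
      (N := Additive M) (a₁ := zmodAut r (ρ0 x)) (a₂ := zmodAut r (1 : MulAut M))
      (h.trans ((map_one e).symm.trans (he 1)))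
    have h4 := LinearMap.congr_fun h3 (Additive.ofMul v)
    rw [zmodAut_apply, zmodAut_apply] at h4
    exact Additive.ofMul.injective h4

theorem false_of_ward_groups {q r : ℕ} [hq : Fact q.Prime] [hr : Fact r.Prime] (hqp : q ≠ p)
    (hqr : q ≠ r) (hrp : r ≠ p) (hA : Nat.card A = p ^ 2) (hexp : ∀ a : A, a ^ p = 1)
    {Q : Type*} [Group Q] [Finite Q] (hQ : IsPGroup q Q) (φ : A →* MulAut Q)
    (hQfix : ∀ x, (∀ a, φ a x = x) → x = 1) {M : Type*} [CommGroup M] [Finite M]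
    (hM : ∀ v : M, v ^ r = 1) (ρ0 : Q →* MulAut M) (ε0 : A →* MulAut M)
    (hρε : ∀ a x, ε0 a * ρ0 x = ρ0 (φ a x) * ε0 a) (hMfix : ∀ v, (∀ a, ε0 a v = v) → v = 1)
    (h1 : ∀ a : A, a ≠ 1 → ∀ x, φ a x = x → ∀ v, ε0 a v = v → ρ0 x v = v)
    (Y : Subgroup (MulAut Q)) (hYq : (Nat.card Y).Coprime q) (hYp : ¬ p ∣ Nat.card Y)
    (hYc : ∀ y ∈ Y, ∀ z ∈ Y, y * z = z * y) (hYA : ∀ a, ∀ y ∈ Y, φ a * y * (φ a)⁻¹ ∈ Y)
    (h2 : ∀ a : A, a ≠ 1 → ∀ y ∈ Y, φ a * y = y * φ a → ∀ x, φ a x = x → y x = x)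
    (hB : ∀ y ∈ Y, ∃ B B' : MulAut M, B * B' = 1 ∧ ∀ x, B * ρ0 x = ρ0 (y x) * B)
    (hmin : ∀ H : Subgroup Q, H ≠ ⊤ → (∀ a, ∀ x ∈ H, φ a x ∈ H) →
      (∀ y ∈ Y, ∀ x ∈ H, y x ∈ H) → ∀ y ∈ Y, ∀ x ∈ H, y x = x)
    (hY1 : ∃ y ∈ Y, y ≠ 1) (hρ : ∃ x, ρ0 x ≠ 1) : False :=
  @false_of_ward_groups_aux A _ _ p _ q r _ _ hqp hqr hrp hA hexp Q _ _ hQ φ hQfix M _ _
    (AddCommGroup.zmodModule fun v => by
      refine Additive.toMul.injective ?_
      rw [toMul_nsmul, toMul_zero]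
      exact hM _) ρ0 ε0 hρε hMfix h1 Y hYq hYp hYc hYA h2 hB hmin hY1 hρ

set_option maxHeartbeats 4000000 in
/-- Ward's theorem. -/
theorem isNilpotent_quotient_fitting {G : Type u} [Group G] [Finite G] [Group.IsSolvable G]
    [(Cfsg.fittingSubgroup G).Normal] (hA : Nat.card A = p ^ 2) (hexp : ∀ a : A, a ^ p = 1)
    (σ : A →* MulAut G) (hfix : ∀ x, (∀ a, σ a x = x) → x = 1) :
    Group.IsNilpotent (G ⧸ Cfsg.fittingSubgroup G) := by
  classical
  have hAp : IsPGroup p A := IsPGroup.of_card hA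
  have hpG := not_dvd_card_of_fixed_eq_one hAp σ hfix
  set FG := Cfsg.fittingSubgroup G
  haveI hFGc : FG.Characteristic := CfsgLib.Cores.fittingSubgroup_characteristic
  have hFGσ : ∀ y ∈ σ.range, ∀ x ∈ FG, y x ∈ FG := fun y _ x hx =>
    apply_mem_of_characteristic y FG hx
  let φH : A →* MulAut (G ⧸ FG) := (quotientHom σ.range FG hFGσ).comp σ.rangeRestrict
  have hφH : ∀ (a : A) (g : G), φH a (QuotientGroup.mk g) = QuotientGroup.mk (σ a g) :=
    fun a g => rfl
  have hpFG : ¬ p ∣ Nat.card FG := fun h => hpG (h.trans FG.card_subgroup_dvd_card)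
  have hHfix : ∀ t, (∀ a, φH a t = t) → t = 1 := by
    intro t ht
    obtain ⟨g, rfl⟩ := QuotientGroup.mk_surjective t
    obtain ⟨z, hz, hzfix⟩ := exists_common_fixed_in_coset hAp σ hpFG
      (fun a x hx => apply_mem_of_characteristic (σ a) FG hx) (x := g)
      (fun a => QuotientGroup.eq.1 (ht a).symm)
    rw [hfix z hzfix, inv_one, one_mul] at hz
    exact (QuotientGroup.eq_one_iff g).2 hz
  set H := G ⧸ FG
  have hpH := not_dvd_card_of_fixed_eq_one hAp φH hHfix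
  haveI hFHn : (Cfsg.fittingSubgroup H).Normal := CfsgLib.Cores.fittingSubgroup_normal
  set FH := Cfsg.fittingSubgroup H with hFH
  haveI : FH.Characteristic := CfsgLib.Cores.fittingSubgroup_characteristic
  by_contra hnot
  haveI : Nontrivial (H ⧸ FH) := QuotientGroup.nontrivial_iff.2 fun htop => hnot (by
    have h : Group.IsNilpotent (Cfsg.fittingSubgroup H) :=
      CfsgLib.Cores.isNilpotent_fittingSubgroup
    rw [← hFH, htop] at h
    exact Group.nilpotent_of_mulEquiv (G := (⊤ : Subgroup H)) Subgroup.topEquiv)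
  obtain ⟨N, q', j, hNn, hq', -, -, hNc, hNbot, -, -⟩ :=
    exists_normal_prime_pow_card (G := H ⧸ FH)
  haveI := Fact.mk hq'
  haveI := hNn
  set Yb := Cfsg.pCore q' (H ⧸ FH) with hYb
  haveI : Yb.Characteristic := CfsgLib.Cores.pCore_characteristic q'
  have hNYb : N ≤ Yb := CfsgLib.Cores.le_pCore (IsPGroup.of_card hNc)
  have hYbp : IsPGroup q' Yb := CfsgLib.Cores.isPGroup_pCore q'
  set L := Yb.comap (QuotientGroup.mk' FH) with hL
  haveI : L.Normal := inferInstance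
  have hLA : ∀ a, ∀ x ∈ L, φH a x ∈ L := by
    intro a x hx
    obtain ⟨gB, hgB⟩ := CfsgLib.FGS.exists_quotient_mulAut (φH a) (N := FH)
      fun y hy => apply_mem_of_characteristic (φH a) FH hy
    have h := hgB 1 x
    rw [pow_one, pow_one] at h
    rw [hL, Subgroup.mem_comap, ← h]
    exact apply_mem_of_characteristic gB Yb hx
  have hLpow : ∀ x ∈ L, ∃ i : ℕ, x ^ (q' ^ i) ∈ FH := fun x hx => by
    obtain ⟨i, hi⟩ := hYbp ⟨_, hx⟩
    refine ⟨i, (QuotientGroup.eq_one_iff _).1 ?_⟩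
    have h := congrArg Subtype.val hi
    rw [SubgroupClass.coe_pow] at h
    exact (map_pow (QuotientGroup.mk' FH) x _).trans h
  -- an invariant Sylow subgroup
  let ψL : A →* MulAut L :=
    (restrictHom φH.range L fun y hy x hx => by obtain ⟨a, rfl⟩ := hy; exact hLA a x hx).comp
      φH.rangeRestrict
  letI : MulDistribMulAction A L := MulDistribMulAction.compHom L ψL
  obtain ⟨P, hP⟩ := hAp.nonempty_fixed_point_of_prime_not_dvd_card (Sylow q' L) (by
    intro hd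
    obtain ⟨P0⟩ : Nonempty (Sylow q' L) := inferInstance
    exact hpH (hd.trans ((P0.card_dvd_index).trans
      ((Subgroup.index_dvd_card _).trans L.card_subgroup_dvd_card))))
  have hPinv : ∀ a : A, ∀ x ∈ P, ψL a x ∈ P := fun a x hx => by
    have h : a • P = P := hP a
    rw [← h]
    exact Subgroup.smul_mem_pointwise_smul x a (P : Subgroup L) hx
  set Y0 : Subgroup H := (P : Subgroup L).map L.subtype with hY0
  have hY0p : IsPGroup q' Y0 := P.2.map _
  have hY0A : ∀ a, ∀ y ∈ Y0, φH a y ∈ Y0 := by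
    rintro a _ ⟨x, hx, rfl⟩
    exact ⟨ψL a x, hPinv a x hx, rfl⟩
  obtain ⟨y₀, hy₀P, hy₀F⟩ : ∃ y ∈ Y0, y ∉ FH := by
    by_contra hcon
    push Not at hcon
    let π : L →* Yb := ((QuotientGroup.mk' FH).comp L.subtype).codRestrict Yb fun y => y.2
    have hπ : Function.Surjective π := fun b => by
      obtain ⟨a, ha⟩ := QuotientGroup.mk'_surjective FH (b : H ⧸ FH)
      exact ⟨⟨a, by rw [hL, Subgroup.mem_comap, ha]; exact b.2⟩, Subtype.ext ha⟩
    have hPtop : (P : Subgroup L).map π = ⊤ := by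
      obtain ⟨i, hi⟩ := hYbp.exists_card_eq
      have h1 : Nat.card ((P.mapSurjective hπ : Sylow q' Yb) : Subgroup Yb) = Nat.card Yb := by
        rw [Sylow.card_eq_multiplicity, hi, Nat.factorization_pow_self hq']
      exact Subgroup.eq_top_of_card_eq _ h1
    refine hNbot ((Subgroup.eq_bot_iff_forall _).2 fun b hb => ?_)
    obtain ⟨x, hx, hxb⟩ : (⟨b, hNYb hb⟩ : Yb) ∈ (P : Subgroup L).map π := hPtop ▸ Subgroup.mem_top _
    have e : ((π x : Yb) : H ⧸ FH) = b := congrArg Subtype.val hxb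
    rw [← e]
    exact (QuotientGroup.eq_one_iff _).2 (hcon _ ⟨x, hx, rfl⟩)
  obtain ⟨q, hq, hqq, hyc⟩ : ∃ q : ℕ, q.Prime ∧ q ≠ q' ∧
      y₀ ∉ Subgroup.centralizer (Cfsg.pCore q H : Set H) := by
    by_contra hcon
    push Not at hcon
    obtain ⟨x, hx, hxy⟩ := hy₀P
    exact hy₀F (mem_fitting_of_centralizes L hLpow (hxy ▸ x.2) hcon)
  haveI := Fact.mk hq
  set O := Cfsg.pCore q H with hO
  haveI hOc : O.Characteristic := CfsgLib.Cores.pCore_characteristic q
  haveI hOn : O.Normal := inferInstance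
  have hOp : IsPGroup q O := CfsgLib.Cores.isPGroup_pCore q
  let φO : A →* MulAut O :=
    (restrictHom φH.range O fun y _ x hx => apply_mem_of_characteristic y O hx).comp
      φH.rangeRestrict
  have hφO : ∀ (a : A) (x : O), ((φO a x : O) : H) = φH a x := fun a x => rfl
  let cO : H →* MulAut O := MulAut.conjNormal
  have hcO : ∀ (a : A) (y : H), φO a * cO y * (φO a)⁻¹ = cO (φH a y) := by
    intro a y
    rw [mul_inv_eq_iff_eq_mul]
    refine MulEquiv.ext fun v => Subtype.ext ?_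
    show φH a (y * v * y⁻¹) = φH a y * (φO a v : O) * (φH a y)⁻¹
    rw [hφO, map_mul, map_mul, map_inv]
  obtain ⟨Y2, ⟨hY2le, hY2A, hY2ne⟩, hY2min⟩ := (wellFounded_lt (α := Subgroup (MulAut O))).has_min
    {W | W ≤ Y0.map cO ∧ (∀ a, ∀ w ∈ W, φO a * w * (φO a)⁻¹ ∈ W) ∧ W ≠ ⊥}
    ⟨Y0.map cO, le_rfl, by
      rintro a _ ⟨y, hy, rfl⟩
      exact ⟨φH a y, hY0A a y hy, (hcO a y).symm⟩, fun h => hyc (by
      have h1 : cO y₀ = 1 := by rw [← Subgroup.mem_bot, ← h]; exact ⟨y₀, hy₀P, rfl⟩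
      refine Subgroup.mem_centralizer_iff.2 fun v hv => ?_
      have h2 : y₀ * v * y₀⁻¹ = v :=
        congrArg Subtype.val (DFunLike.congr_fun h1 (⟨v, hv⟩ : O))
      exact (mul_inv_eq_iff_eq_mul.1 h2).symm)⟩
  have hY2p : IsPGroup q' Y2 := (hY0p.map cO).to_le hY2le
  haveI : Group.IsSolvable Y2 := by haveI := hY2p.isNilpotent; infer_instance
  have hY2c : ∀ y ∈ Y2, ∀ z ∈ Y2, y * z = z * y := by
    have hlt : ⁅Y2, Y2⁆ < Y2 := commutator_self_lt inferInstance hY2ne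
    intro y hy z hz
    have hbot : ⁅Y2, Y2⁆ = ⊥ := by
      by_contra hne
      refine hY2min _ ⟨hlt.le.trans hY2le, fun a => ?_, hne⟩ hlt
      have h : (⁅Y2, Y2⁆ : Subgroup (MulAut O)).map (MulAut.conj (φO a)).toMonoidHom ≤ ⁅Y2, Y2⁆ := by
        rw [Subgroup.map_commutator]
        exact Subgroup.commutator_mono (Subgroup.map_le_iff_le_comap.2 (hY2A a))
          (Subgroup.map_le_iff_le_comap.2 (hY2A a))
      exact fun w hw => h ⟨w, hw, rfl⟩
    rw [← commutatorElement_eq_one_iff_mul_comm, ← Subgroup.mem_bot, ← hbot]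
    exact Subgroup.commutator_mem_commutator hy hz
  obtain ⟨Q0, ⟨hQ0A, hQ0Y, hQ0mv⟩, hQ0min⟩ := (wellFounded_lt (α := Subgroup O)).has_min
    {W | (∀ a, ∀ x ∈ W, φO a x ∈ W) ∧ (∀ y ∈ Y2, ∀ x ∈ W, y x ∈ W) ∧
      ∃ y ∈ Y2, ∃ x ∈ W, y x ≠ x}
    ⟨⊤, fun _ _ _ => Subgroup.mem_top _, fun _ _ _ _ => Subgroup.mem_top _, by
      by_contra hcon
      push Not at hcon
      exact hY2ne ((Subgroup.eq_bot_iff_forall _).2 fun y hy =>
        MulEquiv.ext fun x => hcon y hy x (Subgroup.mem_top x))⟩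
  let φQ : A →* MulAut Q0 :=
    (restrictHom φO.range Q0 fun y hy x hx => by obtain ⟨a, rfl⟩ := hy; exact hQ0A a x hx).comp
      φO.rangeRestrict
  have hφQ : ∀ (a : A) (x : Q0), (((φQ a x : Q0) : O) : H) = φH a ((x : O) : H) := fun a x => rfl
  let rY : Y2 →* MulAut Q0 := restrictHom Y2 Q0 hQ0Y
  have hrY : ∀ (y : Y2) (x : Q0), ((rY y x : Q0) : O) = (y : MulAut O) x := fun y x => rfl
  have hrYA : ∀ (a : A) (y : Y2), φQ a * rY y * (φQ a)⁻¹ = rY ⟨_, hY2A a y y.2⟩ := by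
    intro a y
    rw [mul_inv_eq_iff_eq_mul]
    refine MulEquiv.ext fun x => Subtype.ext ?_
    rw [MulAut.mul_apply, MulAut.mul_apply, hrY]
    show φO a ((rY y x : Q0) : O) = (φO a * (y : MulAut O) * (φO a)⁻¹) (φO a (x : O))
    rw [hrY, MulAut.mul_apply, MulAut.mul_apply, MulAut.inv_apply_self]
  have hYp : IsPGroup q' rY.range := hY2p.of_surjective _ rY.rangeRestrict_surjective
  -- an element of `Q0` and a core on which it acts
  obtain ⟨y₂, hy₂, x₀, hx₀, hmv⟩ := hQ0mv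
  have hx₀1 : (x₀ : H) ≠ 1 := fun h => hmv (by
    rw [show x₀ = 1 from Subtype.ext h, map_one])
  obtain ⟨g₁, hg₁⟩ := QuotientGroup.mk_surjective (x₀ : H)
  obtain ⟨s, m, hm, hord⟩ :=
    Nat.exists_eq_pow_mul_and_not_dvd (orderOf_pos g₁).ne' q hq.ne_one
  set g₂ := g₁ ^ m with hg₂
  have hg₂H : (QuotientGroup.mk g₂ : H) = (x₀ : H) ^ m := by
    rw [hg₂, QuotientGroup.mk_pow, hg₁]
  obtain ⟨i₀, hi₀⟩ := hOp x₀
  have hi₀' : (x₀ : H) ^ (q ^ i₀) = 1 := congrArg Subtype.val hi₀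
  have hg₂1 : (QuotientGroup.mk g₂ : H) ≠ 1 := fun h => hx₀1 (by
    rw [hg₂H] at h
    refine Subgroup.mem_bot.1 (mem_of_pow_mem_of_coprime (H := ⊥) (Subgroup.mem_bot.2 h) ?_)
    exact Nat.Coprime.coprime_dvd_right (orderOf_dvd_of_pow_eq_one hi₀')
      (((hq.coprime_iff_not_dvd).2 hm).symm.pow_right i₀))
  have hg₂q : g₂ ^ (q ^ s) = 1 := by
    rw [hg₂, ← pow_mul, mul_comm, ← hord, pow_orderOf_eq_one]
  obtain ⟨r, hr, hrq, hgr⟩ : ∃ r : ℕ, r.Prime ∧ r ≠ q ∧
      g₂ ∉ Subgroup.centralizer (Cfsg.pCore r G : Set G) := by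
    by_contra hcon
    push Not at hcon
    haveI : ((O.comap (QuotientGroup.mk' FG))).Normal := inferInstance
    refine hg₂1 ((QuotientGroup.eq_one_iff _).2 (mem_fitting_of_centralizes (l := q)
      (O.comap (QuotientGroup.mk' FG)) ?_ ?_ hcon))
    · intro x hx
      obtain ⟨i, hi⟩ := hOp ⟨_, hx⟩
      refine ⟨i, (QuotientGroup.eq_one_iff _).1 ?_⟩
      have h := congrArg Subtype.val hi
      rw [SubgroupClass.coe_pow] at h
      exact (map_pow (QuotientGroup.mk' FG) x _).trans h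
    · show (QuotientGroup.mk g₂ : H) ∈ O
      rw [hg₂H]
      exact O.pow_mem x₀.2 m
  haveI := Fact.mk hr
  set P₁ := Cfsg.pCore r G with hP₁
  haveI hP₁c : P₁.Characteristic := CfsgLib.Cores.pCore_characteristic r
  haveI hP₁n : P₁.Normal := inferInstance
  have hP₁p : IsPGroup r P₁ := CfsgLib.Cores.isPGroup_pCore r
  set Φ := frattini P₁ with hΦ
  have hΦchar : ∀ (f : MulAut P₁), ∀ x ∈ Φ, f x ∈ Φ := fun f x hx =>
    apply_mem_of_characteristic f Φ hx
  letI : CommGroup (P₁ ⧸ Φ) :=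
    { (inferInstance : Group (P₁ ⧸ Φ)) with
      mul_comm := CfsgLib.PGroup.quotient_frattini_comm hP₁p }
  let autQ : MulAut P₁ →* MulAut (P₁ ⧸ Φ) :=
    (quotientHom (⊤ : Subgroup (MulAut P₁)) Φ fun y _ => hΦchar y).comp
      Subgroup.topEquiv.symm.toMonoidHom
  have hautQ : ∀ (f : MulAut P₁) (x : P₁),
      autQ f (QuotientGroup.mk x) = QuotientGroup.mk (f x) := fun f x => rfl
  let σP : A →* MulAut P₁ :=
    (restrictHom σ.range P₁ fun y _ x hx => apply_mem_of_characteristic y P₁ hx).comp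
      σ.rangeRestrict
  have hσP : ∀ (a : A) (x : P₁), ((σP a x : P₁) : G) = σ a x := fun a x => rfl
  let ρG : G →* MulAut (P₁ ⧸ Φ) := autQ.comp MulAut.conjNormal
  have hρG : ∀ (g : G) (x : P₁),
      ρG g (QuotientGroup.mk x) = QuotientGroup.mk (MulAut.conjNormal g x) := fun g x => rfl
  have hker : FG ≤ ρG.ker := by
    refine CfsgLib.Cores.fittingSubgroup_le_iSup_pCore.trans (iSup_le fun l g hg => ?_)
    haveI : Fact (l : ℕ).Prime := ⟨Nat.prime_of_mem_primeFactors l.2⟩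
    refine MonoidHom.mem_ker.2 (MulEquiv.ext fun t => ?_)
    obtain ⟨x, rfl⟩ := QuotientGroup.mk_surjective t
    rw [hρG, MulAut.one_apply]
    by_cases hlr : (l : ℕ) = r
    · have hg' : g ∈ P₁ := by rw [hP₁, ← hlr]; exact hg
      have e1 : MulAut.conjNormal g x = (⟨g, hg'⟩ : P₁) * x * (⟨g, hg'⟩ : P₁)⁻¹ :=
        Subtype.ext (MulAut.conjNormal_apply g x)
      rw [e1, QuotientGroup.mk_mul, QuotientGroup.mk_mul, QuotientGroup.mk_inv,
        mul_comm (QuotientGroup.mk (⟨g, hg'⟩ : P₁)) _, mul_inv_cancel_right]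
    · refine congrArg _ (Subtype.ext ?_)
      rw [MulAut.conjNormal_apply, (CfsgLib.Cores.commute_pCore_of_ne hlr hg x.2).eq,
        mul_inv_cancel_right]
  let ρH : H →* MulAut (P₁ ⧸ Φ) := QuotientGroup.lift FG ρG hker
  have hρH : ∀ g : G, ρH (QuotientGroup.mk g) = ρG g := fun g => rfl
  let ε0 : A →* MulAut (P₁ ⧸ Φ) := autQ.comp σP
  have hε0 : ∀ (a : A) (x : P₁), ε0 a (QuotientGroup.mk x) = QuotientGroup.mk (σP a x) :=
    fun a x => rfl
  have hερ : ∀ (a : A) (t : H), ε0 a * ρH t = ρH (φH a t) * ε0 a := by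
    intro a t
    obtain ⟨g, rfl⟩ := QuotientGroup.mk_surjective t
    rw [hφH, hρH, hρH]
    refine MulEquiv.ext fun v => ?_
    obtain ⟨x, rfl⟩ := QuotientGroup.mk_surjective v
    rw [MulAut.mul_apply, MulAut.mul_apply, hρG, hε0, hε0, hρG]
    refine congrArg _ (Subtype.ext ?_)
    rw [hσP, MulAut.conjNormal_apply, MulAut.conjNormal_apply, hσP, map_mul, map_mul, map_inv]
  have hrp : r ≠ p := fun h => by
    rcases hP₁p.card_eq_or_dvd with h1 | h1
    · refine hgr (Subgroup.mem_centralizer_iff.2 fun v hv => ?_)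
      rw [SetLike.mem_coe, Subgroup.eq_bot_of_card_eq _ h1, Subgroup.mem_bot] at hv
      rw [hv, one_mul, mul_one]
    · exact hpG (h ▸ h1.trans P₁.card_subgroup_dvd_card)
  have hpΦ : ¬ p ∣ Nat.card Φ := fun h =>
    hpG ((h.trans Φ.card_subgroup_dvd_card).trans P₁.card_subgroup_dvd_card)
  have hqp : q ≠ p := fun h => by
    rcases hOp.card_eq_or_dvd with h1 | h1
    · exact hx₀1 ((Subgroup.mem_bot).1 (Subgroup.eq_bot_of_card_eq _ h1 ▸ x₀.2))
    · exact hpH (h ▸ h1.trans O.card_subgroup_dvd_card)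
  refine false_of_ward_groups (A := A) hqp hrq.symm hrp hA hexp (Q := Q0) (hOp.to_subgroup Q0) φQ
    (fun x hx => Subtype.ext (Subtype.ext (hHfix _ fun a =>
      congrArg (fun z : Q0 => ((z : O) : H)) (hx a))))
    (M := P₁ ⧸ Φ) (CfsgLib.PGroup.quotient_frattini_pow hP₁p)
    (ρH.comp (O.subtype.comp Q0.subtype)) ε0 (fun a x => ?_) (fun v hv => ?_)
    (fun a ha x hx v hv => ?_) rY.range ?_ ?_ ?_ ?_ ?_ ?_ ?_
    ⟨rY ⟨y₂, hy₂⟩, ⟨_, rfl⟩, fun h => hmv ?_⟩ ⟨⟨x₀, hx₀⟩ ^ m, ?_⟩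
  · exact hερ a _
  · obtain ⟨x, rfl⟩ := QuotientGroup.mk_surjective v
    obtain ⟨z, hz, hzfix⟩ := exists_common_fixed_in_coset hAp σP hpΦ (fun a => hΦchar (σP a))
      (x := x) (fun a => QuotientGroup.eq.1 (hv a).symm)
    have hz1 : z = 1 := Subtype.ext (hfix _ fun a => congrArg Subtype.val (hzfix a))
    rw [hz1, inv_one, one_mul] at hz
    exact (QuotientGroup.eq_one_iff x).2 hz
  · -- fixed elements of coprime orders commute
    obtain ⟨u, hu⟩ := QuotientGroup.mk_surjective (((x : O) : H))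
    have hx' : φH a ((x : O) : H) = (x : O) := congrArg (fun z : Q0 => ((z : O) : H)) hx
    obtain ⟨z, hz, hzfix⟩ := exists_fixed_in_coset (φ := σ a) (m := 1)
      (by rw [pow_one, ← map_pow, hexp, map_one]) hpFG
      (fun y hy => apply_mem_of_characteristic (σ a) FG hy) (x := u)
      (QuotientGroup.eq.1 (by rw [← hφH, hu]; exact hx'.symm))
    have hzx : (QuotientGroup.mk z : H) = (x : O) := (QuotientGroup.eq.2 hz).trans hu
    obtain ⟨v0, hv0⟩ := QuotientGroup.mk_surjective v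
    obtain ⟨w, hw, hwfix⟩ := exists_fixed_in_coset (φ := σP a) (m := 1)
      (by rw [pow_one, ← map_pow, hexp, map_one]) hpΦ (hΦchar (σP a)) (x := v0)
      (QuotientGroup.eq.1 (by rw [← hε0, hv0]; exact hv.symm))
    obtain ⟨t, m', hm', hord'⟩ :=
      Nat.exists_eq_pow_mul_and_not_dvd (orderOf_pos z).ne' q hq.ne_one
    obtain ⟨l, hl⟩ := exists_pow_eq_self_of_coprime (x := (QuotientGroup.mk z : H)) (n := m') (by
      obtain ⟨i, hi⟩ := IsPGroup.iff_orderOf.1 hOp (x : O)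
      rw [hzx, Subgroup.orderOf_coe, hi]
      exact ((hq.coprime_iff_not_dvd).2 hm').symm.pow_right i)
    set z' := (z ^ m') ^ l with hz'
    have hz'x : (QuotientGroup.mk z' : H) = (x : O) := by
      rw [hz', QuotientGroup.mk_pow, QuotientGroup.mk_pow, hl, hzx]
    have hz'fix : σ a z' = z' := by rw [hz', map_pow, map_pow, hzfix]
    have hcom := commute_of_fixed_of_coprime hA hexp σ hfix ha hz'fix
      (congrArg Subtype.val hwfix : σ a (w : G) = w) (by
        obtain ⟨i, hi⟩ := IsPGroup.iff_orderOf.1 hP₁p w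
        rw [Subgroup.orderOf_coe, hi]
        refine Nat.Coprime.coprime_dvd_left (orderOf_dvd_of_pow_eq_one (x := z') (n := q ^ t) ?_)
          (Nat.coprime_pow_primes t i hq hr hrq.symm)
        rw [hz', ← pow_mul, ← pow_mul, mul_comm l, ← mul_assoc, mul_comm m', ← hord', pow_mul,
          pow_orderOf_eq_one, one_pow])
    show ρH ((x : O) : H) v = v
    rw [← hz'x, ← hv0, ← QuotientGroup.eq.2 hw, hρH, hρG]
    refine congrArg _ (Subtype.ext ?_)
    rw [MulAut.conjNormal_apply, hcom, mul_inv_cancel_right]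
  · obtain ⟨i, hi⟩ := hYp.exists_card_eq
    rw [hi]
    exact ((Nat.coprime_primes hq' hq).2 hqq.symm).pow_left i
  · intro hd
    have h1 : Nat.card rY.range ∣ Nat.card Y0 :=
      (Subgroup.card_range_dvd rY).trans ((Subgroup.card_dvd_of_le hY2le).trans
        (Subgroup.card_map_dvd Y0 cO))
    exact hpH ((hd.trans h1).trans Y0.card_subgroup_dvd_card)
  · rintro _ ⟨y, rfl⟩ _ ⟨z, rfl⟩
    rw [← map_mul, ← map_mul]
    exact congrArg rY (Subtype.ext (hY2c y y.2 z z.2))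
  · rintro a _ ⟨y, rfl⟩
    exact ⟨_, (hrYA a y).symm⟩
  · rintro a ha _ ⟨y, rfl⟩ hcom x hx
    -- lift `y` to a fixed element of the Sylow subgroup
    let Y' : Subgroup H := Y0 ⊓ Y2.comap cO
    have hY'A : ∀ h ∈ Y', φH a h ∈ Y' := fun h hh => ⟨hY0A a h hh.1, by
      show cO (φH a h) ∈ Y2
      rw [← hcO]; exact hY2A a _ hh.2⟩
    obtain ⟨ψ, hψ⟩ := CfsgLib.FGS.exists_restrict_mulAut (φH a) hY'A
    have hψ1 : ∀ h : Y', ((ψ h : Y') : H) = φH a h := fun h => by
      have h' := hψ 1 h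
      rwa [pow_one, pow_one] at h'
    let gY : Y' →* MulAut Q0 := rY.comp ((cO.comp Y'.subtype).codRestrict Y2 fun h => h.2.2)
    obtain ⟨h₀, hh₀, hch₀⟩ := hY2le y.2
    have hh₀' : h₀ ∈ Y' := ⟨hh₀, by show cO h₀ ∈ Y2; rw [hch₀]; exact y.2⟩
    have hgh : gY ⟨h₀, hh₀'⟩ = rY y := congrArg rY (Subtype.ext hch₀)
    have hgψ : ∀ h : Y', gY (ψ h) = φQ a * gY h * (φQ a)⁻¹ := fun h => by
      show rY _ = φQ a * rY _ * (φQ a)⁻¹
      rw [hrYA]
      refine congrArg rY (Subtype.ext ?_)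
      show cO ((ψ h : Y') : H) = φO a * cO (h : H) * (φO a)⁻¹
      rw [hψ1, hcO]
    obtain ⟨zY, hzY, hzYfix⟩ := exists_fixed_in_coset (φ := ψ) (m := 1)
      (MulEquiv.ext fun h => Subtype.ext (by rw [pow_one, hψ, ← map_pow, hexp, map_one]; rfl))
      (N := gY.ker)
      (fun hd => hpH ((hd.trans gY.ker.card_subgroup_dvd_card).trans Y'.card_subgroup_dvd_card))
      (fun h hh => by rw [MonoidHom.mem_ker] at hh ⊢; rw [hgψ, hh, mul_one, mul_inv_cancel])
      (x := ⟨h₀, hh₀'⟩) (by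
        rw [MonoidHom.mem_ker, map_mul, map_inv, hgψ, hgh, hcom, mul_inv_cancel_right,
          inv_mul_cancel])
    have hgz : gY zY = rY y := by
      rw [MonoidHom.mem_ker, map_mul, map_inv, inv_mul_eq_one] at hzY
      rw [hzY, hgh]
    have hcm := commute_of_fixed_of_coprime hA hexp φH hHfix ha
      (show φH a (zY : H) = zY by rw [← hψ1, hzYfix])
      (congrArg (fun z : Q0 => ((z : O) : H)) hx) (by
        obtain ⟨i, hi⟩ := IsPGroup.iff_orderOf.1 hY0p (⟨zY, zY.2.1⟩ : Y0)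
        obtain ⟨k, hk⟩ := IsPGroup.iff_orderOf.1 hOp (x : O)
        rw [← Subgroup.orderOf_coe] at hi hk
        rw [show orderOf ((zY : Y') : H) = q' ^ i from hi, hk]
        exact Nat.coprime_pow_primes i k hq' hq hqq.symm)
    rw [← hgz]
    refine Subtype.ext (Subtype.ext ?_)
    show (zY : H) * ((x : O) : H) * (zY : H)⁻¹ = ((x : O) : H)
    rw [hcm, mul_inv_cancel_right]
  · rintro _ ⟨y, rfl⟩
    obtain ⟨h₀, -, hch₀⟩ := hY2le y.2
    refine ⟨ρH h₀, ρH h₀⁻¹, by rw [← map_mul, mul_inv_cancel, map_one], fun x => ?_⟩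
    show ρH h₀ * ρH ((x : O) : H) = ρH (((rY y x : Q0) : O) : H) * ρH h₀
    rw [← map_mul, ← map_mul, hrY, ← hch₀]
    congr 1
    show h₀ * ((x : O) : H) = h₀ * ((x : O) : H) * h₀⁻¹ * h₀
    rw [inv_mul_cancel_right]
  · intro Hs hHs hHA hHY
    by_contra hcon
    push Not at hcon
    obtain ⟨_, ⟨y, rfl⟩, x, hxH, hne⟩ := hcon
    refine hQ0min (Hs.map Q0.subtype) ⟨?_, ?_, y, y.2, x, ⟨x, hxH, rfl⟩, fun h => hne
      (Subtype.ext h)⟩ (lt_of_le_of_ne (Subgroup.map_subtype_le _) fun h => hHs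
        (Subgroup.map_injective Subtype.val_injective
          (show Hs.map Q0.subtype = (⊤ : Subgroup Q0).map Q0.subtype by
            rw [h, ← MonoidHom.range_eq_map, Subgroup.range_subtype])))
    · rintro b _ ⟨z, hz, rfl⟩
      exact ⟨φQ b z, hHA b z hz, rfl⟩
    · rintro w hw _ ⟨z, hz, rfl⟩
      exact ⟨rY ⟨w, hw⟩ z, hHY _ ⟨_, rfl⟩ z hz, rfl⟩
  · have h' := congrArg Subtype.val (DFunLike.congr_fun h ⟨x₀, hx₀⟩)
    exact h'
  · intro h
    refine hgr ?_
    have h' : ρG g₂ = 1 := by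
      rw [← hρH, hg₂H]
      exact h
    refine CfsgLib.PStab.mem_centralizer_of_frattini hP₁p
      (Subgroup.normalizer_eq_top_iff.2 hP₁n ▸ Subgroup.mem_top _) ?_ fun x hx => ?_
    · exact Nat.Coprime.coprime_dvd_left (orderOf_dvd_of_pow_eq_one hg₂q)
        (((Nat.coprime_primes hq hr).2 hrq.symm).pow_left s)
    · have h3 := DFunLike.congr_fun h' (QuotientGroup.mk (⟨x, hx⟩ : P₁))
      rw [hρG, MulAut.one_apply, QuotientGroup.eq] at h3
      refine ⟨MulAut.conjNormal g₂ (⟨x, hx⟩ : P₁) * (⟨x, hx⟩ : P₁)⁻¹, ?_, ?_⟩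
      · have h4 := (inferInstance : Φ.Normal).conj_mem _ (Φ.inv_mem h3) ⟨x, hx⟩
        rw [mul_inv_rev, inv_inv] at h4
        simpa [mul_assoc] using h4
      · simp [commutatorElement_def]

end

end CfsgLib.Solvable
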