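import Cfsg.Agent.Lib.Solvable.PQCore
import Cfsg.Agent.Lib.Solvable.WardReduction
import Cfsg.Agent.Lib.Solvable.CoprimeAction

/-!
A nonabelian group of order `p * l` acting coprimely without common fixed points on a finite
solvable group forces Fitting height at most `2`.
-/

set_option autoImplicit false

open scoped commutatorElement TensorProduct

namespace CfsgLib.Solvable

universe u

/-- An invariant Sylow subgroup under coprime action on a solvable group. -/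
theorem exists_invariant_sylow_mulAut {A L : Type*} [Group A] [Finite A] [Group L] [Finite L]
    [Group.IsSolvable L] (ψ : A →* MulAut L) {q' : ℕ} [Fact q'.Prime]
    (hcop : (Nat.card A).Coprime (Nat.card L)) :
    ∃ P : Sylow q' L, ∀ a, ∀ x ∈ P, ψ a x ∈ P := by
  haveI : Finite (L ⋊[ψ] A) := Finite.of_equiv _ SemidirectProduct.equivProd.symm
  set K := (SemidirectProduct.inl : L →* L ⋊[ψ] A).range with hK
  let e : L ≃* K := MonoidHom.ofInjective SemidirectProduct.inl_injective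
  haveI : K.Normal := by rw [hK, SemidirectProduct.range_inl_eq_ker_rightHom]; infer_instance
  obtain ⟨P, hP⟩ := exists_invariant_sylow
    (A := (SemidirectProduct.inr : A →* L ⋊[ψ] A).range) (K := K)
    (fun x _ => Subgroup.normalizer_eq_top_iff.2 ‹K.Normal› ▸ Subgroup.mem_top x)
    (by
      rw [← Nat.card_congr (MonoidHom.ofInjective (f := (SemidirectProduct.inr : A →* L ⋊[ψ] A))
        SemidirectProduct.inr_injective).toEquiv, ← Nat.card_congr e.toEquiv]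
      exact hcop)
    (Or.inr (Group.isSolvable_of_surjective (f := e.toMonoidHom) e.surjective)) q'
  refine ⟨P.comapOfInjective e.toMonoidHom e.injective
    (fun z _ => ⟨e.symm z, e.apply_symm_apply z⟩), fun a x hx => ?_⟩
  have hx : e x ∈ (P : Subgroup K) := hx
  show e (ψ a x) ∈ (P : Subgroup K)
  have h := (Subgroup.mem_normalizer_iff.1 (hP ⟨a, rfl⟩) ((e x : K) : L ⋊[ψ] A)).1 ⟨e x, hx, rfl⟩
  obtain ⟨z, hz, hze⟩ := h
  have e1 : z = e (ψ a x) := Subtype.ext (hze.trans (by rw [← map_inv]; exact (SemidirectProduct.inl_aut (φ := ψ) a x).symm))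
  rw [← e1]
  exact hz

section

variable {A : Type*} [Group A] [Finite A] {p l : ℕ} [hp : Fact p.Prime] [hl : Fact l.Prime] {f : A}

/-- A fixed coset of a coprime invariant subgroup contains a fixed element. -/
theorem exists_common_fixed_pq (hA : Nat.card A = p * l) (hf : orderOf f = l)
    [hfn : (Subgroup.zpowers f).Normal] (hna : ∃ a b : A, a * b ≠ b * a) {G : Type*} [Group G]
    [Finite G] (φ : A →* MulAut G) {N : Subgroup G} (hN : (Nat.card N).Coprime (p * l))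
    (hNφ : ∀ a, ∀ x ∈ N, φ a x ∈ N) {x : G} (hx : ∀ a, x⁻¹ * φ a x ∈ N) :
    ∃ z, z⁻¹ * x ∈ N ∧ ∀ a, φ a z = z := by
  obtain ⟨g, hg⟩ : ∃ g, g ∉ Subgroup.zpowers f := by
    by_contra hcon
    push Not at hcon
    have h := Subgroup.card_top (G := A)
    rw [← eq_top_iff.2 (fun y _ => hcon y : ⊤ ≤ Subgroup.zpowers f), Nat.card_zpowers, hf, hA] at h
    exact hp.out.one_lt.ne' (Nat.eq_of_mul_eq_mul_right hl.out.pos (by rw [one_mul]; exact h.symm))
  have hgp : g ^ p = 1 := PQ.orderOf_eq hA hf hna hg ▸ pow_orderOf_eq_one g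
  have hfl : f ^ l = 1 := hf ▸ pow_orderOf_eq_one f
  obtain ⟨z, hz, hzf⟩ := exists_fixed_in_coset (φ := φ f) (m := 1)
    (by rw [pow_one, ← map_pow, hfl, map_one])
    (fun h => hl.out.ne_one (Nat.eq_one_of_dvd_coprimes hN h (dvd_mul_left l p))) (hNφ f) (hx f)
  let N' : Subgroup G := N ⊓ (φ f).toMonoidHom.eqLocus (MonoidHom.id G)
  obtain ⟨i, hi⟩ := (isOfFinOrder_of_finite f).mem_powers_iff_mem_zpowers.2
    (show g⁻¹ * f * g ∈ Subgroup.zpowers f by
      simpa using hfn.conj_mem f (Subgroup.mem_zpowers f) g⁻¹)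
  have hgf : ∀ y, φ f y = y → φ f (φ g y) = φ g y := fun y hy => by
    rw [← MulAut.mul_apply, ← map_mul,
      show f * g = g * f ^ i by rw [show f ^ i = g⁻¹ * f * g from hi]; group, map_mul,
      MulAut.mul_apply, map_pow, pow_apply_fixed hy]
  obtain ⟨w, hw, hwg⟩ := exists_fixed_in_coset (φ := φ g) (m := 1)
    (by rw [pow_one, ← map_pow, hgp, map_one]) (N := N')
    (fun h => hp.out.ne_one (Nat.eq_one_of_dvd_coprimes hN
      (h.trans (Subgroup.card_dvd_of_le inf_le_left)) (dvd_mul_right p l)))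
    (fun y hy => ⟨hNφ g y hy.1, hgf y hy.2⟩) (x := z) ⟨by
      have h1 : φ g (z⁻¹ * x) ∈ N := hNφ g _ hz
      rw [map_mul, map_inv] at h1
      have e : z⁻¹ * φ g z = z⁻¹ * x * (x⁻¹ * φ g x) * ((φ g z)⁻¹ * φ g x)⁻¹ := by group
      rw [e]
      exact N.mul_mem (N.mul_mem hz (hx g)) (N.inv_mem h1), by
      show φ f (z⁻¹ * φ g z) = z⁻¹ * φ g z
      rw [map_mul, map_inv, hzf, hgf z hzf]⟩
  have hwf : φ f w = w := by
    have h2 : φ f (w⁻¹ * z) = w⁻¹ * z := hw.2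
    rw [map_mul, map_inv, hzf] at h2
    exact inv_inj.1 (mul_right_cancel h2)
  refine ⟨w, ?_, fun a => ?_⟩
  · rw [show w⁻¹ * x = w⁻¹ * z * (z⁻¹ * x) by group]
    exact N.mul_mem hw.1 hz
  · obtain ⟨i, j, rfl⟩ := PQ.exists_pow_mul_pow hA hf hg a
    rw [map_mul, MulAut.mul_apply, map_pow, map_pow, pow_apply_fixed hwg, pow_apply_fixed hwf]

/-- Elements of coprime orders fixed by `f` commute. -/
theorem commute_of_fixed_of_coprime_pq (hA : Nat.card A = p * l) (hf : orderOf f = l)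
    [hfn : (Subgroup.zpowers f).Normal] (hna : ∃ a b : A, a * b ≠ b * a) {G : Type*} [Group G]
    [Finite G] (φ : A →* MulAut G) (hfix : ∀ x, (∀ a, φ a x = x) → x = 1) {x z : G}
    (hx : φ f x = x) (hz : φ f z = z) (hcop : (orderOf x).Coprime (orderOf z)) :
    x * z = z * x := by
  obtain ⟨g, hg⟩ : ∃ g, g ∉ Subgroup.zpowers f := by
    by_contra hcon
    push Not at hcon
    have h := Subgroup.card_top (G := A)
    rw [← eq_top_iff.2 (fun y _ => hcon y : ⊤ ≤ Subgroup.zpowers f), Nat.card_zpowers, hf, hA] at h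
    exact hp.out.one_lt.ne' (Nat.eq_of_mul_eq_mul_right hl.out.pos (by rw [one_mul]; exact h.symm))
  let C : Subgroup G := (φ f).toMonoidHom.eqLocus (MonoidHom.id G)
  obtain ⟨i, hi⟩ := (isOfFinOrder_of_finite f).mem_powers_iff_mem_zpowers.2
    (show g⁻¹ * f * g ∈ Subgroup.zpowers f by
      simpa using hfn.conj_mem f (Subgroup.mem_zpowers f) g⁻¹)
  have hCg : ∀ y ∈ C, φ g y ∈ C := fun y hy => by
    show φ f (φ g y) = φ g y
    rw [← MulAut.mul_apply, ← map_mul,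
      show f * g = g * f ^ i by rw [show f ^ i = g⁻¹ * f * g from hi]; group, map_mul,
      MulAut.mul_apply, map_pow, pow_apply_fixed (show φ f y = y from hy)]
  obtain ⟨ψ, hψ⟩ := CfsgLib.FGS.exists_restrict_mulAut (φ g) hCg
  have hgp : g ^ p = 1 := PQ.orderOf_eq hA hf hna hg ▸ pow_orderOf_eq_one g
  haveI : Group.IsNilpotent C := by
    refine CfsgLib.FGS.isNilpotent_of_fpf_prime hp.out ψ (fun y hy => Subtype.ext (hfix y ?_))
      (MulEquiv.ext fun y => Subtype.ext (by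
        rw [hψ, ← map_pow, hgp, map_one]; rfl))
    have hgy : φ g (y : G) = y := by
      have h := hψ 1 y
      rw [pow_one, pow_one, hy] at h
      exact h.symm
    intro a
    obtain ⟨i, j, rfl⟩ := PQ.exists_pow_mul_pow hA hf hg a
    rw [map_mul, MulAut.mul_apply, map_pow, map_pow, pow_apply_fixed hgy,
      pow_apply_fixed (show φ f (y : G) = y from y.2)]
  have h := CfsgLib.OddLocal.commute_of_coprime_orderOf (⟨x, hx⟩ : C) ⟨z, hz⟩
    (by rw [← Subgroup.orderOf_coe, ← Subgroup.orderOf_coe]; exact hcop)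
  exact congrArg Subtype.val h

set_option maxHeartbeats 1000000 in
theorem false_of_pq_groups_aux {q r : ℕ} [hq : Fact q.Prime] [hr : Fact r.Prime] (hqp : q ≠ p)
    (hql : q ≠ l) (hqr : q ≠ r) (hrp : r ≠ p) (hrl : r ≠ l) (hA : Nat.card A = p * l) (hf : orderOf f = l)
    [hfn : (Subgroup.zpowers f).Normal] (hna : ∃ a b : A, a * b ≠ b * a)
    {Q : Type*} [Group Q] [Finite Q] (hQ : IsPGroup q Q) (φ : A →* MulAut Q)
    (hQfix : ∀ x, (∀ a, φ a x = x) → x = 1) {M : Type*} [CommGroup M] [Finite M]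
    [Module (ZMod r) (Additive M)] (ρ0 : Q →* MulAut M) (ε0 : A →* MulAut M)
    (hρε : ∀ a x, ε0 a * ρ0 x = ρ0 (φ a x) * ε0 a) (hMfix : ∀ v, (∀ a, ε0 a v = v) → v = 1)
    (hQlift : ∀ (N : Subgroup Q), (∀ a, ∀ x ∈ N, φ a x ∈ N) → ∀ x,
      (∀ a, x⁻¹ * φ a x ∈ N) → ∃ z, z⁻¹ * x ∈ N ∧ ∀ a, φ a z = z)
    (h1 : ∀ x, φ f x = x → ∀ v, ε0 f v = v → ρ0 x v = v)
    (Y : Subgroup (MulAut Q)) (hYq : (Nat.card Y).Coprime q) (hYp : (Nat.card Y).Coprime p)
    (hYl : (Nat.card Y).Coprime l) (hY3 : ∀ y ∈ Y, (∀ a, φ a * y = y * φ a) → y = 1)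
    (hYmin : ∀ H ≤ Y, (∀ a, ∀ y ∈ H, φ a * y * (φ a)⁻¹ ∈ H) → H = ⊥ ∨ H = Y)
    (hYc : ∀ y ∈ Y, ∀ z ∈ Y, y * z = z * y) (hYA : ∀ a, ∀ y ∈ Y, φ a * y * (φ a)⁻¹ ∈ Y)
    (h2 : ∀ y ∈ Y, φ f * y = y * φ f → ∀ x, φ f x = x → y x = x)
    (hB : ∀ y ∈ Y, ∃ B B' : MulAut M, B * B' = 1 ∧ ∀ x, B * ρ0 x = ρ0 (y x) * B)
    (hmin : ∀ H : Subgroup Q, H ≠ ⊤ → (∀ a, ∀ x ∈ H, φ a x ∈ H) →
      (∀ y ∈ Y, ∀ x ∈ H, y x ∈ H) → ∀ y ∈ Y, ∀ x ∈ H, y x = x)
    (hY1 : ∃ y ∈ Y, y ≠ 1) (hρ : ∃ x, ρ0 x ≠ 1) : False := by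
  classical
  let K := AlgebraicClosure (ZMod r)
  haveI : Finite (Additive M) := Finite.of_equiv M Additive.ofMul
  haveI : Module.Finite (ZMod r) (Additive M) := Module.Finite.of_finite
  let g : Module.End (ZMod r) (Additive M) →ₐ[ZMod r] Module.End K (K ⊗[ZMod r] Additive M) :=
    Module.End.baseChangeHom (ZMod r) K (Additive M)
  let e : MulAut M →* Module.End K (K ⊗[ZMod r] Additive M) :=
    (g : Module.End (ZMod r) (Additive M) →* _).comp (zmodAut r)
  have he : ∀ f, e f = g (zmodAut r f) := fun f => rfl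
  have hcast : ∀ l : ℕ, l.Prime → l ≠ r → (l : K) ≠ 0 := fun l hl hlr h => hlr
    ((Nat.prime_dvd_prime_iff_eq hr.out hl).1 ((CharP.cast_eq_zero_iff K r l).1 h)).symm
  letI := Fintype.ofFinite A
  refine PQ.false_of_pq_core (K := K) hqp hql (hcast q hq.out hqr) (hcast p hp.out hrp.symm)
    (hcast l hl.out hrl.symm) hA hf hna hQ φ hQfix hQlift (e.comp ρ0) (e.comp ε0) (fun a x => ?_)
    (fun v hv => ?_) (fun x hx v hv => ?_) Y hYq hYp hYl hYc hYA hY3 hYmin h2 (fun y hy => ?_) hmin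
    hY1 ?_
  · show e (ε0 a) * e (ρ0 x) = e (ρ0 (φ a x)) * e (ε0 a)
    rw [← map_mul, ← map_mul, hρε]
  · have h0 : ∑ a : A, zmodAut r (ε0 a) = 0 := LinearMap.ext fun w => by
      rw [LinearMap.sum_apply, LinearMap.zero_apply]
      refine Additive.toMul.injective ?_
      rw [toMul_zero, toMul_sum]
      refine hMfix _ fun c => ?_
      rw [map_prod]
      refine Fintype.prod_equiv (Equiv.mulLeft c) _ _ fun a => ?_
      rw [Equiv.coe_mulLeft, zmodAut_apply, zmodAut_apply, toMul_ofMul, toMul_ofMul, map_mul]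
      rfl
    have h3 := LinearMap.congr_fun (congrArg g h0) v
    rw [map_zero, LinearMap.zero_apply, map_sum, LinearMap.sum_apply,
      Finset.sum_congr rfl fun a _ => (show g (zmodAut r (ε0 a)) v = v from hv a), Finset.sum_const,
      Finset.card_univ, ← Nat.card_eq_fintype_card, hA, ← Nat.cast_smul_eq_nsmul K,
      smul_eq_zero] at h3
    exact h3.resolve_left (by
      rw [Nat.cast_mul]; exact mul_ne_zero (hcast p hp.out hrp.symm) (hcast l hl.out hrl.symm))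
  · have h3 : zmodAut r (ρ0 x) * ∑ i ∈ Finset.range l, zmodAut r (ε0 (f ^ i)) =
        ∑ i ∈ Finset.range l, zmodAut r (ε0 (f ^ i)) := LinearMap.ext fun w => by
      rw [Module.End.mul_apply, zmodAut_apply]
      refine congrArg Additive.ofMul (h1 x hx _ ?_)
      have h4 : zmodAut r (ε0 f) ((∑ i ∈ Finset.range l, zmodAut r (ε0 (f ^ i))) w) =
          (∑ i ∈ Finset.range l, zmodAut r (ε0 (f ^ i))) w := by
        rw [← Module.End.mul_apply, Finset.mul_sum]
        have e' : ∀ i, zmodAut r (ε0 f) * zmodAut r (ε0 (f ^ i)) = zmodAut r (ε0 (f ^ (i + 1))) :=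
          fun i => by rw [pow_succ', map_mul ε0, map_mul (zmodAut r)]
        simp only [e']
        have h2' := Finset.sum_range_succ' (fun i => zmodAut r (ε0 (f ^ i))) l
        rw [Finset.sum_range_succ, show f ^ l = 1 from hf ▸ pow_orderOf_eq_one f, pow_zero] at h2'
        rw [add_right_cancel h2']
      exact congrArg Additive.toMul h4
    have h5 := LinearMap.congr_fun (congrArg g h3) v
    rw [map_mul, Module.End.mul_apply, map_sum, LinearMap.sum_apply] at h5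
    have h6 : ∀ i, g (zmodAut r (ε0 (f ^ i))) v = v := by
      intro i
      induction i with
      | zero => rw [pow_zero, map_one, map_one, map_one]; rfl
      | succ i ih =>
        rw [pow_succ, map_mul, map_mul, map_mul, Module.End.mul_apply,
          show g (zmodAut r (ε0 f)) v = v from hv]
        exact ih
    rw [Finset.sum_congr rfl fun i _ => h6 i, Finset.sum_const, Finset.card_range,
      ← Nat.cast_smul_eq_nsmul K, map_smul] at h5
    exact smul_right_injective _ (hcast l hl.out hrl.symm) h5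
  · obtain ⟨B, B', hBB, hBρ⟩ := hB y hy
    refine ⟨e B, e B', by rw [← map_mul, hBB, map_one], fun x => ?_⟩
    show e B * e (ρ0 x) = e (ρ0 (y x)) * e B
    rw [← map_mul, ← map_mul, hBρ]
  · obtain ⟨x, hx⟩ := hρ
    refine ⟨x, fun h => hx (MulEquiv.ext fun v => ?_)⟩
    have h3 := LinearMap.baseChangeHom_injective (R := ZMod r) (S := K) (M := Additive M)
      (N := Additive M) (a₁ := zmodAut r (ρ0 x)) (a₂ := zmodAut r (1 : MulAut M))
      (h.trans ((map_one e).symm.trans (he 1)))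
    have h4 := LinearMap.congr_fun h3 (Additive.ofMul v)
    rw [zmodAut_apply, zmodAut_apply] at h4
    exact Additive.ofMul.injective h4

theorem false_of_pq_groups {q r : ℕ} [hq : Fact q.Prime] [hr : Fact r.Prime] (hqp : q ≠ p)
    (hql : q ≠ l) (hqr : q ≠ r) (hrp : r ≠ p) (hrl : r ≠ l) (hA : Nat.card A = p * l) (hf : orderOf f = l)
    [hfn : (Subgroup.zpowers f).Normal] (hna : ∃ a b : A, a * b ≠ b * a)
    {Q : Type*} [Group Q] [Finite Q] (hQ : IsPGroup q Q) (φ : A →* MulAut Q)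
    (hQfix : ∀ x, (∀ a, φ a x = x) → x = 1) {M : Type*} [CommGroup M] [Finite M]
    (hM : ∀ v : M, v ^ r = 1) (ρ0 : Q →* MulAut M) (ε0 : A →* MulAut M)
    (hρε : ∀ a x, ε0 a * ρ0 x = ρ0 (φ a x) * ε0 a) (hMfix : ∀ v, (∀ a, ε0 a v = v) → v = 1)
    (hQlift : ∀ (N : Subgroup Q), (∀ a, ∀ x ∈ N, φ a x ∈ N) → ∀ x,
      (∀ a, x⁻¹ * φ a x ∈ N) → ∃ z, z⁻¹ * x ∈ N ∧ ∀ a, φ a z = z)
    (h1 : ∀ x, φ f x = x → ∀ v, ε0 f v = v → ρ0 x v = v)
    (Y : Subgroup (MulAut Q)) (hYq : (Nat.card Y).Coprime q) (hYp : (Nat.card Y).Coprime p)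
    (hYl : (Nat.card Y).Coprime l) (hY3 : ∀ y ∈ Y, (∀ a, φ a * y = y * φ a) → y = 1)
    (hYmin : ∀ H ≤ Y, (∀ a, ∀ y ∈ H, φ a * y * (φ a)⁻¹ ∈ H) → H = ⊥ ∨ H = Y)
    (hYc : ∀ y ∈ Y, ∀ z ∈ Y, y * z = z * y) (hYA : ∀ a, ∀ y ∈ Y, φ a * y * (φ a)⁻¹ ∈ Y)
    (h2 : ∀ y ∈ Y, φ f * y = y * φ f → ∀ x, φ f x = x → y x = x)
    (hB : ∀ y ∈ Y, ∃ B B' : MulAut M, B * B' = 1 ∧ ∀ x, B * ρ0 x = ρ0 (y x) * B)
    (hmin : ∀ H : Subgroup Q, H ≠ ⊤ → (∀ a, ∀ x ∈ H, φ a x ∈ H) →
      (∀ y ∈ Y, ∀ x ∈ H, y x ∈ H) → ∀ y ∈ Y, ∀ x ∈ H, y x = x)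
    (hY1 : ∃ y ∈ Y, y ≠ 1) (hρ : ∃ x, ρ0 x ≠ 1) : False :=
  @false_of_pq_groups_aux A _ _ p l _ _ f q r _ _ hqp hql hqr hrp hrl hA hf hfn hna Q _ _ hQ φ
    hQfix M _ _
    (AddCommGroup.zmodModule fun v => by
      refine Additive.toMul.injective ?_
      rw [toMul_nsmul, toMul_zero]
      exact hM _) ρ0 ε0 hρε hMfix hQlift h1 Y hYq hYp hYl hY3 hYmin hYc hYA h2 hB hmin hY1 hρ

set_option maxHeartbeats 4000000 in
/-- A nonabelian group of order `p * l` without common fixed points: height at most `2`. -/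
theorem isNilpotent_quotient_fitting_pq {G : Type u} [Group G] [Finite G] [Group.IsSolvable G]
    [(Cfsg.fittingSubgroup G).Normal] (hA : Nat.card A = p * l) (hf : orderOf f = l)
    [hfn : (Subgroup.zpowers f).Normal] (hna : ∃ a b : A, a * b ≠ b * a)
    (hcop : (Nat.card G).Coprime (p * l)) (σ : A →* MulAut G) (hfix : ∀ x, (∀ a, σ a x = x) → x = 1) :
    Group.IsNilpotent (G ⧸ Cfsg.fittingSubgroup G) := by
  classical
  have hfl : f ^ l = 1 := hf ▸ pow_orderOf_eq_one f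
  set FG := Cfsg.fittingSubgroup G
  haveI hFGc : FG.Characteristic := CfsgLib.Cores.fittingSubgroup_characteristic
  have hFGσ : ∀ y ∈ σ.range, ∀ x ∈ FG, y x ∈ FG := fun y _ x hx =>
    apply_mem_of_characteristic y FG hx
  let φH : A →* MulAut (G ⧸ FG) := (quotientHom σ.range FG hFGσ).comp σ.rangeRestrict
  have hφH : ∀ (a : A) (g : G), φH a (QuotientGroup.mk g) = QuotientGroup.mk (σ a g) :=
    fun a g => rfl
  have hcopFG : (Nat.card FG).Coprime (p * l) := hcop.coprime_dvd_left FG.card_subgroup_dvd_card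
  have hHfix : ∀ t, (∀ a, φH a t = t) → t = 1 := by
    intro t ht
    obtain ⟨g, rfl⟩ := QuotientGroup.mk_surjective t
    obtain ⟨z, hz, hzfix⟩ := exists_common_fixed_pq hA hf hna σ hcopFG
      (fun a x hx => apply_mem_of_characteristic (σ a) FG hx) (x := g)
      (fun a => QuotientGroup.eq.1 (ht a).symm)
    rw [hfix z hzfix, inv_one, one_mul] at hz
    exact (QuotientGroup.eq_one_iff g).2 hz
  set H := G ⧸ FG
  have hcopH : (Nat.card H).Coprime (p * l) :=
    hcop.coprime_dvd_left (Subgroup.card_quotient_dvd_card FG)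
  haveI hFHn : (Cfsg.fittingSubgroup H).Normal := CfsgLib.Cores.fittingSubgroup_normal
  set FH := Cfsg.fittingSubgroup H with hFH
  haveI : FH.Characteristic := CfsgLib.Cores.fittingSubgroup_characteristic
  by_contra hnot
  haveI : Nontrivial (H ⧸ FH) := QuotientGroup.nontrivial_iff.2 fun htop => hnot (by
    have h : Group.IsNilpotent (Cfsg.fittingSubgroup H) :=
      CfsgLib.Cores.isNilpotent_fittingSubgroup
    rw [← hFH, htop] at h
    exact Group.nilpotent_of_mulEquiv (G := (⊤ : Subgroup H)) Subgroup.topEquiv)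
  obtain ⟨N, q', j, hNn, hq', -, -, hNc, hNbot, -, -⟩ :=
    exists_normal_prime_pow_card (G := H ⧸ FH)
  haveI := Fact.mk hq'
  haveI := hNn
  set Yb := Cfsg.pCore q' (H ⧸ FH) with hYb
  haveI : Yb.Characteristic := CfsgLib.Cores.pCore_characteristic q'
  have hNYb : N ≤ Yb := CfsgLib.Cores.le_pCore (IsPGroup.of_card hNc)
  have hYbp : IsPGroup q' Yb := CfsgLib.Cores.isPGroup_pCore q'
  set L := Yb.comap (QuotientGroup.mk' FH) with hL
  haveI : L.Normal := inferInstance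
  have hLA : ∀ a, ∀ x ∈ L, φH a x ∈ L := by
    intro a x hx
    obtain ⟨gB, hgB⟩ := CfsgLib.FGS.exists_quotient_mulAut (φH a) (N := FH)
      fun y hy => apply_mem_of_characteristic (φH a) FH hy
    have h := hgB 1 x
    rw [pow_one, pow_one] at h
    rw [hL, Subgroup.mem_comap, ← h]
    exact apply_mem_of_characteristic gB Yb hx
  have hLpow : ∀ x ∈ L, ∃ i : ℕ, x ^ (q' ^ i) ∈ FH := fun x hx => by
    obtain ⟨i, hi⟩ := hYbp ⟨_, hx⟩
    refine ⟨i, (QuotientGroup.eq_one_iff _).1 ?_⟩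
    have h := congrArg Subtype.val hi
    rw [SubgroupClass.coe_pow] at h
    exact (map_pow (QuotientGroup.mk' FH) x _).trans h
  -- an invariant Sylow subgroup
  let ψL : A →* MulAut L :=
    (restrictHom φH.range L fun y hy x hx => by obtain ⟨a, rfl⟩ := hy; exact hLA a x hx).comp
      φH.rangeRestrict
  obtain ⟨P, hPinv⟩ := exists_invariant_sylow_mulAut ψL (q' := q') (by
    rw [hA]
    exact (hcopH.coprime_dvd_left L.card_subgroup_dvd_card).symm)
  set Y0 : Subgroup H := (P : Subgroup L).map L.subtype with hY0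
  have hY0p : IsPGroup q' Y0 := P.2.map _
  have hY0A : ∀ a, ∀ y ∈ Y0, φH a y ∈ Y0 := by
    rintro a _ ⟨x, hx, rfl⟩
    exact ⟨ψL a x, hPinv a x hx, rfl⟩
  obtain ⟨y₀, hy₀P, hy₀F⟩ : ∃ y ∈ Y0, y ∉ FH := by
    by_contra hcon
    push Not at hcon
    let π : L →* Yb := ((QuotientGroup.mk' FH).comp L.subtype).codRestrict Yb fun y => y.2
    have hπ : Function.Surjective π := fun b => by
      obtain ⟨a, ha⟩ := QuotientGroup.mk'_surjective FH (b : H ⧸ FH)
      exact ⟨⟨a, by rw [hL, Subgroup.mem_comap, ha]; exact b.2⟩, Subtype.ext ha⟩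
    have hPtop : (P : Subgroup L).map π = ⊤ := by
      obtain ⟨i, hi⟩ := hYbp.exists_card_eq
      have h1 : Nat.card ((P.mapSurjective hπ : Sylow q' Yb) : Subgroup Yb) = Nat.card Yb := by
        rw [Sylow.card_eq_multiplicity, hi, Nat.factorization_pow_self hq']
      exact Subgroup.eq_top_of_card_eq _ h1
    refine hNbot ((Subgroup.eq_bot_iff_forall _).2 fun b hb => ?_)
    obtain ⟨x, hx, hxb⟩ : (⟨b, hNYb hb⟩ : Yb) ∈ (P : Subgroup L).map π := hPtop ▸ Subgroup.mem_top _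
    have e : ((π x : Yb) : H ⧸ FH) = b := congrArg Subtype.val hxb
    rw [← e]
    exact (QuotientGroup.eq_one_iff _).2 (hcon _ ⟨x, hx, rfl⟩)
  obtain ⟨q, hq, hqq, hyc⟩ : ∃ q : ℕ, q.Prime ∧ q ≠ q' ∧
      y₀ ∉ Subgroup.centralizer (Cfsg.pCore q H : Set H) := by
    by_contra hcon
    push Not at hcon
    obtain ⟨x, hx, hxy⟩ := hy₀P
    exact hy₀F (mem_fitting_of_centralizes L hLpow (hxy ▸ x.2) hcon)
  haveI := Fact.mk hq
  set O := Cfsg.pCore q H with hO
  haveI hOc : O.Characteristic := CfsgLib.Cores.pCore_characteristic q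
  haveI hOn : O.Normal := inferInstance
  have hOp : IsPGroup q O := CfsgLib.Cores.isPGroup_pCore q
  let φO : A →* MulAut O :=
    (restrictHom φH.range O fun y _ x hx => apply_mem_of_characteristic y O hx).comp
      φH.rangeRestrict
  have hφO : ∀ (a : A) (x : O), ((φO a x : O) : H) = φH a x := fun a x => rfl
  let cO : H →* MulAut O := MulAut.conjNormal
  have hcO : ∀ (a : A) (y : H), φO a * cO y * (φO a)⁻¹ = cO (φH a y) := by
    intro a y
    rw [mul_inv_eq_iff_eq_mul]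
    refine MulEquiv.ext fun v => Subtype.ext ?_
    show φH a (y * v * y⁻¹) = φH a y * (φO a v : O) * (φH a y)⁻¹
    rw [hφO, map_mul, map_mul, map_inv]
  obtain ⟨Y2, ⟨hY2le, hY2A, hY2ne⟩, hY2min⟩ := (wellFounded_lt (α := Subgroup (MulAut O))).has_min
    {W | W ≤ Y0.map cO ∧ (∀ a, ∀ w ∈ W, φO a * w * (φO a)⁻¹ ∈ W) ∧ W ≠ ⊥}
    ⟨Y0.map cO, le_rfl, by
      rintro a _ ⟨y, hy, rfl⟩
      exact ⟨φH a y, hY0A a y hy, (hcO a y).symm⟩, fun h => hyc (by
      have h1 : cO y₀ = 1 := by rw [← Subgroup.mem_bot, ← h]; exact ⟨y₀, hy₀P, rfl⟩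
      refine Subgroup.mem_centralizer_iff.2 fun v hv => ?_
      have h2 : y₀ * v * y₀⁻¹ = v :=
        congrArg Subtype.val (DFunLike.congr_fun h1 (⟨v, hv⟩ : O))
      exact (mul_inv_eq_iff_eq_mul.1 h2).symm)⟩
  have hY2p : IsPGroup q' Y2 := (hY0p.map cO).to_le hY2le
  haveI : Group.IsSolvable Y2 := by haveI := hY2p.isNilpotent; infer_instance
  have hY2c : ∀ y ∈ Y2, ∀ z ∈ Y2, y * z = z * y := by
    have hlt : ⁅Y2, Y2⁆ < Y2 := commutator_self_lt inferInstance hY2ne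
    intro y hy z hz
    have hbot : ⁅Y2, Y2⁆ = ⊥ := by
      by_contra hne
      refine hY2min _ ⟨hlt.le.trans hY2le, fun a => ?_, hne⟩ hlt
      have h : (⁅Y2, Y2⁆ : Subgroup (MulAut O)).map (MulAut.conj (φO a)).toMonoidHom ≤ ⁅Y2, Y2⁆ := by
        rw [Subgroup.map_commutator]
        exact Subgroup.commutator_mono (Subgroup.map_le_iff_le_comap.2 (hY2A a))
          (Subgroup.map_le_iff_le_comap.2 (hY2A a))
      exact fun w hw => h ⟨w, hw, rfl⟩
    rw [← commutatorElement_eq_one_iff_mul_comm, ← Subgroup.mem_bot, ← hbot]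
    exact Subgroup.commutator_mem_commutator hy hz
  obtain ⟨Q0, ⟨hQ0A, hQ0Y, hQ0mv⟩, hQ0min⟩ := (wellFounded_lt (α := Subgroup O)).has_min
    {W | (∀ a, ∀ x ∈ W, φO a x ∈ W) ∧ (∀ y ∈ Y2, ∀ x ∈ W, y x ∈ W) ∧
      ∃ y ∈ Y2, ∃ x ∈ W, y x ≠ x}
    ⟨⊤, fun _ _ _ => Subgroup.mem_top _, fun _ _ _ _ => Subgroup.mem_top _, by
      by_contra hcon
      push Not at hcon
      exact hY2ne ((Subgroup.eq_bot_iff_forall _).2 fun y hy =>
        MulEquiv.ext fun x => hcon y hy x (Subgroup.mem_top x))⟩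
  have hcopQ0 : ∀ N : Subgroup Q0, (Nat.card N).Coprime (p * l) := fun N =>
    hcopH.coprime_dvd_left (N.card_subgroup_dvd_card.trans
      (Q0.card_subgroup_dvd_card.trans O.card_subgroup_dvd_card))
  let φQ : A →* MulAut Q0 :=
    (restrictHom φO.range Q0 fun y hy x hx => by obtain ⟨a, rfl⟩ := hy; exact hQ0A a x hx).comp
      φO.rangeRestrict
  have hφQ : ∀ (a : A) (x : Q0), (((φQ a x : Q0) : O) : H) = φH a ((x : O) : H) := fun a x => rfl
  let rY : Y2 →* MulAut Q0 := restrictHom Y2 Q0 hQ0Y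
  have hrY : ∀ (y : Y2) (x : Q0), ((rY y x : Q0) : O) = (y : MulAut O) x := fun y x => rfl
  have hrYA : ∀ (a : A) (y : Y2), φQ a * rY y * (φQ a)⁻¹ = rY ⟨_, hY2A a y y.2⟩ := by
    intro a y
    rw [mul_inv_eq_iff_eq_mul]
    refine MulEquiv.ext fun x => Subtype.ext ?_
    rw [MulAut.mul_apply, MulAut.mul_apply, hrY]
    show φO a ((rY y x : Q0) : O) = (φO a * (y : MulAut O) * (φO a)⁻¹) (φO a (x : O))
    rw [hrY, MulAut.mul_apply, MulAut.mul_apply, MulAut.inv_apply_self]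
  have hYp : IsPGroup q' rY.range := hY2p.of_surjective _ rY.rangeRestrict_surjective
  -- an element of `Q0` and a core on which it acts
  obtain ⟨y₂, hy₂, x₀, hx₀, hmv⟩ := hQ0mv
  have hx₀1 : (x₀ : H) ≠ 1 := fun h => hmv (by
    rw [show x₀ = 1 from Subtype.ext h, map_one])
  obtain ⟨g₁, hg₁⟩ := QuotientGroup.mk_surjective (x₀ : H)
  obtain ⟨s, m, hm, hord⟩ :=
    Nat.exists_eq_pow_mul_and_not_dvd (orderOf_pos g₁).ne' q hq.ne_one
  set g₂ := g₁ ^ m with hg₂
  have hg₂H : (QuotientGroup.mk g₂ : H) = (x₀ : H) ^ m := by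
    rw [hg₂, QuotientGroup.mk_pow, hg₁]
  obtain ⟨i₀, hi₀⟩ := hOp x₀
  have hi₀' : (x₀ : H) ^ (q ^ i₀) = 1 := congrArg Subtype.val hi₀
  have hg₂1 : (QuotientGroup.mk g₂ : H) ≠ 1 := fun h => hx₀1 (by
    rw [hg₂H] at h
    refine Subgroup.mem_bot.1 (mem_of_pow_mem_of_coprime (H := ⊥) (Subgroup.mem_bot.2 h) ?_)
    exact Nat.Coprime.coprime_dvd_right (orderOf_dvd_of_pow_eq_one hi₀')
      (((hq.coprime_iff_not_dvd).2 hm).symm.pow_right i₀))
  have hg₂q : g₂ ^ (q ^ s) = 1 := by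
    rw [hg₂, ← pow_mul, mul_comm, ← hord, pow_orderOf_eq_one]
  obtain ⟨r, hr, hrq, hgr⟩ : ∃ r : ℕ, r.Prime ∧ r ≠ q ∧
      g₂ ∉ Subgroup.centralizer (Cfsg.pCore r G : Set G) := by
    by_contra hcon
    push Not at hcon
    haveI : ((O.comap (QuotientGroup.mk' FG))).Normal := inferInstance
    refine hg₂1 ((QuotientGroup.eq_one_iff _).2 (mem_fitting_of_centralizes (l := q)
      (O.comap (QuotientGroup.mk' FG)) ?_ ?_ hcon))
    · intro x hx
      obtain ⟨i, hi⟩ := hOp ⟨_, hx⟩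
      refine ⟨i, (QuotientGroup.eq_one_iff _).1 ?_⟩
      have h := congrArg Subtype.val hi
      rw [SubgroupClass.coe_pow] at h
      exact (map_pow (QuotientGroup.mk' FG) x _).trans h
    · show (QuotientGroup.mk g₂ : H) ∈ O
      rw [hg₂H]
      exact O.pow_mem x₀.2 m
  haveI := Fact.mk hr
  set P₁ := Cfsg.pCore r G with hP₁
  haveI hP₁c : P₁.Characteristic := CfsgLib.Cores.pCore_characteristic r
  haveI hP₁n : P₁.Normal := inferInstance
  have hP₁p : IsPGroup r P₁ := CfsgLib.Cores.isPGroup_pCore r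
  set Φ := frattini P₁ with hΦ
  have hΦchar : ∀ (f : MulAut P₁), ∀ x ∈ Φ, f x ∈ Φ := fun f x hx =>
    apply_mem_of_characteristic f Φ hx
  letI : CommGroup (P₁ ⧸ Φ) :=
    { (inferInstance : Group (P₁ ⧸ Φ)) with
      mul_comm := CfsgLib.PGroup.quotient_frattini_comm hP₁p }
  let autQ : MulAut P₁ →* MulAut (P₁ ⧸ Φ) :=
    (quotientHom (⊤ : Subgroup (MulAut P₁)) Φ fun y _ => hΦchar y).comp
      Subgroup.topEquiv.symm.toMonoidHom
  have hautQ : ∀ (f : MulAut P₁) (x : P₁),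
      autQ f (QuotientGroup.mk x) = QuotientGroup.mk (f x) := fun f x => rfl
  let σP : A →* MulAut P₁ :=
    (restrictHom σ.range P₁ fun y _ x hx => apply_mem_of_characteristic y P₁ hx).comp
      σ.rangeRestrict
  have hσP : ∀ (a : A) (x : P₁), ((σP a x : P₁) : G) = σ a x := fun a x => rfl
  let ρG : G →* MulAut (P₁ ⧸ Φ) := autQ.comp MulAut.conjNormal
  have hρG : ∀ (g : G) (x : P₁),
      ρG g (QuotientGroup.mk x) = QuotientGroup.mk (MulAut.conjNormal g x) := fun g x => rfl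
  have hker : FG ≤ ρG.ker := by
    refine CfsgLib.Cores.fittingSubgroup_le_iSup_pCore.trans (iSup_le fun l g hg => ?_)
    haveI : Fact (l : ℕ).Prime := ⟨Nat.prime_of_mem_primeFactors l.2⟩
    refine MonoidHom.mem_ker.2 (MulEquiv.ext fun t => ?_)
    obtain ⟨x, rfl⟩ := QuotientGroup.mk_surjective t
    rw [hρG, MulAut.one_apply]
    by_cases hlr : (l : ℕ) = r
    · have hg' : g ∈ P₁ := by rw [hP₁, ← hlr]; exact hg
      have e1 : MulAut.conjNormal g x = (⟨g, hg'⟩ : P₁) * x * (⟨g, hg'⟩ : P₁)⁻¹ :=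
        Subtype.ext (MulAut.conjNormal_apply g x)
      rw [e1, QuotientGroup.mk_mul, QuotientGroup.mk_mul, QuotientGroup.mk_inv,
        mul_comm (QuotientGroup.mk (⟨g, hg'⟩ : P₁)) _, mul_inv_cancel_right]
    · refine congrArg _ (Subtype.ext ?_)
      rw [MulAut.conjNormal_apply, (CfsgLib.Cores.commute_pCore_of_ne hlr hg x.2).eq,
        mul_inv_cancel_right]
  let ρH : H →* MulAut (P₁ ⧸ Φ) := QuotientGroup.lift FG ρG hker
  have hρH : ∀ g : G, ρH (QuotientGroup.mk g) = ρG g := fun g => rfl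
  let ε0 : A →* MulAut (P₁ ⧸ Φ) := autQ.comp σP
  have hε0 : ∀ (a : A) (x : P₁), ε0 a (QuotientGroup.mk x) = QuotientGroup.mk (σP a x) :=
    fun a x => rfl
  have hερ : ∀ (a : A) (t : H), ε0 a * ρH t = ρH (φH a t) * ε0 a := by
    intro a t
    obtain ⟨g, rfl⟩ := QuotientGroup.mk_surjective t
    rw [hφH, hρH, hρH]
    refine MulEquiv.ext fun v => ?_
    obtain ⟨x, rfl⟩ := QuotientGroup.mk_surjective v
    rw [MulAut.mul_apply, MulAut.mul_apply, hρG, hε0, hε0, hρG]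
    refine congrArg _ (Subtype.ext ?_)
    rw [hσP, MulAut.conjNormal_apply, MulAut.conjNormal_apply, hσP, map_mul, map_mul, map_inv]
  have hrdvd : r ∣ Nat.card G := by
    refine (hP₁p.card_eq_or_dvd.resolve_left fun h1 => hgr ?_).trans P₁.card_subgroup_dvd_card
    refine Subgroup.mem_centralizer_iff.2 fun v hv => ?_
    rw [SetLike.mem_coe, Subgroup.eq_bot_of_card_eq _ h1, Subgroup.mem_bot] at hv
    rw [hv, one_mul, mul_one]
  have hrp : r ≠ p := fun h => hp.out.ne_one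
    (Nat.eq_one_of_dvd_coprimes hcop (h ▸ hrdvd) (dvd_mul_right p l))
  have hrl : r ≠ l := fun h => hl.out.ne_one
    (Nat.eq_one_of_dvd_coprimes hcop (h ▸ hrdvd) (dvd_mul_left l p))
  have hcopΦ : (Nat.card Φ).Coprime (p * l) :=
    hcop.coprime_dvd_left (Φ.card_subgroup_dvd_card.trans P₁.card_subgroup_dvd_card)
  have hqdvd : q ∣ Nat.card H := by
    refine (hOp.card_eq_or_dvd.resolve_left fun h1 => hx₀1 ?_).trans O.card_subgroup_dvd_card
    exact (Subgroup.mem_bot).1 (Subgroup.eq_bot_of_card_eq _ h1 ▸ x₀.2)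
  have hqp : q ≠ p := fun h => hp.out.ne_one
    (Nat.eq_one_of_dvd_coprimes hcopH (h ▸ hqdvd) (dvd_mul_right p l))
  have hql : q ≠ l := fun h => hl.out.ne_one
    (Nat.eq_one_of_dvd_coprimes hcopH (h ▸ hqdvd) (dvd_mul_left l p))
  have hY0cop : (Nat.card rY.range).Coprime (p * l) := by
    refine hcopH.coprime_dvd_left (Dvd.dvd.trans ?_ Y0.card_subgroup_dvd_card)
    exact (Subgroup.card_range_dvd rY).trans ((Subgroup.card_dvd_of_le hY2le).trans
      (Subgroup.card_map_dvd Y0 cO))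
  refine false_of_pq_groups (A := A) hqp hql hrq.symm hrp hrl hA hf hna (Q := Q0)
    (hOp.to_subgroup Q0) φQ
    (fun x hx => Subtype.ext (Subtype.ext (hHfix _ fun a =>
      congrArg (fun z : Q0 => ((z : O) : H)) (hx a))))
    (M := P₁ ⧸ Φ) (CfsgLib.PGroup.quotient_frattini_pow hP₁p)
    (ρH.comp (O.subtype.comp Q0.subtype)) ε0 (fun a x => ?_) (fun v hv => ?_)
    (fun N hN x hx => exists_common_fixed_pq hA hf hna φQ (hcopQ0 N) hN hx)
    (fun x hx v hv => ?_) rY.range ?_ (hY0cop.coprime_dvd_right (dvd_mul_right p l))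
    (hY0cop.coprime_dvd_right (dvd_mul_left l p)) ?_ ?_ ?_ ?_ ?_ ?_ ?_
    ⟨rY ⟨y₂, hy₂⟩, ⟨_, rfl⟩, fun h => hmv ?_⟩ ⟨⟨x₀, hx₀⟩ ^ m, ?_⟩
  · exact hερ a _
  · obtain ⟨x, rfl⟩ := QuotientGroup.mk_surjective v
    obtain ⟨z, hz, hzfix⟩ := exists_common_fixed_pq hA hf hna σP hcopΦ (fun a => hΦchar (σP a))
      (x := x) (fun a => QuotientGroup.eq.1 (hv a).symm)
    have hz1 : z = 1 := Subtype.ext (hfix _ fun a => congrArg Subtype.val (hzfix a))
    rw [hz1, inv_one, one_mul] at hz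
    exact (QuotientGroup.eq_one_iff x).2 hz
  · -- fixed elements of coprime orders commute
    obtain ⟨u, hu⟩ := QuotientGroup.mk_surjective (((x : O) : H))
    have hx' : φH f ((x : O) : H) = (x : O) := congrArg (fun z : Q0 => ((z : O) : H)) hx
    obtain ⟨z, hz, hzfix⟩ := exists_fixed_in_coset (φ := σ f) (m := 1)
      (by rw [pow_one, ← map_pow, hfl, map_one])
      (fun h => hl.out.ne_one (Nat.eq_one_of_dvd_coprimes hcopFG h (dvd_mul_left l p)))
      (fun y hy => apply_mem_of_characteristic (σ f) FG hy) (x := u)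
      (QuotientGroup.eq.1 (by rw [← hφH, hu]; exact hx'.symm))
    have hzx : (QuotientGroup.mk z : H) = (x : O) := (QuotientGroup.eq.2 hz).trans hu
    obtain ⟨v0, hv0⟩ := QuotientGroup.mk_surjective v
    obtain ⟨w, hw, hwfix⟩ := exists_fixed_in_coset (φ := σP f) (m := 1)
      (by rw [pow_one, ← map_pow, hfl, map_one])
      (fun h => hl.out.ne_one (Nat.eq_one_of_dvd_coprimes hcopΦ h (dvd_mul_left l p))) (hΦchar (σP f)) (x := v0)
      (QuotientGroup.eq.1 (by rw [← hε0, hv0]; exact hv.symm))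
    obtain ⟨t, m', hm', hord'⟩ :=
      Nat.exists_eq_pow_mul_and_not_dvd (orderOf_pos z).ne' q hq.ne_one
    obtain ⟨l, hl⟩ := exists_pow_eq_self_of_coprime (x := (QuotientGroup.mk z : H)) (n := m') (by
      obtain ⟨i, hi⟩ := IsPGroup.iff_orderOf.1 hOp (x : O)
      rw [hzx, Subgroup.orderOf_coe, hi]
      exact ((hq.coprime_iff_not_dvd).2 hm').symm.pow_right i)
    set z' := (z ^ m') ^ l with hz'
    have hz'x : (QuotientGroup.mk z' : H) = (x : O) := by
      rw [hz', QuotientGroup.mk_pow, QuotientGroup.mk_pow, hl, hzx]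
    have hz'fix : σ f z' = z' := by rw [hz', map_pow, map_pow, hzfix]
    have hcom := commute_of_fixed_of_coprime_pq hA hf hna σ hfix hz'fix
      (congrArg Subtype.val hwfix : σ f (w : G) = w) (by
        obtain ⟨i, hi⟩ := IsPGroup.iff_orderOf.1 hP₁p w
        rw [Subgroup.orderOf_coe, hi]
        refine Nat.Coprime.coprime_dvd_left (orderOf_dvd_of_pow_eq_one (x := z') (n := q ^ t) ?_)
          (Nat.coprime_pow_primes t i hq hr hrq.symm)
        rw [hz', ← pow_mul, ← pow_mul, mul_comm l, ← mul_assoc, mul_comm m', ← hord', pow_mul,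
          pow_orderOf_eq_one, one_pow])
    show ρH ((x : O) : H) v = v
    rw [← hz'x, ← hv0, ← QuotientGroup.eq.2 hw, hρH, hρG]
    refine congrArg _ (Subtype.ext ?_)
    rw [MulAut.conjNormal_apply, hcom, mul_inv_cancel_right]
  · obtain ⟨i, hi⟩ := hYp.exists_card_eq
    rw [hi]
    exact ((Nat.coprime_primes hq' hq).2 hqq.symm).pow_left i
  · rintro _ ⟨y, rfl⟩ hcom
    let Y' : Subgroup H := Y0 ⊓ Y2.comap cO
    let gY : Y' →* MulAut Q0 := rY.comp ((cO.comp Y'.subtype).codRestrict Y2 fun h => h.2.2)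
    have hY'A : ∀ y ∈ φH.range, ∀ h ∈ Y', y h ∈ Y' := by
      rintro _ ⟨a, rfl⟩ h hh
      refine ⟨hY0A a h hh.1, ?_⟩
      show cO (φH a h) ∈ Y2
      rw [← hcO]; exact hY2A a _ hh.2
    let ψ : A →* MulAut Y' := (restrictHom φH.range Y' hY'A).comp φH.rangeRestrict
    obtain ⟨h₀, hh₀, hch₀⟩ := hY2le y.2
    have hh₀' : h₀ ∈ Y' := ⟨hh₀, by show cO h₀ ∈ Y2; rw [hch₀]; exact y.2⟩
    have hgh : gY ⟨h₀, hh₀'⟩ = rY y := congrArg rY (Subtype.ext hch₀)
    have hgψ : ∀ a (h : Y'), gY (ψ a h) = φQ a * gY h * (φQ a)⁻¹ := fun a h => by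
      show rY _ = φQ a * rY _ * (φQ a)⁻¹
      rw [hrYA]
      refine congrArg rY (Subtype.ext ?_)
      show cO (φH a (h : H)) = φO a * cO (h : H) * (φO a)⁻¹
      rw [hcO]
    obtain ⟨z, hz, hzfix⟩ := exists_common_fixed_pq hA hf hna ψ (N := gY.ker)
      (hcopH.coprime_dvd_left (gY.ker.card_subgroup_dvd_card.trans Y'.card_subgroup_dvd_card))
      (fun a h hh => by rw [MonoidHom.mem_ker] at hh ⊢; rw [hgψ, hh, mul_one, mul_inv_cancel])
      (x := ⟨h₀, hh₀'⟩) (fun a => by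
        rw [MonoidHom.mem_ker, map_mul, map_inv, hgψ, hgh, hcom, mul_inv_cancel_right,
          inv_mul_cancel])
    have hz1 : z = 1 := Subtype.ext (hHfix _ fun a => congrArg Subtype.val (hzfix a))
    rw [hz1, inv_one, one_mul, MonoidHom.mem_ker, hgh] at hz
    exact hz
  · intro Hs hHs hHA
    by_cases hbot : Hs = ⊥
    · exact Or.inl hbot
    refine Or.inr ?_
    set H2 := (Hs.comap rY).map Y2.subtype with hH2
    have hH2le : H2 ≤ Y2 := Subgroup.map_subtype_le _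
    have hnlt : ¬ H2 < Y2 := by
      refine hY2min H2 ⟨hH2le.trans hY2le, ?_, fun h => hbot ?_⟩
      · rintro a _ ⟨w, hw, rfl⟩
        refine ⟨⟨_, hY2A a w w.2⟩, ?_, rfl⟩
        show rY _ ∈ Hs
        rw [← hrYA]
        exact hHA a _ hw
      · refine (Subgroup.eq_bot_iff_forall _).2 fun v hv => ?_
        obtain ⟨w, rfl⟩ := hHs hv
        have hw : (w : MulAut O) ∈ H2 := ⟨w, hv, rfl⟩
        rw [h, Subgroup.mem_bot] at hw
        rw [show w = 1 from Subtype.ext hw, map_one]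
    refine le_antisymm hHs ?_
    rintro _ ⟨w, rfl⟩
    obtain ⟨w', hw', hww⟩ := ((eq_of_le_of_not_lt hH2le hnlt).symm ▸ w.2 : (w : MulAut O) ∈ H2)
    rw [← Subtype.ext hww]
    exact hw'
  · rintro _ ⟨y, rfl⟩ _ ⟨z, rfl⟩
    rw [← map_mul, ← map_mul]
    exact congrArg rY (Subtype.ext (hY2c y y.2 z z.2))
  · rintro a _ ⟨y, rfl⟩
    exact ⟨_, (hrYA a y).symm⟩
  · rintro _ ⟨y, rfl⟩ hcom x hx
    -- lift `y` to a fixed element of the Sylow subgroup
    let Y' : Subgroup H := Y0 ⊓ Y2.comap cO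
    have hY'A : ∀ h ∈ Y', φH f h ∈ Y' := fun h hh => ⟨hY0A f h hh.1, by
      show cO (φH f h) ∈ Y2
      rw [← hcO]; exact hY2A f _ hh.2⟩
    obtain ⟨ψ, hψ⟩ := CfsgLib.FGS.exists_restrict_mulAut (φH f) hY'A
    have hψ1 : ∀ h : Y', ((ψ h : Y') : H) = φH f h := fun h => by
      have h' := hψ 1 h
      rwa [pow_one, pow_one] at h'
    let gY : Y' →* MulAut Q0 := rY.comp ((cO.comp Y'.subtype).codRestrict Y2 fun h => h.2.2)
    obtain ⟨h₀, hh₀, hch₀⟩ := hY2le y.2
    have hh₀' : h₀ ∈ Y' := ⟨hh₀, by show cO h₀ ∈ Y2; rw [hch₀]; exact y.2⟩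
    have hgh : gY ⟨h₀, hh₀'⟩ = rY y := congrArg rY (Subtype.ext hch₀)
    have hgψ : ∀ h : Y', gY (ψ h) = φQ f * gY h * (φQ f)⁻¹ := fun h => by
      show rY _ = φQ f * rY _ * (φQ f)⁻¹
      rw [hrYA]
      refine congrArg rY (Subtype.ext ?_)
      show cO ((ψ h : Y') : H) = φO f * cO (h : H) * (φO f)⁻¹
      rw [hψ1, hcO]
    obtain ⟨zY, hzY, hzYfix⟩ := exists_fixed_in_coset (φ := ψ) (m := 1)
      (MulEquiv.ext fun h => Subtype.ext (by rw [pow_one, hψ, ← map_pow, hfl, map_one]; rfl))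
      (N := gY.ker)
      (fun hd => hl.out.ne_one (Nat.eq_one_of_dvd_coprimes hcopH
        ((hd.trans gY.ker.card_subgroup_dvd_card).trans Y'.card_subgroup_dvd_card) (dvd_mul_left l p)))
      (fun h hh => by rw [MonoidHom.mem_ker] at hh ⊢; rw [hgψ, hh, mul_one, mul_inv_cancel])
      (x := ⟨h₀, hh₀'⟩) (by
        rw [MonoidHom.mem_ker, map_mul, map_inv, hgψ, hgh, hcom, mul_inv_cancel_right,
          inv_mul_cancel])
    have hgz : gY zY = rY y := by
      rw [MonoidHom.mem_ker, map_mul, map_inv, inv_mul_eq_one] at hzY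
      rw [hzY, hgh]
    have hcm := commute_of_fixed_of_coprime_pq hA hf hna φH hHfix
      (show φH f (zY : H) = zY by rw [← hψ1, hzYfix])
      (congrArg (fun z : Q0 => ((z : O) : H)) hx) (by
        obtain ⟨i, hi⟩ := IsPGroup.iff_orderOf.1 hY0p (⟨zY, zY.2.1⟩ : Y0)
        obtain ⟨k, hk⟩ := IsPGroup.iff_orderOf.1 hOp (x : O)
        rw [← Subgroup.orderOf_coe] at hi hk
        rw [show orderOf ((zY : Y') : H) = q' ^ i from hi, hk]
        exact Nat.coprime_pow_primes i k hq' hq hqq.symm)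
    rw [← hgz]
    refine Subtype.ext (Subtype.ext ?_)
    show (zY : H) * ((x : O) : H) * (zY : H)⁻¹ = ((x : O) : H)
    rw [hcm, mul_inv_cancel_right]
  · rintro _ ⟨y, rfl⟩
    obtain ⟨h₀, -, hch₀⟩ := hY2le y.2
    refine ⟨ρH h₀, ρH h₀⁻¹, by rw [← map_mul, mul_inv_cancel, map_one], fun x => ?_⟩
    show ρH h₀ * ρH ((x : O) : H) = ρH (((rY y x : Q0) : O) : H) * ρH h₀
    rw [← map_mul, ← map_mul, hrY, ← hch₀]
    congr 1
    show h₀ * ((x : O) : H) = h₀ * ((x : O) : H) * h₀⁻¹ * h₀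
    rw [inv_mul_cancel_right]
  · intro Hs hHs hHA hHY
    by_contra hcon
    push Not at hcon
    obtain ⟨_, ⟨y, rfl⟩, x, hxH, hne⟩ := hcon
    refine hQ0min (Hs.map Q0.subtype) ⟨?_, ?_, y, y.2, x, ⟨x, hxH, rfl⟩, fun h => hne
      (Subtype.ext h)⟩ (lt_of_le_of_ne (Subgroup.map_subtype_le _) fun h => hHs
        (Subgroup.map_injective Subtype.val_injective
          (show Hs.map Q0.subtype = (⊤ : Subgroup Q0).map Q0.subtype by
            rw [h, ← MonoidHom.range_eq_map, Subgroup.range_subtype])))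
    · rintro b _ ⟨z, hz, rfl⟩
      exact ⟨φQ b z, hHA b z hz, rfl⟩
    · rintro w hw _ ⟨z, hz, rfl⟩
      exact ⟨rY ⟨w, hw⟩ z, hHY _ ⟨_, rfl⟩ z hz, rfl⟩
  · have h' := congrArg Subtype.val (DFunLike.congr_fun h ⟨x₀, hx₀⟩)
    exact h'
  · intro h
    refine hgr ?_
    have h' : ρG g₂ = 1 := by
      rw [← hρH, hg₂H]
      exact h
    refine CfsgLib.PStab.mem_centralizer_of_frattini hP₁p
      (Subgroup.normalizer_eq_top_iff.2 hP₁n ▸ Subgroup.mem_top _) ?_ fun x hx => ?_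
    · exact Nat.Coprime.coprime_dvd_left (orderOf_dvd_of_pow_eq_one hg₂q)
        (((Nat.coprime_primes hq hr).2 hrq.symm).pow_left s)
    · have h3 := DFunLike.congr_fun h' (QuotientGroup.mk (⟨x, hx⟩ : P₁))
      rw [hρG, MulAut.one_apply, QuotientGroup.eq] at h3
      refine ⟨MulAut.conjNormal g₂ (⟨x, hx⟩ : P₁) * (⟨x, hx⟩ : P₁)⁻¹, ?_, ?_⟩
      · have h4 := (inferInstance : Φ.Normal).conj_mem _ (Φ.inv_mem h3) ⟨x, hx⟩
        rw [mul_inv_rev, inv_inv] at h4
        simpa [mul_assoc] using h4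
      · simp [commutatorElement_def]

end

end CfsgLib.Solvable
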