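import Cfsg.Agent.Lib.Solvable.Basic

/-!
Permutable subgroups: `A * B = B * A` as sets.
-/

set_option autoImplicit false

open scoped Pointwise

namespace CfsgLib.Solvable

variable {G : Type*} [Group G]

theorem coe_sup_of_perm {A B : Subgroup G} (h : (A : Set G) * B = (B : Set G) * A) :
    ((A ⊔ B : Subgroup G) : Set G) = (A : Set G) * B := by
  let S : Subgroup G :=
    { carrier := (A : Set G) * B
      one_mem' := ⟨1, one_mem _, 1, one_mem _, mul_one 1⟩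
      mul_mem' := fun {x y} hx hy => by
        have : x * y ∈ ((A : Set G) * B) * ((A : Set G) * B) := Set.mul_mem_mul hx hy
        rwa [mul_assoc, ← mul_assoc (B : Set G), ← h, mul_assoc, ← mul_assoc, coe_mul_coe,
          coe_mul_coe] at this
      inv_mem' := fun {x} hx => by
        obtain ⟨a, ha, b, hb, rfl⟩ := hx
        rw [mul_inv_rev, h]
        exact Set.mul_mem_mul (inv_mem hb) (inv_mem ha) }
  have hle : A ⊔ B ≤ S := sup_le (fun a ha => ⟨a, ha, 1, one_mem _, mul_one a⟩)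
    (fun b hb => ⟨1, one_mem _, b, hb, one_mul b⟩)
  refine Set.Subset.antisymm hle ?_
  rintro _ ⟨a, ha, b, hb, rfl⟩
  exact mul_mem (Subgroup.mem_sup_left ha) (Subgroup.mem_sup_right hb)

theorem sup_perm {A B C : Subgroup G} (hAB : (A : Set G) * B = (B : Set G) * A)
    (hAC : (A : Set G) * C = (C : Set G) * A) (hBC : (B : Set G) * C = (C : Set G) * B) :
    ((A ⊔ B : Subgroup G) : Set G) * C = (C : Set G) * ((A ⊔ B : Subgroup G) : Set G) := by
  rw [coe_sup_of_perm hAB, mul_assoc, hBC, ← mul_assoc, hAC, mul_assoc]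

theorem card_sup_of_perm [Finite G] {A B : Subgroup G} (h : (A : Set G) * B = (B : Set G) * A)
    (hd : A ⊓ B = ⊥) : Nat.card (A ⊔ B : Subgroup G) = Nat.card A * Nat.card B := by
  rw [← Nat.card_prod]
  refine (Nat.card_eq_of_bijective (fun x : A × B => (⟨(x.1 : G) * x.2,
    mul_mem (Subgroup.mem_sup_left x.1.2) (Subgroup.mem_sup_right x.2.2)⟩ : (A ⊔ B : Subgroup G)))
    ⟨fun x y hxy => ?_, fun g => ?_⟩).symm
  · have e : (x.1 : G) * x.2 = y.1 * y.2 := congrArg Subtype.val hxy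
    have h1 : (y.1 : G)⁻¹ * x.1 = y.2 * (x.2 : G)⁻¹ := by
      calc (y.1 : G)⁻¹ * x.1 = (y.1 : G)⁻¹ * ((x.1 : G) * x.2) * (x.2 : G)⁻¹ := by group
        _ = y.2 * (x.2 : G)⁻¹ := by rw [e]; group
    have h2 : (y.1 : G)⁻¹ * x.1 ∈ A ⊓ B := Subgroup.mem_inf.2
      ⟨mul_mem (inv_mem y.1.2) x.1.2, h1 ▸ mul_mem y.2.2 (inv_mem x.2.2)⟩
    rw [hd, Subgroup.mem_bot] at h2
    have h3 : (y.2 : G) * (x.2 : G)⁻¹ = 1 := h1 ▸ h2
    exact Prod.ext (Subtype.ext (inv_mul_eq_one.1 h2).symm) (Subtype.ext (mul_inv_eq_one.1 h3).symm)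
  · have hg : (g : G) ∈ (A : Set G) * B := by rw [← coe_sup_of_perm h]; exact g.2
    obtain ⟨a, ha, b, hb, e⟩ := hg
    exact ⟨(⟨a, ha⟩, ⟨b, hb⟩), Subtype.ext e⟩

end CfsgLib.Solvable
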