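import Cfsg.Agent.Lib.Solvable.CoprimeAction
import Cfsg.Agent.Lib.Solvable.AbelianAction
import Cfsg.Agent.Lib.LocalEven.Basic

/-!
Coprime action with fixed points of prime index.
-/

set_option autoImplicit false

open scoped Pointwise commutatorElement

namespace CfsgLib.Solvable

variable {G : Type*} [Group G] [Finite G]

theorem card_commutator_of_prime_index {A K : Subgroup G}
    (hAK : A ≤ Subgroup.normalizer (K : Set G)) (hcop : (Nat.card A).Coprime (Nat.card K))
    (hs : Group.IsSolvable A ∨ Group.IsSolvable K) {p : ℕ} (hp : p.Prime)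
    (hidx : (K ⊓ Subgroup.centralizer (A : Set G)).relIndex K = p) :
    Nat.card (⁅K, A⁆ : Subgroup G) = p := by
  haveI : Fact p.Prime := ⟨hp⟩
  set C := K ⊓ Subgroup.centralizer (A : Set G) with hC
  have hcardK : Nat.card K = Nat.card C * p := by
    rw [← Nat.card_congr (Subgroup.subgroupOfEquivOfLe (inf_le_left : C ≤ K)).toEquiv, ← hidx,
      Subgroup.relIndex, Subgroup.card_mul_index]
  have hAC : A ≤ Subgroup.normalizer (C : Set G) := le_normalizer_of_conj_mem fun a ha x hx => by
    rw [← (Subgroup.mem_centralizer_iff.1 hx.2 a ha).symm, mul_inv_cancel_right]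
    exact hx
  -- a Sylow subgroup of `C` inside an invariant one of `K`
  obtain ⟨T₀⟩ := (inferInstance : Nonempty (Sylow p C))
  set T := (T₀ : Subgroup C).map C.subtype with hT
  have hTC : T ≤ C := Subgroup.map_subtype_le _
  have hAT : A ≤ Subgroup.normalizer (T : Set G) := le_normalizer_of_conj_mem fun a ha x hx => by
    rw [← (Subgroup.mem_centralizer_iff.1 (hTC hx).2 a ha).symm, mul_inv_cancel_right]
    exact hx
  obtain ⟨P₀, hTP, hAP⟩ := exists_invariant_sylow_ge hAK hcop hs p
    (hTC.trans inf_le_left) (T₀.2.map _) hAT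
  set P := (P₀ : Subgroup K).map K.subtype with hP
  have hPK : P ≤ K := Subgroup.map_subtype_le _
  have hPp : IsPGroup p P := P₀.2.map _
  have hPC : P ⊓ C = T := by
    refine le_antisymm ?_ (le_inf hTP hTC)
    have h1 : (P ⊓ C).subgroupOf C = (T₀ : Subgroup C) := T₀.3
      ((hPp.to_le inf_le_left).of_equiv (Subgroup.subgroupOfEquivOfLe inf_le_right).symm) fun x hx =>
        Subgroup.mem_subgroupOf.2 ⟨hTP ⟨x, hx, rfl⟩, x.2⟩
    intro x hx
    exact ⟨⟨x, hx.2⟩, h1 ▸ Subgroup.mem_subgroupOf.2 hx, rfl⟩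
  have hcardP : Nat.card P = Nat.card T * p := by
    rw [hP, hT, card_sylow_map, card_sylow_map, P₀.card_eq_multiplicity, T₀.card_eq_multiplicity,
      hcardK, Nat.factorization_mul Nat.card_pos.ne' hp.ne_zero, Finsupp.add_apply,
      hp.factorization, Finsupp.single_eq_same, pow_succ]
  have hPT : ¬ P ≤ T := fun h => by
    have h1 := Nat.le_of_dvd Nat.card_pos (Subgroup.card_dvd_of_le h)
    rw [hcardP] at h1
    have h2 := lt_mul_right (Nat.card_pos (α := T)) hp.one_lt
    omega
  have hPN : P ≤ Subgroup.normalizer (T : Set G) := by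
    have hne : ¬ P ⊓ Subgroup.normalizer (T : Set G) ≤ T := fun h =>
      hPT (CfsgLib.LocalEven.eq_of_inf_normalizer_le hPp hTP h).ge
    set M := P ⊓ Subgroup.normalizer (T : Set G) with hM
    have hTM : T ≤ M := le_inf hTP Subgroup.le_normalizer
    have h1 : T.relIndex M * M.relIndex P = T.relIndex P :=
      Subgroup.relIndex_mul_relIndex T M P hTM inf_le_left
    have h2 : T.relIndex P = p := by
      have := (T.subgroupOf P).card_mul_index
      rw [Nat.card_congr (Subgroup.subgroupOfEquivOfLe hTP).toEquiv, hcardP] at this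
      exact Nat.eq_of_mul_eq_mul_left Nat.card_pos this
    rw [h2] at h1
    rcases (Nat.dvd_prime hp).1 (Dvd.intro_left _ h1) with h | h
    · exact (Subgroup.relIndex_eq_one.1 h).trans inf_le_right
    · rw [h] at h1
      exact absurd (Subgroup.relIndex_eq_one.1 (Nat.eq_of_mul_eq_mul_right hp.pos
        (h1.trans (one_mul p).symm))) hne
  set D := ⁅P, A⁆ with hD
  have hcopP := hcop.coprime_dvd_right (Subgroup.card_dvd_of_le hPK)
  have hsP := solvable_or_mono hPK hs
  have hDP : D ≤ P := commutator_le_of_le_normalizer hAP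
  -- `D` centralises `T`
  have hTA : ⁅T, A⁆ = ⊥ := by
    rw [Subgroup.commutator_eq_bot_iff_le_centralizer]
    exact hTC.trans inf_le_right
  have hDT : ⁅⁅P, A⁆, T⁆ = ⊥ := by
    refine Subgroup.commutator_commutator_eq_bot_of_rotate ?_ ?_
    · rw [Subgroup.commutator_comm A T, hTA, Subgroup.commutator_bot_left]
    · refine eq_bot_iff.2 (le_trans (Subgroup.commutator_mono ?_ le_rfl) hTA.le)
      exact commutator_le_of_le_normalizer hPN
  rw [Subgroup.commutator_eq_bot_iff_le_centralizer, ← hD] at hDT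
  -- `D` is abelian
  haveI hDc : IsMulCommutative D := by
    have hle : (T.subgroupOf D) ≤ Subgroup.center D := by
      intro x hx
      rw [Subgroup.mem_center_iff]
      intro y
      exact Subtype.ext (Subgroup.mem_centralizer_iff.1 (hDT y.2) x hx).symm
    have hTD : T.relIndex D ∣ p := by
      have h2 : T.relIndex P = p := by
        have := (T.subgroupOf P).card_mul_index
        rw [Nat.card_congr (Subgroup.subgroupOfEquivOfLe hTP).toEquiv, hcardP] at this
        exact Nat.eq_of_mul_eq_mul_left Nat.card_pos this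
      rw [← h2]
      haveI : (T.subgroupOf P).Normal := by
        rw [← Subgroup.normalizer_eq_top_iff, ← Subgroup.subgroupOf_normalizer_eq hTP,
          Subgroup.subgroupOf_eq_top]
        exact hPN
      have h3 := Subgroup.relIndex_dvd_index_of_normal (T.subgroupOf P) (D.subgroupOf P)
      rwa [Subgroup.relIndex_subgroupOf hDP] at h3
    haveI : IsCyclic (D ⧸ Subgroup.center D) := isCyclic_of_card_dvd_prime (p := p) (by
      rw [← Subgroup.index_eq_card]
      exact (Subgroup.index_dvd_of_le hle).trans hTD)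
    exact isMulCommutative_of_isCyclic_quotient_center_self D
  have hAD : A ≤ Subgroup.normalizer (D : Set G) := le_normalizer_commutator_right hAP
  have hcopD := hcop.coprime_dvd_right (Subgroup.card_dvd_of_le (hDP.trans hPK))
  have hDC : D ⊓ C = ⊥ := by
    have h1 := inf_centralizer_inf_commutator A D hAD hcopD
    rw [hD, commutator_commutator_self hAP hcopP hsP, ← hD] at h1
    rw [eq_bot_iff, ← h1]
    exact fun x hx => ⟨⟨hx.1, hx.2.2⟩, hx.1⟩
  -- order of `D`
  have hsup : D ⊔ T = P := by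
    have h1 := commutator_sup_centralizer hAP hcopP hsP
    rw [← hD] at h1
    refine le_antisymm (sup_le hDP hTP) ?_
    conv_lhs => rw [← h1]
    exact sup_le_sup_left (fun x hx => hPC.le ⟨hx.1, hPK hx.1, hx.2⟩) D
  have hcardD : Nat.card D = p := by
    have h1 := card_sup_of_disjoint (K := D) (A := T)
      ((hTP).trans (le_normalizer_commutator_left P A))
      (eq_bot_mono (inf_le_inf_left D hTC) hDC)
    rw [hsup, hcardP, mul_comm] at h1
    exact (Nat.eq_of_mul_eq_mul_right Nat.card_pos h1).symm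
  -- `K = D C`
  have hsurj : ∀ k ∈ K, ∃ d ∈ D, ∃ c ∈ C, k = d * c := by
    let f : D × C → K := fun x => ⟨(x.1 : G) * x.2, mul_mem (hPK (hDP x.1.2)) x.2.2.1⟩
    have hf : Function.Injective f := by
      rintro ⟨d, c⟩ ⟨d', c'⟩ h
      have h' : (d : G) * c = d' * c' := congrArg Subtype.val h
      have h2 : (d' : G)⁻¹ * d ∈ D ⊓ C := by
        refine ⟨D.mul_mem (D.inv_mem d'.2) d.2, ?_⟩
        rw [show (d' : G)⁻¹ * d = (c' : G) * (c : G)⁻¹ by
          calc (d' : G)⁻¹ * d = (d' : G)⁻¹ * (d * c) * (c : G)⁻¹ := by group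
            _ = _ := by rw [h']; group]
        exact C.mul_mem c'.2 (C.inv_mem c.2)
      rw [hDC, Subgroup.mem_bot, inv_mul_eq_one] at h2
      refine Prod.ext (Subtype.ext h2.symm) (Subtype.ext ?_)
      rw [← h2] at h'
      exact mul_left_cancel h'
    have hb : Function.Bijective f := (Nat.bijective_iff_injective_and_card f).2
      ⟨hf, by rw [Nat.card_prod, hcardD, hcardK, mul_comm]⟩
    intro k hk
    obtain ⟨⟨d, c⟩, h⟩ := hb.2 ⟨k, hk⟩
    exact ⟨d, d.2, c, c.2, (congrArg Subtype.val h).symm⟩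
  -- `C` normalises `D`
  have hcomm : ∀ (c a : G), c ∈ C → a ∈ A → c * a = a * c := fun c a hc ha =>
    (Subgroup.mem_centralizer_iff.1 hc.2 a ha).symm
  have hCD : C ≤ Subgroup.normalizer (D : Set G) := by
    refine le_normalizer_of_conj_mem fun c hc x hx => ?_
    have hgen : ⁅D, A⁆ ≤ D.comap (MulAut.conj c).toMonoidHom := by
      rw [Subgroup.commutator_le]
      intro d hd a ha
      show c * ⁅d, a⁆ * c⁻¹ ∈ D
      obtain ⟨e, he, c₁, hc₁, h1⟩ := hsurj (c * d) (mul_mem hc.1 (hPK (hDP hd)))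
      have h2 : c₁⁻¹ * e⁻¹ * c = d⁻¹ := by
        calc c₁⁻¹ * e⁻¹ * c = (e * c₁)⁻¹ * c := by group
          _ = d⁻¹ := by rw [← h1]; group
      have h3 : c₁⁻¹ * (a * e⁻¹ * a⁻¹) * c = a * d⁻¹ * a⁻¹ := by
        rw [← h2]
        calc c₁⁻¹ * (a * e⁻¹ * a⁻¹) * c = (c₁⁻¹ * a) * e⁻¹ * (a⁻¹ * c) := by group
          _ = (a * c₁⁻¹) * e⁻¹ * (c * a⁻¹) := by
            rw [hcomm _ a (inv_mem hc₁) ha, ← hcomm c _ hc (inv_mem ha)]
          _ = _ := by group
      have h4 : c * ⁅d, a⁆ * c⁻¹ = e * (a * e⁻¹ * a⁻¹) := by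
        calc c * ⁅d, a⁆ * c⁻¹ = c * d * (a * d⁻¹ * a⁻¹) * c⁻¹ := by
              rw [commutatorElement_def]; group
          _ = e * c₁ * (c₁⁻¹ * (a * e⁻¹ * a⁻¹) * c) * c⁻¹ := by rw [h1, h3]
          _ = _ := by group
      rw [h4]
      exact mul_mem he (normalizer_conj_mem (hAD ha) (inv_mem he))
    rw [hD, commutator_commutator_self hAP hcopP hsP] at hgen
    exact hgen hx
  have heq : ⁅K, A⁆ = D := by
    refine le_antisymm ?_ (Subgroup.commutator_mono hPK le_rfl)
    rw [Subgroup.commutator_le]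
    intro k hk a ha
    obtain ⟨d, hd, c, hc, rfl⟩ := hsurj k hk
    have : ⁅d * c, a⁆ = d * (c * a * c⁻¹ * a⁻¹) * (a * d⁻¹ * a⁻¹) := by
      rw [commutatorElement_def]; group
    rw [this, hcomm c a hc ha, mul_inv_cancel_right, mul_inv_cancel, mul_one]
    exact mul_mem hd (normalizer_conj_mem (hAD ha) (inv_mem hd))
  rw [heq, hcardD]

end CfsgLib.Solvable
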