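import Cfsg.Agent.Lib.Solvable.MinimalNormal
import Cfsg.Agent.Lib.Solvable.KegelWielandt
import Cfsg.Agent.S0572

/-!
Derived length of a product of an abelian and a nilpotent subgroup.
-/

set_option autoImplicit false

open scoped Pointwise
open scoped commutatorElement

namespace CfsgLib.Solvable

universe u

theorem exists_proper_ge_derived_aux : ∀ (n : ℕ) {G : Type u} [Group G] [Finite G]
    [Group.IsSolvable G], Nat.card G = n → ∀ (A B : Subgroup G),
    (∀ x ∈ A, ∀ y ∈ A, x * y = y * x) → Group.IsNilpotent B →
    (∀ g : G, ∃ a ∈ A, ∃ b ∈ B, g = a * b) → A ≠ ⊤ →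
    ∃ H : Subgroup G, H ≠ ⊤ ∧ A ≤ H ∧ ⁅B, B⁆ ≤ H := by
  intro n
  induction n using Nat.strong_induction_on with
  | _ n ih =>
    intro G _ _ _ hn A B hA hBn hAB hAtop
    have : Nontrivial G := by
      by_contra hnon
      rw [not_nontrivial_iff_subsingleton] at hnon
      exact hAtop (Subsingleton.elim _ _)
    by_cases hred : ∃ N : Subgroup G, N.Normal ∧ N ≠ ⊥ ∧ N ⊔ A ≠ ⊤
    · obtain ⟨N, hNn, hN, hNA⟩ := hred
      have hlt : Nat.card (G ⧸ N) < n := hn ▸ card_quotient_lt N hN
      let π := QuotientGroup.mk' N
      have hπ : Function.Surjective π := QuotientGroup.mk'_surjective N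
      have hBn' : Group.IsNilpotent (B.map π) :=
        Group.nilpotent_of_surjective (h := hBn) (π.subgroupMap B) (π.subgroupMap_surjective B)
      obtain ⟨H, hH, hAH, hBH⟩ := ih _ hlt rfl (A.map π) (B.map π)
        (by
          rintro _ ⟨x, hx, rfl⟩ _ ⟨y, hy, rfl⟩
          rw [← map_mul, ← map_mul, hA x hx y hy]) hBn'
        (fun g => by
          obtain ⟨g, rfl⟩ := hπ g
          obtain ⟨a, ha, b, hb, rfl⟩ := hAB g
          exact ⟨π a, ⟨a, ha, rfl⟩, π b, ⟨b, hb, rfl⟩, map_mul π a b⟩)
        (fun h => by
          apply hNA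
          have hc := congrArg (Subgroup.comap π) h
          rw [Subgroup.comap_map_eq, Subgroup.comap_top, QuotientGroup.ker_mk', sup_comm] at hc
          exact hc)
      refine ⟨H.comap π, fun h => hH ?_, Subgroup.map_le_iff_le_comap.1 hAH, ?_⟩
      · have h2 := congrArg (Subgroup.map π) h
        rwa [Subgroup.map_comap_eq_self_of_surjective hπ,
          Subgroup.map_top_of_surjective π hπ] at h2
      · rw [← Subgroup.map_le_iff_le_comap, Subgroup.map_commutator]
        exact hBH
    · push Not at hred
      refine ⟨A, hAtop, le_rfl, ?_⟩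
      suffices hB1 : ⁅B, B⁆ = ⊥ by rw [hB1]; exact bot_le
      obtain ⟨N, p, k, hNn, hp, hk, hNp, hNcard, hNbot, hNab, hNmin⟩ :=
        exists_normal_prime_pow_card (G := G)
      have := hNn
      have := Fact.mk hp
      have hA_core : ∀ M : Subgroup G, M.Normal → M ≤ A → M = ⊥ := fun M hMn hMA => by
        by_contra hM
        exact hAtop (by rw [← sup_eq_right.2 hMA]; exact hred M hMn hM)
      have hNAtop := hred N hNn hNbot
      have hAN : A ≤ Subgroup.normalizer (N : Set G) := by
        rw [Subgroup.normalizer_eq_top]; exact le_top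
      have hd : N ⊓ A = ⊥ := by
        refine hA_core _ ⟨fun x hx g => ?_⟩ inf_le_right
        obtain ⟨m, hm, a, ha, rfl⟩ := exists_mul_of_mem_sup hAN (g := g) (by simp [hNAtop])
        have e1 : a * x * a⁻¹ = x := by rw [hA a ha x hx.2, mul_inv_cancel_right]
        have e2 : m * x * m⁻¹ = x := by rw [hNab m hm x hx.1, mul_inv_cancel_right]
        have e3 : m * a * x * (m * a)⁻¹ = m * (a * x * a⁻¹) * m⁻¹ := by group
        rw [e3, e1, e2]
        exact hx
      have hcardG : Nat.card G = Nat.card N * Nat.card A := by
        rw [← card_sup_of_disjoint hAN hd, hNAtop, Subgroup.card_top]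
      have hCA : ∀ x ∈ A, (∀ y ∈ N, x * y = y * x) → x = 1 := by
        intro x hx hxN
        have hz : x ∈ Subgroup.center G := by
          rw [Subgroup.mem_center_iff]
          intro g
          obtain ⟨m, hm, a, ha, rfl⟩ := exists_mul_of_mem_sup hAN (g := g) (by simp [hNAtop])
          rw [mul_assoc, hA a ha x hx, ← mul_assoc, ← hxN m hm, mul_assoc]
        have h1 : Subgroup.zpowers x = ⊥ := by
          refine hA_core _ ⟨fun y hy g => ?_⟩ ((Subgroup.zpowers_le).2 hx)
          have hyz : y ∈ Subgroup.center G := (Subgroup.zpowers_le.2 hz) hy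
          rwa [Subgroup.mem_center_iff.1 hyz g, mul_inv_cancel_right]
        exact Subgroup.zpowers_eq_bot.1 h1
      have hTI : ∀ g x : G, x ∈ A → g * x * g⁻¹ ∈ A → g ∉ A → x = 1 := by
        intro g x hx hgx hg
        obtain ⟨m, hm, a, ha, rfl⟩ := exists_mul_of_mem_sup hAN (g := g) (by simp [hNAtop])
        have hm1 : m ≠ 1 := fun h => hg (by rw [h, one_mul]; exact ha)
        have e1 : m * a * x * (m * a)⁻¹ = m * x * m⁻¹ := by
          have e : a * x * a⁻¹ = x := by rw [hA a ha x hx, mul_inv_cancel_right]
          calc m * a * x * (m * a)⁻¹ = m * (a * x * a⁻¹) * m⁻¹ := by group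
            _ = _ := by rw [e]
        rw [e1] at hgx
        have hcomm : m * x * m⁻¹ * x⁻¹ = 1 := by
          rw [← Subgroup.mem_bot, ← hd]
          refine ⟨?_, A.mul_mem hgx (A.inv_mem hx)⟩
          have h2 : x * m⁻¹ * x⁻¹ ∈ N := hNn.conj_mem _ (N.inv_mem hm) x
          have h3 : m * x * m⁻¹ * x⁻¹ = m * (x * m⁻¹ * x⁻¹) := by group
          rw [h3]
          exact N.mul_mem hm h2
        have hmx : x * m = m * x := (mul_inv_eq_iff_eq_mul.1 (mul_inv_eq_one.1 hcomm)).symm
        refine hCA x hx ?_
        set K := N ⊓ Subgroup.centralizer ({x} : Set G)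
        have hKN : K ≤ N := inf_le_left
        have hKn : K.Normal := by
          refine ⟨fun y hy g => ?_⟩
          obtain ⟨m', hm', a', ha', rfl⟩ := exists_mul_of_mem_sup hAN (g := g) (by simp [hNAtop])
          refine ⟨hNn.conj_mem _ hy.1 _, Subgroup.mem_centralizer_singleton_iff.2 ?_⟩
          have hyx : Commute y x := Subgroup.mem_centralizer_singleton_iff.1 hy.2
          have h1 : Commute (a' * y * a'⁻¹) x :=
            ((show Commute a' x from hA a' ha' x hx).mul_left hyx).mul_left
              (show Commute a' x from hA a' ha' x hx).inv_left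
          have hy' : a' * y * a'⁻¹ ∈ N := hNn.conj_mem _ hy.1 a'
          have e4 : m' * a' * y * (m' * a')⁻¹ = a' * y * a'⁻¹ := by
            calc m' * a' * y * (m' * a')⁻¹ = m' * (a' * y * a'⁻¹) * m'⁻¹ := by group
              _ = _ := by rw [hNab m' hm' _ hy', mul_inv_cancel_right]
          rw [e4]
          exact h1.eq
        rcases hNmin K hKn hKN with h | h
        · exfalso
          apply hm1
          rw [← Subgroup.mem_bot, ← h]
          exact ⟨hm, Subgroup.mem_centralizer_singleton_iff.2 hmx.symm⟩
        · intro y hy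
          exact (Subgroup.mem_centralizer_singleton_iff.1 (h ▸ hy : y ∈ K).2).symm
      have hAB1 : A ⊓ B = ⊥ := by
        by_contra hne
        have hlt : (A ⊓ B).subgroupOf B ≠ ⊤ := by
          intro h
          rw [Subgroup.subgroupOf_eq_top] at h
          refine hAtop (eq_top_iff.2 fun g _ => ?_)
          obtain ⟨a, ha, b, hb, rfl⟩ := hAB g
          exact A.mul_mem ha (h hb).1
        have hnc := normalizerCondition_of_isNilpotent (G := B) _ (lt_top_iff_ne_top.2 hlt)
        obtain ⟨g, hg, hgn⟩ := SetLike.exists_of_lt hnc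
        have hgA : (g : G) ∉ A := fun h => hgn (Subgroup.mem_subgroupOf.2 ⟨h, g.2⟩)
        refine hne ((Subgroup.eq_bot_iff_forall _).2 fun x hx => ?_)
        have hxs : (⟨x, hx.2⟩ : B) ∈ (A ⊓ B).subgroupOf B := Subgroup.mem_subgroupOf.2 hx
        exact hTI g x hx.1 (Subgroup.mem_subgroupOf.1
          ((Subgroup.mem_normalizer_iff.1 hg _).1 hxs)).1 hgA
      have hcardB : Nat.card B = Nat.card N := by
        have h : Subgroup.IsComplement' A B := by
          refine Subgroup.isComplement'_of_disjoint_and_mul_eq_univ (disjoint_iff.2 hAB1)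
            (Set.eq_univ_of_forall fun g => ?_)
          obtain ⟨a, ha, b, hb, rfl⟩ := hAB g
          exact Set.mul_mem_mul ha hb
        have h2 := h.card_mul
        have hA0 : 0 < Nat.card A := Nat.card_pos
        rw [hcardG, mul_comm (Nat.card N)] at h2
        exact Nat.eq_of_mul_eq_mul_left hA0 h2
      have hpA : ¬ p ∣ Nat.card A := by
        intro hdvd
        obtain ⟨a, ha⟩ := exists_prime_orderOf_dvd_card' p hdvd
        have ha1 : (a : G) ≠ 1 := by
          rw [← Subgroup.orderOf_coe] at ha
          intro h
          rw [h, orderOf_one] at ha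
          exact hp.one_lt.ne ha
        have hpg : IsPGroup p (Subgroup.zpowers (a : G)) :=
          IsPGroup.of_card (n := 1) (by rw [Nat.card_zpowers, Subgroup.orderOf_coe, ha, pow_one])
        have hzN : Subgroup.zpowers (a : G) ≤ Subgroup.normalizer (N : Set G) :=
          (Subgroup.zpowers_le.2 a.2).trans hAN
        have hS := IsPGroup.to_sup_of_normal_left' hNp hpg hzN
        set S := N ⊔ Subgroup.zpowers (a : G)
        have : Nontrivial S := Subgroup.nontrivial_iff_ne_bot S |>.2 fun h =>
          hNbot (eq_bot_iff.2 (le_sup_left.trans h.le))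
        have hne : N.subgroupOf S ≠ ⊥ := by
          rw [Ne, Subgroup.subgroupOf_eq_bot]
          intro h
          exact hNbot (eq_bot_iff.2 ((le_inf le_rfl le_sup_left).trans h.le_bot))
        have := hS.isNilpotent
        have hz : N.subgroupOf S ⊓ Subgroup.center S ≠ ⊥ := inf_center_ne_bot_of_isNilpotent
          (N := N.subgroupOf S) hne
        obtain ⟨z, hz, hz1⟩ : ∃ z ∈ N.subgroupOf S ⊓ Subgroup.center S, z ≠ 1 := by
          by_contra hcon
          push Not at hcon
          exact hz ((Subgroup.eq_bot_iff_forall _).2 hcon)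
        have hzc : (a : G) * z * (a : G)⁻¹ = z := by
          have := Subgroup.mem_center_iff.1 hz.2 ⟨a, Subgroup.mem_sup_right (Subgroup.mem_zpowers _)⟩
          have := congrArg Subtype.val this
          simp only [Subgroup.coe_mul] at this
          rw [this, mul_inv_cancel_right]
        refine ha1 (hTI z a a.2 ?_ ?_)
        · have : (z : G) * a * (z : G)⁻¹ = a := by
            rw [mul_inv_eq_iff_eq_mul, eq_comm, ← mul_inv_eq_iff_eq_mul, hzc]
          rw [this]; exact a.2
        · intro hzA
          refine hz1 (Subtype.ext ?_)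
          show (z : G) = 1
          rw [← Subgroup.mem_bot, ← hd]
          exact ⟨Subgroup.mem_subgroupOf.1 hz.1, hzA⟩
      have hBN : B = N := by
        refine Subgroup.eq_of_le_of_card_ge (fun b hb => ?_) hcardB.ge
        obtain ⟨m, hm, a, ha, e⟩ := exists_mul_of_mem_sup hAN (g := b) (by simp [hNAtop])
        have hbc : b ^ Nat.card N = 1 := by
          have := pow_card_eq_one' (G := B) (x := ⟨b, hb⟩)
          rw [hcardB] at this
          simpa using congrArg Subtype.val this
        let π := QuotientGroup.mk' N
        have h1 : π (a ^ Nat.card N) = 1 := by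
          have : π b = π a := by
            rw [e, map_mul, (QuotientGroup.eq_one_iff m).2 hm |> fun h => (show π m = 1 from h),
              one_mul]
          rw [map_pow, ← this, ← map_pow, hbc, map_one]
        have h2 : a ^ Nat.card N = 1 := by
          rw [← Subgroup.mem_bot, ← hd]
          exact ⟨(QuotientGroup.eq_one_iff _).1 h1, A.pow_mem ha _⟩
        have h3 : a = 1 := by
          rw [← orderOf_eq_one_iff]
          refine Nat.eq_one_of_dvd_coprimes ?_ (A.orderOf_dvd_natCard ha)
            (orderOf_dvd_of_pow_eq_one h2)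
          rw [hNcard]
          exact ((hp.coprime_iff_not_dvd.2 hpA).pow_left k).symm
        rw [e, h3, mul_one]
        exact hm
      rw [hBN, Subgroup.commutator_eq_bot_iff_le_centralizer]
      exact fun x hx => Subgroup.mem_centralizer_iff.2 fun y hy => hNab y hy x hx

theorem card_primeFactorsList_lt {a b : ℕ} (h : a ∣ b) (hlt : a < b) :
    a.primeFactorsList.length < b.primeFactorsList.length := by
  obtain ⟨c, rfl⟩ := h
  have ha : a ≠ 0 := fun h => by simp [h] at hlt
  have hc : 1 < c := by
    by_contra hc
    interval_cases c <;> simp at hlt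
  rw [(Nat.perm_primeFactorsList_mul ha (by omega)).length_eq, List.length_append]
  have : c.primeFactorsList.length ≠ 0 := fun h => by
    rw [List.length_eq_zero_iff, Nat.primeFactorsList_eq_nil] at h
    omega
  omega

theorem derivedSeries_mul_nilpotent_aux : ∀ (m : ℕ) {G : Type u} [Group G] [Finite G]
    (A B : Subgroup G), (∀ x ∈ A, ∀ y ∈ A, x * y = y * x) → Group.IsNilpotent B →
    (∀ g : G, ∃ a ∈ A, ∃ b ∈ B, g = a * b) → Nat.card ↥⁅B, B⁆ = m →
    derivedSeries G (2 * (1 + m.primeFactorsList.length)) = ⊥ := by
  intro m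
  induction m using Nat.strong_induction_on with
  | _ m ih =>
    intro G _ _ A B hA hBn hAB hm
    have hAc : IsMulCommutative A := ⟨⟨fun x y => Subtype.ext (hA x x.2 y y.2)⟩⟩
    by_cases hB1 : ⁅B, B⁆ = ⊥
    · have hBc : IsMulCommutative B := ⟨⟨fun x y => Subtype.ext
        ((Subgroup.mem_centralizer_iff.1
          (Subgroup.commutator_eq_bot_iff_le_centralizer.1 hB1 y.2)) x x.2)⟩⟩
      exact eq_bot_iff.2 ((derivedSeries_antitone G (by omega)).trans
        (Cfsg.Agent.S0572.result A B hAB).le)
    · set Z := ⁅B, B⁆
      set X := A ⊔ Z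
      have hZB : Z ≤ B := Subgroup.commutator_le.2 fun x hx y hy => by
        rw [commutatorElement_def]
        exact B.mul_mem (B.mul_mem (B.mul_mem hx hy) (B.inv_mem hx)) (B.inv_mem hy)
      set A1 := A.subgroupOf X
      set B1 := B.subgroupOf X
      have hA1 : ∀ x ∈ A1, ∀ y ∈ A1, x * y = y * x := fun x hx y hy =>
        Subtype.ext (hA x hx y hy)
      have hB1n : Group.IsNilpotent B1 := by
        have : Group.IsNilpotent B := hBn
        let f : B1 →* B :=
          { toFun := fun x => ⟨((x : X) : G), Subgroup.mem_subgroupOf.1 x.2⟩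
            map_one' := rfl
            map_mul' := fun _ _ => rfl }
        have hf : Function.Injective f := fun x y h =>
          Subtype.ext (Subtype.ext (congrArg (fun t : B => (t : G)) h :))
        exact Group.nilpotent_of_mulEquiv (G := f.range) (MonoidHom.ofInjective hf).symm
      have hAB1 : ∀ g : X, ∃ a ∈ A1, ∃ b ∈ B1, g = a * b := fun g => by
        obtain ⟨a, ha, b, hb, e⟩ := hAB g
        have haX : a ∈ X := Subgroup.mem_sup_left ha
        have hbX : b ∈ X := by
          have : b = a⁻¹ * g := by rw [e]; group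
          rw [this]; exact X.mul_mem (X.inv_mem haX) g.2
        exact ⟨⟨a, haX⟩, Subgroup.mem_subgroupOf.2 ha, ⟨b, hbX⟩,
          Subgroup.mem_subgroupOf.2 hb, Subtype.ext e⟩
      have hle : (⁅B1, B1⁆).map X.subtype ≤ Z := by
        rw [Subgroup.map_commutator]
        exact Subgroup.commutator_mono ((Subgroup.subgroupOf_map_subtype B X).trans_le inf_le_left)
          ((Subgroup.subgroupOf_map_subtype B X).trans_le inf_le_left)
      have hne : (⁅B1, B1⁆).map X.subtype ≠ Z := by
        intro heq
        have hsolX : Group.IsSolvable X :=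
          isSolvable_of_nilpotent_mul
            (@CommGroup.isNilpotent A1
              { (inferInstance : Group A1) with
                mul_comm := fun x y => Subtype.ext (hA1 x x.2 y y.2) }) hB1n hAB1
        by_cases htop : A1 = ⊤
        · apply hB1
          rw [eq_bot_iff, ← heq, Subgroup.map_le_iff_le_comap]
          have : ⁅B1, B1⁆ = ⊥ := by
            rw [Subgroup.commutator_eq_bot_iff_le_centralizer]
            exact fun x _ => Subgroup.mem_centralizer_iff.2 fun y _ =>
              hA1 y (htop ▸ Subgroup.mem_top y) x (htop ▸ Subgroup.mem_top x)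
          rw [this]; exact bot_le
        · obtain ⟨H, hH, hAH, hBH⟩ := exists_proper_ge_derived_aux _ rfl A1 B1 hA1 hB1n hAB1 htop
          apply hH
          rw [eq_top_iff]
          have : X ≤ H.map X.subtype := sup_le
            (fun a ha => ⟨⟨a, Subgroup.mem_sup_left ha⟩, hAH (Subgroup.mem_subgroupOf.2 ha), rfl⟩)
            (heq ▸ Subgroup.map_mono hBH)
          intro x _
          obtain ⟨y, hy, e⟩ := this x.2
          exact (Subtype.ext e : y = x) ▸ hy
      have hdvd : Nat.card ↥⁅B1, B1⁆ ∣ m := by
        rw [← hm, ← Subgroup.card_map_of_injective (f := X.subtype) Subtype.val_injective]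
        exact Subgroup.card_dvd_of_le hle
      have hlt : Nat.card ↥⁅B1, B1⁆ < m := by
        rw [← hm, ← Subgroup.card_map_of_injective (f := X.subtype) Subtype.val_injective]
        refine lt_of_le_of_ne (Nat.le_of_dvd Nat.card_pos (Subgroup.card_dvd_of_le hle)) fun h => ?_
        exact hne (Subgroup.eq_of_le_of_card_ge hle h.ge)
      have hrec := ih _ hlt A1 B1 hA1 hB1n hAB1 rfl
      have hom := card_primeFactorsList_lt hdvd hlt
      set L := Subgroup.normalClosure (Z : Set G)
      have hLn : L.Normal := Subgroup.normalClosure_normal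
      have hLX : L ≤ X := by
        refine (Subgroup.closure_le X).2 fun w hw => ?_
        obtain ⟨z, hz, hzw⟩ := Group.mem_conjugatesOfSet_iff.1 hw
        obtain ⟨g, rfl⟩ := isConj_iff.1 hzw
        show g * z * g⁻¹ ∈ X
        obtain ⟨a, ha, b, hb, rfl⟩ := hAB g
        have hbz : b * z * b⁻¹ ∈ Z :=
          normalizer_conj_mem (normalizer_le_normalizer_commutator B B
            ⟨Subgroup.le_normalizer hb, Subgroup.le_normalizer hb⟩) hz
        have e : a * b * z * (a * b)⁻¹ = a * (b * z * b⁻¹) * a⁻¹ := by group
        rw [e]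
        exact X.mul_mem (X.mul_mem (Subgroup.mem_sup_left ha) (Subgroup.mem_sup_right hbz))
          (X.inv_mem (Subgroup.mem_sup_left ha))
      have h2 : derivedSeries G 2 ≤ L := by
        let π := QuotientGroup.mk' L
        have hπ : Function.Surjective π := QuotientGroup.mk'_surjective L
        have hBc : IsMulCommutative (B.map π) := by
          refine ⟨⟨fun x y => Subtype.ext ?_⟩⟩
          obtain ⟨x0, hx0, hx⟩ := x.2
          obtain ⟨y0, hy0, hy⟩ := y.2
          show (x : G ⧸ L) * y = y * x
          rw [← hx, ← hy, ← commutatorElement_eq_one_iff_mul_comm, ← map_commutatorElement]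
          exact (QuotientGroup.eq_one_iff _).2
            (Subgroup.subset_normalClosure (Subgroup.commutator_mem_commutator hx0 hy0))
        have hAc' : IsMulCommutative (A.map π) := by
          refine ⟨⟨fun x y => Subtype.ext ?_⟩⟩
          obtain ⟨x0, hx0, hx⟩ := x.2
          obtain ⟨y0, hy0, hy⟩ := y.2
          show (x : G ⧸ L) * y = y * x
          rw [← hx, ← hy, ← map_mul, ← map_mul, hA x0 hx0 y0 hy0]
        have := Cfsg.Agent.S0572.result (A.map π) (B.map π) fun g => by
          obtain ⟨g, rfl⟩ := hπ g
          obtain ⟨a, ha, b, hb, rfl⟩ := hAB g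
          exact ⟨π a, ⟨a, ha, rfl⟩, π b, ⟨b, hb, rfl⟩, map_mul π a b⟩
        rw [← map_derivedSeries_eq hπ, Subgroup.map_eq_bot_iff, QuotientGroup.ker_mk'] at this
        exact this
      have hiter : ∀ i, derivedSeries G (2 + i) ≤ (derivedSeries X i).map X.subtype := by
        intro i
        induction i with
        | zero =>
          rw [derivedSeries_zero, ← MonoidHom.range_eq_map, Subgroup.range_subtype]
          exact h2.trans hLX
        | succ i hi =>
          rw [← add_assoc, derivedSeries_succ, derivedSeries_succ, Subgroup.map_commutator]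
          exact Subgroup.commutator_mono hi hi
      rw [eq_bot_iff]
      refine (derivedSeries_antitone G ?_).trans ((hiter (2 * (1 +
        (Nat.card ↥⁅B1, B1⁆).primeFactorsList.length))).trans ?_)
      · omega
      · rw [hrec, Subgroup.map_bot]

end CfsgLib.Solvable
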