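import Mathlib.GroupTheory.GroupAction.MultipleTransitivity
import Mathlib.GroupTheory.PGroup

/-!
Regular normal subgroups of 2-transitive groups.
-/

set_option autoImplicit false

namespace CfsgLib.Solvable

variable {G : Type*} [Group G] [Finite G] {X : Type*} [Nonempty X] [MulAction G X]

theorem isMulCommutative_of_regular_two_transitive (h2 : MulAction.IsMultiplyPretransitive G X 2)
    (N : Subgroup G) [hN : N.Normal] (hreg : ∀ x : X, MulAction.stabilizer N x = ⊥) :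
    IsMulCommutative N ∧ ∃ p : ℕ, p.Prime ∧ ∀ n ∈ N, n ^ p = 1 := by
  obtain ⟨x⟩ := ‹Nonempty X›
  by_cases hN1 : N = ⊥
  · subst hN1
    exact ⟨⟨⟨fun a b => Subsingleton.elim _ _⟩⟩, 2, Nat.prime_two, fun n hn => by
      rw [Subgroup.mem_bot.1 hn, one_pow]⟩
  have hfree : ∀ n m : N, (n : G) • x = (m : G) • x → n = m := fun n m h => by
    have : m⁻¹ * n ∈ MulAction.stabilizer N x := by
      show ((m⁻¹ * n : N) : G) • x = x
      rw [Subgroup.coe_mul, Subgroup.coe_inv, mul_smul, h, inv_smul_smul]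
    rw [hreg, Subgroup.mem_bot, inv_mul_eq_one] at this
    exact this.symm
  have hconj : ∀ n m : N, n ≠ 1 → m ≠ 1 → ∃ g : G, g * n * g⁻¹ = m := by
    intro n m hn hm
    have hne : ∀ k : N, k ≠ 1 → x ≠ (k : G) • x := fun k hk h => hk
      (hfree k 1 (by rw [Subgroup.coe_one, one_smul]; exact h.symm))
    obtain ⟨g, hgx, hgn⟩ := MulAction.is_two_pretransitive_iff.1 h2 (hne n hn) (hne m hm)
    refine ⟨g, congrArg Subtype.val (hfree ⟨g * n * g⁻¹, hN.conj_mem _ n.2 g⟩ m ?_)⟩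
    show (g * n * g⁻¹) • x = (m : G) • x
    rw [mul_smul, mul_smul, inv_smul_eq_iff.2 hgx.symm, hgn]
  haveI : Nontrivial N := (Subgroup.nontrivial_iff_ne_bot N).2 hN1
  obtain ⟨p, hp, hpN⟩ := Nat.exists_prime_and_dvd (Finite.one_lt_card (α := N)).ne'
  haveI : Fact p.Prime := ⟨hp⟩
  obtain ⟨a, ha⟩ := exists_prime_orderOf_dvd_card' (G := N) p hpN
  have ha1 : a ≠ 1 := fun h => hp.one_lt.ne' (ha ▸ h ▸ orderOf_one)
  have hpow : ∀ n : N, n ^ p = 1 := by
    intro n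
    by_cases hn : n = 1
    · rw [hn, one_pow]
    obtain ⟨g, hg⟩ := hconj a n ha1 hn
    refine Subtype.ext ?_
    rw [Subgroup.coe_pow, ← hg, conj_pow, ← Subgroup.coe_pow, ← ha, pow_orderOf_eq_one,
      Subgroup.coe_one, mul_one, mul_inv_cancel]
  refine ⟨⟨⟨fun u v => ?_⟩⟩, p, hp, fun n hn => congrArg Subtype.val (hpow ⟨n, hn⟩)⟩
  haveI := (IsPGroup.center_nontrivial (G := N) (p := p) fun n => ⟨1, by rw [pow_one]; exact hpow n⟩)
  obtain ⟨z, hz⟩ := exists_ne (1 : Subgroup.center N)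
  by_cases hu : u = 1
  · simp [hu]
  obtain ⟨g, hg⟩ := hconj (z : N) u (fun h => hz (Subtype.ext h)) hu
  have hgv : g⁻¹ * (v : G) * g ∈ N := by simpa using hN.conj_mem _ v.2 g⁻¹
  have h := congrArg Subtype.val (Subgroup.mem_center_iff.1 z.2 ⟨_, hgv⟩)
  refine Subtype.ext ?_
  show (u : G) * v = v * u
  rw [← hg]
  calc g * ((z : N) : G) * g⁻¹ * v = g * (((z : N) : G) * (g⁻¹ * v * g)) * g⁻¹ := by group
    _ = g * ((g⁻¹ * v * g) * ((z : N) : G)) * g⁻¹ := by
      rw [show ((z : N) : G) * (g⁻¹ * v * g) = (g⁻¹ * v * g) * ((z : N) : G) from h.symm]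
    _ = _ := by group

end CfsgLib.Solvable
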