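import Cfsg.Agent.Lib.Solvable.SchmidtType
import Cfsg.Agent.Lib.Solvable.ClassFixedBasic
import Cfsg.Agent.Lib.Solvable.Generation
import Cfsg.Agent.Lib.PGroup.CyclicTransvection
import Cfsg.Agent.Lib.OddLocal.Ten.PLengthTools

/-!
`p`-soluble groups whose Sylow `p`-subgroups are the normal Sylow subgroup of a minimal non-nilpotent group have
`p`-length one.
-/

set_option autoImplicit false

namespace CfsgLib.SchmidtSylow

open Subgroup Cfsg
open Pointwise
open scoped commutatorElement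
open CfsgLib.PGroup.FourDisplacement renaming sigma → avgSum
open CfsgLib.PGroup.FourDisplacement (fix)

variable {p : ℕ} [hp : Fact p.Prime]

section Module

variable {U : Type*} [CommGroup U] [Finite U] {H : Type*} [Group H] [Finite H] (φ : H →* MulAut U)
  (x : H) (B R₀ : Subgroup H) (Z : Subgroup U)

/-- The data: `B × ⟨x⟩` has displacements in `Z`, all of `Z` at every point outside `Z`, and `R₀` is a `p'`-group
centralised by `B` and normalised by `x`. -/
structure Data : Prop where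
  norm : zpowers x ≤ normalizer (R₀ : Set H)
  commR : ∀ b ∈ B, ∀ r ∈ R₀, Commute b r
  commx : ∀ b ∈ B, Commute b x
  cop : (Nat.card R₀).Coprime (Nat.card U)
  delta : ∀ q ∈ B ⊔ zpowers x, ∀ u : U, φ q u * u⁻¹ ∈ Z
  fixZ : ∀ q ∈ B ⊔ zpowers x, ∀ z ∈ Z, φ q z = z
  sur : ∀ u : U, u ∉ Z → ∀ z ∈ Z, ∃ q ∈ B ⊔ zpowers x, φ q u = z * u
  pow : φ x ^ p = 1
  moves : ¬ ∀ g ∈ ⁅R₀, zpowers x⁆, φ g = 1

/-- What follows from the data. -/
structure Outcome : Prop where
  cardZ : Nat.card Z = p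
  cardU : Nat.card U = p ^ 2
  exp : ∀ u : U, u ^ p = 1
  fixB : ∀ b ∈ B, φ b = 1
  noW : ∀ W : Subgroup U, (∀ r ∈ R₀, ∀ w ∈ W, φ r w ∈ W) → (∀ w ∈ W, φ x w = w) → W = ⊥
  ker : ∀ u : U, φ x u = u → u ∈ Z

variable {φ x B R₀ Z}

/-- The analysis of the module. -/
theorem outcome_of_data (d : Data (p := p) φ x B R₀ Z) (hU : IsPGroup p U) :
    Outcome (p := p) φ x B R₀ Z := by
  classical
  set R := ⁅R₀, zpowers x⁆ with hR
  have hRle : R ≤ R₀ := CfsgLib.Solvable.commutator_le_of_le_normalizer d.norm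
  set T := B ⊔ zpowers x with hT
  have hxT : x ∈ T := mem_sup_right (mem_zpowers x)
  have hBT : B ≤ T := le_sup_left
  have hfixR : ∀ W : Subgroup U, (∀ r ∈ R₀, ∀ w ∈ W, φ r w ∈ W) → (∀ w ∈ W, φ x w = w) →
      ∀ g ∈ R, ∀ w ∈ W, φ g w = w := by
    intro W hW hx g hg w hw
    have hle : R ≤ (MulAction.stabilizer (MulAut U) w).comap φ := by
      refine Subgroup.commutator_le.2 fun r hr a ha => ?_
      have hst : ∀ w ∈ W, ∀ a ∈ zpowers x, φ a w = w := fun w hw a ha => by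
        have hle : zpowers x ≤ (MulAction.stabilizer (MulAut U) w).comap φ := zpowers_le.2 (hx w hw)
        exact hle ha
      show φ ⁅r, a⁆ w = w
      rw [commutatorElement_def, map_mul, map_mul, map_mul, MulAut.mul_apply, MulAut.mul_apply,
        MulAut.mul_apply, hst w hw a⁻¹ (inv_mem ha), hst _ (hW r⁻¹ (inv_mem hr) w hw) a ha,
        ← MulAut.mul_apply, ← map_mul, mul_inv_cancel, map_one, MulAut.one_apply]
    exact hle hg
  set Rh := R.map φ with hRh
  set n := Nat.card Rh with hn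
  have hcopn : n.Coprime (Nat.card U) := d.cop.coprime_dvd_left
    ((Subgroup.card_dvd_of_surjective _ (φ.subgroupMap_surjective R)).trans (card_dvd_of_le hRle))
  have hinj : ∀ {u w : U}, u ^ n = w ^ n → u = w := fun h => (powCoprime hcopn.symm).injective h
  have hnormR : ∀ h : H, (∀ g ∈ R, h * g * h⁻¹ ∈ R) → MulAut.conj (φ h) • Rh = Rh := by
    intro h hh
    refine eq_of_le_of_card_ge ?_ (Nat.card_congr (Subgroup.equivSMul (MulAut.conj (φ h)) Rh).toEquiv).le
    intro y hy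
    rw [ClassFixed.mem_conj_smul_iff] at hy
    obtain ⟨g, hg, hgy⟩ := hy
    refine ⟨h * g * h⁻¹, hh g hg, ?_⟩
    rw [map_mul, map_mul, map_inv, hgy]
    group
  set M := (avgSum Rh).ker with hM
  set C := fix Rh with hC
  have hMC : ∀ u ∈ M, u ∈ C → u = 1 := by
    intro u hu hu'
    refine hinj ?_
    rw [one_pow, hn, ← ClassFixed.sigma_of_mem_fix Rh hu']
    exact MonoidHom.mem_ker.1 hu
  have hMC_top : ∀ K : Subgroup U, M ≤ K → C ≤ K → K = ⊤ := by
    intro K hMK hCK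
    rw [eq_top_iff']
    intro u
    have h1 : u ^ n * (avgSum Rh u)⁻¹ ∈ M := by
      rw [hM, MonoidHom.mem_ker, map_mul, map_inv, map_pow,
        ClassFixed.sigma_of_mem_fix Rh (ClassFixed.sigma_mem_fix Rh u), ← hn, mul_inv_cancel]
    have h2 : u ^ n ∈ K := by
      have := mul_mem (hMK h1) (hCK (ClassFixed.sigma_mem_fix Rh u))
      rwa [inv_mul_cancel_right] at this
    obtain ⟨k, hk⟩ := exists_pow_eq_self_of_coprime (x := u) (n := n)
      ((hcopn.coprime_dvd_right (orderOf_dvd_natCard u)))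
    rw [← hk]
    exact pow_mem h2 k
  have hMinv : ∀ h : H, (∀ g ∈ R, h * g * h⁻¹ ∈ R) → (∀ u ∈ M, φ h u ∈ M) ∧ ∀ u ∈ C, φ h u ∈ C := by
    refine fun h hh => ⟨fun u hu => ?_, fun u hu => by
      have h1 := ClassFixed.apply_mem_fix hu (φ h)
      rwa [hnormR h hh] at h1⟩
    have h1 := ClassFixed.apply_sigma_conj (φ h) Rh u
    rw [hnormR h hh, MonoidHom.mem_ker.1 hu, map_one] at h1
    exact MonoidHom.mem_ker.2 h1.symm
  have hnormx : zpowers x ≤ normalizer (R : Set H) := CfsgLib.Solvable.le_normalizer_commutator_right d.norm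
  have hRx : ∀ g ∈ R, x * g * x⁻¹ ∈ R := fun g hg =>
    CfsgLib.Solvable.normalizer_conj_mem (hnormx (mem_zpowers x)) hg
  have hRr : ∀ r ∈ R₀, ∀ g ∈ R, r * g * r⁻¹ ∈ R := fun r hr g hg =>
    CfsgLib.Solvable.normalizer_conj_mem (CfsgLib.Solvable.le_normalizer_commutator_left R₀ (zpowers x) hr) hg
  have hRb : ∀ b ∈ B, ∀ g ∈ R, b * g * b⁻¹ ∈ R := fun b hb g hg => by
    rw [(d.commR b hb g (hRle hg)).eq, mul_inv_cancel_right]
    exact hg
  have hWC : ∀ W : Subgroup U, (∀ r ∈ R₀, ∀ w ∈ W, φ r w ∈ W) → (∀ w ∈ W, φ x w = w) → W ≤ C := by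
    intro W hW hx w hw y hy
    obtain ⟨g, hg, rfl⟩ := hy
    exact hfixR W hW hx g hg w hw
  -- `B` fixes `M`
  have hBM : ∀ b ∈ B, ∀ u ∈ M, φ b u = u := by
    intro b hb u hu
    let δ : M →* U := MonoidHom.mk' (fun w => φ b w * (w : U)⁻¹) (fun a c => by
      simp only [Subgroup.coe_mul, map_mul, mul_inv]
      exact mul_mul_mul_comm _ _ _ _)
    have hW : δ.range ≤ C := by
      refine hWC _ ?_ ?_
      · rintro r hr _ ⟨w, rfl⟩
        refine ⟨⟨φ r w, (hMinv r (hRr r hr)).1 _ w.2⟩, ?_⟩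
        show φ b (φ r w) * (φ r w)⁻¹ = φ r (φ b w * (w : U)⁻¹)
        rw [map_mul (φ r), map_inv (φ r), ← MulAut.mul_apply, ← map_mul, (d.commR b hb r hr).eq, map_mul,
          MulAut.mul_apply]
      · rintro _ ⟨w, rfl⟩
        exact d.fixZ x hxT _ (d.delta b (hBT hb) w)
    have h1 : φ b u * u⁻¹ = 1 :=
      hMC _ (mul_mem ((hMinv b (hRb b hb)).1 u hu) (inv_mem hu)) (hW ⟨⟨u, hu⟩, rfl⟩)
    exact mul_inv_eq_one.1 h1
  have hMne : ∃ u ∈ M, u ≠ 1 := by
    by_contra hcon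
    push Not at hcon
    refine d.moves fun g hg => MulEquiv.ext fun u => ?_
    have hCt := hMC_top C (fun w hw => hcon w hw ▸ one_mem C) le_rfl
    exact (hCt.ge (mem_top u)) (φ g) ⟨g, hg, rfl⟩
  obtain ⟨v, hv, hxv⟩ : ∃ v ∈ M, φ x v ≠ v := by
    by_contra hcon
    push Not at hcon
    obtain ⟨u, hu, hu1⟩ := hMne
    exact hu1 (hMC u hu (hWC M (fun r hr => (hMinv r (hRr r hr)).1) hcon hu))
  have hvZ : v ∉ Z := fun h => hxv (d.fixZ x hxT v h)
  obtain ⟨z₀, hz₀⟩ : ∃ z₀, z₀ = φ x v * v⁻¹ := ⟨_, rfl⟩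
  have hz₀Z : z₀ ∈ Z := hz₀ ▸ d.delta x hxT v
  have hz₀M : z₀ ∈ M := hz₀ ▸ mul_mem ((hMinv x hRx).1 v hv) (inv_mem hv)
  have hz₀1 : z₀ ≠ 1 := fun e => hxv (mul_inv_eq_one.1 (hz₀ ▸ e))
  have hxpow : ∀ i : ℕ, φ (x ^ i) v = z₀ ^ i * v := by
    intro i
    induction i with
    | zero => simp
    | succ i ih =>
      have hxv' : φ x v = z₀ * v := by rw [hz₀, inv_mul_cancel_right]
      rw [pow_succ', map_mul, MulAut.mul_apply, ih, map_mul, map_pow, d.fixZ x hxT z₀ hz₀Z, hxv', pow_succ, mul_assoc]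
  have hz₀p : z₀ ^ p = 1 := by
    have h1 := hxpow p
    rw [map_pow, d.pow, MulAut.one_apply] at h1
    exact mul_eq_right.1 h1.symm
  have hTdec : ∀ q ∈ T, ∃ b ∈ B, ∃ i : ℕ, q = x ^ i * b := by
    intro q hq
    rw [hT, sup_comm] at hq
    obtain ⟨y, hy, b, hb, rfl⟩ : ∃ y ∈ zpowers x, ∃ b ∈ B, q = y * b := by
      have hnx : B ≤ normalizer (zpowers x : Set H) := by
        intro b hb
        refine centralizer_le_normalizer (zpowers x : Set H) (mem_centralizer_iff.2 fun y hy => ?_)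
        obtain ⟨k, rfl⟩ := mem_zpowers_iff.1 hy
        exact ((d.commx b hb).zpow_right k).symm.eq
      rw [← SetLike.mem_coe, coe_mul_of_right_le_normalizer_left _ _ hnx] at hq
      obtain ⟨y, hy, b, hb, h⟩ := hq
      exact ⟨y, hy, b, hb, h.symm⟩
    obtain ⟨i, rfl⟩ := mem_powers_iff_mem_zpowers.2 hy
    exact ⟨b, hb, i, rfl⟩
  have hZgen : Z ≤ zpowers z₀ := by
    intro z hz
    obtain ⟨q, hq, hqv⟩ := d.sur v hvZ z hz
    obtain ⟨b, hb, i, rfl⟩ := hTdec q hq
    rw [map_mul, MulAut.mul_apply, hBM b hb v hv, hxpow] at hqv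
    exact mul_right_cancel hqv ▸ pow_mem (mem_zpowers z₀) i
  have hZeq : Z = zpowers z₀ := le_antisymm hZgen (zpowers_le.2 hz₀Z)
  have hcardZ : Nat.card Z = p := by rw [hZeq, Nat.card_zpowers, orderOf_eq_prime hz₀p hz₀1]
  have hZM : Z ≤ M := hZgen.trans (zpowers_le.2 hz₀M)
  have hCbot : ∀ c ∈ C, c = 1 := by
    intro c hc
    by_cases hcZ : c ∈ Z
    · exact hMC c (hZM hcZ) hc
    exfalso
    obtain ⟨q, hq, hqc⟩ := d.sur c hcZ z₀ hz₀Z
    have hinvC : φ q c ∈ C := by
      obtain ⟨b, hb, i, rfl⟩ := hTdec q hq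
      have hst : ∀ j : ℕ, ∀ w ∈ C, φ (x ^ j) w ∈ C := by
        intro j
        induction j with
        | zero => intro w hw; simpa using hw
        | succ j ih =>
          intro w hw
          rw [pow_succ', map_mul, MulAut.mul_apply]
          exact (hMinv x hRx).2 _ (ih w hw)
      rw [map_mul, MulAut.mul_apply]
      exact hst i _ ((hMinv b (hRb b hb)).2 c hc)
    rw [hqc] at hinvC
    exact hz₀1 (hMC z₀ hz₀M (by simpa using mul_mem hinvC (inv_mem hc)))
  have hMtop : ∀ u, u ∈ M := fun u => (hMC_top M le_rfl fun c hc => hCbot c hc ▸ one_mem M).ge (mem_top u)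
  have hnoW : ∀ W : Subgroup U, (∀ r ∈ R₀, ∀ w ∈ W, φ r w ∈ W) → (∀ w ∈ W, φ x w = w) → W = ⊥ :=
    fun W hW hx => eq_bot_iff.2 fun w hw => mem_bot.2 (hCbot w (hWC W hW hx hw))
  have hfixB : ∀ b ∈ B, φ b = 1 := fun b hb => MulEquiv.ext fun u => hBM b hb u (hMtop u)
  have hker : ∀ u : U, φ x u = u → u ∈ Z := by
    intro u hu
    by_contra huZ
    obtain ⟨q, hq, hqu⟩ := d.sur u huZ z₀ hz₀Z
    obtain ⟨b, hb, i, rfl⟩ := hTdec q hq
    have hi : φ (x ^ i) u = u := by
      have hle : zpowers x ≤ (MulAction.stabilizer (MulAut U) u).comap φ := zpowers_le.2 hu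
      exact hle (pow_mem (mem_zpowers x) i)
    rw [map_mul, MulAut.mul_apply, hfixB b hb, MulAut.one_apply, hi, right_eq_mul] at hqu
    exact hz₀1 hqu
  refine ⟨hcardZ, ?_, ?_, hfixB, hnoW, hker⟩
  · let δ : U →* U := MonoidHom.mk' (fun w => φ x w * w⁻¹) (fun a c => by
      simp only [map_mul, mul_inv]
      exact mul_mul_mul_comm _ _ _ _)
    have h1 := card_mul_index δ.ker
    rw [index_ker] at h1
    have h2 : Nat.card δ.ker ≤ p := hcardZ ▸ card_le_of_le fun u hu => hker u (mul_inv_eq_one.1 hu)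
    have h3 : Nat.card δ.range ≤ p := hcardZ ▸ card_le_of_le (by
      rintro _ ⟨u, rfl⟩
      exact d.delta x hxT u)
    obtain ⟨k, hk⟩ := IsPGroup.iff_card.1 hU
    have hlt : p < Nat.card U := by
      refine lt_of_le_of_ne (hcardZ ▸ card_le_card_group Z) fun e => hvZ ?_
      exact (eq_top_of_card_eq Z (hcardZ.trans e)).ge (mem_top v)
    have hle : Nat.card U ≤ p * p := h1 ▸ Nat.mul_le_mul h2 h3
    rw [hk] at hlt hle ⊢
    have k1 : 1 < k := (Nat.pow_lt_pow_iff_right hp.out.one_lt).1 (by rwa [pow_one])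
    have k2 : k ≤ 2 := (Nat.pow_le_pow_iff_right hp.out.one_lt).1 (by rwa [pow_two])
    rw [show k = 2 by omega]
  · intro u
    have hbot : (powMonoidHom p : U →* U).range = ⊥ := by
      refine hnoW _ ?_ ?_
      · rintro r - _ ⟨w, rfl⟩
        exact ⟨φ r w, by simp⟩
      · rintro _ ⟨w, rfl⟩
        refine d.fixZ x hxT _ ?_
        by_contra hwZ
        have h1 : φ x (w ^ p) = w ^ p := by
          have h2 : (φ x w * w⁻¹) ^ p = 1 := by
            have h3 := d.delta x hxT w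
            rw [hZeq] at h3
            obtain ⟨j, hj⟩ := mem_zpowers_iff.1 h3
            rw [← hj, ← zpow_natCast, ← zpow_mul, mul_comm, zpow_mul, zpow_natCast, hz₀p, one_zpow]
          rw [mul_pow, inv_pow, mul_inv_eq_one] at h2
          rw [map_pow, h2]
        exact hwZ (hker _ h1)
    have h4 : u ^ p ∈ (powMonoidHom p : U →* U).range := ⟨u, rfl⟩
    rwa [hbot, mem_bot] at h4

/-- For `p ≥ 5` the data is contradictory. -/
theorem not_five_le (d : Data (p := p) φ x B R₀ Z) (o : Outcome (p := p) φ x B R₀ Z) (hp5 : 5 ≤ p) : False := by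
  have hxT : x ∈ B ⊔ zpowers x := mem_sup_right (mem_zpowers x)
  obtain ⟨r, hr, z, hz, hrz⟩ : ∃ r ∈ R₀, ∃ z ∈ Z, φ r z ∉ Z := by
    by_contra h
    push Not at h
    have hc := o.cardZ
    rw [o.noW Z h (d.fixZ x hxT), card_bot] at hc
    exact hp.out.ne_one hc.symm
  obtain ⟨w₀, hw₀⟩ : ∃ w₀, w₀ = φ r z := ⟨_, rfl⟩
  rw [← hw₀] at hrz
  have hz1 : z ≠ 1 := fun e => hrz (by rw [hw₀, e, map_one]; exact one_mem Z)
  have hw₀1 : w₀ ≠ 1 := fun e => hrz (e ▸ one_mem Z)
  set y := r * x * r⁻¹ with hy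
  have hconj : ∀ u, φ y u = φ r (φ x (φ r⁻¹ u)) := fun u => by
    rw [hy, map_mul, map_mul, MulAut.mul_apply, MulAut.mul_apply]
  have hri : ∀ u, φ r⁻¹ (φ r u) = u := fun u => by
    rw [← MulAut.mul_apply, ← map_mul, inv_mul_cancel, map_one, MulAut.one_apply]
  have hrr : ∀ u, φ r (φ r⁻¹ u) = u := fun u => by
    rw [← MulAut.mul_apply, ← map_mul, mul_inv_cancel, map_one, MulAut.one_apply]
  have hzgen : Z = zpowers z :=
    (eq_of_le_of_card_ge (zpowers_le.2 hz) (by
      rw [Nat.card_zpowers, orderOf_eq_prime (o.exp z) hz1, o.cardZ])).symm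
  obtain ⟨w, hw⟩ : ∃ w, w = φ y z * z⁻¹ := ⟨_, rfl⟩
  have hwmem : w ∈ zpowers w₀ := by
    have h1 := d.delta x hxT (φ r⁻¹ z)
    rw [hzgen] at h1
    obtain ⟨j, hj⟩ := mem_zpowers_iff.1 h1
    refine mem_zpowers_iff.2 ⟨j, ?_⟩
    rw [hw, hw₀, ← map_zpow, hj, map_mul, map_inv (φ r), hrr, hconj]
  have hyw₀ : φ y w₀ = w₀ := by rw [hconj, hw₀, hri, d.fixZ x hxT z hz]
  have hw1 : w ≠ 1 := by
    intro e
    have h1 : φ y z = z := mul_inv_eq_one.1 (hw ▸ e)
    rw [hconj] at h1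
    have h2 : φ x (φ r⁻¹ z) = φ r⁻¹ z := by
      have := congrArg (φ r⁻¹) h1
      rwa [hri] at this
    have h3 := o.ker _ h2
    -- then `r⁻¹` stabilises `Z`
    rw [hzgen] at h3
    obtain ⟨j, hj⟩ := mem_zpowers_iff.1 h3
    refine hrz ?_
    have h4 : w₀ ^ j = z := by rw [hw₀, ← map_zpow, hj, hrr]
    have h5 : z ∈ zpowers w₀ := mem_zpowers_iff.2 ⟨j, h4⟩
    have h6 : zpowers w₀ ≤ Z := by
      refine (eq_of_le_of_card_ge (zpowers_le.2 h5) ?_).ge.trans hzgen.ge
      rw [Nat.card_zpowers, Nat.card_zpowers, orderOf_eq_prime (o.exp z) hz1, orderOf_eq_prime (o.exp w₀) hw₀1]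
    exact h6 (mem_zpowers w₀)
  have hwZ : w ∉ Z := by
    intro h
    refine hrz ?_
    have h6 : zpowers w₀ ≤ Z := by
      refine (eq_of_le_of_card_ge (zpowers_le.2 hwmem) ?_).ge.trans (zpowers_le.2 h)
      rw [Nat.card_zpowers, Nat.card_zpowers, orderOf_eq_prime (o.exp w) hw1, orderOf_eq_prime (o.exp w₀) hw₀1]
    exact h6 (mem_zpowers w₀)
  have hyw : φ y w = w := by
    obtain ⟨j, hj⟩ := mem_zpowers_iff.1 hwmem
    rw [← hj, map_zpow, hyw₀]
  have hyz : φ y z = z * w := by rw [hw, mul_comm, inv_mul_cancel_right]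
  -- a power of `x` moving `w` to `w * z`
  obtain ⟨z₁, hz₁⟩ : ∃ z₁, z₁ = φ x w * w⁻¹ := ⟨_, rfl⟩
  have hz₁Z : z₁ ∈ Z := hz₁ ▸ d.delta x hxT w
  have hz₁1 : z₁ ≠ 1 := fun e => hwZ (o.ker w (mul_inv_eq_one.1 (hz₁ ▸ e)))
  obtain ⟨i, hi⟩ : ∃ i : ℕ, z₁ ^ i = z := by
    have h1 : zpowers z₁ = zpowers z := eq_of_le_of_card_ge (zpowers_le.2 (hzgen ▸ hz₁Z)) (by
      rw [Nat.card_zpowers, Nat.card_zpowers, orderOf_eq_prime (o.exp z) hz1, orderOf_eq_prime (o.exp z₁) hz₁1])
    exact mem_powers_iff_mem_zpowers.2 (h1.ge (mem_zpowers z))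
  have hxpow : ∀ k : ℕ, φ (x ^ k) w = z₁ ^ k * w := by
    intro k
    induction k with
    | zero => simp
    | succ k ih =>
      rw [pow_succ', map_mul, MulAut.mul_apply, ih, map_mul, map_pow, d.fixZ x hxT z₁ hz₁Z,
        show φ x w = z₁ * w by rw [hz₁, inv_mul_cancel_right], pow_succ, mul_assoc]
  set a := x ^ i with ha
  have haw : φ a w = w * z := by rw [ha, hxpow, hi, mul_comm]
  have haz : φ a z = z := d.fixZ a (mem_sup_right (pow_mem (mem_zpowers x) i)) z hz
  set k := (p - 1) / 2 with hk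
  have hk2 : 2 * k + 1 = p := by
    have := hp.out.odd_of_ne_two (by omega)
    obtain ⟨l, hl⟩ := this
    omega
  have hykz : ∀ j : ℕ, φ (y ^ j) z = z * w ^ j := by
    intro j
    induction j with
    | zero => simp
    | succ j ih => rw [pow_succ', map_mul, MulAut.mul_apply, ih, map_mul, map_pow, hyw, hyz, pow_succ', mul_assoc]
  have hykw : φ (y ^ k) w = w := by
    have hle : zpowers y ≤ (MulAction.stabilizer (MulAut U) w).comap φ := zpowers_le.2 hyw
    exact hle (pow_mem (mem_zpowers y) k)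
  set n := a * y⁻¹ * a with hnd
  have hyiz : φ y⁻¹ z = z * w⁻¹ := by
    have h1 : φ y (z * w⁻¹) = z := by rw [map_mul, map_inv, hyz, hyw, mul_inv_cancel_right]
    conv_lhs => rw [← h1]
    rw [← MulAut.mul_apply, ← map_mul, inv_mul_cancel, map_one, MulAut.one_apply]
  have hyiw : φ y⁻¹ w = w := by
    conv_lhs => rw [← hyw]
    rw [← MulAut.mul_apply, ← map_mul, inv_mul_cancel, map_one, MulAut.one_apply]
  have hnz : φ n z = w⁻¹ := by
    rw [hnd, map_mul, map_mul, MulAut.mul_apply, MulAut.mul_apply, haz, hyiz, map_mul, map_inv, haz, haw,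
      mul_inv_rev, mul_inv_cancel_left]
  have hnw : φ n w = z := by
    rw [hnd, map_mul, map_mul, MulAut.mul_apply, MulAut.mul_apply, haw, map_mul (φ y⁻¹), hyiw, hyiz,
      mul_left_comm, mul_inv_cancel, mul_one, haz]
  have hniz : φ n⁻¹ z = w := by
    conv_lhs => rw [← hnw]
    rw [← MulAut.mul_apply, ← map_mul, inv_mul_cancel, map_one, MulAut.one_apply]
  have hniw : φ n⁻¹ w = z⁻¹ := by
    have h1 : φ n z⁻¹ = w := by rw [map_inv, hnz, inv_inv]
    conv_lhs => rw [← h1]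
    rw [← MulAut.mul_apply, ← map_mul, inv_mul_cancel, map_one, MulAut.one_apply]
  set h := a * a * y ^ k * (a * a) * n⁻¹ with hhd
  have happ : ∀ u, φ h u = φ a (φ a (φ (y ^ k) (φ a (φ a (φ n⁻¹ u))))) := fun u => by
    simp only [hhd, map_mul φ, MulAut.mul_apply]
  have hhz : φ h z = z ^ 2 := by
    rw [happ, hniz, haw, map_mul, haw, haz]
    simp only [map_mul (φ (y ^ k)), hykw, hykz]
    simp only [map_mul, map_pow, haw, haz]
    calc _ = (w * z * z) ^ (k + k + 1) * z ^ 2 := by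
          simp only [pow_add, pow_one, pow_two, mul_assoc, mul_left_comm, mul_comm]
      _ = z ^ 2 := by rw [show k + k + 1 = p by omega, o.exp, one_mul]
  have hhw : φ h w = (w ^ k)⁻¹ := by
    rw [happ, hniw, map_inv, haz, map_inv, haz, map_inv, hykz]
    simp only [map_mul, map_pow, map_inv, haw, haz]
    calc _ = (z ^ (k + k + 1) * w ^ k)⁻¹ := by
          congr 1
          simp only [mul_pow, pow_add, pow_one, mul_assoc, mul_left_comm, mul_comm]
      _ = (w ^ k)⁻¹ := by rw [show k + k + 1 = p by omega, o.exp z, one_mul]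
  set g := ⁅h, a⁆ with hg
  have hhi : ∀ u, φ h⁻¹ (φ h u) = u := fun u => by
    rw [← MulAut.mul_apply, ← map_mul, inv_mul_cancel, map_one, MulAut.one_apply]
  have hcz : φ (h * a * h⁻¹) z = z := by
    have e : φ h (z ^ (k + 1)) = z := by
      rw [map_pow, hhz, ← pow_mul, show 2 * (k + 1) = p + 1 by omega, pow_succ, o.exp z, one_mul]
    conv_lhs => rw [← e]
    rw [map_mul, map_mul, MulAut.mul_apply, MulAut.mul_apply, hhi, map_pow (φ a), haz, e]
  have hcw : φ (h * a * h⁻¹) w = w * z ^ 4 := by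
    have e : φ h (w ^ 2) = w := by
      have e1 : w ^ (2 * k) * w = 1 := by rw [← pow_succ, hk2, o.exp w]
      rw [map_pow, hhw, inv_pow, ← pow_mul, mul_comm k, inv_eq_of_mul_eq_one_right e1]
    conv_lhs => rw [← e]
    rw [map_mul, map_mul, MulAut.mul_apply, MulAut.mul_apply, hhi, map_pow (φ a), haw, mul_pow, map_mul, e,
      map_pow, hhz, ← pow_mul]
  have haiw : φ a⁻¹ w = w * z⁻¹ := by
    have h1 : φ a (w * z⁻¹) = w := by rw [map_mul, map_inv, haw, haz, mul_inv_cancel_right]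
    conv_lhs => rw [← h1]
    rw [← MulAut.mul_apply, ← map_mul, inv_mul_cancel, map_one, MulAut.one_apply]
  have haiz : φ a⁻¹ z = z := by
    conv_lhs => rw [← haz]
    rw [← MulAut.mul_apply, ← map_mul, inv_mul_cancel, map_one, MulAut.one_apply]
  have hgw : φ g w = w * z ^ 3 := by
    rw [hg, commutatorElement_def, map_mul, MulAut.mul_apply, haiw, map_mul, map_inv, hcw, hcz, mul_assoc,
      show 4 = 3 + 1 from rfl, pow_succ, mul_inv_cancel_right]
  have hgz : φ g z = z := by rw [hg, commutatorElement_def, map_mul, MulAut.mul_apply, haiz, hcz]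
  -- but `g` lies in the `p'`-group `R₀`
  have hnorm : R₀ ⊔ zpowers x ≤ normalizer (R₀ : Set H) := sup_le le_normalizer d.norm
  have hhT : h ∈ R₀ ⊔ zpowers x := by
    have hax : a ∈ R₀ ⊔ zpowers x := mem_sup_right (pow_mem (mem_zpowers x) i)
    have hyT : y ∈ R₀ ⊔ zpowers x :=
      mul_mem (mul_mem (mem_sup_left hr) (mem_sup_right (mem_zpowers x))) (inv_mem (mem_sup_left hr))
    exact mul_mem (mul_mem (mul_mem (mul_mem hax hax) (pow_mem hyT _)) (mul_mem hax hax))
      (inv_mem (mul_mem (mul_mem hax (inv_mem hyT)) hax))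
  have hgR : g ∈ R₀ := by
    rw [← SetLike.mem_coe, coe_mul_of_right_le_normalizer_left _ _ d.norm] at hhT
    obtain ⟨s, hs, c, hc, hsc⟩ := hhT
    obtain ⟨j, hj⟩ := mem_zpowers_iff.1 hc
    have haN : a ∈ normalizer (R₀ : Set H) := hnorm (mem_sup_right (pow_mem (mem_zpowers x) i))
    have e : g = s * (a * s⁻¹ * a⁻¹) := by
      have hca : c * a * c⁻¹ = a := by
        rw [← hj, ha, ← zpow_natCast x i, (zpow_mul_comm x j i), mul_inv_cancel_right]
      rw [hg, ← hsc, commutatorElement_def]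
      calc s * c * a * (s * c)⁻¹ * a⁻¹ = s * (c * a * c⁻¹) * s⁻¹ * a⁻¹ := by group
        _ = s * (a * s⁻¹ * a⁻¹) := by rw [hca]; group
    rw [e]
    exact mul_mem hs (CfsgLib.Solvable.normalizer_conj_mem haN (inv_mem hs))
  have hgn : ∀ j : ℕ, φ (g ^ j) w = w * z ^ (3 * j) := by
    intro j
    induction j with
    | zero => simp
    | succ j ih =>
      rw [pow_succ', map_mul, MulAut.mul_apply, ih, map_mul, map_pow, hgz, hgw, mul_assoc, ← pow_add]
      ring_nf
  have h1 := hgn (Nat.card R₀)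
  rw [show g ^ Nat.card R₀ = 1 from orderOf_dvd_iff_pow_eq_one.1 (Subgroup.orderOf_dvd_natCard R₀ hgR),
    map_one, MulAut.one_apply, left_eq_mul, ← orderOf_dvd_iff_pow_eq_one, orderOf_eq_prime (o.exp z) hz1] at h1
  rcases hp.out.dvd_mul.1 h1 with h3 | hR
  · exact absurd (Nat.le_of_dvd (by norm_num) h3) (by omega)
  · exact hp.out.ne_one (Nat.eq_one_of_dvd_coprimes d.cop hR (by rw [o.cardU]; exact dvd_pow_self p two_ne_zero))

end Module

/-- A hyperplane of an abelian group acting coprimely whose centraliser is not fixed. -/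
theorem exists_hyperplane {H : Type*} [Group H] [Finite H] (A K : Subgroup H) [K.Normal]
    (hAc : ∀ a ∈ A, ∀ b ∈ A, a * b = b * a) (hAp : ∀ a ∈ A, a ^ p = 1) (hK : (Nat.card K).Coprime p)
    (hne : ¬ A ≤ centralizer (K : Set H)) :
    ∃ (B : Subgroup H) (x : H) (R₀ : Subgroup H), B ≤ A ∧ x ∈ A ∧ A ≤ B ⊔ zpowers x ∧ R₀ ≤ K ∧
      zpowers x ≤ normalizer (R₀ : Set H) ∧ (∀ b ∈ B, ∀ r ∈ R₀, Commute b r) ∧
      ¬ ∀ r ∈ R₀, Commute x r := by
  obtain ⟨B, ⟨hBA, hB⟩, hmax⟩ := Set.Finite.exists_maximal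
    (s := {B : Subgroup H | B ≤ A ∧ ¬ A ≤ centralizer (↑(K ⊓ centralizer (B : Set H)) : Set H)}) (Set.toFinite _)
    ⟨⊥, bot_le, by rwa [show centralizer ((⊥ : Subgroup H) : Set H) = ⊤ by
      rw [eq_top_iff']; intro g; rw [mem_centralizer_iff]; intro h hh; rw [mem_bot.1 hh]; simp, inf_top_eq]⟩
  set R₀ := K ⊓ centralizer (B : Set H) with hR₀
  have hBR : ∀ b ∈ B, ∀ r ∈ R₀, Commute b r := fun b hb r hr => mem_centralizer_iff.1 hr.2 b hb
  have hnA : A ≤ normalizer (R₀ : Set H) := by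
    intro a ha
    refine CfsgLib.Solvable.mem_normalizer_of_conj_mem fun r hr => ⟨(inferInstance : K.Normal).conj_mem r hr.1 a,
      mem_centralizer_iff.2 fun b hb => ?_⟩
    calc b * (a * r * a⁻¹) = a * (b * r) * a⁻¹ := by rw [← mul_assoc, ← mul_assoc, hAc b (hBA hb) a ha]; group
      _ = a * (r * b) * a⁻¹ := by rw [(hBR b hb r hr).eq]
      _ = a * r * a⁻¹ * b := by
        have h1 : b * a⁻¹ = a⁻¹ * b := by
          rw [mul_inv_eq_iff_eq_mul, mul_assoc, hAc b (hBA hb) a ha, inv_mul_cancel_left]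
        simp only [mul_assoc, h1]
  obtain ⟨a, haA, haB⟩ : ∃ a ∈ A, a ∉ B := by
    by_contra h
    push Not at h
    exact hB fun a ha => mem_centralizer_iff.2 fun r hr => (hBR a (h a ha) r hr).symm.eq
  by_cases htop : A ≤ B ⊔ zpowers a
  · refine ⟨B, a, R₀, hBA, haA, htop, inf_le_left, zpowers_le.2 (hnA haA), hBR, fun h => hB ?_⟩
    refine htop.trans (sup_le (fun b hb => mem_centralizer_iff.2 fun r hr => (hBR b hb r hr).symm.eq)
      (zpowers_le.2 (mem_centralizer_iff.2 fun r hr => (h r hr).symm.eq)))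
  exfalso
  obtain ⟨c, hcA, hc⟩ := SetLike.not_le_iff_exists.1 htop
  have haC : zpowers c ≤ normalizer (zpowers a : Set H) := by
    rw [zpowers_le]
    refine centralizer_le_normalizer (zpowers a : Set H) (mem_centralizer_iff.2 fun y hy => ?_)
    obtain ⟨k, rfl⟩ := mem_zpowers_iff.1 hy
    exact ((show Commute a c from hAc a haA c hcA).zpow_left k).eq
  set E := zpowers a ⊔ zpowers c with hE
  have hEA : E ≤ A := sup_le (zpowers_le.2 haA) (zpowers_le.2 hcA)
  have hprime : ∀ e ∈ A, ∀ j : ℤ, e ^ j ≠ 1 → e ∈ zpowers (e ^ j) := by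
    intro e he j hj
    have he1 : e ≠ 1 := fun h => hj (by rw [h, one_zpow])
    have h1 : zpowers (e ^ j) = zpowers e := eq_of_le_of_card_ge (zpowers_le.2 (zpow_mem (mem_zpowers e) j)) (by
      rw [Nat.card_zpowers, Nat.card_zpowers, orderOf_eq_prime (hAp e he) he1,
        orderOf_eq_prime (hAp _ (zpow_mem he j)) hj])
    exact h1.ge (mem_zpowers e)
  have hEB : ∀ e ∈ E, e ∈ B → e = 1 := by
    intro e he heB
    rw [← SetLike.mem_coe, hE, coe_mul_of_right_le_normalizer_left _ _ haC] at he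
    obtain ⟨y, hy, t, ht, rfl⟩ := he
    obtain ⟨i, rfl⟩ := mem_zpowers_iff.1 hy
    obtain ⟨j, rfl⟩ := mem_zpowers_iff.1 ht
    have h1 : c ^ j = 1 := by
      by_contra hj
      refine hc ((zpowers_le.2 ?_) (hprime c hcA j hj))
      have := mul_mem (inv_mem (mem_sup_right (zpow_mem (mem_zpowers a) i) : a ^ i ∈ B ⊔ zpowers a))
        (mem_sup_left heB : a ^ i * c ^ j ∈ B ⊔ zpowers a)
      rwa [inv_mul_cancel_left] at this
    simp only [h1, mul_one] at heB ⊢
    by_contra hi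
    exact haB ((zpowers_le.2 heB) (hprime a haA i hi))
  have hEnc : ¬ IsCyclic E := by
    intro hcyc
    obtain ⟨g, hg⟩ := hcyc.exists_zpow_surjective
    obtain ⟨i, hi⟩ := hg ⟨a, mem_sup_left (mem_zpowers a)⟩
    obtain ⟨j, hj⟩ := hg ⟨c, mem_sup_right (mem_zpowers c)⟩
    have hi' : (g : H) ^ i = a := by simpa using congrArg Subtype.val hi
    have hj' : (g : H) ^ j = c := by simpa using congrArg Subtype.val hj
    have hgA : (g : H) ∈ A := hEA g.2
    have ha1 : a ≠ 1 := fun e => haB (e ▸ one_mem B)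
    have hga : (g : H) ∈ zpowers a := hi' ▸ hprime g hgA i (by rwa [hi'])
    exact hc (mem_sup_right (hj' ▸ zpow_mem hga j))
  have hcop : (Nat.card E).Coprime (Nat.card R₀) := by
    have hEp : IsPGroup p E := fun e => ⟨1, Subtype.ext (by rw [pow_one]; exact hAp e (hEA e.2))⟩
    obtain ⟨k, hk⟩ := IsPGroup.iff_card.1 hEp
    rw [hk]
    exact ((hK.coprime_dvd_left (card_dvd_of_le inf_le_left)).symm).pow_left k
  have hgen := CfsgLib.Solvable.iSup_centralizer_eq (fun u hu v hv => hAc u (hEA hu) v (hEA hv)) hEnc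
    (hEA.trans hnA) hcop
  refine hB ?_
  have hle : R₀ ≤ centralizer (A : Set H) := by
    rw [← hgen]
    refine iSup₂_le fun e ⟨he, he1⟩ => ?_
    have hlt : B < B ⊔ zpowers e := lt_of_le_of_ne le_sup_left fun h =>
      he1 (hEB e he (h ▸ mem_sup_right (mem_zpowers e)))
    have hnm : A ≤ centralizer (↑(K ⊓ centralizer ((B ⊔ zpowers e : Subgroup H) : Set H)) : Set H) := by
      by_contra h
      exact hlt.not_ge (hmax ⟨sup_le hBA (zpowers_le.2 (hEA he)), h⟩ hlt.le)
    intro r hr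
    refine mem_centralizer_iff.2 fun u hu => ?_
    refine (mem_centralizer_iff.1 (hnm hu) r ⟨hr.1.1, ?_⟩).symm
    have hsup : B ⊔ zpowers e ≤ centralizer {r} :=
      sup_le (fun b hb => mem_centralizer_singleton_iff.2 (hBR b hb r hr.1).eq)
        (zpowers_le.2 (mem_centralizer_singleton_iff.2 (mem_centralizer_singleton_iff.1 hr.2).symm))
    exact mem_centralizer_iff.2 fun y hy => mem_centralizer_singleton_iff.1 (hsup hy)
  exact le_centralizer_iff.1 hle

/-- The case of trivial `O_{p'}`. -/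
theorem sylow_le_pCore {G : Type*} [Group G] [Finite G] (hG : IsPSolvable p G) (hO : pPrimeCore p G = ⊥)
    (Q : Sylow p G) (hQ : TypeData p (Q : Subgroup G)) : (Q : Subgroup G) ≤ pCore p G := by
  classical
  set V := pCore p G with hV
  have hVQ : V ≤ Q := CfsgLib.Cores.pCore_le_sylow Q
  have hCV := CfsgLib.Transfer.centralizer_pCore_le_of_isPSolvable hG hO
  rcases hQ with hQ | ⟨hsur, hpow, hZp, hcomm, hsmall⟩
  · refine le_trans (fun x hx => mem_centralizer_iff.2 fun v hv => ?_) hCV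
    exact congrArg Subtype.val (hQ ⟨v, hVQ hv⟩ ⟨x, hx⟩)
  by_contra hQV
  set Z := (center (Q : Subgroup G)).map (Q : Subgroup G).subtype with hZdef
  have hZQ : ∀ z ∈ Z, ∀ q ∈ (Q : Subgroup G), q * z = z * q := by
    rintro _ ⟨z, hz, rfl⟩ q hq
    exact congrArg Subtype.val (mem_center_iff.1 hz ⟨q, hq⟩)
  have hZcomm : ∀ a ∈ (Q : Subgroup G), ∀ b ∈ (Q : Subgroup G), ⁅a, b⁆ ∈ Z := fun a ha b hb =>
    ⟨⁅⟨a, ha⟩, ⟨b, hb⟩⁆, hcomm _ _, by rw [map_commutatorElement]; rfl⟩
  have hZpow : ∀ a ∈ (Q : Subgroup G), a ^ p ∈ Z := fun a ha => ⟨⟨a, ha⟩ ^ p, hpow _, by rw [map_pow]; rfl⟩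
  have hZV : Z ≤ V := fun z hz => hCV (mem_centralizer_iff.2 fun v hv => hZQ z hz v (hVQ hv))
  set U := (center V).map V.subtype with hUdef
  have hUn : U.Normal := inferInstance
  have hUV : U ≤ V := map_subtype_le _
  have hUcen : ∀ u ∈ U, ∀ v ∈ V, v * u = u * v := by
    rintro _ ⟨u, hu, rfl⟩ v hv
    exact congrArg Subtype.val (mem_center_iff.1 hu ⟨v, hv⟩)
  have hZU : Z ≤ U := fun z hz =>
    ⟨⟨z, hZV hz⟩, mem_center_iff.2 fun v => Subtype.ext (hZQ z hz v (hVQ v.2)), rfl⟩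
  let _ : CommGroup U := { (inferInstance : Group U) with
    mul_comm := fun a b => Subtype.ext (hUcen b b.2 a (hUV a.2)) }
  let φ : G ⧸ V →* MulAut U := QuotientGroup.lift V MulAut.conjNormal (fun v hv => MulEquiv.ext fun u =>
    Subtype.ext (by
      show ((MulAut.conjNormal v u : U) : G) = u
      rw [MulAut.conjNormal_apply, hUcen u u.2 v hv, mul_inv_cancel_right]))
  have hφ : ∀ (g : G) (u : U), ((φ (QuotientGroup.mk g) u : U) : G) = g * u * g⁻¹ := fun g u =>
    MulAut.conjNormal_apply g u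
  set π := QuotientGroup.mk' V with hπ
  set Qb := (Q : Subgroup G).map π with hQb
  have hQc : ∀ a ∈ Qb, ∀ b ∈ Qb, a * b = b * a := by
    rintro _ ⟨a, ha, rfl⟩ _ ⟨b, hb, rfl⟩
    rw [← commutatorElement_eq_one_iff_mul_comm, ← map_commutatorElement]
    exact (QuotientGroup.eq_one_iff _).2 (hZV (hZcomm a ha b hb))
  have hQp : ∀ a ∈ Qb, a ^ p = 1 := by
    rintro _ ⟨a, ha, rfl⟩
    rw [← map_pow]
    exact (QuotientGroup.eq_one_iff _).2 (hZV (hZpow a ha))
  set K := pPrimeCore p (G ⧸ V) with hK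
  haveI hKn : K.Normal := by
    haveI := CfsgLib.Cores.pPrimeCore_characteristic (G := G ⧸ V) p
    infer_instance
  have hcent := CfsgLib.PGroup.CyclicTransvection.centralizer_pPrimeCore_le (CfsgLib.Transfer.isPSolvable_quotient hG V)
    (CfsgLib.Cores.pCore_quotient_self (G := G) p)
  have hKcop : (Nat.card K).Coprime p := CfsgLib.Cores.coprime_card_pPrimeCore p
  have hne : ¬ Qb ≤ centralizer (K : Set (G ⧸ V)) := by
    intro h
    refine hQV fun x hx => (QuotientGroup.eq_one_iff x).1 (orderOf_eq_one_iff.1 ?_)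
    exact Nat.eq_one_of_dvd_coprimes hKcop.symm (orderOf_dvd_of_pow_eq_one (hQp _ ⟨x, hx, rfl⟩))
      (Subgroup.orderOf_dvd_natCard K (hcent (h ⟨x, hx, rfl⟩)))
  obtain ⟨B, xb, R₀, hBQ, hxQ, hgen, hRK, hnorm, hBR, hxR⟩ := exists_hyperplane Qb K hQc hQp hKcop hne
  have hT : B ⊔ zpowers xb = Qb := le_antisymm (sup_le hBQ (zpowers_le.2 hxQ)) hgen
  obtain ⟨x, hx, rfl⟩ := hxQ
  have hRcop : (Nat.card R₀).Coprime p := hKcop.coprime_dvd_left (card_dvd_of_le hRK)
  have hUp : IsPGroup p U := (CfsgLib.Cores.isPGroup_pCore p).to_le hUV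
  have hcopU : (Nat.card R₀).Coprime (Nat.card U) := by
    obtain ⟨k, hk⟩ := IsPGroup.iff_card.1 hUp
    rw [hk]
    exact hRcop.pow_right k
  -- `⁅R₀, x⁆` moves `U`
  have hmoves : ¬ ∀ g ∈ ⁅R₀, zpowers (π x)⁆, φ g = 1 := by
    intro hfix
    refine hxR fun r hr => ?_
    have hcopx : (Nat.card (zpowers (π x))).Coprime (Nat.card R₀) := by
      rw [Nat.card_zpowers]
      exact (hRcop.coprime_dvd_right (orderOf_dvd_of_pow_eq_one (hQp _ ⟨x, hx, rfl⟩))).symm
    have hR1 : ⁅R₀, zpowers (π x)⁆ ≤ centralizer (zpowers (π x) : Set (G ⧸ V)) := by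
      intro gb hgb
      obtain ⟨g, rfl⟩ := QuotientGroup.mk'_surjective V gb
      rw [mem_centralizer_iff]
      intro y hy
      obtain ⟨j, rfl⟩ := mem_zpowers_iff.1 hy
      refine ((show Commute (π x) (π g) from ?_).zpow_left j).eq
      have hgZ : ∀ z ∈ Z, g * z * g⁻¹ = z := fun z hz => by
        have := congrArg Subtype.val (DFunLike.congr_fun (hfix _ hgb) ⟨z, hZU hz⟩)
        rwa [show π g = QuotientGroup.mk g from rfl, hφ] at this
      set c := g * x * g⁻¹ * x⁻¹ with hc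
      have hcR : π c ∈ R₀ := by
        have hgR := CfsgLib.Solvable.commutator_le_of_le_normalizer hnorm hgb
        have : π c = π g * (π x * (π g)⁻¹ * (π x)⁻¹) := by simp [hc, mul_assoc]
        rw [this]
        exact mul_mem hgR (CfsgLib.Solvable.normalizer_conj_mem (hnorm (mem_zpowers _)) (inv_mem hgR))
      have hcZ : ∀ z ∈ Z, c * z * c⁻¹ = z := by
        intro z hz
        have h1 : x⁻¹ * z * x = z := by rw [mul_assoc, ← hZQ z hz x hx, inv_mul_cancel_left]
        have h2 : g⁻¹ * z * g = z := by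
          conv_lhs => rw [← hgZ z hz]
          group
        have h3 : x * z * x⁻¹ = z := by rw [hZQ z hz x hx, mul_inv_cancel_right]
        calc c * z * c⁻¹ = g * (x * (g⁻¹ * (x⁻¹ * z * x) * g) * x⁻¹) * g⁻¹ := by rw [hc]; group
          _ = z := by rw [h1, h2, h3, hgZ z hz]
      have hchain : ∀ v ∈ V, ∃ z ∈ Z, c * v * c⁻¹ = z * v := by
        intro v hv
        set z₁ := ⁅x⁻¹, v⁆ with hz₁
        have hz₁Z : z₁ ∈ Z := hZcomm _ (inv_mem hx) v (hVQ hv)
        set v' := g⁻¹ * v * g with hv'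
        have hv'V : v' ∈ V := by
          simpa [hv'] using (inferInstance : V.Normal).conj_mem v hv g⁻¹
        set z₂ := ⁅x, v'⁆ with hz₂
        have hz₂Z : z₂ ∈ Z := hZcomm x hx v' (hVQ hv'V)
        have h1 : x⁻¹ * v * x = z₁ * v := by rw [hz₁, commutatorElement_def]; group
        have h2 : g⁻¹ * z₁ * g = z₁ := by
          conv_lhs => rw [← hgZ z₁ hz₁Z]
          group
        have h3 : x * z₁ * x⁻¹ = z₁ := by rw [hZQ z₁ hz₁Z x hx, mul_inv_cancel_right]
        have h4 : x * v' * x⁻¹ = z₂ * v' := by rw [hz₂, commutatorElement_def]; group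
        refine ⟨z₁ * z₂, mul_mem hz₁Z hz₂Z, ?_⟩
        calc c * v * c⁻¹ = g * (x * (g⁻¹ * (x⁻¹ * v * x) * g) * x⁻¹) * g⁻¹ := by rw [hc]; group
          _ = g * ((x * (g⁻¹ * z₁ * g) * x⁻¹) * (x * v' * x⁻¹)) * g⁻¹ := by rw [h1, hv']; group
          _ = (g * z₁ * g⁻¹) * (g * z₂ * g⁻¹) * (g * v' * g⁻¹) := by rw [h2, h3, h4]; group
          _ = z₁ * z₂ * v := by
            rw [hgZ z₁ hz₁Z, hgZ z₂ hz₂Z, hv']
            group
      have hcp : c ^ p ∈ V := by
        refine hCV (mem_centralizer_iff.2 fun v hv => ?_)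
        obtain ⟨z, hz, hzv⟩ := hchain v hv
        have hit : ∀ m : ℕ, c ^ m * v * (c ^ m)⁻¹ = z ^ m * v := by
          intro m
          induction m with
          | zero => simp
          | succ m ih =>
            calc c ^ (m + 1) * v * (c ^ (m + 1))⁻¹ = c * (c ^ m * v * (c ^ m)⁻¹) * c⁻¹ := by
                  rw [pow_succ']; group
              _ = (c * z * c⁻¹) ^ m * (c * v * c⁻¹) := by rw [ih, conj_pow]; group
              _ = z ^ (m + 1) * v := by rw [hcZ z hz, hzv, pow_succ, mul_assoc]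
        have hzp : z ^ p = 1 := by
          obtain ⟨z', hz', rfl⟩ := hz
          rw [← map_pow, hZp z' hz', map_one]
        have h5 := hit p
        rw [hzp, one_mul, mul_inv_eq_iff_eq_mul] at h5
        exact h5.symm
      have hc1 : π c = 1 := by
        rw [← orderOf_eq_one_iff]
        refine Nat.eq_one_of_dvd_coprimes hRcop (Subgroup.orderOf_dvd_natCard R₀ hcR) ?_
        exact orderOf_dvd_of_pow_eq_one (by rw [← map_pow]; exact (QuotientGroup.eq_one_iff _).2 hcp)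
      rw [hc, map_mul, map_mul, map_mul, map_inv, map_inv, mul_inv_eq_one, mul_inv_eq_iff_eq_mul] at hc1
      exact hc1.symm
    have h0 := CfsgLib.Solvable.commutator_commutator_self hnorm hcopx (Or.inl inferInstance)
    rw [(Subgroup.commutator_eq_bot_iff_le_centralizer).2 hR1] at h0
    have h1 : ⁅r, π x⁆ ∈ ⁅R₀, zpowers (π x)⁆ := commutator_mem_commutator hr (mem_zpowers _)
    rw [← h0, mem_bot, commutatorElement_eq_one_iff_mul_comm] at h1
    exact h1.symm
  have d : Data (p := p) φ (π x) B R₀ (Z.subgroupOf U) :=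
    { norm := hnorm
      commR := hBR
      commx := fun b hb => hQc b (hBQ hb) _ ⟨x, hx, rfl⟩
      cop := hcopU
      delta := by
        intro q hq u
        rw [hT] at hq
        obtain ⟨t, ht, rfl⟩ := hq
        rw [mem_subgroupOf, Subgroup.coe_mul, Subgroup.coe_inv, show π t = QuotientGroup.mk t from rfl, hφ]
        exact hZcomm t ht u (hVQ (hUV u.2))
      fixZ := by
        intro q hq z hz
        rw [hT] at hq
        obtain ⟨t, ht, rfl⟩ := hq
        refine Subtype.ext ?_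
        rw [show π t = QuotientGroup.mk t from rfl, hφ, hZQ _ (mem_subgroupOf.1 hz) t ht, mul_inv_cancel_right]
      sur := by
        intro u hu z hz
        rw [hT]
        obtain ⟨z', hz', hzz⟩ := mem_subgroupOf.1 hz
        obtain ⟨t, ht⟩ := hsur ⟨u, hVQ (hUV u.2)⟩ (fun h => hu (mem_subgroupOf.2 ⟨_, h, rfl⟩)) z'⁻¹ (inv_mem hz')
        refine ⟨π t, ⟨t, t.2, rfl⟩, Subtype.ext ?_⟩
        rw [show π (t : G) = QuotientGroup.mk (t : G) from rfl, hφ, Subgroup.coe_mul, ← hzz]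
        have h1 := congrArg Subtype.val (congrArg (·⁻¹) ht)
        simp only [commutatorElement_inv, inv_inv] at h1
        simp only [commutatorElement_def, Subgroup.coe_mul, Subgroup.coe_inv] at h1
        rw [mul_inv_eq_iff_eq_mul] at h1
        exact h1
      pow := by rw [← map_pow, hQp _ ⟨x, hx, rfl⟩, map_one]
      moves := hmoves }
  have o := outcome_of_data d hUp
  -- `V` is abelian
  have hVab : ∀ a ∈ V, ∀ b ∈ V, a * b = b * a := by
    intro a ha b hb
    have hWZ : ⁅V, V⁆ ≤ Z := Subgroup.commutator_le.2 fun a ha b hb => hZcomm a (hVQ ha) b (hVQ hb)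
    have hW := o.noW ((⁅V, V⁆).subgroupOf U) (fun r hr w hw => by
        obtain ⟨g, rfl⟩ := QuotientGroup.mk'_surjective V r
        rw [mem_subgroupOf, show QuotientGroup.mk' V g = QuotientGroup.mk g from rfl, hφ]
        exact (inferInstance : (⁅V, V⁆).Normal).conj_mem _ hw g)
      (fun w hw => d.fixZ _ (mem_sup_right (mem_zpowers _)) w (mem_subgroupOf.2 (hWZ hw)))
    rw [← commutatorElement_eq_one_iff_mul_comm]
    have hmem := commutator_mem_commutator ha hb
    have h1 : (⟨⁅a, b⁆, hZU (hWZ hmem)⟩ : U) ∈ (⁅V, V⁆).subgroupOf U := hmem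
    rw [hW, mem_bot] at h1
    exact congrArg Subtype.val h1
  have hUeq : U = V := le_antisymm hUV fun v hv =>
    ⟨⟨v, hv⟩, mem_center_iff.2 fun w => Subtype.ext (hVab w w.2 v hv), rfl⟩
  have hBbot : B = ⊥ := by
    rw [eq_bot_iff]
    intro b hb
    obtain ⟨t, ht, rfl⟩ := hBQ hb
    refine mem_bot.2 ((QuotientGroup.eq_one_iff t).2 (hCV (mem_centralizer_iff.2 fun v hv => ?_)))
    have h1 := congrArg Subtype.val (DFunLike.congr_fun (o.fixB _ hb) ⟨v, hUeq.ge hv⟩)
    rw [show π t = QuotientGroup.mk t from rfl, hφ, MulAut.one_apply, mul_inv_eq_iff_eq_mul] at h1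
    exact h1.symm
  by_cases hp5 : 5 ≤ p
  · exact not_five_le d o hp5
  have hcardV : Nat.card V = p ^ 2 := by rw [← hUeq]; exact o.cardU
  have hcardQb : Nat.card Qb = p := by
    rw [← hT, hBbot, bot_sup_eq, Nat.card_zpowers]
    refine orderOf_eq_prime (hQp _ ⟨x, hx, rfl⟩) fun e => hxR fun r _ => ?_
    rw [e]
    exact Commute.one_left r
  have hcardQ : Nat.card (Q : Subgroup G) = p ^ 3 := by
    have h1 := card_mul_index (V.subgroupOf (Q : Subgroup G))
    rw [Nat.card_congr (subgroupOfEquivOfLe hVQ).toEquiv, hcardV] at h1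
    have h2 : V.relIndex (Q : Subgroup G) = p := by
      rw [show V.relIndex (Q : Subgroup G) = π.ker.relIndex Q by rw [QuotientGroup.ker_mk'], relIndex_ker]
      exact hcardQb
    rw [show (V.subgroupOf (Q : Subgroup G)).index = p from h2] at h1
    rw [← h1, pow_succ p 2]
  have hp3 : p ≤ 3 := by
    have h4 : p ≠ 4 := fun e => absurd (e ▸ hp.out) (by decide)
    omega
  refine hsmall hp3 hcardQ ?_ (V.subgroupOf (Q : Subgroup G)) ?_ ?_
  · rw [Nat.card_congr ((center (Q : Subgroup G)).equivMapOfInjective (Q : Subgroup G).subtype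
        (Subgroup.subtype_injective _)).toEquiv, ← hZdef, ← Nat.card_congr (subgroupOfEquivOfLe hZU).toEquiv]
    exact o.cardZ
  · intro v hv
    have h1 := congrArg Subtype.val (o.exp ⟨(v : G), hUeq.ge (mem_subgroupOf.1 hv)⟩)
    exact Subtype.ext (by simpa using h1)
  · rw [Nat.card_congr (subgroupOfEquivOfLe hVQ).toEquiv, hcardV]

/-- The general case. -/
theorem pLengthLE_one {G : Type*} [Group G] [Finite G] (hG : IsPSolvable p G) (Q : Sylow p G)
    (hQ : TypeData p (Q : Subgroup G)) : PLengthLE p 1 G := by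
  set K := pPrimeCore p G with hK
  haveI hKn : K.Normal := by
    haveI := CfsgLib.Cores.pPrimeCore_characteristic (G := G) p
    infer_instance
  set π := QuotientGroup.mk' K
  have hπ : Function.Surjective π := QuotientGroup.mk'_surjective K
  have hKcop : (Nat.card K).Coprime p := CfsgLib.Cores.coprime_card_pPrimeCore p
  refine OddLocal.Ten.pLengthLE_one_of_pPrimePCore ?_
  have hinj : Function.Injective (π.comp (Q : Subgroup G).subtype) := by
    rw [injective_iff_map_eq_one]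
    intro q hq
    have h1 : (q : G) ∈ K := (QuotientGroup.eq_one_iff _).1 hq
    obtain ⟨k, hk⟩ := IsPGroup.iff_orderOf.1 Q.2 q
    rw [← orderOf_eq_one_iff]
    exact Nat.eq_one_of_dvd_coprimes (hKcop.symm.pow_left k) (dvd_of_eq hk)
      ((Subgroup.orderOf_coe q) ▸ Subgroup.orderOf_dvd_natCard K h1)
  have hrange : (π.comp (Q : Subgroup G).subtype).range = ((Q.mapSurjective hπ : Sylow p (G ⧸ K)) : Subgroup (G ⧸ K)) := by
    rw [MonoidHom.range_comp, range_subtype, Sylow.coe_mapSurjective]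
  have hQ' := hQ.of_equiv ((MonoidHom.ofInjective hinj).trans (MulEquiv.subgroupCongr hrange)).symm
  have hle := sylow_le_pCore (CfsgLib.Transfer.isPSolvable_quotient hG K)
    (CfsgLib.Cores.pPrimeCore_quotient_self p) _ hQ'
  have hdvd : (pPrimePCore p G).index ∣ ((Q.mapSurjective hπ : Sylow p (G ⧸ K)) : Subgroup (G ⧸ K)).index := by
    show ((pCore p (G ⧸ K)).comap π).index ∣ _
    rw [index_comap_of_surjective _ hπ]
    exact index_dvd_of_le hle
  exact (hp.out.coprime_iff_not_dvd.2 (Sylow.not_dvd_index _)).symm.coprime_dvd_left hdvd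

end CfsgLib.SchmidtSylow
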