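import Cfsg.Agent.Lib.Solvable.MinimalNonNilpotent
import Cfsg.Agent.Lib.PGroup.Basic

/-!
# The normal Sylow subgroup of a minimal non-nilpotent group

It is abelian, or every non-central element has all of the centre as its commutators, the centre and the central
quotient have exponent `p`, and for `p ≤ 3` a group of order `p ^ 3` has no elementary abelian subgroup of index `p`.
-/

set_option autoImplicit false

namespace CfsgLib.SchmidtSylow

open Subgroup
open scoped commutatorElement

/-- The properties used. -/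
def TypeData (p : ℕ) (P : Type*) [Group P] : Prop :=
  (∀ a b : P, a * b = b * a) ∨
    ((∀ x : P, x ∉ center P → ∀ z ∈ center P, ∃ t : P, ⁅x, t⁆ = z) ∧ (∀ x : P, x ^ p ∈ center P) ∧
      (∀ z ∈ center P, z ^ p = 1) ∧ (∀ a b : P, ⁅a, b⁆ ∈ center P) ∧
      (p ≤ 3 → Nat.card P = p ^ 3 → Nat.card (center P) = p → ∀ V : Subgroup P, (∀ v ∈ V, v ^ p = 1) →
        Nat.card V ≠ p ^ 2))

theorem mem_center_mulEquiv {P Q : Type*} [Group P] [Group Q] (e : Q ≃* P) {x : Q} :
    e x ∈ center P ↔ x ∈ center Q := by
  simp only [mem_center_iff]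
  refine ⟨fun h g => e.injective (by rw [map_mul, map_mul, h]), fun h g => ?_⟩
  obtain ⟨g, rfl⟩ := e.surjective g
  rw [← map_mul, h, map_mul]

theorem TypeData.of_equiv {p : ℕ} {P Q : Type*} [Group P] [Group Q] (e : Q ≃* P) (h : TypeData p P) :
    TypeData p Q := by
  rcases h with h | ⟨h1, h2, h3, h4, h5⟩
  · exact Or.inl fun a b => e.injective (by rw [map_mul, map_mul, h])
  refine Or.inr ⟨fun x hx z hz => ?_, fun x => ?_, fun z hz => e.injective ?_, fun a b => ?_, ?_⟩
  · obtain ⟨t, ht⟩ := h1 (e x) (fun h => hx ((mem_center_mulEquiv e).1 h)) (e z) ((mem_center_mulEquiv e).2 hz)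
    exact ⟨e.symm t, e.injective (by rw [map_commutatorElement, e.apply_symm_apply, ht])⟩
  · rw [← mem_center_mulEquiv e, map_pow]
    exact h2 _
  · rw [map_pow, map_one, h3 _ ((mem_center_mulEquiv e).2 hz)]
  · rw [← mem_center_mulEquiv e, map_commutatorElement]
    exact h4 _ _
  · intro hp3 hcard hZ V hV hVc
    refine h5 hp3 ((Nat.card_congr e.toEquiv).symm.trans hcard) ?_ (V.map e.toMonoidHom) ?_ ?_
    · rw [← hZ]
      exact (Nat.card_congr (Subgroup.centerCongr e).toEquiv).symm
    · rintro _ ⟨v, hv, rfl⟩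
      show e v ^ p = 1
      rw [← map_pow, hV v hv, map_one]
    · rw [card_map_of_injective (f := e.toMonoidHom) e.injective, hVc]

variable {P : Type*} [Group P] [Finite P] {p r : ℕ} [hp : Fact p.Prime] [hr : Fact r.Prime]

/-- The action of a generator of the cyclic Sylow subgroup gives the properties. -/
theorem typeData_of_aut (hP : IsPGroup p P) (hrp : r ≠ p) (α : MulAut P) (hα : α ^ r = 1)
    (hprop : ∀ K : Subgroup P, K.Normal → (∀ k ∈ K, α k ∈ K) → K ≠ ⊤ → ∀ k ∈ K, α k = k)
    (hgen : closure (Set.range fun x : P => x⁻¹ * α x) = ⊤) : TypeData p P := by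
  classical
  by_cases hab : ∀ a b : P, a * b = b * a
  · exact Or.inl hab
  refine Or.inr ?_
  have hcen : ∀ K : Subgroup P, K.Normal → (∀ k ∈ K, α k ∈ K) → K ≠ ⊤ → K ≤ center P := by
    intro K hK hαK hKt k hk
    rw [mem_center_iff]
    intro g
    have hle : closure (Set.range fun x : P => x⁻¹ * α x) ≤ centralizer {k} := by
      rw [closure_le]
      rintro _ ⟨x, rfl⟩
      rw [SetLike.mem_coe, mem_centralizer_singleton_iff]
      have h1 := hprop K hK hαK hKt _ (hK.conj_mem k hk x)
      rw [map_mul, map_mul, map_inv, hprop K hK hαK hKt k hk] at h1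
      have h2 : α x * k = x * k * x⁻¹ * α x := by rw [← h1, inv_mul_cancel_right]
      calc x⁻¹ * α x * k = x⁻¹ * (α x * k) := mul_assoc _ _ _
        _ = k * (x⁻¹ * α x) := by rw [h2]; group
    exact mem_centralizer_singleton_iff.1 (hle (hgen.ge (mem_top g)))
  have : Nontrivial P := by
    by_contra h
    rw [not_nontrivial_iff_subsingleton] at h
    exact hab fun a b => Subsingleton.elim _ _
  have hZt : center P ≠ ⊤ := fun e => hab fun a b => (mem_center_iff.1 (e.ge (mem_top b)) a)
  have hαc : ∀ z ∈ center P, α z = z :=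
    hprop (center P) inferInstance (fun z hz => (mem_center_mulEquiv α).2 hz) hZt
  have hFc : frattini P ≤ center P := by
    refine hcen _ inferInstance (fun k hk => ?_) (PGroup.frattini_ne_top hP)
    have h1 : (frattini P).Characteristic := inferInstance
    exact (characteristic_iff_map_le.1 h1 α) ⟨k, hk, rfl⟩
  have hcomm : ∀ a b : P, ⁅a, b⁆ ∈ center P := fun a b =>
    hFc (PGroup.commutator_le_frattini hP (commutator_mem_commutator (mem_top a) (mem_top b)))
  have hpow : ∀ x : P, x ^ p ∈ center P := fun x => hFc (PGroup.pow_mem_frattini hP x)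
  -- `α` fixes nothing in `P / P'`
  have hnofix : ∀ x : P, x⁻¹ * α x ∈ _root_.commutator P → x ∈ _root_.commutator P := by
    intro x hx
    let π : P →* Abelianization P := Abelianization.of
    have hker : ∀ g : P, π g = 1 ↔ g ∈ _root_.commutator P := fun g =>
      (QuotientGroup.eq_one_iff (N := _root_.commutator P) g)
    let N : P →* Abelianization P :=
      MonoidHom.mk' (fun g => ∏ i ∈ Finset.range r, π ((α ^ i) g)) (fun a b => by
        simp only [map_mul, Finset.prod_mul_distrib])
    have hN : ∀ g, N g = 1 := by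
      intro g
      have hle : closure (Set.range fun x : P => x⁻¹ * α x) ≤ N.ker := by
        rw [closure_le]
        rintro _ ⟨y, rfl⟩
        show ∏ i ∈ Finset.range r, π ((α ^ i) (y⁻¹ * α y)) = 1
        have h1 : ∀ i, π ((α ^ i) (y⁻¹ * α y)) = π ((α ^ (i + 1)) y) / π ((α ^ i) y) := fun i => by
          rw [pow_succ, MulAut.mul_apply, map_mul (α ^ i), map_inv, map_mul, map_inv, div_eq_mul_inv, mul_comm]
        simp only [h1]
        rw [Finset.prod_range_div (fun i => π ((α ^ i) y)), hα, pow_zero, div_self']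
      exact hle (hgen.ge (mem_top g))
    have hfix : ∀ i : ℕ, π ((α ^ i) x) = π x := by
      have hcomm' : ∀ g ∈ _root_.commutator P, α g ∈ _root_.commutator P := fun g hg =>
        (characteristic_iff_map_le.1 (inferInstance : (_root_.commutator P).Characteristic) α) ⟨g, hg, rfl⟩
      intro i
      induction i with
      | zero => rfl
      | succ i ih =>
        have h2 : (α ^ i) (x⁻¹ * α x) ∈ _root_.commutator P :=
          (characteristic_iff_map_le.1 (inferInstance : (_root_.commutator P).Characteristic) (α ^ i))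
            ⟨_, hx, rfl⟩
        rw [← hker, map_mul, map_mul, map_inv, map_inv, inv_mul_eq_one, ih] at h2
        rw [pow_succ, MulAut.mul_apply]
        exact h2.symm
    have h3 : π x ^ r = 1 := by
      have h4 : ∏ i ∈ Finset.range r, π ((α ^ i) x) = 1 := hN x
      rwa [Finset.prod_congr rfl (fun i _ => hfix i), Finset.prod_const, Finset.card_range] at h4
    rw [← hker]
    obtain ⟨k, hk⟩ := hP x
    have h5 : π x ^ p ^ k = 1 := by rw [← map_pow, hk, map_one]
    have hco : r.Coprime (p ^ k) := ((Nat.coprime_primes hr.out hp.out).2 hrp).pow_right k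
    simpa [hco.gcd_eq_one] using pow_gcd_eq_one.2 ⟨h3, h5⟩
  have hZD : center P ≤ _root_.commutator P := fun z hz => hnofix z (by
    rw [hαc z hz, inv_mul_cancel]
    exact one_mem _)
  have hZexp : ∀ z ∈ center P, z ^ p = 1 := by
    let T : Subgroup P :=
      { carrier := {z | z ∈ center P ∧ z ^ p = 1}
        one_mem' := ⟨one_mem _, one_pow _⟩
        mul_mem' := fun {a b} ha hb => ⟨mul_mem ha.1 hb.1, by
          rw [(show Commute a b from (mem_center_iff.1 ha.1 b).symm).mul_pow, ha.2, hb.2, one_mul]⟩
        inv_mem' := fun {a} ha => ⟨inv_mem ha.1, by rw [inv_pow, ha.2, inv_one]⟩ }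
    have hle : _root_.commutator P ≤ T := by
      refine Subgroup.commutator_le.2 fun a _ b _ => ⟨hcomm a b, ?_⟩
      rw [← PGroup.comm_pow_left (hcomm a b), commutatorElement_eq_one_iff_mul_comm]
      exact (mem_center_iff.1 (hpow a) b).symm
    exact fun z hz => (hle (hZD hz)).2
  refine ⟨fun x hx z hz => ?_, hpow, hZexp, hcomm, ?_⟩
  · let f : P →* P := MonoidHom.mk' (fun t => ⁅x, t⁆) (fun a b => PGroup.comm_mul_right (hcomm x b))
    by_contra hcon
    push Not at hcon
    have hzf : z ∉ f.range := fun ⟨t, ht⟩ => hcon t ht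
    let K : Subgroup P :=
      { carrier := {t | ∀ u : P, ⁅t, u⁆ ∈ f.range}
        one_mem' := fun u => by
          rw [commutatorElement_one_left]
          exact one_mem _
        mul_mem' := fun {a b} ha hb u => by
          rw [PGroup.comm_mul_left (hcomm b u)]
          exact mul_mem (ha u) (hb u)
        inv_mem' := fun {a} ha u => by
          have h := PGroup.comm_mul_left (a := a⁻¹) (b := a) (c := u) (hcomm a u)
          rw [inv_mul_cancel, commutatorElement_one_left] at h
          rw [eq_inv_of_mul_eq_one_left h.symm]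
          exact inv_mem (ha u) }
    have hKn : K.Normal := ⟨fun t ht g u => by
      have e : g * t * g⁻¹ = ⁅g, t⁆ * t := by rw [commutatorElement_def, inv_mul_cancel_right]
      rw [e, PGroup.comm_mul_left (hcomm t u),
        commutatorElement_eq_one_iff_mul_comm.2 (mem_center_iff.1 (hcomm g t) u).symm, one_mul]
      exact ht u⟩
    have hfc : f.range ≤ center P := fun y ⟨t, ht⟩ => ht ▸ hcomm x t
    have hαK : ∀ t ∈ K, α t ∈ K := fun t ht u => by
      obtain ⟨u, rfl⟩ := α.surjective u
      rw [← map_commutatorElement α t u, hαc _ (hcomm t u)]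
      exact ht u
    have hKt : K ≠ ⊤ := fun e => hzf (by
      have hle : _root_.commutator P ≤ f.range := Subgroup.commutator_le.2 fun a _ b _ => (e.ge (mem_top a)) b
      exact hle (hZD hz))
    exact hx (hcen K hKn hαK hKt (fun u => ⟨u, rfl⟩))
  · intro hp3 hcardP hcardZ V hV hVcard
    set Z := center P with hZ
    have hfpf : ∀ x : P, x⁻¹ * α x ∈ Z → x ∈ Z := fun x hx => by
      have h1 : x ∈ _root_.commutator P := hnofix x (hZD hx)
      exact (Subgroup.commutator_le.2 fun a _ b _ => hcomm a b) h1
    let e : P ⧸ Z ≃* P ⧸ Z := QuotientGroup.congr Z Z α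
      (Subgroup.characteristic_iff_map_eq.1 (inferInstance : (center P).Characteristic) α)
    have he : ∀ x : P, e (QuotientGroup.mk x) = QuotientGroup.mk (α x) := fun x => rfl
    have hei : ∀ (i : ℕ) (x : P), (e.toEquiv : Equiv.Perm (P ⧸ Z))^[i] (QuotientGroup.mk x) =
        QuotientGroup.mk ((α ^ i) x) := by
      intro i
      induction i with
      | zero => intro x; rfl
      | succ i ih =>
        intro x
        rw [Function.iterate_succ_apply, pow_succ, MulAut.mul_apply, ← ih]
        rfl
    have hcardQ : Nat.card (P ⧸ Z) = p ^ 2 := by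
      have h := card_mul_index Z
      rw [index_eq_card, hcardP, hcardZ, pow_succ', Nat.mul_right_inj hp.out.ne_zero] at h
      exact h
    have : Fintype (P ⧸ Z) := Fintype.ofFinite _
    set σ : Equiv.Perm (P ⧸ Z) := e.toEquiv with hσ
    have hσr : σ ^ r = 1 := by
      ext q
      induction q using QuotientGroup.induction_on with
      | _ x =>
        rw [← Equiv.Perm.iterate_eq_pow, hei, hα]
        rfl
    have hsupp : σ.support = Finset.univ.erase 1 := by
      ext q
      induction q using QuotientGroup.induction_on with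
      | _ x =>
        rw [Equiv.Perm.mem_support, Finset.mem_erase, hσ]
        constructor
        · intro h
          refine ⟨fun e1 => h ?_, Finset.mem_univ _⟩
          show e (QuotientGroup.mk x) = _
          rw [e1, map_one]
        · rintro ⟨h, -⟩ h1
          have h2 : e (QuotientGroup.mk x) = QuotientGroup.mk x := h1
          rw [he] at h2
          exact h ((QuotientGroup.eq_one_iff x).2 (hfpf x (QuotientGroup.eq.1 h2.symm)))
    have hrdvd : r ∣ p ^ 2 - 1 := by
      have h1 : r ∣ σ.support.card := by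
        obtain ⟨x, hx⟩ : ∃ x : P, x ∉ Z := by
          by_contra h
          push Not at h
          exact hZt ((eq_top_iff' _).2 h)
        have hne : σ ≠ 1 := fun e1 => by
          have h2 : (QuotientGroup.mk x : P ⧸ Z) ∈ σ.support := by
            rw [hsupp]
            exact Finset.mem_erase.2 ⟨fun h => hx ((QuotientGroup.eq_one_iff x).1 h), Finset.mem_univ _⟩
          rw [e1, Equiv.Perm.support_one] at h2
          exact Finset.notMem_empty _ h2
        have hord : orderOf σ = r := orderOf_eq_prime hσr hne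
        obtain ⟨n, hn⟩ := Equiv.Perm.cycleType_prime_order (σ := σ) (hord.symm ▸ hr.out)
        refine ⟨n + 1, ?_⟩
        rw [← Equiv.Perm.sum_cycleType, hn, Multiset.sum_replicate, smul_eq_mul, hord, mul_comm]
      rwa [hsupp, Finset.card_erase_of_mem (Finset.mem_univ _), Finset.card_univ,
        ← Nat.card_eq_fintype_card, hcardQ] at h1
    -- an element of `V` outside the centre
    obtain ⟨v, hv, hvZ⟩ : ∃ v ∈ V, v ∉ Z := by
      by_contra h
      push Not at h
      have h1 := card_le_of_le (show V ≤ Z from h)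
      rw [hVcard, hcardZ] at h1
      nlinarith [hp.out.two_le]
    have hp23 : p = 2 ∨ p = 3 := by have := hp.out.two_le; omega
    rcases hp23 with rfl | rfl
    · -- `p = 2`
      have hr3 : r = 3 := (Nat.prime_dvd_prime_iff_eq hr.out Nat.prime_three).1 hrdvd
      subst hr3
      refine hab fun a b => ?_
      have hsq : ∀ g : P, g ^ 2 = 1 := by
        intro g
        by_cases hg : g ∈ Z
        · exact hZexp g hg
        set a : Fin 3 → P ⧸ Z := fun i => QuotientGroup.mk ((α ^ (i : ℕ)) v) with ha
        have ha1 : ∀ i, a i ∈ Finset.univ.erase (1 : P ⧸ Z) := by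
          intro i
          refine Finset.mem_erase.2 ⟨fun h => ?_, Finset.mem_univ _⟩
          exact hvZ ((mem_center_mulEquiv (α ^ (i : ℕ))).1 ((QuotientGroup.eq_one_iff _).1 h))
        have hainj : Function.Injective a := by
          have key : ∀ i j : Fin 3, i < j → a i ≠ a j := by
            intro i j hij h
            have h1 := QuotientGroup.eq.1 h
            obtain ⟨d, hd⟩ : ∃ d : ℕ, (j : ℕ) = i + d := Nat.exists_eq_add_of_le (Fin.le_def.1 hij.le)
            rw [hd, pow_add, MulAut.mul_apply, ← map_inv, ← map_mul] at h1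
            have h2 : v⁻¹ * (α ^ d) v ∈ Z := (mem_center_mulEquiv (α ^ (i : ℕ))).1 h1
            have hd12 : d = 1 ∨ d = 2 := by
              have h3 := Fin.lt_def.1 hij
              have h4 := j.isLt
              omega
            rcases hd12 with rfl | rfl
            · rw [pow_one] at h2
              exact hvZ (hfpf v h2)
            · have h3 := (mem_center_mulEquiv α).2 h2
              rw [map_mul, map_inv, ← MulAut.mul_apply, ← pow_succ', hα, MulAut.one_apply] at h3
              exact hvZ (hfpf v (by simpa [mul_inv_rev] using inv_mem h3))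
          intro i j h
          rcases lt_trichotomy i j with h' | h' | h'
          · exact absurd h (key i j h')
          · exact h'
          · exact absurd h.symm (key j i h')
        have himg : Finset.univ.image a = Finset.univ.erase (1 : P ⧸ Z) := by
          refine Finset.eq_of_subset_of_card_le (Finset.image_subset_iff.2 fun i _ => ha1 i) (le_of_eq ?_)
          rw [Finset.card_image_of_injective _ hainj, Finset.card_erase_of_mem (Finset.mem_univ _),
            Finset.card_univ, ← Nat.card_eq_fintype_card, hcardQ]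
          simp
        obtain ⟨i, -, hi⟩ := Finset.mem_image.1 (himg.ge (Finset.mem_erase.2
          ⟨fun h => hg ((QuotientGroup.eq_one_iff g).1 h), Finset.mem_univ _⟩))
        have hz := QuotientGroup.eq.1 hi
        set w := (α ^ (i : ℕ)) v
        have hw : w ^ 2 = 1 := by
          show ((α ^ (i : ℕ)) v) ^ 2 = 1
          rw [← map_pow, hV v hv, map_one]
        have hc : Commute w (w⁻¹ * g) := mem_center_iff.1 hz w
        calc g ^ 2 = (w * (w⁻¹ * g)) ^ 2 := by rw [mul_inv_cancel_left]
          _ = 1 := by rw [hc.mul_pow, hw, hZexp _ hz, one_mul]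
      have hinv : ∀ g : P, g⁻¹ = g := fun g => inv_eq_of_mul_eq_one_right (by rw [← pow_two, hsq])
      calc a * b = (a * b)⁻¹ := (hinv _).symm
        _ = b * a := by rw [mul_inv_rev, hinv, hinv]
    · -- `p = 3`
      have hr2 : r = 2 := by
        have h8 : r ∣ 2 ^ 3 := by simpa using hrdvd
        exact (Nat.prime_dvd_prime_iff_eq hr.out Nat.prime_two).1 (hr.out.dvd_of_dvd_pow h8)
      subst hr2
      have hinv : ∀ x : P, x * α x ∈ Z := fun x => by
        refine hfpf _ ?_
        rw [map_mul, ← MulAut.mul_apply, ← pow_two, hα, MulAut.one_apply]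
        have : (x * α x)⁻¹ * (α x * x) = ⁅(α x)⁻¹, x⁻¹⁆ := by
          rw [commutatorElement_def]; group
        rw [this]
        exact hcomm _ _
      let K := Z ⊔ zpowers v
      have hKn : K.Normal := ⟨fun k hk g => by
        have e1 : g * k * g⁻¹ = ⁅g, k⁆ * k := by rw [commutatorElement_def, inv_mul_cancel_right]
        rw [e1]
        exact mul_mem (mem_sup_left (hcomm g k)) hk⟩
      have hαK : ∀ k ∈ K, α k ∈ K := by
        intro k hk
        have hle : K ≤ K.comap α.toMonoidHom := sup_le (fun z hz => by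
          show α z ∈ K
          rw [hαc z hz]
          exact mem_sup_left hz) (zpowers_le.2 (by
          show α v ∈ K
          have := mul_mem (inv_mem (mem_sup_right (mem_zpowers v) : v ∈ K)) (mem_sup_left (hinv v) : v * α v ∈ K)
          rwa [inv_mul_cancel_left] at this))
        exact hle hk
      have hKt : K ≠ ⊤ := by
        intro e1
        refine hab fun a b => ?_
        have hle : K ≤ centralizer (K : Set P) := by
          refine sup_le (fun z hz => mem_centralizer_iff.2 fun y _ => mem_center_iff.1 hz y) (zpowers_le.2 ?_)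
          rw [mem_centralizer_iff]
          intro y hy
          have hle2 : K ≤ centralizer {v} := sup_le
            (fun z hz => mem_centralizer_singleton_iff.2 (mem_center_iff.1 hz v).symm)
            (zpowers_le.2 (mem_centralizer_singleton_iff.2 rfl))
          exact mem_centralizer_singleton_iff.1 (hle2 hy)
        exact mem_centralizer_iff.1 (hle (e1.ge (mem_top b))) a (e1.ge (mem_top a))
      exact hvZ (hcen K hKn hαK hKt (mem_sup_right (mem_zpowers v)))

/-- The normal Sylow subgroup of a minimal non-nilpotent group has these properties. -/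
theorem typeData_of_minimalNonNilpotent {X : Type*} [Group X] [Finite X] (hX : Cfsg.IsMinimalNonNilpotent X)
    {p : ℕ} [Fact p.Prime] (P : Sylow p X) (hPn : (P : Subgroup X).Normal) (hP1 : (P : Subgroup X) ≠ ⊥) :
    TypeData p (P : Subgroup X) := by
  obtain ⟨r, q, hr, hq, hrq, P0, Q0, hc, hQn, hsup, hP0n, hQP⟩ :=
    CfsgLib.Solvable.minimalNonNilpotent_structure hX
  haveI : Fact r.Prime := ⟨hr⟩
  haveI : Fact q.Prime := ⟨hq⟩
  haveI := hQn
  have hnQ : (P0 : Subgroup X) ≤ normalizer ((Q0 : Subgroup X) : Set X) :=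
    normalizer_eq_top (Q0 : Subgroup X) ▸ le_top
  have hdisj : (Q0 : Subgroup X) ⊓ P0 = ⊥ := (IsPGroup.disjoint_of_ne q r hrq.symm _ _ Q0.2 P0.2).eq_bot
  have hcard : Nat.card X = Nat.card (Q0 : Subgroup X) * Nat.card (P0 : Subgroup X) := by
    have h1 := CfsgLib.Solvable.card_sup_of_disjoint hnQ hdisj
    rwa [sup_comm, hsup, card_top] at h1
  have hrp : r ≠ p := by
    rintro rfl
    haveI := Sylow.unique_of_normal P hPn
    exact hP0n (Subsingleton.elim P P0 ▸ hPn)
  have hpX : p ∣ Nat.card X :=
    (P.2.card_eq_or_dvd.resolve_left (mt (eq_bot_of_card_eq _) hP1)).trans (card_subgroup_dvd_card _)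
  have hqp : q = p := by
    rw [hcard, Q0.card_eq_multiplicity, P0.card_eq_multiplicity] at hpX
    rcases (Fact.out : p.Prime).dvd_mul.1 hpX with h | h
    · exact ((Nat.prime_dvd_prime_iff_eq Fact.out hq).1 ((Fact.out : p.Prime).dvd_of_dvd_pow h)).symm
    · exact absurd ((Nat.prime_dvd_prime_iff_eq Fact.out hr).1 ((Fact.out : p.Prime).dvd_of_dvd_pow h)).symm hrp
  subst hqp
  haveI := Sylow.unique_of_normal Q0 hQn
  obtain rfl : P = Q0 := Subsingleton.elim _ _
  obtain ⟨y, hy⟩ := hc.exists_zpow_surjective
  have hP0z : (P0 : Subgroup X) = zpowers (y : X) := by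
    refine le_antisymm (fun g hg => ?_) (zpowers_le.2 y.2)
    obtain ⟨n, hn⟩ := hy ⟨g, hg⟩
    exact ⟨n, by simpa using congrArg Subtype.val hn⟩
  have hy1 : (y : X) ≠ 1 := fun e => hP0n (by rw [hP0z, e, zpowers_one_eq_bot]; infer_instance)
  obtain ⟨k, hk⟩ := IsPGroup.iff_orderOf.1 P0.2 y
  rw [← Subgroup.orderOf_coe] at hk
  have hcop : ∀ {A : Subgroup X}, IsPGroup r A → (Nat.card A).Coprime (Nat.card (P : Subgroup X)) :=
    fun {A} hA => IsPGroup.coprime_card_of_ne r q hrp _ _ hA P.2
  -- `y ^ r` centralises `P`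
  have hyr : ∀ g ∈ (P : Subgroup X), Commute ((y : X) ^ r) g := by
    intro g hg
    set A := zpowers ((y : X) ^ r) with hA
    have hAP0 : A ≤ P0 := zpowers_le.2 (pow_mem y.2 r)
    have hlt : (P : Subgroup X) ⊔ A ≠ ⊤ := by
      intro e
      have h1 := CfsgLib.Solvable.card_sup_of_disjoint (hAP0.trans hnQ) (eq_bot_mono (inf_le_inf_left _ hAP0) hdisj)
      rw [e, card_top, hcard, hA, congrArg (fun A : Subgroup X => Nat.card A) hP0z, Nat.card_zpowers,
        Nat.card_zpowers] at h1
      have h2 := Nat.eq_of_mul_eq_mul_left Nat.card_pos h1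
      have hdvd : r ∣ orderOf (y : X) := by
        rw [hk]
        refine dvd_pow_self r fun e0 => hy1 (orderOf_eq_one_iff.1 ?_)
        rw [hk, e0, pow_zero]
      rw [orderOf_pow_of_dvd hr.ne_zero hdvd] at h2
      exact absurd h2.symm (Nat.div_lt_self (orderOf_pos _) hr.one_lt).ne
    refine CfsgLib.OddLocal.commute_of_mem_nilpotent (hX.2 _ hlt) (mem_sup_right (mem_zpowers _))
      (mem_sup_left hg) ?_
    exact ((hcop (P0.2.to_le hAP0)).coprime_dvd_left (Subgroup.orderOf_dvd_natCard _ (mem_zpowers _))).coprime_dvd_right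
      (Subgroup.orderOf_dvd_natCard _ hg)
  let α : MulAut (P : Subgroup X) := MulAut.conjNormal (y : X)
  refine typeData_of_aut P.2 hrp α ?_ ?_ ?_
  · refine MulEquiv.ext fun g => Subtype.ext ?_
    show ((((MulAut.conjNormal (y : X) : MulAut (P : Subgroup X)) ^ r) g : (P : Subgroup X)) : X) = g
    rw [← map_pow, MulAut.conjNormal_apply, (hyr g g.2).eq, mul_inv_cancel_right]
  · intro K hK hαK hKt k hk
    set K' := K.map (P : Subgroup X).subtype with hK'
    set T := normalizer (K' : Set X) with hT
    have hyK : (y : X) ∈ T := by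
      have hle : K'.map (MulAut.conj (y : X)).toMonoidHom ≤ K' := by
        rintro _ ⟨_, ⟨g, hg, rfl⟩, rfl⟩
        exact ⟨α g, hαK g hg, rfl⟩
      refine CfsgLib.Solvable.mem_normalizer_of_conj_mem fun g hg => hle ⟨g, hg, rfl⟩
    have hlt : K' ⊔ zpowers (y : X) ≠ ⊤ := by
      intro e
      have h1 := CfsgLib.Solvable.card_sup_of_disjoint (zpowers_le.2 hyK)
        (eq_bot_mono (inf_le_inf (map_subtype_le K) (zpowers_le.2 y.2)) hdisj)
      rw [e, card_top, hcard, ← hP0z] at h1
      have h2 := Nat.eq_of_mul_eq_mul_right Nat.card_pos h1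
      rw [hK', card_map_of_injective (Subgroup.subtype_injective _)] at h2
      exact hKt (eq_top_of_card_eq K h2.symm)
    have hcm : Commute (y : X) (k : X) := CfsgLib.OddLocal.commute_of_mem_nilpotent (hX.2 _ hlt)
      (mem_sup_right (mem_zpowers _)) (mem_sup_left ⟨k, hk, rfl⟩)
      (((hcop P0.2).coprime_dvd_left (Subgroup.orderOf_dvd_natCard _ y.2)).coprime_dvd_right
        (Subgroup.orderOf_dvd_natCard _ k.2))
    refine Subtype.ext ?_
    show (((MulAut.conjNormal (y : X) : MulAut (P : Subgroup X)) k : (P : Subgroup X)) : X) = k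
    rw [MulAut.conjNormal_apply, hcm.eq, mul_inv_cancel_right]
  · set S := closure (Set.range fun x : (P : Subgroup X) => x⁻¹ * α x) with hS
    have hnat : ∀ (n : ℕ) (x : (P : Subgroup X)), x⁻¹ * (α ^ n) x ∈ S := by
      intro n
      induction n with
      | zero => intro x; simp [one_mem]
      | succ n ih =>
        intro x
        have h2 : ((α ^ n) x)⁻¹ * α ((α ^ n) x) ∈ S := subset_closure ⟨_, rfl⟩
        have h3 := mul_mem (ih x) h2
        rw [pow_succ', MulAut.mul_apply]
        simpa [mul_assoc] using h3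
    have hle : ⁅(P : Subgroup X), (P0 : Subgroup X)⁆ ≤ S.map (P : Subgroup X).subtype := by
      refine Subgroup.commutator_le.2 fun g hg a ha => ?_
      rw [hP0z] at ha
      obtain ⟨n, rfl⟩ := mem_powers_iff_mem_zpowers.2 ha
      refine ⟨(⟨g, hg⟩ : (P : Subgroup X))⁻¹⁻¹ * (α ^ n) (⟨g, hg⟩ : (P : Subgroup X))⁻¹, hnat n _, ?_⟩
      show g⁻¹⁻¹ * ((((MulAut.conjNormal (y : X) : MulAut (P : Subgroup X)) ^ n) (⟨g, hg⟩ : (P : Subgroup X))⁻¹ :
        (P : Subgroup X)) : X) = ⁅g, (y : X) ^ n⁆
      rw [← map_pow, MulAut.conjNormal_apply, inv_inv, commutatorElement_def]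
      simp [mul_assoc]
    rw [hQP] at hle
    rw [eq_top_iff]
    intro g _
    obtain ⟨s, hs, hsg⟩ := hle g.2
    exact (Subtype.ext hsg : s = g) ▸ hs

end CfsgLib.SchmidtSylow
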