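import Cfsg.Agent.Lib.Solvable.Basic
import Cfsg.Agent.Lib.Transfer.SubnormalJoin
import Mathlib.GroupTheory.IsSubnormal

/-!
Wielandt's zipper lemma and subnormality criterion.
-/

set_option autoImplicit false

open scoped Pointwise

namespace CfsgLib.Solvable

universe u

variable {G : Type u} [Group G] [Finite G]

omit [Finite G] in
theorem normal_of_normalizers_le {A B : Subgroup G} (hB : B.IsSubnormal)
    (h : ∀ A₁ : Subgroup G, A ≤ A₁ → A₁ ≤ Subgroup.normalizer (A : Set G) →
      Subgroup.normalizer (A₁ : Set G) ≤ Subgroup.normalizer (A : Set G)) :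
    A ≤ B → B ≤ Subgroup.normalizer (A : Set G) → Subgroup.normalizer (A : Set G) = ⊤ := by
  induction hB with
  | top => exact fun _ h2 => top_le_iff.1 h2
  | step H K hle _ hn ih =>
    intro h1 h2
    refine ih (h1.trans hle) ((?_ : K ≤ Subgroup.normalizer (H : Set G)).trans (h H h1 h2))
    rw [← Subgroup.subgroupOf_eq_top, Subgroup.subgroupOf_normalizer_eq hle,
      Subgroup.normalizer_eq_top_iff]
    exact hn

/-- Zipper lemma: a subgroup subnormal in all proper subgroups above it but not in the group lies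
in a unique maximal subgroup. -/
theorem zipper : ∀ (n : ℕ) (A : Subgroup G), A.index = n →
    (∀ L : Subgroup G, L ≠ ⊤ → A ≤ L → (A.subgroupOf L).IsSubnormal) → ¬ A.IsSubnormal →
    ∀ M₁ M₂ : Subgroup G, IsCoatom M₁ → IsCoatom M₂ → A ≤ M₁ → A ≤ M₂ → M₁ = M₂ := by
  intro n
  induction n using Nat.strong_induction_on with
  | _ n ih =>
  intro A hn hsn hA
  have hN : Subgroup.normalizer (A : Set G) ≠ ⊤ := fun h =>
    hA (Subgroup.Normal.isSubnormal (Subgroup.normalizer_eq_top_iff.1 h))
  obtain ⟨M, hM, hNM⟩ := (eq_top_or_exists_le_coatom _).resolve_left hN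
  suffices key : ∀ K : Subgroup G, IsCoatom K → A ≤ K → K = M by
    intro M₁ M₂ h1 h2 ha1 ha2
    rw [key M₁ h1 ha1, key M₂ h2 ha2]
  intro K hK hAK
  by_contra hne
  have hKN : ¬ K ≤ Subgroup.normalizer (A : Set G) := fun h => by
    rcases eq_or_lt_of_le (h.trans hNM) with h' | h'
    · exact hne h'
    · exact hM.1 (hK.2 M h')
  obtain ⟨A₁, hAA₁, hA₁K, hA₁N, x, hxK, hxA₁, hxA⟩ : ∃ A₁ : Subgroup G, A ≤ A₁ ∧ A₁ ≤ K ∧
      A₁ ≤ Subgroup.normalizer (A : Set G) ∧ ∃ x ∈ K, x ∈ Subgroup.normalizer (A₁ : Set G) ∧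
        x ∉ Subgroup.normalizer (A : Set G) := by
    by_contra hcon
    push Not at hcon
    refine hKN (Subgroup.subgroupOf_eq_top.1 ?_)
    rw [Subgroup.subgroupOf_normalizer_eq hAK]
    refine normal_of_normalizers_le (hsn K hK.1 hAK) (fun A₁ h1 h2 x hx => ?_) le_rfl
      Subgroup.le_normalizer
    rw [← Subgroup.subgroupOf_normalizer_eq hAK, Subgroup.mem_subgroupOf]
    refine hcon (A₁.map K.subtype) ?_ (Subgroup.map_subtype_le _) ?_ x x.2 ?_
    · intro a ha
      exact ⟨⟨a, hAK ha⟩, h1 (Subgroup.mem_subgroupOf.2 ha), rfl⟩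
    · rintro _ ⟨y, hy, rfl⟩
      have := h2 hy
      rw [← Subgroup.subgroupOf_normalizer_eq hAK] at this
      exact Subgroup.mem_subgroupOf.1 this
    · refine mem_normalizer_of_conj_mem ?_
      rintro _ ⟨y, hy, rfl⟩
      exact ⟨_, normalizer_conj_mem hx hy, rfl⟩
  set A' := MulAut.conj x • A with hA'
  have hA'A₁ : A' ≤ A₁ := (conj_smul_mono x hAA₁).trans (conj_smul_self_of_mem_normalizer hxA₁).le
  set B := A ⊔ A' with hB
  have hBA₁ : B ≤ A₁ := sup_le hAA₁ hA'A₁
  have hlt : A < B := lt_of_le_of_ne le_sup_left fun h => hxA (mem_normalizer_iff_conj_smul.2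
    (conj_smul_eq_of_le (le_sup_right.trans h.ge) le_rfl))
  have hnorm : (A.subgroupOf B).Normal := by
    rw [← Subgroup.normalizer_eq_top_iff, ← Subgroup.subgroupOf_normalizer_eq le_sup_left,
      Subgroup.subgroupOf_eq_top]
    exact hBA₁.trans hA₁N
  refine hne (ih B.index (hn ▸ Subgroup.index_strictAnti hlt) B rfl ?_ ?_
    K M hK hM (hBA₁.trans hA₁K) ((hBA₁.trans hA₁N).trans hNM))
  · intro L hL hBL
    have h1 := hsn L hL (le_sup_left.trans hBL)
    have hL' : (MulAut.conj x⁻¹ • L : Subgroup G) ≠ ⊤ := fun h => hL (eq_top_iff.2 fun y _ => by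
      have : x⁻¹ * y * x ∈ (MulAut.conj x⁻¹ • L : Subgroup G) := h ▸ Subgroup.mem_top _
      rw [mem_conj_smul_iff] at this
      simpa [mul_assoc] using this)
    have hAL' : A ≤ MulAut.conj x⁻¹ • L := fun a ha => mem_conj_smul_iff.2 (by
      refine le_sup_right.trans hBL (mem_conj_smul_iff.2 ?_)
      simpa [mul_assoc] using ha)
    let f : L →* (MulAut.conj x⁻¹ • L : Subgroup G) :=
      ((MulAut.conj x⁻¹).toMonoidHom.comp L.subtype).codRestrict _ fun y =>
        Subgroup.smul_mem_pointwise_smul (y : G) (MulAut.conj x⁻¹) L y.2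
    have h2 : ((MulAut.conj x • A : Subgroup G).subgroupOf L).IsSubnormal := by
      have := (hsn _ hL' hAL').comap f
      convert this using 1
      ext y
      show (y : G) ∈ MulAut.conj x • A ↔ MulAut.conj x⁻¹ (y : G) ∈ A
      rw [mem_conj_smul_iff, MulAut.conj_apply, inv_inv]
    have h3 := CfsgLib.Transfer.sup_isSubnormal h1 h2
    rwa [← Subgroup.subgroupOf_sup (le_sup_left.trans hBL) (le_sup_right.trans hBL)] at h3
  · exact fun h => hA (Subgroup.IsSubnormal.trans le_sup_left hnorm.isSubnormal h)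

theorem wielandt_criterion_aux : ∀ (n : ℕ) (G : Type u) [Group G] [Finite G], Nat.card G = n →
    ∀ A : Subgroup G,
      (∀ g : G, (A.subgroupOf (A ⊔ MulAut.conj g • A)).IsSubnormal) → A.IsSubnormal := by
  intro n
  induction n using Nat.strong_induction_on with
  | _ n ih =>
  intro G _ _ hn A h
  have hsn : ∀ L : Subgroup G, L ≠ ⊤ → A ≤ L → (A.subgroupOf L).IsSubnormal := by
    intro L hL hAL
    refine ih _ (hn ▸ lt_of_le_of_ne (Subgroup.card_le_card_group _)
      fun e => hL ((Subgroup.card_eq_iff_eq_top L).1 e)) L rfl _ fun g => ?_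
    have hle : (A ⊔ MulAut.conj (g : G) • A : Subgroup G) ≤ L :=
      sup_le hAL ((conj_smul_mono _ hAL).trans
        (conj_smul_self_of_mem_normalizer (Subgroup.le_normalizer g.2)).le)
    have e : A.subgroupOf L ⊔ MulAut.conj g • A.subgroupOf L =
        (A ⊔ MulAut.conj (g : G) • A).subgroupOf L := by
      rw [Subgroup.subgroupOf_sup hAL (le_sup_right.trans hle)]
      congr 1
      ext y
      rw [mem_conj_smul_iff, Subgroup.mem_subgroupOf, Subgroup.mem_subgroupOf, mem_conj_smul_iff]
      rfl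
    rw [e]
    have := (h g).comap (Subgroup.subgroupOfEquivOfLe hle).toMonoidHom
    convert this using 1
    ext y
    rfl
  by_contra hA
  obtain ⟨M, hM, hNM⟩ := (eq_top_or_exists_le_coatom (Subgroup.normalizer (A : Set G))).resolve_left
    fun e => hA (Subgroup.Normal.isSubnormal (Subgroup.normalizer_eq_top_iff.1 e))
  have hAM : A ≤ M := Subgroup.le_normalizer.trans hNM
  set N := Subgroup.normalClosure (A : Set G) with hN
  have hconj : ∀ g : G, MulAut.conj g • A ≤ M := by
    intro g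
    rcases eq_top_or_exists_le_coatom (A ⊔ MulAut.conj g • A) with e | ⟨K, hK, hle⟩
    · refine absurd ?_ hA
      exact Subgroup.IsSubnormal.trans le_sup_left (h g) (e ▸ Subgroup.IsSubnormal.top)
    · rw [zipper A.index A rfl hsn hA M K hM hK hAM (le_sup_left.trans hle)]
      exact le_sup_right.trans hle
  have hNM' : N ≤ M := by
    refine (Subgroup.closure_le M).2 ?_
    intro y hy
    obtain ⟨a, ha, hay⟩ := Group.mem_conjugatesOfSet_iff.1 hy
    obtain ⟨c, rfl⟩ := isConj_iff.1 hay
    exact hconj c (mem_conj_smul_iff.2 (by simpa [mul_assoc] using ha))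
  exact hA (Subgroup.IsSubnormal.trans Subgroup.le_normalClosure
    (hsn N (fun e => hM.1 (top_le_iff.1 (e ▸ hNM'))) Subgroup.le_normalClosure)
    (Subgroup.normalClosure_normal.isSubnormal))

/-- Wielandt's subnormality criterion. -/
theorem isSubnormal_of_forall_conj {A : Subgroup G}
    (h : ∀ g : G, (A.subgroupOf (A ⊔ MulAut.conj g • A)).IsSubnormal) : A.IsSubnormal :=
  wielandt_criterion_aux _ G rfl A h

end CfsgLib.Solvable
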