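import Mathlib.GroupTheory.IsSubnormal
import Mathlib.GroupTheory.Commutator.Basic
import Mathlib.Tactic.Group

/-!
Subnormality and iterated commutators.
-/

set_option autoImplicit false

open scoped commutatorElement

namespace CfsgLib.Solvable

variable {G : Type*} [Group G]

theorem le_normalizer_of_forall_conj {A X : Subgroup G} (h : ∀ a ∈ A, ∀ x ∈ X, a * x * a⁻¹ ∈ X) :
    A ≤ Subgroup.normalizer (X : Set G) := by
  intro a ha
  refine Subgroup.mem_normalizer_iff.2 fun x => ⟨h a ha x, fun hx => ?_⟩
  simpa [mul_assoc] using h a⁻¹ (inv_mem ha) _ hx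

theorem conj_closure_mem {X : Subgroup G} {S : Set G} {g : G}
    (hS : ∀ s ∈ S, g * s * g⁻¹ ∈ X) {x : G} (hx : x ∈ Subgroup.closure S) : g * x * g⁻¹ ∈ X := by
  induction hx using Subgroup.closure_induction with
  | mem s hs => exact hS s hs
  | one => simp
  | mul a b _ _ ha hb => simpa [mul_assoc] using mul_mem ha hb
  | inv a _ ha => simpa [mul_assoc] using inv_mem ha

theorem commutator_sup_normal (K H : Subgroup G) :
    K ⊔ H ≤ Subgroup.normalizer ((⁅K, H⁆ ⊔ H : Subgroup G) : Set G) := by
  refine sup_le (le_normalizer_of_forall_conj fun k hk x hx => ?_) ((le_sup_right).trans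
    Subgroup.le_normalizer)
  rw [Subgroup.commutator_def, ← Subgroup.closure_eq H, ← Subgroup.closure_union,
    Subgroup.closure_eq H] at hx
  refine conj_closure_mem ?_ hx
  rintro s (⟨a, ha, b, hb, rfl⟩ | hs)
  · have e : k * ⁅a, b⁆ * k⁻¹ = ⁅k * a, b⁆ * ⁅k, b⁆⁻¹ := by
      simp only [commutatorElement_def]; group
    rw [e]
    exact Subgroup.mem_sup_left (mul_mem (Subgroup.commutator_mem_commutator (mul_mem hk ha) hb)
      (inv_mem (Subgroup.commutator_mem_commutator hk hb)))
  · have e : k * s * k⁻¹ = ⁅k, s⁆ * s := by simp only [commutatorElement_def]; group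
    rw [e]
    exact mul_mem (Subgroup.mem_sup_left (Subgroup.commutator_mem_commutator hk hs))
      (Subgroup.mem_sup_right hs)

theorem isSubnormal_iff_iterated_commutator (H : Subgroup G) :
    H.IsSubnormal ↔ ∃ m : ℕ, (fun K : Subgroup G => ⁅K, H⁆)^[m] ⊤ ≤ H := by
  constructor
  · intro h
    induction h with
    | top => exact ⟨0, le_top⟩
    | step A B hAB _ hn ih =>
      obtain ⟨m, hm⟩ := ih
      have hmono : ∀ j, (fun K : Subgroup G => ⁅K, A⁆)^[j] ⊤ ≤
          (fun K : Subgroup G => ⁅K, B⁆)^[j] ⊤ := by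
        intro j
        induction j with
        | zero => exact le_rfl
        | succ j ihj =>
          rw [Function.iterate_succ_apply', Function.iterate_succ_apply']
          exact Subgroup.commutator_mono ihj hAB
      refine ⟨m + 1, ?_⟩
      rw [Function.iterate_succ_apply']
      refine (Subgroup.commutator_mono ((hmono m).trans hm) le_rfl).trans ?_
      refine Subgroup.commutator_le.2 fun b hb a ha => ?_
      have h1 : b * a * b⁻¹ ∈ A := hn.conj_mem ⟨a, hAB ha⟩ ha ⟨b, hb⟩
      rw [commutatorElement_def]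
      exact mul_mem h1 (inv_mem ha)
  · rintro ⟨m, hm⟩
    have key : ∀ j, ((fun K : Subgroup G => ⁅K, H⁆)^[j] ⊤ ⊔ H).IsSubnormal := by
      intro j
      induction j with
      | zero => rw [Function.iterate_zero_apply, top_sup_eq]; exact Subgroup.IsSubnormal.top
      | succ j ihj =>
        rw [Function.iterate_succ_apply']
        set K := (fun K : Subgroup G => ⁅K, H⁆)^[j] ⊤
        have hle : ⁅K, H⁆ ⊔ H ≤ K ⊔ H := sup_le (Subgroup.commutator_le.2 fun k hk a ha => by
          rw [commutatorElement_def]
          exact mul_mem (mul_mem (mul_mem (Subgroup.mem_sup_left hk) (Subgroup.mem_sup_right ha))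
            (inv_mem (Subgroup.mem_sup_left hk))) (inv_mem (Subgroup.mem_sup_right ha))) le_sup_right
        exact Subgroup.IsSubnormal.step _ _ hle ihj
          ((Subgroup.normal_subgroupOf_iff_le_normalizer hle).2 (commutator_sup_normal K H))
    have := key m
    rwa [sup_eq_right.2 hm] at this

end CfsgLib.Solvable
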