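import Cfsg.Agent.Lib.Solvable.ComplementSystem
import Cfsg.Agent.Lib.Solvable.Permute

/-!
Sylow systems and complement systems.
-/

set_option autoImplicit false

open scoped Pointwise

namespace CfsgLib.Solvable

open Cfsg

variable {G : Type*} [Group G] [Finite G]

theorem mul_eq_of_card {A B H : Subgroup G} (hA : A ≤ H) (hB : B ≤ H) (hd : A ⊓ B = ⊥)
    (hc : Nat.card H = Nat.card A * Nat.card B) : (A : Set G) * B = (H : Set G) := by
  refine Set.Subset.antisymm ?_ ?_
  · rintro _ ⟨a, ha, b, hb, rfl⟩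
    exact mul_mem (hA ha) (hB hb)
  · intro h hh
    let f : A × B → H := fun x => ⟨(x.1 : G) * x.2, mul_mem (hA x.1.2) (hB x.2.2)⟩
    have hf : Function.Injective f := by
      intro x y hxy
      have e : (x.1 : G) * x.2 = y.1 * y.2 := congrArg Subtype.val hxy
      have h1 : (y.1 : G)⁻¹ * x.1 = y.2 * (x.2 : G)⁻¹ := by
        calc (y.1 : G)⁻¹ * x.1 = (y.1 : G)⁻¹ * ((x.1 : G) * x.2) * (x.2 : G)⁻¹ := by group
          _ = y.2 * (x.2 : G)⁻¹ := by rw [e]; group
      have h2 : (y.1 : G)⁻¹ * x.1 ∈ A ⊓ B := Subgroup.mem_inf.2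
        ⟨mul_mem (inv_mem y.1.2) x.1.2, h1 ▸ mul_mem y.2.2 (inv_mem x.2.2)⟩
      rw [hd, Subgroup.mem_bot] at h2
      exact Prod.ext (Subtype.ext (inv_mul_eq_one.1 h2).symm)
        (Subtype.ext (mul_inv_eq_one.1 (h1 ▸ h2 : (y.2 : G) * (x.2 : G)⁻¹ = 1)).symm)
    have hb := (Nat.bijective_iff_injective_and_card f).2 ⟨hf, by rw [Nat.card_prod, hc]⟩
    obtain ⟨x, hx⟩ := hb.surjective ⟨h, hh⟩
    exact ⟨x.1, x.1.2, x.2, x.2.2, congrArg Subtype.val hx⟩

theorem sylow_inf_eq_bot {p q : Nat.Primes} (hpq : p ≠ q) (P : Sylow (p : ℕ) G)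
    (Q : Sylow (q : ℕ) G) : (P : Subgroup G) ⊓ (Q : Subgroup G) = ⊥ := by
  haveI : Fact (p : ℕ).Prime := ⟨p.2⟩
  haveI : Fact (q : ℕ).Prime := ⟨q.2⟩
  refine disjoint_of_coprime ?_
  rw [P.card_eq_multiplicity, Q.card_eq_multiplicity]
  exact primes_coprime_pow hpq _ _

/-- A solvable group has a Sylow system. -/
theorem exists_sylow_system [Group.IsSolvable G] :
    ∃ S : (p : Nat.Primes) → Sylow (p : ℕ) G,
      ∀ p q : Nat.Primes, (S p : Set G) * (S q : Set G) = (S q : Set G) * (S p : Set G) := by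
  classical
  obtain ⟨K, hK⟩ := exists_isComplementSystem (G := G)
  set PS := primesOf (Nat.card G)
  have hsub : ∀ p : Nat.Primes, (p : ℕ) ∣ Nat.card G → p ∈ PS := fun p hp =>
    (mem_primesOf Nat.card_pos.ne').2 hp
  have hex : ∀ p : Nat.Primes, ∃ P : Sylow (p : ℕ) G, p ∈ PS →
      (P : Subgroup G) = (PS \ {p}).inf K := by
    intro p
    haveI : Fact (p : ℕ).Prime := ⟨p.2⟩
    by_cases hp : p ∈ PS
    · exact ⟨Sylow.ofCard ((PS \ {p}).inf K)
        (by rw [card_finsetInf_sdiff hK (Finset.singleton_subset_iff.2 hp), Finset.prod_singleton]),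
        fun _ => rfl⟩
    · obtain ⟨P⟩ := (inferInstance : Nonempty (Sylow (p : ℕ) G))
      exact ⟨P, fun h => absurd h hp⟩
  choose S hS using hex
  refine ⟨S, fun p q => ?_⟩
  show ((S p : Subgroup G) : Set G) * ((S q : Subgroup G) : Set G) =
    ((S q : Subgroup G) : Set G) * ((S p : Subgroup G) : Set G)
  rcases eq_or_ne p q with rfl | hpq
  · rfl
  have htriv : ∀ r : Nat.Primes, r ∉ PS → (S r : Subgroup G) = ⊥ := by
    intro r hr
    haveI : Fact (r : ℕ).Prime := ⟨r.2⟩
    apply Subgroup.card_eq_one.1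
    rw [(S r).card_eq_multiplicity,
      Nat.factorization_eq_zero_of_not_dvd fun h => hr (hsub r h), pow_zero]
  by_cases hp : p ∈ PS
  swap
  · simp [htriv p hp]
  by_cases hq : q ∈ PS
  swap
  · simp [htriv q hq]
  set H := (PS \ {p, q}).inf K
  have hpH : (S p : Subgroup G) ≤ H := by
    rw [hS p hp]; exact Finset.inf_mono (Finset.sdiff_subset_sdiff le_rfl (Finset.singleton_subset_iff.2 (by simp)))
  have hqH : (S q : Subgroup G) ≤ H := by
    rw [hS q hq]; exact Finset.inf_mono (Finset.sdiff_subset_sdiff le_rfl (Finset.singleton_subset_iff.2 (by simp)))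
  haveI : Fact (p : ℕ).Prime := ⟨p.2⟩
  haveI : Fact (q : ℕ).Prime := ⟨q.2⟩
  have hc : Nat.card H = Nat.card (S p : Subgroup G) * Nat.card (S q : Subgroup G) := by
    rw [(S p).card_eq_multiplicity, (S q).card_eq_multiplicity,
      card_finsetInf_sdiff hK (Finset.insert_subset_iff.2 ⟨hp, Finset.singleton_subset_iff.2 hq⟩), Finset.prod_pair hpq]
  rw [mul_eq_of_card hpH hqH (sylow_inf_eq_bot hpq _ _) hc,
    mul_eq_of_card hqH hpH (sylow_inf_eq_bot hpq.symm _ _) (hc.trans (mul_comm _ _))]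

/-- A Sylow system yields Hall complements for all primes. -/
theorem complement_of_sylow_system (S : (p : Nat.Primes) → Sylow (p : ℕ) G)
    (hS : ∀ p q : Nat.Primes, (S p : Set G) * (S q : Set G) = (S q : Set G) * (S p : Set G))
    (p : ℕ) (hp : p.Prime) : ∃ H : Subgroup G, H.index = p ^ (Nat.card G).factorization p := by
  classical
  have key : ∀ T : Finset Nat.Primes,
      (∀ r : Nat.Primes,
        (((T.sup fun q => (S q : Subgroup G)) : Subgroup G) : Set G) * ((S r : Subgroup G) : Set G) =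
        ((S r : Subgroup G) : Set G) * (((T.sup fun q => (S q : Subgroup G)) : Subgroup G) : Set G)) ∧
      Nat.card (T.sup fun q => (S q : Subgroup G) : Subgroup G) =
        ∏ q ∈ T, (q : ℕ) ^ (Nat.card G).factorization q := by
    intro T
    induction T using Finset.induction_on with
    | empty => exact ⟨fun r => by simp, by simp⟩
    | @insert a T ha ih =>
      obtain ⟨ih1, ih2⟩ := ih
      haveI : Fact (a : ℕ).Prime := ⟨a.2⟩
      rw [Finset.sup_insert]
      refine ⟨fun r => sup_perm (ih1 a).symm (hS a r) (ih1 r), ?_⟩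
      rw [card_sup_of_perm (ih1 a).symm ?_, ih2, (S a).card_eq_multiplicity, Finset.prod_insert ha]
      refine disjoint_of_coprime ?_
      rw [(S a).card_eq_multiplicity, ih2]
      exact Nat.Coprime.prod_right fun q hq => primes_coprime_pow (fun e : a = q => ha (e ▸ hq)) _ _
  set PS := primesOf (Nat.card G)
  set T := PS.erase ⟨p, hp⟩
  refine ⟨T.sup fun q => (S q : Subgroup G), ?_⟩
  have h := (T.sup fun q => (S q : Subgroup G)).card_mul_index
  rw [(key T).2] at h
  have h2 := prod_primesOf_pow (Nat.card_pos (α := G)).ne'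
  have hpos : 0 < ∏ q ∈ T, (q : ℕ) ^ (Nat.card G).factorization q :=
    Finset.prod_pos fun q _ => pow_pos q.2.pos _
  by_cases hm : (⟨p, hp⟩ : Nat.Primes) ∈ PS
  · exact Nat.eq_of_mul_eq_mul_left hpos
      (h.trans (h2.symm.trans (Finset.prod_erase_mul _ _ hm).symm))
  · have hnd : ¬ p ∣ Nat.card G := fun hd => hm ((mem_primesOf Nat.card_pos.ne').2 hd)
    rw [Nat.factorization_eq_zero_of_not_dvd hnd, pow_zero]
    rw [show ∏ q ∈ T, (q : ℕ) ^ (Nat.card G).factorization q = Nat.card G by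
      rw [show T = PS from Finset.erase_eq_of_notMem hm]; exact h2] at h
    exact Nat.eq_of_mul_eq_mul_left Nat.card_pos (h.trans (mul_one _).symm)

end CfsgLib.Solvable
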