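import Cfsg.Agent.Lib.Solvable.SystemNormalizer
import Cfsg.Agent.Lib.Solvable.Nilpotent

/-!
System normalisers avoid non-central chief factors; their normal closure is everything.
-/

set_option autoImplicit false

open scoped Pointwise commutatorElement

namespace CfsgLib.Solvable

open Cfsg

variable {G : Type*} [Group G] [Finite G] {K : Nat.Primes → Subgroup G}

theorem inf_systemNormalizer_of_minimal [Group.IsSolvable G] (hK : IsComplementSystem K)
    (V : Subgroup G) [V.Normal] (hV : V ≠ ⊥)
    (hmin : ∀ M : Subgroup G, M.Normal → M ≤ V → M = ⊥ ∨ M = V)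
    (hnc : ¬ ⁅V, (⊤ : Subgroup G)⁆ = ⊥) : V ⊓ systemNormalizer K = ⊥ := by
  obtain ⟨p, a, hp, -, hVp, hVc⟩ := exists_pow_card_of_minimal_normal V hV hmin inferInstance
  haveI : Fact p.Prime := ⟨hp⟩
  set C := Subgroup.centralizer (V : Set G)
  have hC : C ≠ ⊤ := fun h => hnc (by
    rw [Subgroup.commutator_comm, Subgroup.commutator_eq_bot_iff_le_centralizer]
    exact h.ge)
  set π := QuotientGroup.mk' C
  have hsurj : Function.Surjective π := QuotientGroup.mk'_surjective C
  haveI : Group.IsSolvable (G ⧸ C) := Group.isSolvable_of_surjective hsurj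
  haveI : Nontrivial (G ⧸ C) := by
    rw [← not_subsingleton_iff_nontrivial, QuotientGroup.subsingleton_iff]; exact hC
  obtain ⟨R', q, b, hR'n, hq, -, hR'p, -, hR'ne, -, -⟩ := exists_normal_prime_pow_card (G := G ⧸ C)
  haveI : Fact q.Prime := ⟨hq⟩
  set R := R'.comap π
  haveI hRn : R.Normal := hR'n.comap π
  have hRC : ¬ R ≤ C := fun h => hR'ne (by
    rw [← Subgroup.map_comap_eq_self_of_surjective hsurj R', Subgroup.map_eq_bot_iff,
      QuotientGroup.ker_mk']
    exact h)
  have hW : V ⊓ Subgroup.centralizer (R : Set G) = ⊥ := by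
    refine (hmin _ inferInstance inf_le_left).resolve_right fun h => hRC ?_
    exact Subgroup.le_centralizer_iff.1 (inf_eq_left.1 h)
  have hcent : ∀ x ∈ V, ∀ H : Subgroup G, R ≤ C ⊔ H →
      x ∈ Subgroup.centralizer (H : Set G) → x = 1 := by
    intro x hx H hRH hxH
    have h1 : x ∈ V ⊓ Subgroup.centralizer (R : Set G) := by
      refine Subgroup.mem_inf.2 ⟨hx, Subgroup.centralizer_le hRH ?_⟩
      rw [Subgroup.mem_centralizer_iff]
      intro y hy
      suffices C ⊔ H ≤ Subgroup.centralizer {x} from
        Subgroup.mem_centralizer_singleton_iff.1 (this hy)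
      refine sup_le (fun c hc => Subgroup.mem_centralizer_singleton_iff.2
        (Subgroup.mem_centralizer_iff.1 hc x hx).symm) fun c hc =>
        Subgroup.mem_centralizer_singleton_iff.2 (Subgroup.mem_centralizer_iff.1 hxH c hc)
    rwa [hW, Subgroup.mem_bot] at h1
  by_cases hqp : q = p
  · exfalso
    subst hqp
    obtain ⟨P⟩ := (inferInstance : Nonempty (Sylow q R))
    set P' := (P : Subgroup R).map R.subtype
    have hRP : R ≤ C ⊔ P' := by
      refine le_of_map_mk'_le ?_
      show R.map π ≤ P'.map π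
      rw [Subgroup.map_comap_eq_self_of_surjective hsurj]
      let f : R →* R' := (π.comp R.subtype).codRestrict R' fun x => x.2
      have hf : Function.Surjective f := fun y => by
        obtain ⟨x, hx⟩ := hsurj (y : G ⧸ C)
        exact ⟨⟨x, show π x ∈ R' by rw [hx]; exact y.2⟩, Subtype.ext hx⟩
      have htop : (P : Subgroup R).map f = ⊤ := by
        have := (P.mapSurjective hf).3 (Q := ⊤) (hR'p.to_subgroup _) le_top
        rw [← Sylow.coe_mapSurjective]; exact this.symm
      intro y hy
      obtain ⟨x, hx, hxy⟩ := htop.ge (Subgroup.mem_top (⟨y, hy⟩ : R'))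
      exact ⟨(x : G), Subgroup.mem_map_of_mem _ hx, congrArg Subtype.val hxy⟩
    set W := V ⊔ P'
    have hWp : IsPGroup q W := hVp.to_sup_of_normal_left (P.2.map _)
    haveI := hWp.isNilpotent
    have hVW : V.subgroupOf W ≠ ⊥ := fun h => hV (by
      rwa [Subgroup.subgroupOf_eq_bot, disjoint_iff, inf_eq_left.2 le_sup_left] at h)
    obtain ⟨⟨z, hz⟩, hz1⟩ := (Subgroup.ne_bot_iff_exists_ne_one).1
      (inf_center_ne_bot_of_isNilpotent hVW)
    refine hz1 (Subtype.ext (Subtype.ext ?_))
    refine hcent (z : G) hz.1 P' hRP (Subgroup.mem_centralizer_iff.2 fun y hy => ?_)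
    exact congrArg Subtype.val
      (Subgroup.mem_center_iff.1 hz.2 ⟨y, Subgroup.mem_sup_right hy⟩)
  · rw [eq_bot_iff]
    intro x hx
    obtain ⟨hxV, hxD⟩ := Subgroup.mem_inf.1 hx
    set pp : Nat.Primes := ⟨p, hp⟩
    have hRK : R ≤ C ⊔ K pp := by
      refine le_of_map_mk'_le ?_
      show R.map π ≤ (K pp).map π
      rw [Subgroup.map_comap_eq_self_of_surjective hsurj]
      exact normal_pGroup_le_complement (isComplementSystem_map hK C) R' hR'p (p := pp) (Ne.symm hqp)
    have hdis : V ⊓ K pp = ⊥ := by
      refine disjoint_of_coprime ?_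
      rw [hVc]
      refine Nat.Coprime.pow_left _ (hp.coprime_iff_not_dvd.2 fun hd => ?_)
      obtain ⟨c, hc⟩ := hd
      have h2 := (K pp).card_mul_index
      rw [hK pp] at h2
      exact Nat.pow_succ_factorization_not_dvd Nat.card_pos.ne' hp
        ⟨c, h2.symm.trans (by rw [hc]; show p * c * p ^ _ = _; ring)⟩
    refine Subgroup.mem_bot.2 (hcent x hxV (K pp) hRK (Subgroup.mem_centralizer_iff.2 fun k hk => ?_))
    have h1 : ⁅x, k⁆ ∈ V ⊓ K pp := by
      refine Subgroup.mem_inf.2 ⟨?_, ?_⟩
      · have := mul_mem hxV ((inferInstance : V.Normal).conj_mem x⁻¹ (inv_mem hxV) k)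
        simpa [commutatorElement_def, mul_assoc] using this
      · exact mul_mem (normalizer_conj_mem (mem_systemNormalizer.1 hxD pp) hk) (inv_mem hk)
    rw [hdis, Subgroup.mem_bot, commutatorElement_eq_one_iff_mul_comm] at h1
    exact h1.symm

theorem avoids_noncentral [Group.IsSolvable G] (hK : IsComplementSystem K) (A B : Subgroup G)
    [A.Normal] [B.Normal] (hAB : A < B)
    (hchief : ∀ N : Subgroup G, N.Normal → A ≤ N → N ≤ B → N = A ∨ N = B)
    (hnc : ¬ ⁅B, (⊤ : Subgroup G)⁆ ≤ A) : B ⊓ systemNormalizer K ≤ A := by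
  set π := QuotientGroup.mk' A
  have hsurj : Function.Surjective π := QuotientGroup.mk'_surjective A
  haveI : Group.IsSolvable (G ⧸ A) := Group.isSolvable_of_surjective hsurj
  haveI : (B.map π).Normal := Subgroup.Normal.map inferInstance π hsurj
  have hne : B.map π ≠ ⊥ := fun h => hAB.not_ge (by
    rwa [Subgroup.map_eq_bot_iff, QuotientGroup.ker_mk'] at h)
  have hmin : ∀ M : Subgroup (G ⧸ A), M.Normal → M ≤ B.map π → M = ⊥ ∨ M = B.map π := by
    intro M hM hle
    have h1 : M.comap π ≤ B := by
      have := Subgroup.comap_mono (f := π) hle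
      rwa [Subgroup.comap_map_eq_self (by rw [QuotientGroup.ker_mk']; exact hAB.le)] at this
    have h0 : A ≤ M.comap π := fun x hx => by
      rw [Subgroup.mem_comap, show π x = 1 from (QuotientGroup.eq_one_iff x).2 hx]; exact one_mem _
    rcases hchief _ (hM.comap π) h0 h1 with h | h
    · left
      rw [← Subgroup.map_comap_eq_self_of_surjective hsurj M, h, Subgroup.map_eq_bot_iff,
        QuotientGroup.ker_mk']
    · right
      rw [← Subgroup.map_comap_eq_self_of_surjective hsurj M, h]
  have h := inf_systemNormalizer_of_minimal (isComplementSystem_map hK A) (B.map π) hne hmin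
    fun h0 => hnc (by
      rw [← Subgroup.map_top_of_surjective π hsurj, ← Subgroup.map_commutator,
        Subgroup.map_eq_bot_iff, QuotientGroup.ker_mk'] at h0
      exact h0)
  intro x hx
  have hxx : π x ∈ B.map π ⊓ systemNormalizer fun p => (K p).map π := by
    rw [systemNormalizer_map hK A]
    exact Subgroup.mem_inf.2 ⟨Subgroup.mem_map_of_mem π (Subgroup.mem_inf.1 hx).1,
      Subgroup.mem_map_of_mem π (Subgroup.mem_inf.1 hx).2⟩
  rw [h, Subgroup.mem_bot] at hxx
  exact (QuotientGroup.eq_one_iff x).1 hxx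

theorem normalClosure_systemNormalizer [Group.IsSolvable G] (hK : IsComplementSystem K) :
    Subgroup.normalClosure ((systemNormalizer K : Subgroup G) : Set G) = ⊤ := by
  set N := Subgroup.normalClosure ((systemNormalizer K : Subgroup G) : Set G)
  by_contra hN
  set π := QuotientGroup.mk' N
  have hsurj : Function.Surjective π := QuotientGroup.mk'_surjective N
  haveI : Group.IsSolvable (G ⧸ N) := Group.isSolvable_of_surjective hsurj
  haveI : Nontrivial (G ⧸ N) := by
    rw [← not_subsingleton_iff_nontrivial, QuotientGroup.subsingleton_iff]; exact hN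
  obtain ⟨M, hMmax, hMc⟩ := (eq_top_or_exists_le_coatom (commutator (G ⧸ N))).resolve_left
    (Group.IsSolvable.commutator_lt_top_of_nontrivial (G ⧸ N)).ne
  set A := M.comap π
  haveI : M.Normal := Subgroup.Normal.of_commutator_le _ hMc
  haveI : A.Normal := (inferInstance : M.Normal).comap π
  have hAne : A ≠ ⊤ := fun h => hMmax.1 (by
    rw [← Subgroup.map_comap_eq_self_of_surjective hsurj M]
    exact (congrArg (Subgroup.map π) h).trans (Subgroup.map_top_of_surjective π hsurj))
  refine hAne (top_le_iff.1 ((covers_central hK A ⊤ ?_).trans (sup_le le_rfl ?_)))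
  · rw [Subgroup.commutator_le]
    intro x _ y _
    show π ⁅x, y⁆ ∈ M
    rw [map_commutatorElement]
    exact hMc (Subgroup.commutator_mem_commutator (Subgroup.mem_top _) (Subgroup.mem_top _))
  · intro x hx
    show π x ∈ M
    rw [show π x = 1 from (QuotientGroup.eq_one_iff x).2 (Subgroup.subset_normalClosure hx)]
    exact one_mem _

end CfsgLib.Solvable
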