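import Cfsg.Agent.Lib.Solvable.Basic
import Cfsg.Agent.Lib.Solvable.Product
import Mathlib.GroupTheory.Complement

/-!
Two minimal normal subgroups and a core-free maximal subgroup.
-/

set_option autoImplicit false

open scoped Pointwise

namespace CfsgLib.Solvable

variable {G : Type*} [Group G] [Finite G]

/-- The part of the structure which is asymmetric in the two subgroups. -/
theorem two_minimal_half (U : Subgroup G) (hU : IsCoatom U) (hcore : U.normalCore = ⊥)
    (A B : Subgroup G) [A.Normal] [B.Normal] (hA : A ≠ ⊥) (hB : B ≠ ⊥) (hd : A ⊓ B = ⊥) :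
    Subgroup.centralizer (A : Set G) = B ∧ B ⊓ U = ⊥ ∧ B ⊔ U = ⊤ ∧ A ⊔ U = ⊤ := by
  have hsup : ∀ K : Subgroup G, K.Normal → K ≠ ⊥ → K ⊔ U = ⊤ := by
    intro K hKn hK
    refine hU.2 _ (lt_of_le_of_ne le_sup_right fun e => hK (eq_bot_mono ?_ hcore))
    exact (@Subgroup.normal_le_normalCore _ _ U K hKn).2 (e ▸ le_sup_left)
  have hAU := hsup A inferInstance hA
  have hBU := hsup B inferInstance hB
  have hBC : B ≤ Subgroup.centralizer (A : Set G) := fun b hb =>
    Subgroup.mem_centralizer_iff.2 fun a ha =>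
      Subgroup.commute_of_normal_of_disjoint A B inferInstance inferInstance (disjoint_iff.2 hd)
        a b ha hb
  have hC : (Subgroup.centralizer (A : Set G) ⊓ U).Normal := Subgroup.normalizer_eq_top_iff.1
    (top_le_iff.1 (hAU.ge.trans (sup_le (fun x hx => mem_normalizer_of_conj_mem fun y hy => by
        rwa [Subgroup.mem_centralizer_iff.1 hy.1 x hx, mul_inv_cancel_right])
      (le_normalizer_inf ((Subgroup.normalizer_eq_top A ▸ le_top : U ≤ _).trans
        (normalizer_le_normalizer_centralizer A)) Subgroup.le_normalizer))))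
  have hCb : Subgroup.centralizer (A : Set G) ⊓ U = ⊥ :=
    eq_bot_mono ((@Subgroup.normal_le_normalCore _ _ U _ hC).2 inf_le_right) hcore
  refine ⟨le_antisymm (fun c hc => ?_) hBC, eq_bot_mono (inf_le_inf_right U hBC) hCb, hBU, hAU⟩
  obtain ⟨b, hb, u, hu, rfl⟩ := exists_mul_of_mem_sup (Subgroup.normalizer_eq_top B ▸ le_top)
    (show c ∈ B ⊔ U from hBU ▸ Subgroup.mem_top c)
  have : u ∈ Subgroup.centralizer (A : Set G) ⊓ U :=
    ⟨by simpa using mul_mem (inv_mem (hBC hb)) hc, hu⟩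
  rw [hCb, Subgroup.mem_bot] at this
  rwa [this, mul_one]

omit [Finite G] in
theorem nonempty_equiv_diag (U A B : Subgroup G) [B.Normal] (hAB : A ⊓ B = ⊥) (hBU : B ⊓ U = ⊥)
    (htop : B ⊔ U = ⊤) : Nonempty (A ≃* ↥((A ⊔ B) ⊓ U)) := by
  set π := QuotientGroup.mk' B
  set W := (A ⊔ B) ⊓ U
  have hinj : ∀ X : Subgroup G, X ⊓ B = ⊥ → Function.Injective (π.comp X.subtype) := by
    intro X hX
    refine (MonoidHom.ker_eq_bot_iff _).1 ((Subgroup.eq_bot_iff_forall _).2 fun x hx => ?_)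
    refine Subtype.ext ?_
    rw [Subgroup.coe_one, ← Subgroup.mem_bot, ← hX]
    exact ⟨x.2, (QuotientGroup.eq_one_iff _).1 hx⟩
  have hi1 := hinj A hAB
  have hi2 := hinj W (eq_bot_mono (le_inf inf_le_right (inf_le_left.trans inf_le_right)) hBU)
  have hr : (π.comp A.subtype).range = (π.comp W.subtype).range := by
    rw [MonoidHom.range_comp, MonoidHom.range_comp, Subgroup.range_subtype, Subgroup.range_subtype]
    refine le_antisymm ?_ ?_
    · rintro _ ⟨a, ha, rfl⟩
      obtain ⟨b, hb, u, hu, rfl⟩ := exists_mul_of_mem_sup (Subgroup.normalizer_eq_top B ▸ le_top)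
        (show a ∈ B ⊔ U from htop ▸ Subgroup.mem_top a)
      refine ⟨u, ⟨?_, hu⟩, ?_⟩
      · simpa using mul_mem (inv_mem (Subgroup.mem_sup_right (S := A) hb)) (Subgroup.mem_sup_left ha)
      · rw [map_mul, show π b = 1 from (QuotientGroup.eq_one_iff b).2 hb, one_mul]
    · refine (Subgroup.map_mono inf_le_left).trans ?_
      rw [Subgroup.map_sup, show B.map π = ⊥ by
        rw [Subgroup.map_eq_bot_iff, QuotientGroup.ker_mk'], sup_bot_eq]
  exact ⟨(MonoidHom.ofInjective hi1).trans ((MulEquiv.subgroupCongr hr).trans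
    (MonoidHom.ofInjective hi2).symm)⟩

theorem two_minimal_structure (U : Subgroup G) (hU : IsCoatom U) (hcore : U.normalCore = ⊥)
    (A B : Subgroup G) [A.Normal] [B.Normal] (hA : A ≠ ⊥) (hB : B ≠ ⊥) (hd : A ⊓ B = ⊥) :
    Subgroup.centralizer (B : Set G) = A ∧ Subgroup.centralizer (A : Set G) = B ∧
      Subgroup.IsComplement' A U ∧ Subgroup.IsComplement' B U ∧ ¬ IsMulCommutative A ∧
      Nonempty (A ≃* B) ∧ Nonempty (A ≃* ↥((A ⊔ B) ⊓ U)) := by
  obtain ⟨hCA, hBUb, hBU, hAU⟩ := two_minimal_half U hU hcore A B hA hB hd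
  obtain ⟨hCB, hAUb, -, -⟩ := two_minimal_half U hU hcore B A hB hA (inf_comm A B ▸ hd)
  have hcompl : ∀ X : Subgroup G, X.Normal → X ⊓ U = ⊥ → X ⊔ U = ⊤ →
      Subgroup.IsComplement' X U := by
    intro X hXn h1 h2
    refine Subgroup.isComplement'_of_card_mul_and_disjoint ?_ (disjoint_iff.2 h1)
    rw [← card_sup_of_disjoint (@Subgroup.normalizer_eq_top _ _ X hXn ▸ le_top) h1, h2,
      Subgroup.card_top]
  refine ⟨hCB, hCA, hcompl A inferInstance hAUb hAU, hcompl B inferInstance hBUb hBU, fun h => hA ?_,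
    ?_, nonempty_equiv_diag U A B hd hBUb hBU⟩
  · refine eq_bot_mono (le_inf le_rfl (fun a ha => ?_)) hd
    rw [← hCA]
    exact Subgroup.mem_centralizer_iff.2 fun y hy =>
      congrArg Subtype.val (h.is_comm.comm ⟨y, hy⟩ ⟨a, ha⟩)
  · obtain ⟨e1⟩ := nonempty_equiv_diag U A B hd hBUb hBU
    obtain ⟨e2⟩ := nonempty_equiv_diag U B A (inf_comm A B ▸ hd) hAUb hAU
    exact ⟨e1.trans ((MulEquiv.subgroupCongr (by rw [sup_comm A B])).trans e2.symm)⟩

end CfsgLib.Solvable
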